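import Groth.Agent.AlgSpLib.EtLocalInst
import Groth.Agent.AlgSpLib.Points
import Mathlib.AlgebraicGeometry.Morphisms.Flat

/-!
# Affine charts of quasi-compact spaces; sections along flat surjections
-/

set_option backward.isDefEq.respectTransparency false
set_option backward.isDefEq.respectTransparency.types false

universe u

open CategoryTheory CategoryTheory.Limits AlgebraicGeometry Opposite AlgSp Groth.Agent.AlgSpLib

namespace Groth.Agent.AlgSpDM

variable {S : Scheme.{u}}

/-- A quasi-compact scheme receives an etale surjection from an affine scheme. -/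
theorem exists_affine_etale_surj (X : Scheme.{u}) [CompactSpace ↥X] :
    ∃ (Y : Scheme.{u}) (f : Y ⟶ X), IsAffine Y ∧ Etale f ∧ Surjective f := by
  let 𝒰 := X.affineCover.finiteSubcover
  refine ⟨∐ fun i : 𝒰.I₀ => 𝒰.X i, Sigma.desc fun i => 𝒰.f i, ?_, ?_, ⟨fun x => ?_⟩⟩
  · have : ∀ i, IsAffine (𝒰.X i) := fun i => inferInstanceAs (IsAffine (X.affineCover.X _))
    infer_instance
  · refine IsZariskiLocalAtSource.of_openCover (sigmaOpenCover _) fun i => ?_
    change Etale (Sigma.ι (fun i : 𝒰.I₀ => 𝒰.X i) i ≫ Sigma.desc fun i => 𝒰.f i)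
    rw [Sigma.ι_desc]
    infer_instance
  · obtain ⟨i, y, hy⟩ := 𝒰.exists_eq x
    refine ⟨Sigma.ι (fun i : 𝒰.I₀ => 𝒰.X i) i y, ?_⟩
    rw [← Scheme.Hom.comp_apply, Sigma.ι_desc, hy]

/-- A quasi-compact space has an affine etale chart. -/
theorem exists_affine_chart {F : Sp S} (h : IsQuasiCompactSp F) :
    ∃ (U : Over S) (p : (yon S).obj U ⟶ F), IsAffine U.left ∧ RepWith @Etale p ∧ RepWith @Surjective p := by
  obtain ⟨U, p, he, hs, hU⟩ := h
  have : CompactSpace ↥U.left := hU
  obtain ⟨Y, f, hY, hfe, hfs⟩ := exists_affine_etale_surj U.left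
  let φ : Over.mk (f ≫ U.hom) ⟶ U := Over.homMk f rfl
  exact ⟨_, (yon S).map φ ≫ p, hY, repWith_comp ((repWith_yon_map_iff _ φ).2 hfe) he,
    repWith_comp ((repWith_yon_map_iff _ φ).2 hfs) hs⟩

/-- Global sections are injective along flat surjections. -/
theorem appTop_injective {X Y : Scheme.{u}} (f : X ⟶ Y) [Flat f] [Surjective f] :
    Function.Injective f.appTop.hom := by
  intro s t h
  refine TopCat.Presheaf.section_ext Y.sheaf _ _ _ fun y hy => ?_
  obtain ⟨x, rfl⟩ := f.surjective y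
  algebraize [(f.stalkMap x).hom]
  have : Module.FaithfullyFlat (Y.presheaf.stalk (f x)) (X.presheaf.stalk x) :=
    @Module.FaithfullyFlat.of_flat_of_isLocalHom _ _ _ _ _ _ _ (Flat.stalkMap f x) (f.toLRSHom.prop x)
  refine (RingHom.FaithfullyFlat.injective (f := (f.stalkMap x).hom) this) ?_
  show (f.stalkMap x).hom ((Y.presheaf.germ ⊤ (f x) hy).hom s) =
    (f.stalkMap x).hom ((Y.presheaf.germ ⊤ (f x) hy).hom t)
  rw [Scheme.Hom.germ_stalkMap_apply, Scheme.Hom.germ_stalkMap_apply]
  exact congrArg _ h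

end Groth.Agent.AlgSpDM
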