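import Groth.Agent.AlgSpDM.GenFiniteResults
import Groth.Agent.AlgSpDec.RedInduced
import Groth.Agent.AlgSpDec.DecentMor
import Groth.Agent.AlgSpPts.Sep
import Groth.Agent.S10192

/-!
# Alterations inside proper surjective morphisms
-/

set_option autoImplicit false
set_option backward.isDefEq.respectTransparency false
set_option backward.isDefEq.respectTransparency.types false
set_option maxHeartbeats 800000

universe u

open CategoryTheory CategoryTheory.Limits AlgebraicGeometry AlgSp
open Groth.Agent.AlgSpLib Groth.Agent.AlgSpPts Groth.Agent.AlgSpDec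

namespace Groth.Agent.AlgSpDM.Alteration

variable {S : Scheme.{u}} {X Y : Space S}

theorem isCompact_fibre (f : X ⟶ Y) (hq : IsQuasiCompactMor f.hom) (y : Points Y.obj) :
    IsCompact (Points.map f.hom ⁻¹' {y}) := by
  obtain ⟨p, rfl⟩ := Points.mk_surjective y
  haveI : IsAffine p.pt.left := inferInstanceAs (IsAffine (Spec _))
  have hqc : IsQuasiCompactSp (pullback f.hom p.toHom) :=
    hq (IsAlgSpace.yon_obj p.pt) (isQuasiCompactSp_yon p.pt) p.toHom _ _ (IsPullback.of_hasPullback _ _)
  have : CompactSpace (Points (pullback f.hom p.toHom)) := compactSpace_points hqc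
  convert isCompact_range (Points.continuous_map (pullback.fst f.hom p.toHom))
  ext z
  constructor
  · intro hz
    obtain ⟨r, hr, -⟩ := exists_point_of_isPullback (IsPullback.of_hasPullback f.hom p.toHom) (x := z)
      (y := Points.ofScheme p.pt (IsLocalRing.closedPoint p.K))
      (by rw [show Points.map f.hom z = Points.mk p from hz, ← Points.ofPt_eq_map_ofScheme, Points.ofPt_toHom])
    exact ⟨r, hr⟩
  · rintro ⟨r, rfl⟩
    show Points.map f.hom _ = Points.mk p
    rw [← Points.map_comp, pullback.condition, Points.map_comp]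
    obtain ⟨t, ht⟩ := (Points.schemeHomeo p.pt).surjective (Points.map (pullback.snd f.hom p.toHom) r)
    rw [← ht]
    refine (Points.ofPt_eq_map_ofScheme p.toHom t).symm.trans ?_
    have : Subsingleton ↥p.pt.left := inferInstanceAs (Subsingleton (PrimeSpectrum p.K))
    rw [← Points.ofPt_toHom p, Subsingleton.elim t (IsLocalRing.closedPoint p.K)]

theorem exists_alteration (f : X ⟶ Y) (hf : IsProperMor f.hom) (hs : IsSurjectiveMor f.hom)
    (hY : IsIntegralSp Y.obj) :
    ∃ (X' : Space S) (i : X' ⟶ X), RepWith @IsClosedImmersion i.hom ∧ IsIntegralSp X'.obj ∧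
      IsProperMor (i ≫ f).hom ∧ IsDominantMor (i ≫ f).hom ∧
      ∃ (V : Space S) (j : V ⟶ Y), RepWith @IsOpenImmersion j.hom ∧ Nonempty (Points V.obj) ∧
        ∀ (P : Space S) (fst : P ⟶ V) (snd : P ⟶ X'), IsPullback fst.hom snd.hom j.hom (i ≫ f).hom →
          IsFiniteMor fst.hom := by
  have hXd : IsDecent X.obj := isDecent_of_isDecentMor X.property f.hom
    (isDecentMor_of_isQuasiSeparatedMor X.property Y.property f.hom (isQuasiSeparatedMor_of_isSeparatedMor hf.1))
    hY.2.1
  have := t0Space_points X.property hXd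
  have := quasiSober_points Y.property hY.2.1
  have := hY.2.2
  let y := genericPoint (Points Y.obj)
  have hy : IsGenericPoint y (Set.univ : Set (Points Y.obj)) := genericPoint_spec _
  obtain ⟨x₀, hx₀⟩ := hs y
  have hK : IsCompact (Points.map f.hom ⁻¹' {y}) := isCompact_fibre f hf.2.1.2 y
  have : CompactSpace ↥(Points.map f.hom ⁻¹' {y}) := isCompact_iff_compactSpace.1 hK
  obtain ⟨⟨x, hx⟩, -, hxc⟩ := IsClosed.exists_closed_singleton
    (S := (Set.univ : Set ↥(Points.map f.hom ⁻¹' {y}))) isClosed_univ ⟨⟨x₀, hx₀⟩, trivial⟩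
  obtain ⟨X', i, hi, hrange, hred⟩ := S10192.result X (closure {x}) isClosed_closure
  have hX'd : IsDecent X'.obj :=
    isDecent_of_isDecentMor X'.property i.hom (isDecentMor_of_representable X.property i.hom hi.rep) hXd
  have hemb := isEmbedding_map X.property
    (repWith_mono (fun _ _ g (_ : IsClosedImmersion g) => (inferInstance : IsImmersion g)) _ hi)
  obtain ⟨x', hx'⟩ : x ∈ Set.range (Points.map i.hom) := hrange ▸ subset_closure rfl
  have hgen : IsGenericPoint x' (Set.univ : Set (Points X'.obj)) := by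
    refine isGenericPoint_iff_specializes.2 fun t => ⟨fun _ => trivial, fun _ => ?_⟩
    refine hemb.isInducing.specializes_iff.1 (hx'.symm ▸ specializes_iff_mem_closure.2 ?_)
    exact hrange ▸ Set.mem_range_self t
  have hX'i : IsIntegralSp X'.obj :=
    ⟨hred, hX'd, { toNonempty := ⟨x'⟩, isPreirreducible_univ := hgen.isIrreducible.2 }⟩
  have hp : IsProperMor (i ≫ f).hom :=
    isProperMor_comp X'.property X.property Y.property (isProperMor_of_closedImmersion hi) hf
  have hfx : Points.map (i ≫ f).hom x' = y := by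
    show Points.map (i.hom ≫ f.hom) x' = y
    rw [Points.map_comp, hx']; exact hx
  have hd : IsDominantMor (i ≫ f).hom := by
    refine dense_iff_closure_eq.2 (Set.eq_univ_of_univ_subset ?_)
    rw [← hy.def]
    exact closure_mono (Set.singleton_subset_iff.2 ⟨x', hfx⟩)
  refine ⟨X', i, hi, hX'i, hp, hd,
    (GenFinite.exists_open_finite_iff hp.2.1.1 hX'i.2.1 hY.2.1 hgen hy hfx (Or.inl hp.1)).2 fun t ht => ?_⟩
  apply hemb.injective
  rw [hx']
  have ht' : Points.map f.hom (Points.map i.hom t) = y := by rw [← Points.map_comp]; exact ht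
  have hs' : (⟨x, hx⟩ : ↥(Points.map f.hom ⁻¹' {y})) ⤳ ⟨Points.map i.hom t, ht'⟩ :=
    (subtype_specializes_iff _ _).2 (specializes_iff_mem_closure.2 (hrange ▸ Set.mem_range_self t))
  exact congrArg Subtype.val (show (⟨Points.map i.hom t, ht'⟩ : ↥(Points.map f.hom ⁻¹' {y})) ∈
    ({⟨x, hx⟩} : Set _) from hs'.mem_closed hxc (Set.mem_singleton _))

end Groth.Agent.AlgSpDM.Alteration
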