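import Groth.Agent.AlgSpDec.QsDense
import Groth.Agent.AlgSpDec.Fibres
import Groth.Agent.AlgSpPts.Dim
import Groth.Agent.AlgSpDec.OpenGlue
import Groth.Agent.SchTop.ZeroDim
import Groth.Agent.H23.SepCrit

/-!
# Codimension zero points and zero dimensional spaces
-/

set_option backward.isDefEq.respectTransparency false
set_option backward.isDefEq.respectTransparency.types false

universe u

open CategoryTheory CategoryTheory.Limits AlgebraicGeometry Opposite AlgSp Groth.Agent.AlgSpLib Order

namespace Groth.Agent.AlgSpDM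

variable {S : Scheme.{u}}

/-- The image of a scheme mapping by an open immersion is an open subspace which is a scheme. -/
theorem exists_space_of_open_subscheme (X : Space S) {T : Over S} (j : (yon S).obj T ⟶ X.obj)
    (hj : RepWith @IsOpenImmersion j) :
    ∃ (X' : Space S) (j' : X' ⟶ X), RepWith @IsOpenImmersion j'.hom ∧ X'.obj.obj.IsRepresentable ∧
      Set.range (Points.map j'.hom) = Set.range (Points.map j) :=
  ⟨⟨_, IsAlgSpace.yon_obj T⟩, ⟨j⟩, hj,
    ⟨T, ⟨representableByOfIso (Iso.refl _)⟩⟩, rfl⟩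

theorem exists_chart_coheight_zero {F : Sp S} {x : Points F}
    (hx : HasAt (fun U u => ringKrullDim ↥(U.presheaf.stalk u) = 0) F x) :
    ∃ (U : Over S) (a : (yon S).obj U ⟶ F) (u : ↥U.left),
      RepWith @Etale a ∧ Points.ofPt a u = x ∧ coheight u = 0 := by
  obtain ⟨U, a, u, ha, rfl, hu⟩ := hx
  refine ⟨U, a, u, ha, rfl, ?_⟩
  change ringKrullDim _ = 0 at hu
  rw [ringKrullDim_stalk_eq_coheight] at hu
  exact_mod_cast hu

theorem exists_open_subscheme_nhd_codimZero (X : Space S) (hqs : IsQuasiSeparatedSp X.obj) (x : Points X.obj)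
    (hx : HasAt (fun U u => ringKrullDim ↥(U.presheaf.stalk u) = 0) X.obj x) :
    ∃ (X' : Space S) (j : X' ⟶ X), RepWith @IsOpenImmersion j.hom ∧
      X'.obj.obj.IsRepresentable ∧ x ∈ Set.range (Points.map j.hom) := by
  obtain ⟨U, a, u, ha, rfl, hu⟩ := exists_chart_coheight_zero hx
  obtain ⟨T, j, hj, hm⟩ := AlgSpDec.exists_open_subscheme_of_codimZero_qs X.property hqs ha u hu
  obtain ⟨X', j', h1, h2, h3⟩ := exists_space_of_open_subscheme X j hj
  exact ⟨X', j', h1, h2, h3 ▸ hm⟩

theorem coheight_eq_zero_of_dim_le_zero {F : Sp S} (hd : AlgSp.dim F ≤ 0) {U : Over S}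
    {a : (yon S).obj U ⟶ F} (ha : RepWith @Etale a) (u : ↥U.left) : coheight u = 0 := by
  have h := (AlgSpPts.coheight_le_dim ha u).trans hd
  exact le_zero_iff.1 (WithBot.coe_le_zero.1 h)

theorem topologicalKrullDim_chart_le_zero {F : Sp S} (hd : AlgSp.dim F ≤ 0) {U : Over S}
    {a : (yon S).obj U ⟶ F} (ha : RepWith @Etale a) : topologicalKrullDim ↥U.left ≤ 0 := by
  rw [AlgSpPts.topologicalKrullDim_eq_krullDim, krullDim_eq_iSup_coheight]
  exact iSup_le fun u => by rw [coheight_eq_zero_of_dim_le_zero hd ha u]; rfl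

/-- A zero dimensional quasi-separated scheme is separated. -/
theorem isSeparated_of_dim_le_zero (U : Scheme.{u}) [QuasiSeparatedSpace ↥U]
    (h : topologicalKrullDim ↥U ≤ 0) : U.IsSeparated := by
  refine ⟨H23.SepCrit.isSeparated_of_pairs_affine _ fun x y _ => ?_⟩
  obtain ⟨A, hA, hx, -⟩ := exists_isAffineOpen_mem_and_subset (U := (⊤ : U.Opens)) (x := x) trivial
  obtain ⟨B, hB, hy, -⟩ := exists_isAffineOpen_mem_and_subset (U := (⊤ : U.Opens)) (x := y) trivial
  exact ⟨A ⊔ B, SchTop.isAffineOpen_of_isCompact h (hA.isCompact.union hB.isCompact),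
    Or.inl hx, Or.inr hy⟩

/-- A zero dimensional quasi-separated space is a separated scheme. -/
theorem isScheme_of_qs_dim_le_zero [QuasiSeparatedSpace ↥S] (X : Space S) (hqs : IsQuasiSeparatedSp X.obj)
    (hd : AlgSp.dim X.obj ≤ 0) :
    ∃ (U : Over S) (_ : (yon S).obj U ≅ X.obj), U.left.IsSeparated ∧ topologicalKrullDim ↥U.left ≤ 0 ∧
      ∀ V : U.left.Opens, IsCompact (V : Set ↥U.left) → IsAffineOpen V := by
  have key : ∀ x : Points X.obj, ∃ (T : Over S) (j : (yon S).obj T ⟶ X.obj),
      RepWith @IsOpenImmersion j ∧ ∃ v, Points.ofPt j v = x := fun x => by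
    obtain ⟨V, a, v, -, ha, rfl⟩ := AlgSpDec.exists_affine_chart_at X.property x
    obtain ⟨T, j, hj, z, hz⟩ := AlgSpDec.exists_open_subscheme_of_codimZero_qs X.property hqs ha v
      (coheight_eq_zero_of_dim_le_zero hd ha v)
    obtain ⟨t, rfl⟩ := (Points.schemeHomeo T).surjective z
    exact ⟨T, j, hj, t, (Points.ofPt_eq_map_ofScheme j t).trans hz⟩
  choose T j hj hv using key
  obtain ⟨U₀, a₀, ha₀, has₀⟩ := X.property.atlas
  obtain ⟨U, ⟨e⟩, -⟩ := AlgSpDec.exists_iso_of_open_cover (fun u : ↥U₀.left => T (Points.ofPt a₀ u))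
    (fun u => j _) (fun u => hj _) fun x => by
      obtain ⟨u, rfl⟩ := surjective_ofPt has₀ x
      exact ⟨u, hv _⟩
  have : IsIso e.hom := inferInstance
  have he : RepWith @Etale e.hom := repWith_of_isIso _ e.hom
  have hdim := topologicalKrullDim_chart_le_zero hd he
  have hq : IsQuasiSeparatedSp ((yon S).obj U) := by
    have : RepWith @QuasiCompact (Limits.diag X.obj) := hqs
    have hd' : Limits.diag ((yon S).obj U) = e.hom ≫ Limits.diag X.obj ≫ prod.map e.inv e.inv := by ext <;> simp
    show RepWith @QuasiCompact _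
    rw [hd']
    exact MorphismProperty.RespectsIso.precomp _ _ _ (MorphismProperty.RespectsIso.postcomp _ _ _ this)
  have : QuasiSeparated U.hom := (quasiSeparated_iff _).2 ((repWith_diag_yon_iff _ U).1 hq)
  have : QuasiSeparatedSpace ↥U.left := quasiSeparatedSpace_of_quasiSeparated U.hom
  exact ⟨U, e, isSeparated_of_dim_le_zero _ hdim, hdim, fun V hV => SchTop.isAffineOpen_of_isCompact hdim hV⟩

/-- The image of a morphism which hits all generic points is dense. -/
theorem dense_of_genericPoints {F : Sp S} [QuasiSober (Points F)] {T : Set (Points F)}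
    (h : genericPoints (Points F) ⊆ T) : Dense T := fun x => by
  obtain ⟨Z, hZ, hxZ⟩ := exists_mem_irreducibleComponents_subset_of_isIrreducible {x} isIrreducible_singleton
  have hη := hZ.1.isGenericPoint_genericPoint_closure
  have hc : closure Z = Z := (isClosed_of_mem_irreducibleComponents Z hZ).closure_eq
  rw [hc] at hη
  have hmem : hZ.1.genericPoint ∈ T := h (by
    show closure {hZ.1.genericPoint} ∈ irreducibleComponents (Points F)
    rw [hη.def]; exact hZ)
  exact closure_mono (Set.singleton_subset_iff.2 hmem) (by rw [hη.def]; exact hxZ rfl)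

end Groth.Agent.AlgSpDM
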