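import Groth.Agent.AlgSpDM.DenseFiniteQc
import Groth.Agent.AlgSpDec.DecentDense
import Groth.Agent.AlgSpDec.AffineRep
import Groth.Agent.AlgSpPts.Sep
import Groth.Agent.AlgSpPts.Misc
import Groth.Agent.AlgSpLib.LocalBaseTop

/-!
# A morphism finite over a dense open
-/

set_option autoImplicit false
set_option backward.isDefEq.respectTransparency false
set_option backward.isDefEq.respectTransparency.types false
set_option maxHeartbeats 800000

universe u

open CategoryTheory CategoryTheory.Limits AlgebraicGeometry AlgSp Groth.Agent.AlgSpLib Groth.Agent.AlgSpPts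
  Groth.Agent.AlgSpDec

namespace Groth.Agent.AlgSpDM.DenseFin

variable {S : Scheme.{u}}

/-- Being of codimension zero. -/
abbrev CZ (F : Sp S) (x : Points F) : Prop :=
  HasAt (fun U u => ringKrullDim ↥(U.presheaf.stalk u) = 0) F x

theorem exists_cz_generization {F : Sp S} (hF : IsAlgSpace F) {O : Set (Points F)} (hO : IsOpen O) {x : Points F}
    (hx : x ∈ O) : ∃ x', CZ F x' ∧ x' ∈ O ∧ x' ⤳ x := by
  obtain ⟨U, a, u, -, ha, rfl⟩ := exists_affine_chart_at hF x
  obtain ⟨u₀, hu₀, h0⟩ := CodimQf.exists_coheight_zero_specializes u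
  exact ⟨Points.ofPt a u₀, (CodimQf.hasAt_codim_zero_iff ha u₀).2 h0,
    hu₀.mem_open (hO.preimage (Points.continuous_ofPt a)) hx, hu₀.map (Points.continuous_ofPt a)⟩

theorem repWith_etale_of_openImmersion {F G : Sp S} {j : F ⟶ G} (hj : RepWith @IsOpenImmersion j) :
    RepWith @Etale j :=
  repWith_mono (fun _ _ i (_ : IsOpenImmersion i) => inferInstanceAs (Etale i)) _ hj

theorem cz_map_iff {F G : Sp S} (hF : IsAlgSpace F) {j : F ⟶ G} (hj : RepWith @IsOpenImmersion j)
    (x : Points F) : CZ G (Points.map j x) ↔ CZ F x := by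
  obtain ⟨U, a, u, -, ha, rfl⟩ := exists_affine_chart_at hF x
  rw [Points.map_ofPt]
  exact (CodimQf.hasAt_codim_zero_iff (repWith_comp ha (repWith_etale_of_openImmersion hj)) u).trans
    (CodimQf.hasAt_codim_zero_iff ha u).symm

theorem not_mem_closure_of_isDecent {Y : Space S} (hY : IsDecent Y.obj) {y y' : Points Y.obj} (hy : CZ Y.obj y)
    (hne : y ≠ y') : y ∉ closure ({y'} : Set (Points Y.obj)) := fun hc => by
  obtain ⟨U, b, v, -, hb, rfl⟩ := exists_affine_chart_at Y.property y
  obtain ⟨v', hv', hv'y⟩ := exists_specializes_lift_of_isDecent hY hb (specializes_iff_mem_closure.2 hc)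
  rw [(CodimQf.coheight_eq_zero_iff v).1 ((CodimQf.hasAt_codim_zero_iff hb v).1 hy) v' hv'] at hv'y
  exact hne hv'y

/-- An affine dense open containing all points of codimension zero of a decent space. -/
theorem exists_affine_dense {Y : Space S} (hY : IsDecent Y.obj) (hY0 : {y | CZ Y.obj y}.Finite) :
    ∃ (V : Over S) (c : (yon S).obj V ⟶ Y.obj), IsAffine V.left ∧ RepWith @IsOpenImmersion c ∧
      ∀ y, CZ Y.obj y → y ∈ Set.range (Points.ofPt c) := by
  obtain ⟨Y', j₀, hj₀, hrep, hdense⟩ := exists_dense_open_subscheme_of_isDecent Y hY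
  obtain ⟨T, ⟨r⟩⟩ := hrep.has_representation
  let e : (yon S).obj T ≅ Y'.obj := AlgSp.isoOfRepresentableBy r
  let j : (yon S).obj T ⟶ Y.obj := e.hom ≫ j₀.hom
  have hj : RepWith @IsOpenImmersion j := repWith_comp (repWith_of_isIso _ _) hj₀
  have hrange : Set.range (Points.ofPt j) = Set.range (Points.map j₀.hom) := by
    ext x
    constructor
    · rintro ⟨t, rfl⟩
      exact ⟨Points.map e.hom (Points.ofScheme T t), by
        rw [← Points.map_comp, ← Points.ofPt_eq_map_ofScheme]⟩
    · rintro ⟨z, rfl⟩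
      obtain ⟨t, ht⟩ := (Points.schemeHomeo T).surjective (Points.map e.inv z)
      have ht' : Points.ofScheme T t = Points.map e.inv z := ht
      exact ⟨t, by rw [Points.ofPt_eq_map_ofScheme, ht', ← Points.map_comp, e.inv_hom_id_assoc]⟩
  have hjy : ∀ y, CZ Y.obj y → y ∈ Set.range (Points.ofPt j) := fun y hy => by
    let N : Set (Points Y.obj) := (⋃ y' ∈ {y' | CZ Y.obj y'} \ {y}, closure {y'})ᶜ
    have hN : IsOpen N :=
      ((hY0.subset Set.diff_subset).isClosed_biUnion fun _ _ => isClosed_closure).isOpen_compl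
    have hyN : y ∈ N := fun h => by
      obtain ⟨y', ⟨-, hne⟩, hc⟩ := Set.mem_iUnion₂.1 h
      exact not_mem_closure_of_isDecent hY hy (Ne.symm hne) hc
    have hopen : IsOpen (Set.range (Points.map j₀.hom)) := (isOpenEmbedding_map' Y.property hj₀).isOpen_range
    obtain ⟨t, htN, htr⟩ := dense_iff_inter_open.1 hdense N hN ⟨y, hyN⟩
    obtain ⟨y'', hy'', hy''m, -⟩ := exists_cz_generization Y.property (hN.inter hopen) ⟨htN, htr⟩
    rw [hrange]
    by_contra hn
    exact hy''m.1 (Set.mem_iUnion₂.2 ⟨y'', ⟨hy'', fun h => hn (h ▸ hy''m.2)⟩, subset_closure rfl⟩)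
  obtain ⟨W, hW, hWF⟩ := exists_affine_containing Y.property hj hY0 (fun y hy => hy) hjy
    fun y hy y' _ hne => not_mem_closure_of_isDecent hY hy hne
  refine ⟨openOver T W, (yon S).map (openOverι T W) ≫ j, hW,
    repWith_comp ((repWith_yon_map_iff _ _).2 (inferInstanceAs (IsOpenImmersion W.ι))) hj, fun y hy => ?_⟩
  obtain ⟨t, htW, rfl⟩ := hWF y hy
  exact ⟨⟨t, htW⟩, ofPt_comp _ _ _⟩

/-- Finiteness over a neighbourhood, for a separated morphism with quasi-compact open piece containing all
points of codimension zero. -/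
theorem exists_finite_over_minPts_separated {P : Space S} {V : Over S} [IsAffine V.left]
    (g : P.obj ⟶ (yon S).obj V) (hsep : IsSeparatedMor g) (hP0 : {x | CZ P.obj x}.Finite)
    (hV : (minPts V.left).Finite)
    (hlft : ∀ (U : Over S) (a : (yon S).obj U ⟶ P.obj) (h : U ⟶ V), RepWith @Etale a → a ≫ g = (yon S).map h →
      LocallyOfFiniteType h.left)
    (hpre : ∀ (U : Over S) (a : (yon S).obj U ⟶ P.obj) (h : U ⟶ V), RepWith @Etale a → a ≫ g = (yon S).map h →
      ∀ u, u ∈ minPts U.left ↔ h.left u ∈ minPts V.left) :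
    ∃ (V₁ : V.left.Opens) (TV : Over S) (g' : TV ⟶ openOver V V₁) (m : (yon S).obj TV ⟶ P.obj),
      minPts V.left ⊆ (V₁ : Set ↥V.left) ∧ IsFinite g'.left ∧
        IsPullback m ((yon S).map g') g ((yon S).map (openOverι V V₁)) := by
  choose U a u hU ha hu using fun x : Points P.obj => exists_affine_chart_at P.property x
  have hopen : IsOpen (⋃ x ∈ {x | CZ P.obj x}, Set.range (Points.ofPt (a x))) :=
    isOpen_biUnion fun x _ => by rw [← Set.image_univ]; exact isOpenMap_ofPt (ha x) _ isOpen_univ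
  obtain ⟨O, jO, hO, hjO, hjOr⟩ := exists_open_subspace P.property hopen
  have hOqc : IsQuasiCompactSp O := by
    refine (isQuasiCompactSp_iff hO).2 ⟨?_⟩
    rw [(isOpenEmbedding_map' P.property hjO).isInducing.isCompact_iff, Set.image_univ, hjOr]
    refine hP0.isCompact_biUnion fun x _ => ?_
    have := hU x
    exact isCompact_range (Points.continuous_ofPt (a x))
  obtain ⟨V₁, TV, g', m, hV₁, hfin, sq⟩ := exists_finite_over_minPts ⟨O, hO⟩ (jO ≫ g) hOqc hV
    (fun U a h ha w => hlft U (a ≫ jO) h (repWith_comp ha (repWith_etale_of_openImmersion hjO))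
      ((Category.assoc _ _ _).trans w))
    (fun U a h ha w => hpre U (a ≫ jO) h (repWith_comp ha (repWith_etale_of_openImmersion hjO))
      ((Category.assoc _ _ _).trans w))
  refine ⟨V₁, TV, g', m ≫ jO, hV₁, hfin, ?_⟩
  let ι := (yon S).map (openOverι V V₁)
  let Q := pullback g ι
  have hQ : IsAlgSpace Q := isAlgSpace_pullback P.property (IsAlgSpace.yon_obj _) (IsAlgSpace.yon_obj _) _ _
  let l : (yon S).obj TV ⟶ Q := pullback.lift (m ≫ jO) ((yon S).map g') ((Category.assoc _ _ _).trans sq.w)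
  have hl₁ : l ≫ pullback.fst g ι = m ≫ jO := pullback.lift_fst _ _ _
  have hl₂ : l ≫ pullback.snd g ι = (yon S).map g' := pullback.lift_snd _ _ _
  have sqO : IsPullback m l jO (pullback.fst g ι) := by
    refine IsPullback.of_bot ?_ hl₁.symm (IsPullback.of_hasPullback g ι)
    rw [hl₂]
    exact sq
  have hlo : RepWith @IsOpenImmersion l := repWith_of_isPullback sqO hjO
  have hιo : RepWith @IsOpenImmersion (pullback.fst g ι) :=
    repWith_fst g ((repWith_yon_map_iff _ _).2 (inferInstanceAs (IsOpenImmersion V₁.ι)))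
  -- the range is closed
  have hdiag : RepWith @IsFinite (pullback.diagonal (pullback.snd g ι)) :=
    repWith_mono (fun _ _ i (_ : IsClosedImmersion i) => inferInstanceAs (IsFinite i)) _
      (isSeparatedMor_of_isPullback (IsPullback.of_hasPullback g ι) hsep)
  have hlfin : RepWith @IsFinite l := by
    refine AlgSpLib.of_comp_of_diagonal (RepWith @IsFinite) l (pullback.snd g ι) ?_ hdiag
    rw [hl₂]
    exact (repWith_yon_map_iff _ _).2 hfin
  have hclosed : IsClosed (Set.range (Points.map l)) := isOpen_compl_iff.1 (Points.isOpen_iff.2 fun Z b => by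
    have : IsFinite (hlfin.rep.snd b).left := hlfin.property_snd b
    rw [Set.preimage_compl, range_preimage (hlfin.rep.isPullback b), isOpen_compl_iff]
    exact (hlfin.rep.snd b).left.isClosedMap.isClosed_range)
  have hsurj : Function.Surjective (Points.map l) := fun z => by
    by_contra hz
    obtain ⟨z₀, hz₀, hz₀m, -⟩ := exists_cz_generization hQ hclosed.isOpen_compl (x := z) hz
    have h1 : CZ P.obj (Points.map (pullback.fst g ι) z₀) := (cz_map_iff hQ hιo z₀).2 hz₀
    obtain ⟨o, ho⟩ : Points.map (pullback.fst g ι) z₀ ∈ Set.range (Points.map jO) :=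
      hjOr.symm ▸ Set.mem_iUnion₂.2 ⟨_, h1, ⟨u _, hu _⟩⟩
    obtain ⟨w, -, hw⟩ := exists_point_of_isPullback sqO ho
    exact hz₀m ⟨w, hw⟩
  have : IsIso l := (repWith_isomorphisms_iff l).1 ⟨hlo.rep, fun A B b fst snd sq' => by
    have : IsOpenImmersion snd.left := hlo.property _ _ _ sq'
    have : Surjective snd.left := ((repWith_surjective_iff hlo.rep).2 hsurj).property _ _ _ sq'
    exact isIso_of_openImmersion_surjective snd.left⟩
  exact (IsPullback.of_hasPullback g ι).of_iso (asIso l).symm (Iso.refl _) (Iso.refl _) (Iso.refl _)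
    (by simp [← hl₁]) (by simp [← hl₂]) (by simp) (by simp [ι])

/-- A morphism whose points of codimension zero are those over points of codimension zero is finite over a
dense open. -/
theorem exists_dense_open_finite {X Y : Space S} (f : X ⟶ Y)
    (hf : LocP @LocallyOfFiniteType f.hom) (hY : IsDecent Y.obj)
    (hX0 : {x | CZ X.obj x}.Finite) (hY0 : {y | CZ Y.obj y}.Finite)
    (hpre : ∀ x, CZ X.obj x ↔ CZ Y.obj (Points.map f.hom x))
    (hqs : IsQuasiCompactMor f.hom ∨ IsSeparatedMor f.hom) :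
    ∃ (V X' : Space S) (j : V ⟶ Y) (fst : X' ⟶ V) (snd : X' ⟶ X), RepWith @IsOpenImmersion j.hom ∧
      Dense (Set.range (Points.map j.hom)) ∧ IsPullback fst.hom snd.hom j.hom f.hom ∧
      IsFiniteMor fst.hom := by
  obtain ⟨V, c, hV, hc, hcr⟩ := exists_affine_dense hY hY0
  let P : Space S := ⟨pullback f.hom c, isAlgSpace_pullback X.property (IsAlgSpace.yon_obj _) Y.property _ _⟩
  let g : P.obj ⟶ (yon S).obj V := pullback.snd f.hom c
  have sqP : IsPullback (pullback.fst f.hom c) g f.hom c := IsPullback.of_hasPullback f.hom c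
  have hp : RepWith @IsOpenImmersion (pullback.fst f.hom c) := repWith_fst f.hom hc
  have hce : RepWith @Etale c := repWith_etale_of_openImmersion hc
  have hcinj : Function.Injective (Points.ofPt c) := fun v v' h => by
    rw [Points.ofPt_eq_map_ofScheme c v, Points.ofPt_eq_map_ofScheme c v'] at h
    exact (Points.schemeHomeo V).injective ((isOpenEmbedding_map' Y.property hc).injective h)
  have hVfin : (minPts V.left).Finite :=
    (hY0.preimage hcinj.injOn).subset fun v hv => (CodimQf.hasAt_codim_zero_iff hce v).2 hv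
  have hlft : ∀ (U : Over S) (a : (yon S).obj U ⟶ P.obj) (h : U ⟶ V), RepWith @Etale a → a ≫ g = (yon S).map h →
      LocallyOfFiniteType h.left := fun U a h ha w =>
    hf (a ≫ pullback.fst f.hom c) c h (repWith_comp ha (repWith_etale_of_openImmersion hp)) hce
      (by rw [Category.assoc, sqP.w, ← Category.assoc, w])
  have hpre' : ∀ (U : Over S) (a : (yon S).obj U ⟶ P.obj) (h : U ⟶ V), RepWith @Etale a → a ≫ g = (yon S).map h →
      ∀ u, u ∈ minPts U.left ↔ h.left u ∈ minPts V.left := fun U a h ha w u => by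
    have ha' := repWith_comp ha (repWith_etale_of_openImmersion hp)
    have e : Points.map f.hom (Points.ofPt (a ≫ pullback.fst f.hom c) u) = Points.ofPt c (h.left u) := by
      rw [Points.map_ofPt, Category.assoc, sqP.w, ← Category.assoc, w, ofPt_comp]
    show Order.coheight u = 0 ↔ Order.coheight (h.left u) = 0
    rw [← CodimQf.hasAt_codim_zero_iff ha' u, ← CodimQf.hasAt_codim_zero_iff hce (h.left u), ← e]
    exact hpre _
  obtain ⟨V₁, TV, g', m, hV₁, hfin, sq⟩ :
      ∃ (V₁ : V.left.Opens) (TV : Over S) (g' : TV ⟶ openOver V V₁) (m : (yon S).obj TV ⟶ P.obj),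
        minPts V.left ⊆ (V₁ : Set ↥V.left) ∧ IsFinite g'.left ∧
          IsPullback m ((yon S).map g') g ((yon S).map (openOverι V V₁)) := by
    rcases hqs with hq | hs
    · exact exists_finite_over_minPts P g
        (hq (IsAlgSpace.yon_obj V) (AlgSpLib.isQuasiCompactSp_yon V) c _ _ sqP) hVfin hlft hpre'
    · refine exists_finite_over_minPts_separated g (isSeparatedMor_of_isPullback sqP hs) ?_ hVfin hlft hpre'
      exact (hX0.preimage ((isOpenEmbedding_map' X.property hp).injective.injOn)).subset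
        fun z hz => (cz_map_iff P.property hp z).2 hz
  let jV : (yon S).obj (openOver V V₁) ⟶ Y.obj := (yon S).map (openOverι V V₁) ≫ c
  have hjV : RepWith @IsOpenImmersion jV :=
    repWith_comp ((repWith_yon_map_iff _ _).2 (inferInstanceAs (IsOpenImmersion V₁.ι))) hc
  refine ⟨⟨_, IsAlgSpace.yon_obj (openOver V V₁)⟩, ⟨_, IsAlgSpace.yon_obj TV⟩, ObjectProperty.homMk jV,
    ObjectProperty.homMk ((yon S).map g'), ObjectProperty.homMk (m ≫ pullback.fst f.hom c), hjV, ?_,
    (sq.paste_horiz sqP).flip, isFiniteMor_iff_repWith.2 ((repWith_yon_map_iff _ _).2 hfin)⟩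
  refine dense_iff_inter_open.2 fun O hO ⟨y₀, hy₀⟩ => ?_
  obtain ⟨y, hy, hyO, -⟩ := exists_cz_generization Y.property hO hy₀
  obtain ⟨v, rfl⟩ := hcr y hy
  refine ⟨_, hyO, Points.ofScheme (openOver V V₁) ⟨v, hV₁ ((CodimQf.hasAt_codim_zero_iff hce v).1 hy)⟩, ?_⟩
  show Points.map jV _ = _
  rw [← Points.ofPt_eq_map_ofScheme, ofPt_comp]
  rfl

end Groth.Agent.AlgSpDM.DenseFin
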