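import Groth.Prelude.Def_W4stk3decentspacesp2Birat
import Groth.Agent.AlgSpDM.DenseFinite
import Groth.Agent.FinNhd.Basic
import Groth.Agent.H3Sch.AlgClosedPt
import Groth.Agent.MorLib.GeomFibre
import Groth.Agent.AlgSpMor.QfSplit

/-!
# Birational morphisms of decent spaces: fibres over generic points
-/

set_option autoImplicit false
set_option backward.isDefEq.respectTransparency false
set_option backward.isDefEq.respectTransparency.types false
set_option maxHeartbeats 800000

universe u

open CategoryTheory CategoryTheory.Limits AlgebraicGeometry AlgSp Groth.Agent.AlgSpLib Groth.Agent.AlgSpPts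
  Groth.Agent.AlgSpDec Groth.Agent.AlgSpDM.DenseFin W4stk3decentspacesp2

namespace Groth.Agent.AlgSpDM.Birat

section Top

variable {T : Type*} [TopologicalSpace T]

theorem eq_of_specializes_generic [T0Space T] {y y' : T} (hy : y ∈ genericPoints T) (h : y' ⤳ y) : y' = y := by
  have h1 : closure {y} ⊆ closure {y'} := specializes_iff_closure_subset.1 h
  have h2 : closure {y'} ⊆ closure {y} := hy.2 isIrreducible_singleton.closure h1
  exact (h.antisymm (specializes_iff_closure_subset.2 h2)).eq

theorem exists_generic [QuasiSober T] (z : T) : ∃ x ∈ genericPoints T, x ⤳ z := by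
  obtain ⟨C, hC, hzC⟩ := exists_mem_irreducibleComponents_subset_of_isIrreducible
    ({z} : Set T) isIrreducible_singleton
  exact ⟨_, (genericPoints.ofComponent ⟨C, hC⟩).2,
    (genericPoints.isGenericPoint_ofComponent ⟨C, hC⟩).specializes (hzC rfl)⟩

end Top

/-- A fibre product with the spectrum of an isomorphic local ring with no other point. -/
theorem isIso_of_isPullback_specStalk {U V Q : Scheme.{u}} (g : U ⟶ V) (u : ↥U) [IsIso (g.stalkMap u)]
    {p : Q ⟶ U} {q : Q ⟶ Spec (V.presheaf.stalk (g u))} (sq : IsPullback p q g (V.fromSpecStalk (g u)))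
    (hp : ∀ z, p z = u) : IsIso q := by
  let s : Spec (U.presheaf.stalk u) ⟶ Q :=
    sq.lift (U.fromSpecStalk u) (Spec.map (g.stalkMap u)) (Scheme.SpecMap_stalkMap_fromSpecStalk g).symm
  have : IsPreimmersion p := MorphismProperty.of_isPullback (P := @IsPreimmersion) sq.flip inferInstance
  let z := s (IsLocalRing.closedPoint (U.presheaf.stalk u))
  have hz : ∀ z', z' = z := fun z' => p.isEmbedding.injective ((hp z').trans (hp z).symm)
  have : Subsingleton ↥Q := ⟨fun a b => (hz a).trans (hz b).symm⟩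
  have : IsAffine Q := by
    obtain ⟨W, hW, hzW, -⟩ := exists_isAffineOpen_mem_and_subset (U := (⊤ : Q.Opens)) (x := z) trivial
    have hWt : W = ⊤ := top_unique fun t _ => by rwa [Subsingleton.elim t z]
    rw [hWt] at hW
    exact IsAffine.of_isIso Q.topIso.inv (h := hW)
  let A := Γ(Q, ⊤)
  let e : Q ≅ Spec A := Q.isoSpec
  have : Subsingleton (PrimeSpectrum A) := e.inv.homeomorph.injective.subsingleton
  have : Nonempty (PrimeSpectrum A) := ⟨e.hom z⟩
  have : Nontrivial A := PrimeSpectrum.nonempty_iff_nontrivial.1 ‹_›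
  have : Subsingleton (MaximalSpectrum A) := MaximalSpectrum.toPrimeSpectrum_injective.subsingleton
  have : IsLocalRing A := IsLocalRing.of_singleton_maximalSpectrum
  obtain ⟨φ, hφ⟩ : ∃ φ : U.presheaf.stalk u ⟶ A, Spec.map φ ≫ U.fromSpecStalk u = e.inv ≫ p := by
    obtain ⟨u', hu', φ, h⟩ : ∃ u', u' = u ∧ ∃ φ : U.presheaf.stalk u' ⟶ A,
        Spec.map φ ≫ U.fromSpecStalk u' = e.inv ≫ p :=
      ⟨_, hp (e.inv (IsLocalRing.closedPoint A)), Scheme.stalkClosedPointTo (e.inv ≫ p),
        Scheme.Spec_stalkClosedPointTo_fromSpecStalk _⟩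
    subst hu'
    exact ⟨φ, h⟩
  have hq : e.hom ≫ Spec.map φ ≫ Spec.map (g.stalkMap u) = q := by
    rw [← cancel_mono (V.fromSpecStalk (g u)), Category.assoc, Category.assoc,
      Scheme.SpecMap_stalkMap_fromSpecStalk, reassoc_of% hφ, e.hom_inv_id_assoc, sq.w]
  refine ⟨inv (Spec.map (g.stalkMap u)) ≫ s, sq.hom_ext ?_ ?_, ?_⟩
  · rw [Category.id_comp, Category.assoc, Category.assoc, sq.lift_fst, ← hq]
    simp only [Category.assoc, IsIso.hom_inv_id_assoc]
    rw [hφ, e.hom_inv_id_assoc]
  · rw [Category.id_comp, Category.assoc, Category.assoc, sq.lift_snd, IsIso.inv_hom_id, Category.comp_id]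
  · rw [Category.assoc, sq.lift_snd, IsIso.inv_hom_id]

variable {S : Scheme.{u}}

theorem isIso_stalkMap_congr {A B : Scheme.{u}} {h h' : A ⟶ B} (e : h = h') (r : ↥A)
    (hh : IsIso (h.stalkMap r)) : IsIso (h'.stalkMap r) := by subst e; exact hh

/-- The stalk condition of a birational morphism does not depend on the open subschemes. -/
theorem stalkIso_congr {F G : Sp S} {f : F ⟶ G} {U V U' V' : Over S} {a : (yon S).obj U ⟶ F}
    {b : (yon S).obj V ⟶ G} {g : U ⟶ V} {u : ↥U.left} {a' : (yon S).obj U' ⟶ F} {b' : (yon S).obj V' ⟶ G}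
    {g' : U' ⟶ V'} {u' : ↥U'.left} (ha : RepWith @IsOpenImmersion a) (hb : RepWith @IsOpenImmersion b)
    (w : a ≫ f = (yon S).map g ≫ b) (ha' : RepWith @IsOpenImmersion a') (hb' : RepWith @IsOpenImmersion b')
    (w' : a' ≫ f = (yon S).map g' ≫ b') (he : Points.ofPt a u = Points.ofPt a' u')
    (hiso : IsIso (g.left.stalkMap u)) : IsIso (g'.left.stalkMap u') := by
  obtain ⟨r, hr, hr'⟩ := exists_ofPt_of_eq (ha.rep.isPullback' a') he
  let p := ha.rep.fst' a'
  let p' := ha.rep.snd a'
  have : IsOpenImmersion p'.left := ha.property_snd a'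
  have : IsOpenImmersion p.left := ha'.property _ _ _ (ha.rep.isPullback' a').flip
  let q := hb.rep.fst' b'
  let q' := hb.rep.snd b'
  have : IsOpenImmersion q'.left := hb.property_snd b'
  have : IsOpenImmersion q.left := hb'.property _ _ _ (hb.rep.isPullback' b').flip
  have hw : (yon S).map (p ≫ g) ≫ b = (yon S).map (p' ≫ g') ≫ b' := by
    rw [(yon S).map_comp, (yon S).map_comp, Category.assoc, Category.assoc, ← w, ← w']
    exact (ha.rep.isPullback' a').w_assoc f
  let k := (yon S).preimage ((hb.rep.isPullback' b').lift _ _ hw)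
  have hk : k ≫ q = p ≫ g := (yon S).map_injective (by
    rw [(yon S).map_comp, Functor.map_preimage, IsPullback.lift_fst])
  have hk' : k ≫ q' = p' ≫ g' := (yon S).map_injective (by
    rw [(yon S).map_comp, Functor.map_preimage, IsPullback.lift_snd])
  subst hr hr'
  have h1 : IsIso ((p.left ≫ g.left).stalkMap r) := by
    rw [Scheme.Hom.stalkMap_comp]
    exact IsIso.comp_isIso' hiso inferInstance
  have h2 := isIso_stalkMap_congr (congrArg CommaMorphism.left hk).symm r h1
  have h3 : IsIso (k.left.stalkMap r) := by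
    have h2' : IsIso ((k.left ≫ q.left).stalkMap r) := h2
    rw [Scheme.Hom.stalkMap_comp] at h2'
    exact @IsIso.of_isIso_comp_left _ _ _ _ _ _ _ inferInstance h2'
  have h4 : IsIso ((k.left ≫ q'.left).stalkMap r) := by
    rw [Scheme.Hom.stalkMap_comp]
    exact IsIso.comp_isIso' inferInstance h3
  have h5 : IsIso ((p'.left ≫ g'.left).stalkMap r) := isIso_stalkMap_congr (congrArg CommaMorphism.left hk') r h4
  rw [Scheme.Hom.stalkMap_comp] at h5
  exact @IsIso.of_isIso_comp_right _ _ _ _ _ _ _ inferInstance h5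

variable {X Y : Space S} {f : X ⟶ Y}

/-- The generic point over a generic point, in open subschemes. -/
theorem exists_chart_over (hf : IsBirational f.hom) {V : Over S} {b : (yon S).obj V ⟶ Y.obj}
    (hb : RepWith @IsOpenImmersion b) {x : Points X.obj} (hx : x ∈ genericPoints (Points X.obj))
    (hv : Points.map f.hom x ∈ Set.range (Points.ofPt b)) :
    ∃ (U : Over S) (a : (yon S).obj U ⟶ X.obj) (g : U ⟶ V) (u : ↥U.left), RepWith @IsOpenImmersion a ∧
      a ≫ f.hom = (yon S).map g ≫ b ∧ Points.ofPt a u = x ∧ IsIso (g.left.stalkMap u) := by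
  obtain ⟨U, V', a, b', g, u, ha, hb', w, rfl, hiso⟩ := hf.stalkIso x hx
  obtain ⟨v, hv⟩ := hv
  obtain ⟨r, -, hr⟩ := exists_ofPt_of_eq (hb.rep.isPullback' (a ≫ f.hom)) (u := v) (v := u)
    (hv.trans (Points.map_ofPt _ _ _))
  let i := hb.rep.snd (a ≫ f.hom)
  have hi : RepWith @IsOpenImmersion ((yon S).map i) := (repWith_yon_map_iff _ _).2 (hb.property_snd _)
  have w₁ : ((yon S).map i ≫ a) ≫ f.hom = (yon S).map (hb.rep.fst' (a ≫ f.hom)) ≫ b := by
    rw [Category.assoc]; exact (hb.rep.isPullback' (a ≫ f.hom)).w.symm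
  have hru : Points.ofPt ((yon S).map i ≫ a) r = Points.ofPt a u := by rw [ofPt_comp, hr]
  exact ⟨_, _, _, r, repWith_comp hi ha, w₁, hru,
    stalkIso_congr ha hb' w (repWith_comp hi ha) hb w₁ hru.symm hiso⟩

variable (hX : IsDecent X.obj) (hY : IsDecent Y.obj) (hf : IsBirational f.hom)

include hX hY in
theorem eq_of_map_eq_generic (hf : IsBirational f.hom) {V : Over S} {b : (yon S).obj V ⟶ Y.obj}
    (hb : RepWith @IsOpenImmersion b) {x x' : Points X.obj} (hx : x ∈ genericPoints (Points X.obj))
    (he : Points.map f.hom x' = Points.map f.hom x) (hv : Points.map f.hom x ∈ Set.range (Points.ofPt b)) :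
    x' = x := by
  have := quasiSober_points X.property hX
  have := t0Space_points Y.property hY
  obtain ⟨x₀, hx₀, hsp⟩ := exists_generic x'
  have h0 : Points.map f.hom x₀ = Points.map f.hom x := by
    refine eq_of_specializes_generic (hf.bijOn.mapsTo hx) ?_
    rw [← he]
    exact hsp.map (Points.continuous_map _)
  obtain rfl : x₀ = x := hf.bijOn.injOn hx₀ hx h0
  obtain ⟨U₁, a₁, g, u, ha₁, w₁, rfl, hiso⟩ := exists_chart_over hf hb hx hv
  obtain ⟨W, a₀, u₀', -, ha₀, rfl⟩ := exists_affine_chart_at X.property x'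
  obtain ⟨u', -, hu'⟩ := exists_ofPt_of_eq (hb.rep.isPullback' (a₀ ≫ f.hom)) (v := u₀') (u := g.left u) (by
    rw [← Points.map_ofPt, he, Points.map_ofPt, w₁, ofPt_comp])
  let i := hb.rep.snd (a₀ ≫ f.hom)
  let h := hb.rep.fst' (a₀ ≫ f.hom)
  let a₂ := (yon S).map i ≫ a₀
  have ha₂ : RepWith @Etale a₂ := repWith_comp
    ((repWith_yon_map_iff _ _).2 (have : IsOpenImmersion i.left := hb.property_snd _; inferInstance)) ha₀
  have w₂ : a₂ ≫ f.hom = (yon S).map h ≫ b := by
    rw [Category.assoc]; exact (hb.rep.isPullback' (a₀ ≫ f.hom)).w.symm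
  have hu'' : Points.ofPt a₂ u' = Points.ofPt a₀ u₀' := by rw [ofPt_comp, hu']
  rw [← hu''] at hsp he ⊢
  obtain ⟨u₀, hu₀, hu₀x⟩ := exists_specializes_lift_of_isDecent hX ha₂ hsp
  have hb' := AlgSpMor.injective_ofPt_openImm Y.property hb
  have hv₀ : h.left u₀ = g.left u := hb' (by
    rw [← ofPt_comp, ← ofPt_comp, ← w₁, ← w₂]
    exact (Points.map_ofPt a₂ f.hom u₀).symm.trans ((congrArg _ hu₀x).trans (Points.map_ofPt a₁ f.hom u)))
  have hv' : h.left u₀ = h.left u' := hb' (by
    rw [← ofPt_comp h b u', ← ofPt_comp h b u₀, ← w₂]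
    exact (Points.map_ofPt a₂ f.hom u₀).symm.trans ((congrArg _ hu₀x).trans
      (he.symm.trans (Points.map_ofPt a₂ f.hom u'))))
  have ha₁e := repWith_etale_of_openImmersion ha₁
  obtain ⟨r, hr₁, hr₂⟩ := exists_ofPt_of_eq (ha₁.rep.isPullback' a₂) hu₀x.symm
  let p := ha₁.rep.fst' a₂
  let p' := ha₁.rep.snd a₂
  have : Etale p.left := ha₂.property _ _ _ (ha₁.rep.isPullback' a₂).flip
  have hpg : p ≫ g = p' ≫ h := by
    have := mono_of_openImmersion hb
    apply (yon S).map_injective
    rw [← cancel_mono b, (yon S).map_comp, (yon S).map_comp, Category.assoc, Category.assoc, ← w₁, ← w₂]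
    exact (ha₁.rep.isPullback' a₂).w_assoc f.hom
  have hfin : ((p'.left ≫ h.left).residueFieldMap r).hom.Finite := by
    have e : p.left ≫ g.left = p'.left ≫ h.left := congrArg CommaMorphism.left hpg
    rw [← e, Scheme.residueFieldMap_comp, CommRingCat.hom_comp]
    have hg : IsIso (g.left.stalkMap (p.left r)) := hr₁.symm ▸ hiso
    refine (MorLib.GF.finite_residueFieldMap p.left r).comp (RingHom.Finite.of_surjective _ ?_)
    intro c
    obtain ⟨c, rfl⟩ := U₁.left.residue_surjective (p.left r) c
    obtain ⟨d, rfl⟩ := (ConcreteCategory.isIso_iff_bijective (g.left.stalkMap (p.left r))).1 hg |>.2 c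
    exact ⟨V.left.residue _ d, congr($(Scheme.residue_residueFieldMap g.left (p.left r)) d)⟩
  rw [Scheme.residueFieldMap_comp, CommRingCat.hom_comp] at hfin
  subst hr₂
  have halg : @Algebra.IsAlgebraic (V.left.residueField (h.left (p'.left r))) _ _ _
      (h.left.residueFieldMap (p'.left r)).hom.toAlgebra := by
    algebraize [(h.left.residueFieldMap (p'.left r)).hom, (p'.left.residueFieldMap r).hom,
      (p'.left.residueFieldMap r).hom.comp (h.left.residueFieldMap (p'.left r)).hom]
    have : Module.Finite (V.left.residueField (h.left (p'.left r)))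
      ((ha₁.rep.pullback a₂).left.residueField r) := hfin
    have := FiniteDimensional.left (V.left.residueField (h.left (p'.left r)))
      ((hb.rep.pullback (a₀ ≫ f.hom)).left.residueField (p'.left r)) ((ha₁.rep.pullback a₂).left.residueField r)
    exact Algebra.IsAlgebraic.of_finite _ _
  rw [← hu₀x, H3Sch.eq_of_specializes_of_isAlgebraic h.left _ halg hu₀ hv']

include hX hY hf in
/-- The fibre of a birational morphism over the local scheme at a generic point. -/
theorem isIso_baseChange_specStalk {V : Over S} (b : (yon S).obj V ⟶ Y.obj) (hb : RepWith @IsOpenImmersion b)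
    (v : ↥V.left) (hv : Points.ofPt b v ∈ genericPoints (Points Y.obj)) {P : Sp S} (fst : P ⟶ X.obj)
    (snd : P ⟶ (yon S).obj (Over.mk (V.left.fromSpecStalk v ≫ V.hom)))
    (hP : IsPullback fst snd f.hom ((yon S).map (Over.homMk (V.left.fromSpecStalk v) rfl) ≫ b)) :
    IsIso snd := by
  obtain ⟨x, hx, hxv⟩ := hf.bijOn.surjOn hv
  obtain ⟨U, a, g, u, ha, w, hu, hiso⟩ := exists_chart_over hf hb hx ⟨v, hxv.symm⟩
  have hb' := AlgSpMor.injective_ofPt_openImm Y.property hb
  obtain rfl : v = g.left u := hb' (by rw [← hxv, ← hu, Points.map_ofPt, w, ofPt_comp])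
  have := t0Space_points Y.property hY
  have hgen : ∀ v', v' ⤳ g.left u → v' = g.left u := fun v' h =>
    hb' (eq_of_specializes_generic hv (h.map (Points.continuous_ofPt b)))
  let V' : Over S := Over.mk (V.left.fromSpecStalk (g.left u) ≫ V.hom)
  let ι : V' ⟶ V := Over.homMk (V.left.fromSpecStalk (g.left u)) rfl
  have hι : ∀ t, ι.left t = g.left u := fun t =>
    hgen _ (Scheme.range_fromSpecStalk.subset (Set.mem_range_self t) :)
  have hPa : IsAlgSpace P := isAlgSpace_of_isPullback hP X.property (IsAlgSpace.yon_obj _) Y.property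
  have hz : ∀ z, Points.map fst z = x := fun z => by
    refine eq_of_map_eq_generic hX hY hf hb hx ?_ ⟨_, hxv.symm⟩
    obtain ⟨t, ht⟩ : ∃ t, Points.ofScheme V' t = Points.map snd z :=
      (Points.schemeHomeo V').surjective _
    have h2 : Points.map ((yon S).map ι ≫ b) (Points.map snd z) = Points.ofPt b (g.left u) := by
      rw [← ht, ← Points.ofPt_eq_map_ofScheme, ofPt_comp, hι t]
    rw [← Points.map_comp, hP.w, Points.map_comp, hxv, h2]
  obtain ⟨l, hl⟩ := FinNhd.exists_factor_open_space ha hPa fst fun z =>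
    ⟨Points.ofScheme U u, by rw [← Points.ofPt_eq_map_ofScheme, hu, hz z]⟩
  have := mono_of_openImmersion hb
  have := mono_of_openImmersion ha
  have hlw : l ≫ (yon S).map g = snd ≫ (yon S).map ι := by
    rw [← cancel_mono b, Category.assoc, Category.assoc, ← w, reassoc_of% hl]
    exact hP.w
  have sqO : IsPullback (pullback.fst g ι) (pullback.snd g ι) g ι := IsPullback.of_hasPullback g ι
  let q := pullback.snd g ι
  let p := pullback.fst g ι
  let m : (yon S).obj (pullback g ι) ⟶ P := hP.lift ((yon S).map p ≫ a) ((yon S).map q) (by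
    rw [Category.assoc, w, ← Category.assoc, ← Category.assoc, ← (yon S).map_comp, ← (yon S).map_comp, sqO.w])
  have hp : ∀ z, p.left z = u := fun z => by
    refine AlgSpMor.injective_ofPt_openImm X.property ha ?_
    rw [← ofPt_comp, hu, ← hP.lift_fst ((yon S).map p ≫ a) ((yon S).map q) (by
      rw [Category.assoc, w, ← Category.assoc, ← Category.assoc, ← (yon S).map_comp, ← (yon S).map_comp, sqO.w]),
      ← Points.map_ofPt]
    exact hz _
  have hq : IsIso q.left := isIso_of_isPullback_specStalk g.left u (sqO.map (Over.forget S)) hp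
  have : IsIso ((Over.forget S).map q) := hq
  have : IsIso q := isIso_of_reflects_iso q (Over.forget S)
  let l' : P ⟶ (yon S).obj (pullback g ι) := (sqO.map (yon S)).lift l snd hlw
  have hl' : snd ≫ inv ((yon S).map q) = l' :=
    (IsIso.comp_inv_eq _).2 ((sqO.map (yon S)).lift_snd _ _ _).symm
  refine ⟨inv ((yon S).map q) ≫ m, hP.hom_ext ?_ ?_, ?_⟩
  · rw [Category.id_comp, Category.assoc, Category.assoc, hP.lift_fst, reassoc_of% hl',
      (sqO.map (yon S)).lift_fst_assoc, hl]
  · rw [Category.id_comp, Category.assoc, Category.assoc, hP.lift_snd, IsIso.inv_hom_id, Category.comp_id]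
  · rw [Category.assoc, hP.lift_snd, IsIso.inv_hom_id]

end Groth.Agent.AlgSpDM.Birat
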