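import Groth.Agent.AlgSpDM.BiratDense
import Groth.Agent.AlgSpDec.DecentMor

/-!
# Birational morphisms under etale base change to affine schemes
-/

set_option autoImplicit false
set_option backward.isDefEq.respectTransparency false
set_option backward.isDefEq.respectTransparency.types false
set_option maxHeartbeats 800000

universe u

open CategoryTheory CategoryTheory.Limits AlgebraicGeometry AlgSp Groth.Agent.AlgSpLib Groth.Agent.AlgSpPts
  Groth.Agent.AlgSpDec Groth.Agent.AlgSpDM.DenseFin W4stk3decentspacesp2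

namespace Groth.Agent.AlgSpDM.Birat

/-- The local rings agree at the point over the closed point. -/
theorem isIso_stalkMap_of_isIso_baseChange {Q W : Scheme.{u}} (q : Q ⟶ W) (r : ↥Q)
    (hiso : IsIso (pullback.snd q (W.fromSpecStalk (q r))))
    (hr : (inv (pullback.snd q (W.fromSpecStalk (q r))) ≫ pullback.fst q (W.fromSpecStalk (q r)))
      (IsLocalRing.closedPoint (W.presheaf.stalk (q r))) = r) : IsIso (q.stalkMap r) := by
  let q' := pullback.snd q (W.fromSpecStalk (q r))
  let p := pullback.fst q (W.fromSpecStalk (q r))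
  have sq : IsPullback p q' q (W.fromSpecStalk (q r)) := IsPullback.of_hasPullback _ _
  obtain ⟨ψ, hψ⟩ : ∃ ψ : Q.presheaf.stalk r ⟶ W.presheaf.stalk (q r),
      Spec.map ψ ≫ Q.fromSpecStalk r = inv q' ≫ p := by
    obtain ⟨r', hr', ψ, h⟩ : ∃ r', r' = r ∧ ∃ ψ : Q.presheaf.stalk r' ⟶ W.presheaf.stalk (q r),
        Spec.map ψ ≫ Q.fromSpecStalk r' = inv q' ≫ p :=
      ⟨_, hr, Scheme.stalkClosedPointTo (inv q' ≫ p), Scheme.Spec_stalkClosedPointTo_fromSpecStalk _⟩
    subst hr'
    exact ⟨ψ, h⟩
  have h2 : q.stalkMap r ≫ ψ = 𝟙 _ := by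
    apply Spec.map_injective
    rw [← cancel_mono (W.fromSpecStalk (q r)), Spec.map_comp, Category.assoc, Spec.map_id, Category.id_comp,
      Scheme.SpecMap_stalkMap_fromSpecStalk, reassoc_of% hψ, sq.w, IsIso.inv_hom_id_assoc]
  have h3 : Spec.map (q.stalkMap r) ≫ inv q' ≫ p = Q.fromSpecStalk r := by
    let l := sq.lift (Q.fromSpecStalk r) (Spec.map (q.stalkMap r)) (Scheme.SpecMap_stalkMap_fromSpecStalk q).symm
    have : l = Spec.map (q.stalkMap r) ≫ inv q' := (IsIso.eq_comp_inv q').2 (sq.lift_snd _ _ _)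
    rw [← Category.assoc, ← this, sq.lift_fst]
  have h5 : ψ ≫ q.stalkMap r = 𝟙 _ := by
    apply Spec.map_injective
    rw [← cancel_mono (Q.fromSpecStalk r), Spec.map_comp, Category.assoc, Spec.map_id, Category.id_comp, hψ, h3]
  exact ⟨ψ, h2, h5⟩

/-- A point where the base change to the local scheme downstairs is an isomorphism. -/
theorem exists_point_of_isIso_baseChange {Q W : Scheme.{u}} (q : Q ⟶ W) (v : ↥W)
    (hiso : IsIso (pullback.snd q (W.fromSpecStalk v))) :
    ∃ r, q r = v ∧ IsIso (q.stalkMap r) ∧ ∀ r', q r' = v → r' = r := by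
  let p := pullback.fst q (W.fromSpecStalk v)
  let q' := pullback.snd q (W.fromSpecStalk v)
  have sq : IsPullback p q' q (W.fromSpecStalk v) := IsPullback.of_hasPullback _ _
  let c := IsLocalRing.closedPoint (W.presheaf.stalk v)
  have hs : (inv q' ≫ p) ≫ q = W.fromSpecStalk v := by rw [Category.assoc, sq.w, IsIso.inv_hom_id_assoc]
  let r := (inv q' ≫ p) c
  have hr : q r = v := by
    rw [← Scheme.Hom.comp_apply, hs, Scheme.fromSpecStalk_closedPoint]
  refine ⟨r, hr, ?_, fun r' hr' => ?_⟩
  · suffices key : ∀ r', r' = r → q r' = v → IsIso (q.stalkMap r') from key r rfl hr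
    rintro r' hr' rfl
    exact isIso_stalkMap_of_isIso_baseChange q r' hiso hr'.symm
  · obtain ⟨z, hz, hzc⟩ := Scheme.Pullback.exists_preimage_pullback (f := q) (g := W.fromSpecStalk v) r' c
      (hr'.trans Scheme.fromSpecStalk_closedPoint.symm)
    have hz' : z = (inv q') c := by
      rw [← hzc, ← Scheme.Hom.comp_apply, IsIso.hom_inv_id]
      rfl
    rw [← hz, hz']
    exact (Scheme.Hom.comp_apply _ _ _).symm

/-- Base change of a fibre product to a local scheme over an isomorphism of local schemes. -/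
theorem isIso_baseChange_stalk {Q U V W : Scheme.{u}} {g : U ⟶ V} {u : ↥U} [IsIso (g.stalkMap u)]
    (hu : ∀ u', g u' = g u → u' = u) (hmin : ∀ v', v' ⤳ g u → v' = g u) {p : Q ⟶ U} {q : Q ⟶ W} {e : W ⟶ V}
    (sq : IsPullback p q g e) (v : ↥W) (hv : e v = g u) : IsIso (pullback.snd q (W.fromSpecStalk v)) := by
  have hA : IsIso (pullback.snd g (V.fromSpecStalk (g u))) :=
    isIso_of_isPullback_specStalk g u (IsPullback.of_hasPullback _ _) fun z => by
      refine hu _ (hmin _ ?_)
      rw [← Scheme.Hom.comp_apply, pullback.condition, Scheme.Hom.comp_apply]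
      exact (Scheme.range_fromSpecStalk.subset (Set.mem_range_self _) :)
  obtain ⟨h, hh⟩ : ∃ h : Spec (W.presheaf.stalk v) ⟶ Spec (V.presheaf.stalk (g u)),
      h ≫ V.fromSpecStalk (g u) = W.fromSpecStalk v ≫ e := by
    rw [← hv]
    exact ⟨Spec.map (e.stalkMap v), Scheme.SpecMap_stalkMap_fromSpecStalk e⟩
  let A := pullback.snd g (V.fromSpecStalk (g u))
  have sqA := (IsPullback.of_hasPullback A h).paste_horiz (IsPullback.of_hasPullback g (V.fromSpecStalk (g u)))
  rw [hh] at sqA
  have sqR := (IsPullback.of_hasPullback q (W.fromSpecStalk v)).paste_horiz sq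
  have : IsIso (pullback.snd A h) := inferInstance
  rw [← sqR.isoIsPullback_hom_snd _ _ sqA]
  infer_instance

variable {S : Scheme.{u}}

theorem cz_map_iff_etale {F G : Sp S} (hF : IsAlgSpace F) {j : F ⟶ G} (hj : RepWith @Etale j)
    (x : Points F) : CZ G (Points.map j x) ↔ CZ F x := by
  obtain ⟨U, a, u, -, ha, rfl⟩ := exists_affine_chart_at hF x
  rw [Points.map_ofPt]
  exact (CodimQf.hasAt_codim_zero_iff (repWith_comp ha hj) u).trans (CodimQf.hasAt_codim_zero_iff ha u).symm

variable {X Y : Space S} {f : X ⟶ Y} (hX : IsDecent X.obj) (hY : IsDecent Y.obj) (hf : IsBirational f.hom)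
  {V : Over S} {b : (yon S).obj V ⟶ Y.obj} (hb : RepWith @Etale b) {P : Sp S} {fst : P ⟶ X.obj}
  {snd : P ⟶ (yon S).obj V} (hP : IsPullback fst snd f.hom b)

include hX hY hf hb hP in
/-- The point over a generic point of the etale chart. -/
theorem exists_point_over {v : ↥V.left} (hv : v ∈ genericPoints ↥V.left) :
    ∃ z, Points.map snd z = Points.ofScheme V v ∧ Points.map fst z ∈ genericPoints (Points X.obj) ∧
      (∀ z', Points.map snd z' = Points.ofScheme V v → z' = z) ∧
      ∃ (Q W : Over S) (m : (yon S).obj Q ⟶ P) (i : (yon S).obj W ⟶ (yon S).obj V) (q : Q ⟶ W) (r : ↥Q.left),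
        RepWith @IsOpenImmersion m ∧ RepWith @IsOpenImmersion i ∧ m ≫ snd = (yon S).map q ≫ i ∧
          Points.ofPt m r = z ∧ IsIso (q.left.stalkMap r) := by
  have hy := (gen_ofPt_iff hY hb v).2 hv
  obtain ⟨x, hx, hxv⟩ := hf.bijOn.surjOn hy
  obtain ⟨U, V', a, b', g, u, ha, hb', w, hu, hiso⟩ := hf.stalkIso x hx
  have := t0Space_points Y.property hY
  have hbinj := AlgSpMor.injective_ofPt_openImm Y.property hb'
  have hgu : Points.ofPt b' (g.left u) = Points.ofPt b v := by rw [← ofPt_comp, ← w, ← Points.map_ofPt, hu, hxv]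
  let e := hb'.rep.fst' b
  let j := hb'.rep.snd b
  obtain ⟨v'', hev, hjv⟩ := exists_ofPt_of_eq (hb'.rep.isPullback' b) hgu
  have hjo : IsOpenImmersion j.left := hb'.property_snd b
  have sqQ : IsPullback (pullback.fst g e) (pullback.snd g e) g e := IsPullback.of_hasPullback g e
  let p := pullback.fst g e
  let q := pullback.snd g e
  let m : (yon S).obj (pullback g e) ⟶ P := hP.lift ((yon S).map p ≫ a) ((yon S).map q ≫ (yon S).map j) (by
    rw [Category.assoc, w, Category.assoc, ← (hb'.rep.isPullback' b).w, ← Category.assoc, ← Category.assoc,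
      ← (yon S).map_comp, ← (yon S).map_comp, sqQ.w])
  have hm₁ : m ≫ fst = (yon S).map p ≫ a := hP.lift_fst _ _ _
  have hm₂ : m ≫ snd = (yon S).map q ≫ (yon S).map j := hP.lift_snd _ _ _
  have big : IsPullback (m ≫ snd) ((yon S).map p) b (a ≫ f.hom) := by
    rw [hm₂, w]
    exact (sqQ.map (yon S)).flip.paste_horiz (hb'.rep.isPullback' b).flip
  have sqm : IsPullback m ((yon S).map p) fst a := IsPullback.of_right big hm₁ hP.flip
  have hm : RepWith @IsOpenImmersion m := repWith_of_isPullback sqm.flip ha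
  have hfib : ∀ x', Points.map f.hom x' = Points.ofPt b v → x' = x := fun x' h =>
    eq_of_map_eq_generic hX hY hf hb' hx (h.trans hxv.symm) ⟨g.left u, hgu.trans hxv.symm⟩
  have hmin : ∀ v', v' ⤳ g.left u → v' = g.left u := fun v' h =>
    hbinj (eq_of_specializes_generic (hgu ▸ hy) (h.map (Points.continuous_ofPt b')))
  have hu' : ∀ u', g.left u' = g.left u → u' = u := fun u' h =>
    AlgSpMor.injective_ofPt_openImm X.property ha ((hfib _ (by
      rw [Points.map_ofPt, w, ofPt_comp, h, hgu])).trans hu.symm)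
  obtain ⟨r, hr, hriso, huniq⟩ := exists_point_of_isIso_baseChange q.left v''
    (isIso_baseChange_stalk hu' hmin (sqQ.map (Over.forget S)) v'' hev)
  have hsr : Points.map snd (Points.ofPt m r) = Points.ofScheme V v := by
    rw [Points.map_ofPt, hm₂, ← (yon S).map_comp, ← Category.comp_id ((yon S).map (q ≫ j)), ofPt_comp]
    show Points.ofPt _ (j.left (q.left r)) = _
    rw [hr, hjv]
  have hfst : ∀ z, Points.map snd z = Points.ofScheme V v → Points.map fst z = x := fun z hz => by
    refine hfib _ ?_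
    rw [← Points.map_comp, hP.w, Points.map_comp, hz, ← Points.ofPt_eq_map_ofScheme]
  refine ⟨Points.ofPt m r, hsr, (hfst _ hsr).symm ▸ hx, fun z hz => ?_,
    _, _, m, (yon S).map j, q, r, hm, (repWith_yon_map_iff _ _).2 hjo, hm₂, rfl, hriso⟩
  obtain ⟨z', hz', -⟩ := exists_point_of_isPullback sqm (x := z) (y := Points.ofScheme U u) (by
    rw [hfst z hz, ← Points.ofPt_eq_map_ofScheme, hu])
  obtain ⟨r', hr'⟩ := (Points.schemeHomeo (pullback g e)).surjective z'
  have hr'' : Points.ofScheme _ r' = z' := hr'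
  rw [← hz', ← hr'', ← Points.ofPt_eq_map_ofScheme] at hz ⊢
  rw [huniq r' ?_]
  refine j.left.isOpenEmbedding.injective ?_
  rw [hjv]
  apply (Points.schemeHomeo V).injective
  rw [Points.map_ofPt, hm₂, ← (yon S).map_comp, ← Category.comp_id ((yon S).map (q ≫ j)), ofPt_comp] at hz
  exact hz

include hX hY hf hb hP in
theorem isBirational_baseChange [IsAffine V.left] (hYf : (irreducibleComponents (Points Y.obj)).Finite) :
    IsDecent P ∧ (irreducibleComponents (Points P)).Finite ∧
      (irreducibleComponents (Points ((yon S).obj V))).Finite ∧ IsBirational snd := by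
  have hPa : IsAlgSpace P := isAlgSpace_of_isPullback hP X.property (IsAlgSpace.yon_obj _) Y.property
  have hPd : IsDecent P :=
    isDecent_of_isPullback hP X.property Y.property (IsAlgSpace.yon_obj _) hX (isDecent_yon V)
  let P' : Space S := ⟨P, hPa⟩
  let V' : Space S := ⟨(yon S).obj V, IsAlgSpace.yon_obj V⟩
  have hfst : RepWith @Etale fst := repWith_of_isPullback hP.flip hb
  have hgenP : ∀ z, z ∈ genericPoints (Points P) ↔ Points.map fst z ∈ genericPoints (Points X.obj) := fun z => by
    rw [gen_iff_cz (Y := P') hPd, gen_iff_cz hX]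
    exact (cz_map_iff_etale hPa hfst z).symm
  have hgenV : ∀ v, Points.ofScheme V v ∈ genericPoints (Points ((yon S).obj V)) ↔ v ∈ genericPoints ↥V.left :=
    fun v => gen_ofPt_iff (Y := V') (isDecent_yon V) (b := 𝟙 _) (repWith_id _ V) v
  have hov : ∀ y, ∃ v, Points.ofScheme V v = y := (Points.schemeHomeo V).surjective
  have hmaps : ∀ z ∈ genericPoints (Points P), ∃ v ∈ genericPoints ↥V.left,
      Points.map snd z = Points.ofScheme V v := fun z hz => by
    obtain ⟨v, hv⟩ := hov (Points.map snd z)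
    refine ⟨v, (gen_ofPt_iff hY hb v).1 ?_, hv.symm⟩
    rw [Points.ofPt_eq_map_ofScheme, hv, ← Points.map_comp, ← hP.w, Points.map_comp]
    exact hf.bijOn.mapsTo ((hgenP z).1 hz)
  have hbij : Set.BijOn (Points.map snd) (genericPoints (Points P)) (genericPoints (Points ((yon S).obj V))) := by
    refine ⟨fun z hz => ?_, fun z hz z' hz' e => ?_, fun y hy => ?_⟩
    · obtain ⟨v, hv, e⟩ := hmaps z hz
      rw [e]
      exact (hgenV v).2 hv
    · obtain ⟨v, hv, e'⟩ := hmaps z hz
      obtain ⟨z₀, -, -, hu, -⟩ := exists_point_over hX hY hf hb hP hv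
      rw [hu z e', hu z' (e.symm.trans e')]
    · obtain ⟨v, rfl⟩ := hov y
      obtain ⟨z, hz, hzg, -, -⟩ := exists_point_over hX hY hf hb hP ((hgenV v).1 hy)
      exact ⟨z, (hgenP z).2 hzg, hz⟩
  have hVfin : (genericPoints (Points ((yon S).obj V))).Finite := by
    refine (((genericPoints_finite hY hYf).preimage' (f := Points.ofPt b) fun y _ => ?_).image
      (Points.ofScheme V)).subset fun y hy => ?_
    · obtain ⟨p, hp, -, hq⟩ := hY y
      rw [← hp]
      exact finite_fibre_of_repWith hb p hq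
    · obtain ⟨v, rfl⟩ := hov y
      exact ⟨v, (gen_ofPt_iff hY hb v).2 ((hgenV v).1 hy), rfl⟩
  have := quasiSober_points hPa hPd
  have := quasiSober_points (IsAlgSpace.yon_obj V) (isDecent_yon V)
  refine ⟨hPd, irreducibleComponents_finite (hbij.finite_iff_finite.2 hVfin),
    irreducibleComponents_finite hVfin, hbij, fun z hz => ?_⟩
  obtain ⟨v, hv, e⟩ := hmaps z hz
  obtain ⟨z₀, -, -, hu, Q, W, m, i, q, r, hm, hi, w, hr, hiso⟩ := exists_point_over hX hY hf hb hP hv
  exact ⟨Q, W, m, i, q, r, hm, hi, w, hr.trans (hu z e).symm, hiso⟩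

end Groth.Agent.AlgSpDM.Birat
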