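import Groth.Agent.AlgSpDM.Birat
import Groth.Agent.AlgSpDM.Basics
import Groth.Agent.MorLib.Birat
import Groth.Agent.AlgSpDec.OneFlat

/-!
# Birational morphisms are isomorphisms over dense opens
-/

set_option autoImplicit false
set_option backward.isDefEq.respectTransparency false
set_option backward.isDefEq.respectTransparency.types false
set_option maxHeartbeats 800000

universe u

open CategoryTheory CategoryTheory.Limits AlgebraicGeometry AlgSp Groth.Agent.AlgSpLib Groth.Agent.AlgSpPts
  Groth.Agent.AlgSpDec Groth.Agent.AlgSpDM.DenseFin W4stk3decentspacesp2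

namespace Groth.Agent.AlgSpDM.Birat

variable {S : Scheme.{u}}

theorem coheight_eq_zero_of_generic {Y : Space S} (hY : IsDecent Y.obj) {V : Over S} {b : (yon S).obj V ⟶ Y.obj}
    (hb : RepWith @Etale b) {v : ↥V.left} (hv : Points.ofPt b v ∈ genericPoints (Points Y.obj)) :
    Order.coheight v = 0 := by
  have := t0Space_points Y.property hY
  exact (CodimQf.coheight_eq_zero_iff v).2 fun v' h => (eq_of_specializes_of_isDecent hY hb
    (eq_of_specializes_generic hv (h.map (Points.continuous_ofPt b))).symm h).symm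

theorem gen_iff_cz {Y : Space S} (hY : IsDecent Y.obj) (y : Points Y.obj) :
    y ∈ genericPoints (Points Y.obj) ↔ CZ Y.obj y := by
  refine ⟨fun hy => ?_, fun hy => ?_⟩
  · obtain ⟨U, b, v, -, hb, rfl⟩ := exists_affine_chart_at Y.property y
    exact (CodimQf.hasAt_codim_zero_iff hb v).2 (coheight_eq_zero_of_generic hY hb hy)
  · have := quasiSober_points Y.property hY
    obtain ⟨y₀, hy₀, hs⟩ := exists_generic y
    by_contra hn
    exact not_mem_closure_of_isDecent hY hy (fun e => hn (e ▸ hy₀)) (specializes_iff_mem_closure.1 hs)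

theorem genericPoints_finite {Y : Space S} (hY : IsDecent Y.obj)
    (hYf : (irreducibleComponents (Points Y.obj)).Finite) : (genericPoints (Points Y.obj)).Finite :=
  have := t0Space_points Y.property hY
  genericPoints.finite hYf

theorem cz_finite {Y : Space S} (hY : IsDecent Y.obj) (hYf : (irreducibleComponents (Points Y.obj)).Finite) :
    {y | CZ Y.obj y}.Finite :=
  (genericPoints_finite hY hYf).subset fun y hy => (gen_iff_cz hY y).2 hy

theorem scheme_gen_iff {U : Scheme.{u}} (u : ↥U) : u ∈ genericPoints ↥U ↔ Order.coheight u = 0 :=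
  ⟨fun h => (CodimQf.coheight_eq_zero_iff u).2 fun _ h' => eq_of_specializes_generic h h',
    fun h => FinNhd.mem_genericPoints ((CodimQf.coheight_eq_zero_iff u).1 h)⟩

theorem gen_ofPt_iff {Y : Space S} (hY : IsDecent Y.obj) {V : Over S} {b : (yon S).obj V ⟶ Y.obj}
    (hb : RepWith @Etale b) (v : ↥V.left) :
    Points.ofPt b v ∈ genericPoints (Points Y.obj) ↔ v ∈ genericPoints ↥V.left := by
  rw [gen_iff_cz hY, scheme_gen_iff]
  exact CodimQf.hasAt_codim_zero_iff hb v

theorem irreducibleComponents_finite {T : Type*} [TopologicalSpace T] [QuasiSober T]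
    (h : (genericPoints T).Finite) : (irreducibleComponents T).Finite :=
  have := h.to_subtype
  Finite.of_surjective _ (genericPoints.component_surjective (α := T))

variable {X Y : Space S} (f : X ⟶ Y) (hX : IsDecent X.obj) (hY : IsDecent Y.obj)
  (hXf : (irreducibleComponents (Points X.obj)).Finite) (hYf : (irreducibleComponents (Points Y.obj)).Finite)
  (hf : IsBirational f.hom)
  (h : (LocP @LocallyOfFiniteType f.hom ∧ EtaleLocally (fun T => IsReduced T) Y.obj) ∨
      LocP @LocallyOfFinitePresentation f.hom)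

include hX hY hXf hYf hf h in
/-- A birational morphism identifies open subschemes containing all generic points. -/
theorem exists_iso_over_generic :
    ∃ (U V : Over S) (a : (yon S).obj U ⟶ X.obj) (b : (yon S).obj V ⟶ Y.obj) (g : U ⟶ V),
      RepWith @IsOpenImmersion a ∧ RepWith @IsOpenImmersion b ∧
        genericPoints (Points X.obj) ⊆ Set.range (Points.ofPt a) ∧
        genericPoints (Points Y.obj) ⊆ Set.range (Points.ofPt b) ∧
          a ≫ f.hom = (yon S).map g ≫ b ∧ IsIso g.left := by
  obtain ⟨V, c, -, hc, hcr⟩ := exists_affine_dense hY (cz_finite hY hYf)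
  obtain ⟨U₀, a₀, -, ha₀, har⟩ := exists_affine_dense hX (cz_finite hX hXf)
  let i := hc.rep.snd (a₀ ≫ f.hom)
  let g := hc.rep.fst' (a₀ ≫ f.hom)
  let a := (yon S).map i ≫ a₀
  have ha : RepWith @IsOpenImmersion a :=
    repWith_comp ((repWith_yon_map_iff _ _).2 (hc.property_snd _)) ha₀
  have w : a ≫ f.hom = (yon S).map g ≫ c := by
    rw [Category.assoc]; exact (hc.rep.isPullback' (a₀ ≫ f.hom)).w.symm
  have hae := repWith_etale_of_openImmersion ha
  have hce := repWith_etale_of_openImmersion hc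
  have hainj := AlgSpMor.injective_ofPt_openImm X.property ha
  have hcinj := AlgSpMor.injective_ofPt_openImm Y.property hc
  have hfa : ∀ u, Points.map f.hom (Points.ofPt a u) = Points.ofPt c (g.left u) := fun u => by
    rw [Points.map_ofPt, w, ofPt_comp]
  have har' : ∀ x ∈ genericPoints (Points X.obj), x ∈ Set.range (Points.ofPt a) := fun x hx => by
    obtain ⟨u₀, rfl⟩ := har x ((gen_iff_cz hX x).1 hx)
    obtain ⟨v, hv⟩ := hcr _ ((gen_iff_cz hY _).1 (hf.bijOn.mapsTo hx))
    obtain ⟨r, -, hr⟩ := exists_ofPt_of_eq (hc.rep.isPullback' (a₀ ≫ f.hom)) (u := v) (v := u₀)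
      (hv.trans (Points.map_ofPt _ _ _))
    exact ⟨r, by rw [ofPt_comp, hr]⟩
  have hbij : Set.BijOn g.left (genericPoints ↥(hc.rep.pullback (a₀ ≫ f.hom)).left) (genericPoints ↥V.left) := by
    refine ⟨fun u hu => ?_, fun u hu u' hu' e => hainj (hf.bijOn.injOn ((gen_ofPt_iff hX hae u).2 hu)
      ((gen_ofPt_iff hX hae u').2 hu') (by rw [hfa, hfa, e])), fun v hv => ?_⟩
    · rw [← gen_ofPt_iff hY hce, ← hfa]
      exact hf.bijOn.mapsTo ((gen_ofPt_iff hX hae u).2 hu)
    · obtain ⟨x, hx, hxv⟩ := hf.bijOn.surjOn ((gen_ofPt_iff hY hce v).2 hv)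
      obtain ⟨u, rfl⟩ := har' x hx
      exact ⟨u, (gen_ofPt_iff hX hae u).1 hx, hcinj (by rw [← hfa, hxv])⟩
  have hiso : ∀ u ∈ genericPoints ↥(hc.rep.pullback (a₀ ≫ f.hom)).left, IsIso (g.left.stalkMap u) :=
    fun u hu => by
      obtain ⟨U', V', a', b', g', u', ha', hb', w', hu', hi'⟩ := hf.stalkIso _ ((gen_ofPt_iff hX hae u).2 hu)
      exact stalkIso_congr ha' hb' w' ha hc w hu' hi'
  have hft : LocallyOfFiniteType g.left := by
    rcases h with ⟨h, -⟩ | h
    · exact h a c g hae hce w
    · have : LocallyOfFinitePresentation g.left := h a c g hae hce w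
      infer_instance
  have hVfin : (irreducibleComponents ↥V.left).Finite := irreducibleComponents_finite <|
    ((genericPoints_finite hY hYf).preimage hcinj.injOn).subset fun v hv => (gen_ofPt_iff hY hce v).2 hv
  obtain ⟨U', V', hUV, hU', hV', hI⟩ := MorLib.Birat.exists_dense_iso g.left hVfin hbij hiso
    (h.imp (fun h => isReduced_chart h.2 hce) fun h => h a c g hae hce w)
  let g' : openOver _ U' ⟶ openOver V V' := Over.homMk (g.left.resLE V' U' hUV) (by
    show g.left.resLE V' U' hUV ≫ V'.ι ≫ V.hom = U'.ι ≫ _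
    rw [Scheme.Hom.resLE_comp_ι_assoc, Over.w g])
  have hgι : g' ≫ openOverι V V' = openOverι _ U' ≫ g := Over.OverMorphism.ext (by
    show g.left.resLE V' U' hUV ≫ V'.ι = U'.ι ≫ g.left
    exact Scheme.Hom.resLE_comp_ι _ hUV)
  refine ⟨_, _, (yon S).map (openOverι _ U') ≫ a, (yon S).map (openOverι V V') ≫ c, g',
    repWith_comp ((repWith_yon_map_iff _ _).2 (inferInstanceAs (IsOpenImmersion U'.ι))) ha,
    repWith_comp ((repWith_yon_map_iff _ _).2 (inferInstanceAs (IsOpenImmersion V'.ι))) hc,
    fun x hx => ?_, fun y hy => ?_, ?_, hI⟩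
  · obtain ⟨u, rfl⟩ := har' x hx
    exact ⟨⟨u, hU' ((gen_ofPt_iff hX hae u).1 hx)⟩, ofPt_comp _ _ _⟩
  · obtain ⟨v, rfl⟩ := hcr y ((gen_iff_cz hY y).1 hy)
    exact ⟨⟨v, hV' ((gen_ofPt_iff hY hce v).1 hy)⟩, ofPt_comp _ _ _⟩
  · rw [Category.assoc, w, ← Category.assoc, ← Category.assoc, ← (yon S).map_comp, ← (yon S).map_comp, hgι]

include hX hY hXf hYf hf h in
theorem exists_dense_open_isIso :
    ∃ (U V : Over S) (a : (yon S).obj U ⟶ X.obj) (b : (yon S).obj V ⟶ Y.obj) (g : U ⟶ V),
      RepWith @IsOpenImmersion a ∧ RepWith @IsOpenImmersion b ∧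
        Dense (Set.range (Points.ofPt a)) ∧ Dense (Set.range (Points.ofPt b)) ∧
          a ≫ f.hom = (yon S).map g ≫ b ∧ IsIso g.left := by
  obtain ⟨U, V, a, b, g, ha, hb, hua, hvb, w, hg⟩ := exists_iso_over_generic f hX hY hXf hYf hf h
  have := quasiSober_points X.property hX
  have := quasiSober_points Y.property hY
  exact ⟨U, V, a, b, g, ha, hb, dense_of_genericPoints hua, dense_of_genericPoints hvb, w, hg⟩

end Groth.Agent.AlgSpDM.Birat
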