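import Groth.Agent.BirNormal.Basic
import Groth.Agent.S9821
import Groth.Agent.MorLib.Birat

/-!
# Integral birational morphisms onto normal schemes
-/

set_option autoImplicit false
set_option backward.isDefEq.respectTransparency false
set_option backward.isDefEq.respectTransparency.types false
set_option maxHeartbeats 800000

universe u

open CategoryTheory CategoryTheory.Limits AlgebraicGeometry TopologicalSpace Groth.Agent.MorLib

namespace Groth.Agent.AlgSpDM.BiratSch

theorem isReduced_of_isDomain_stalk (Y : Scheme.{u}) (h : ∀ y : Y, IsDomain (Y.presheaf.stalk y)) : IsReduced Y :=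
  have : ∀ y : Y, _root_.IsReduced (Y.presheaf.stalk y) := fun y => have := h y; inferInstance
  isReduced_of_isReduced_stalk Y

/-- A point with domain as local ring lies on one component only. -/
theorem generic_unique {Y : Scheme.{u}} {y η η' : Y} (h : IsDomain (Y.presheaf.stalk y)) (hη : η ∈ genericPoints Y)
    (hη' : η' ∈ genericPoints Y) (hy : η ⤳ y) (hy' : η' ⤳ y) : η = η' := by
  obtain ⟨t, ht⟩ : η ∈ Set.range (Y.fromSpecStalk y) := Scheme.range_fromSpecStalk.symm.subset hy
  obtain ⟨t', ht'⟩ : η' ∈ Set.range (Y.fromSpecStalk y) := Scheme.range_fromSpecStalk.symm.subset hy'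
  let b : PrimeSpectrum (Y.presheaf.stalk y) := ⟨⊥, Ideal.isPrime_bot⟩
  have key : ∀ s : PrimeSpectrum (Y.presheaf.stalk y), b ⤳ s := fun s =>
    (PrimeSpectrum.le_iff_specializes _ _).1 bot_le
  rw [← Birat.eq_of_specializes_generic hη (ht ▸ (key t).map (Y.fromSpecStalk y).continuous),
    ← Birat.eq_of_specializes_generic hη' (ht' ▸ (key t').map (Y.fromSpecStalk y).continuous)]

/-- An integral birational morphism from a reduced scheme onto a normal scheme with finitely many components is
an isomorphism. -/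
theorem isIso_of_birational {X Y : Scheme.{u}} (f : X ⟶ Y) [IsIntegralHom f] [IsReduced X]
    (hN : ∀ y : Y, IsDomain (Y.presheaf.stalk y) ∧ IsIntegrallyClosed (Y.presheaf.stalk y))
    (hYf : (irreducibleComponents ↥Y).Finite) (hbij : Set.BijOn f (genericPoints X) (genericPoints Y))
    (hiso : ∀ x ∈ genericPoints X, IsIso (f.stalkMap x)) : IsIso f := by
  have := isReduced_of_isDomain_stalk Y fun y => (hN y).1
  have key : ∀ y : Y, ∃ W : Y.Opens, y ∈ W ∧ IsIso (f ∣_ W) := fun y => by
    obtain ⟨η, hη, hηy⟩ := Birat.exists_generic y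
    have hG : (genericPoints Y \ {η}).Finite := (genericPoints.finite hYf).subset Set.diff_subset
    let O : Y.Opens := ⟨(⋃ y' ∈ genericPoints Y \ {η}, closure {y'})ᶜ,
      (hG.isClosed_biUnion fun _ _ => isClosed_closure).isOpen_compl⟩
    have hyO : y ∈ O := fun hm => by
      obtain ⟨y', hy', hc⟩ := Set.mem_iUnion₂.1 hm
      exact hy'.2 (generic_unique (hN y).1 hy'.1 hη (specializes_iff_mem_closure.2 hc) hηy)
    have hO : ∀ z ∈ O, η ⤳ z := fun z hz => by
      obtain ⟨z', hz', hsp⟩ := Birat.exists_generic z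
      by_cases he : z' = η
      · exact he ▸ hsp
      · exact absurd (Set.mem_iUnion₂.2 ⟨z', ⟨hz', he⟩, specializes_iff_mem_closure.1 hsp⟩) hz
    have hηO : η ∈ O := hηy.mem_open O.2 hyO
    refine ⟨O, hyO, ?_⟩
    obtain ⟨ξ, hξ, rfl⟩ := hbij.surjOn hη
    have hξall : ∀ x, f x ∈ O → ξ ⤳ x := fun x hx => by
      obtain ⟨x', hx', hsp⟩ := Birat.exists_generic x
      have h1 : f ξ = f x' := by
        by_contra hne
        exact hx (Set.mem_iUnion₂.2 ⟨f x', ⟨hbij.mapsTo hx', Ne.symm hne⟩,
          specializes_iff_mem_closure.1 (hsp.map f.continuous)⟩)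
      exact (hbij.injOn hξ hx' h1) ▸ hsp
    have hgenO : IsGenericPoint (⟨f ξ, hηO⟩ : O.toScheme) Set.univ :=
      Set.eq_univ_of_forall fun z => specializes_iff_mem_closure.1
        (O.ι.isOpenEmbedding.toIsEmbedding.isInducing.specializes_iff.1 (hO z.1 z.2))
    have hgenP : IsGenericPoint (⟨ξ, hηO⟩ : (f ⁻¹ᵁ O).toScheme) Set.univ :=
      Set.eq_univ_of_forall fun z => specializes_iff_mem_closure.1
        ((f ⁻¹ᵁ O).ι.isOpenEmbedding.toIsEmbedding.isInducing.specializes_iff.1 (hξall z.1 z.2))
    have : IrreducibleSpace O.toScheme := (irreducibleSpace_def _).2 (hgenO.isIrreducible)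
    have : IrreducibleSpace (f ⁻¹ᵁ O).toScheme :=
      (irreducibleSpace_def _).2 (hgenP.isIrreducible)
    have := isReduced_of_isOpenImmersion O.ι
    have := isReduced_of_isOpenImmersion (f ⁻¹ᵁ O).ι
    have : IsIntegral O.toScheme := isIntegral_of_irreducibleSpace_of_isReduced _
    have : IsIntegral (f ⁻¹ᵁ O).toScheme := isIntegral_of_irreducibleSpace_of_isReduced _
    have hn : Pi1.IsNormalScheme O.toScheme := fun z => by
      let e := (O.stalkIso z).commRingCatIsoToRingEquiv
      have := (hN z.1).1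
      have := (hN z.1).2
      exact ⟨e.toMulEquiv.isDomain, IsIntegrallyClosed.of_equiv e.symm⟩
    have hgen : (f ∣_ O) (genericPoint (f ⁻¹ᵁ O).toScheme) = genericPoint O.toScheme := by
      rw [(genericPoint_spec (f ⁻¹ᵁ O).toScheme).eq hgenP, (genericPoint_spec O.toScheme).eq hgenO]
      refine O.ι.isOpenEmbedding.injective ?_
      rw [← Scheme.Hom.comp_apply, morphismRestrict_ι]
      rfl
    have hbir : IsIso ((f ∣_ O).stalkMap (genericPoint (f ⁻¹ᵁ O).toScheme)) := by
      rw [(genericPoint_spec (f ⁻¹ᵁ O).toScheme).eq hgenP]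
      have h1 : IsIso (((f ⁻¹ᵁ O).ι ≫ f).stalkMap ⟨ξ, hηO⟩) := by
        rw [Scheme.Hom.stalkMap_comp]
        exact IsIso.comp_isIso' (hiso ξ hξ) inferInstance
      have h2 : IsIso (((f ∣_ O) ≫ O.ι).stalkMap ⟨ξ, hηO⟩) := by
        have e := morphismRestrict_ι f O
        revert h1
        generalize (f ⁻¹ᵁ O).ι ≫ f = g at e
        subst e
        exact id
      rw [Scheme.Hom.stalkMap_comp] at h2
      exact @IsIso.of_isIso_comp_left _ _ _ _ _ _ _ inferInstance h2
    have : IsIntegralHom (f ∣_ O) := IsZariskiLocalAtTarget.restrict ‹IsIntegralHom f› O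
    haveI := hbir
    haveI : IsIso (O.toScheme.presheaf.stalkSpecializes (specializes_of_eq hgen)) :=
      BirNormal.isIso_stalkSpecializes_of_eq hgen _
    exact BirNormal.isIso_of_isIntegralHom (f ∣_ O)
      (fun U hne hU => (Groth.Agent.S9821.result O.toScheme).1 hn U hU) hgen
      (ConcreteCategory.isIso_iff_bijective _ |>.1 inferInstance)
  choose W hyW hW using key
  exact IsZariskiLocalAtTarget.of_iSup_eq_top (P := MorphismProperty.isomorphisms Scheme) W
    (top_unique fun y _ => Opens.mem_iSup.2 ⟨y, hyW y⟩) hW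

end Groth.Agent.AlgSpDM.BiratSch
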