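import Groth.Agent.AlgSpDM.BiratBC
import Groth.Agent.AlgSpDM.BiratNormalSch
import Groth.Agent.AlgSpDec.AffineRep
import Groth.Agent.EtStalk.Normal
import Groth.Agent.AlgSpPts.FppfTarget

/-!
# Integral birational morphisms onto normal spaces
-/

set_option autoImplicit false
set_option backward.isDefEq.respectTransparency false
set_option backward.isDefEq.respectTransparency.types false
set_option maxHeartbeats 800000

universe u

open CategoryTheory CategoryTheory.Limits AlgebraicGeometry AlgSp Groth.Agent.AlgSpLib Groth.Agent.AlgSpPts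
  Groth.Agent.AlgSpDec Groth.Agent.AlgSpDM.DenseFin W4stk3decentspacesp2

namespace Groth.Agent.AlgSpDM.Birat

variable {S : Scheme.{u}}

theorem normal_chart {Z : Sp S}
    (hr : EtaleLocally (fun T => ∀ t : ↥T, IsDomain ↥(T.presheaf.stalk t) ∧
      IsIntegrallyClosed ↥(T.presheaf.stalk t)) Z)
    {U : Over S} {a : (yon S).obj U ⟶ Z} (ha : RepWith @Etale a) (u : ↥U.left) :
    IsDomain ↥(U.left.presheaf.stalk u) ∧ IsIntegrallyClosed ↥(U.left.presheaf.stalk u) := by
  obtain ⟨V, b, hb, hb', hV⟩ := hr
  have : Etale (hb.rep.snd a).left := hb.property_snd a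
  have : Surjective (hb.rep.snd a).left := hb'.property _ _ _ (hb.rep.isPullback a)
  have : Etale (hb.rep.fst' a).left := ha.property _ _ _ (hb.rep.isPullback' a).flip
  obtain ⟨w, rfl⟩ := (hb.rep.snd a).left.surjective u
  exact (EtStalk.normal_stalk_iff (hb.rep.snd a).left w).1
    ((EtStalk.normal_stalk_iff (hb.rep.fst' a).left w).2 (hV _))

variable {X Y : Space S} {f : X ⟶ Y}

/-- An integral birational morphism from a reduced space onto a normal one is an isomorphism. -/
theorem isIso_of_integral (hX : IsDecent X.obj) (hY : IsDecent Y.obj)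
    (hYf : (irreducibleComponents (Points Y.obj)).Finite) (hi : IsIntegralMor f.hom) (hf : IsBirational f.hom)
    (hYn : EtaleLocally (fun T => ∀ t : ↥T, IsDomain ↥(T.presheaf.stalk t) ∧
      IsIntegrallyClosed ↥(T.presheaf.stalk t)) Y.obj)
    (hXr : EtaleLocally (fun T => IsReduced T) X.obj) : IsIso f.hom := by
  have hrep : RepWith @IsIntegralHom f.hom := isIntegralMor_iff_repWith.1 hi
  obtain ⟨W, c, hc, hcs⟩ := Y.property.atlas
  let Q := hrep.rep.pullback c
  let q := hrep.rep.snd c
  have sq : IsPullback (hrep.rep.fst c) ((yon S).map q) f.hom c := hrep.rep.isPullback c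
  have hqi : IsIntegralHom q.left := hrep.property_snd c
  have hq : IsIso q.left := by
    refine IsZariskiLocalAtTarget.of_iSup_eq_top (P := MorphismProperty.isomorphisms Scheme)
      (fun U : W.left.affineOpens => U.1) (iSup_affineOpens_eq_top W.left) fun U => ?_
    let V := openOver W U.1
    let ι := openOverι W U.1
    have : IsAffine V.left := U.2
    let b := (yon S).map ι ≫ c
    have hb : RepWith @Etale b := repWith_comp ((repWith_yon_map_iff _ _).2
      (inferInstanceAs (Etale U.1.ι))) hc
    let R := pullback q ι
    let r := pullback.snd q ι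
    have sqR : IsPullback (pullback.fst q ι) r q ι := IsPullback.of_hasPullback q ι
    have sqP : IsPullback ((yon S).map (pullback.fst q ι) ≫ hrep.rep.fst c) ((yon S).map r) f.hom b :=
      ((sqR.map (yon S)).flip.paste_vert sq.flip).flip
    obtain ⟨-, -, hVf, hr⟩ := isBirational_baseChange hX hY hf hb sqP hYf
    have hri : IsIntegralHom r.left :=
      MorphismProperty.of_isPullback (P := @IsIntegralHom) (sqR.map (Over.forget S)) hqi
    have : IsReduced R.left := isReduced_chart hXr (repWith_of_isPullback sqP.flip hb)
    have hid : ∀ T : Over S, RepWith @IsOpenImmersion (𝟙 ((yon S).obj T)) := fun T => repWith_id _ T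
    have hR : IsDecent ((yon S).obj R) := isDecent_yon R
    have hgen : ∀ (T : Over S) (t : ↥T.left),
        Points.ofScheme T t ∈ genericPoints (Points ((yon S).obj T)) ↔ t ∈ genericPoints ↥T.left := fun T t =>
      gen_ofPt_iff (Y := (⟨_, IsAlgSpace.yon_obj T⟩ : Space S)) (isDecent_yon T) (b := 𝟙 _) (repWith_id _ T) t
    have hmap : ∀ z, Points.map ((yon S).map r) (Points.ofScheme R z) = Points.ofScheme V (r.left z) := fun z => by
      rw [← Points.ofPt_eq_map_ofScheme, ← Category.comp_id ((yon S).map r), ofPt_comp]
    have hiso : IsIso r.left := by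
      refine BiratSch.isIso_of_birational r.left (normal_chart hYn hb) ?_ ⟨fun z hz => ?_, fun z hz z' hz' e => ?_,
        fun v hv => ?_⟩ fun z hz => ?_
      · have : (genericPoints (Points ((yon S).obj V))).Finite := genericPoints_finite
          (Y := (⟨_, IsAlgSpace.yon_obj V⟩ : Space S)) (isDecent_yon V) hVf
        exact irreducibleComponents_finite ((this.preimage (Points.schemeHomeo V).injective.injOn).subset
          fun v hv => (hgen V v).2 hv)
      · rw [← hgen V, ← hmap]
        exact hr.bijOn.mapsTo ((hgen R z).2 hz)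
      · exact (Points.schemeHomeo R).injective (hr.bijOn.injOn ((hgen R z).2 hz) ((hgen R z').2 hz')
          (by show Points.map _ (Points.ofScheme R z) = Points.map _ (Points.ofScheme R z'); rw [hmap, hmap, e]))
      · obtain ⟨y, hy, hyv⟩ := hr.bijOn.surjOn ((hgen V v).2 hv)
        obtain ⟨z, hz⟩ := (Points.schemeHomeo R).surjective y
        have hz' : Points.ofScheme R z = y := hz
        subst hz'
        exact ⟨z, (hgen R z).1 hy, (Points.schemeHomeo V).injective ((hmap z).symm.trans hyv)⟩
      · obtain ⟨U', V', a', b', g', u', ha', hb', w', hu', hi'⟩ := hr.stalkIso _ ((hgen R z).2 hz)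
        exact stalkIso_congr ha' hb' w' (hid R) (hid V)
          (by rw [Category.id_comp, Category.comp_id]) hu' hi'
    have sqS : IsPullback (pullback.fst q ι).left r.left q.left U.1.ι := sqR.map (Over.forget S)
    show IsIso (q.left ∣_ U.1)
    rw [← (isPullback_morphismRestrict q.left U.1).flip.isoIsPullback_hom_snd _ _ sqS]
    infer_instance
  have : IsIso ((Over.forget S).map q) := hq
  have : IsIso q := isIso_of_reflects_iso q (Over.forget S)
  have := isLocallySurjective_of_etale_surjective hc hcs
  refine (repWith_isomorphisms_iff f.hom).1 ⟨hrep.rep, fun A B g fst snd sq' => ?_⟩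
  have h1 : RepWith @IsOpenImmersion f.hom :=
    have := AlgSpPts.isLocalAtTarget_fppf (@IsOpenImmersion : MorphismProperty Scheme.{u})
    repWith_of_locallySurjective hrep.rep c sq _ ((repWith_yon_map_iff _ _).2 (inferInstance : IsOpenImmersion q.left))
  have h2 : RepWith @Surjective f.hom :=
    have := AlgSpPts.isLocalAtTarget_fppf (@Surjective : MorphismProperty Scheme.{u})
    repWith_of_locallySurjective hrep.rep c sq _ ((repWith_yon_map_iff _ _).2 (inferInstance : Surjective q.left))
  have : IsOpenImmersion snd.left := h1.property _ _ _ sq'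
  have : Surjective snd.left := h2.property _ _ _ sq'
  exact isIso_of_openImmersion_surjective snd.left

end Groth.Agent.AlgSpDM.Birat
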