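import Groth.Agent.AlgSpDM.BiratDense

/-!
# Birational morphisms are isomorphisms over dense opens of the target
-/

set_option autoImplicit false
set_option backward.isDefEq.respectTransparency false
set_option backward.isDefEq.respectTransparency.types false
set_option maxHeartbeats 800000

universe u

open CategoryTheory CategoryTheory.Limits AlgebraicGeometry AlgSp Groth.Agent.AlgSpLib Groth.Agent.AlgSpPts
  Groth.Agent.AlgSpDec Groth.Agent.AlgSpDM.DenseFin W4stk3decentspacesp2

namespace Groth.Agent.AlgSpDM.Birat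

variable {S : Scheme.{u}} {X Y : Space S} (f : X ⟶ Y)

/-- An isomorphism of open subschemes is the restriction to the preimage when the preimage has no other points. -/
theorem isIso_of_points {U V : Over S} {a : (yon S).obj U ⟶ X.obj} {b : (yon S).obj V ⟶ Y.obj} {g : U ⟶ V}
    (ha : RepWith @IsOpenImmersion a) (hb : RepWith @IsOpenImmersion b) (w : a ≫ f.hom = (yon S).map g ≫ b)
    (hg : IsIso g.left) (hpts : ∀ x, Points.map f.hom x ∈ Set.range (Points.ofPt b) → x ∈ Set.range (Points.ofPt a))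
    ⦃P : Sp S⦄ (fst : P ⟶ X.obj) (snd : P ⟶ (yon S).obj V) (hP : IsPullback fst snd f.hom b) : IsIso snd := by
  have hPa : IsAlgSpace P := isAlgSpace_of_isPullback hP X.property (IsAlgSpace.yon_obj _) Y.property
  obtain ⟨l, hl⟩ := FinNhd.exists_factor_open_space ha hPa fst fun z => by
    obtain ⟨v, hv⟩ := (Points.schemeHomeo V).surjective (Points.map snd z)
    have hv' : Points.ofScheme V v = Points.map snd z := hv
    obtain ⟨u, hu⟩ := hpts (Points.map fst z) ⟨v, by
      rw [← Points.map_comp, hP.w, Points.map_comp, ← hv', Points.ofPt_eq_map_ofScheme]⟩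
    exact ⟨Points.ofScheme U u, by rw [← Points.ofPt_eq_map_ofScheme, hu]⟩
  have := mono_of_openImmersion hb
  have hlg : l ≫ (yon S).map g = snd := by
    rw [← cancel_mono b, Category.assoc, ← w, reassoc_of% hl, hP.w]
  have : IsIso ((Over.forget S).map g) := hg
  have : IsIso g := isIso_of_reflects_iso g (Over.forget S)
  refine ⟨inv ((yon S).map g) ≫ hP.lift a ((yon S).map g) w, hP.hom_ext ?_ ?_, ?_⟩
  · rw [Category.id_comp, Category.assoc, Category.assoc, hP.lift_fst, ← hlg]
    simp only [Category.assoc, IsIso.hom_inv_id_assoc]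
    exact hl
  · rw [Category.id_comp, Category.assoc, Category.assoc, hP.lift_snd, IsIso.inv_hom_id, Category.comp_id]
  · rw [Category.assoc, hP.lift_snd, IsIso.inv_hom_id]

/-- Separated case: the preimage has no other points. -/
theorem points_separated (hX : IsDecent X.obj) (hsep : IsSeparatedMor f.hom) {U V : Over S}
    {a : (yon S).obj U ⟶ X.obj} {b : (yon S).obj V ⟶ Y.obj} {g : U ⟶ V}
    (ha : RepWith @IsOpenImmersion a) (hb : RepWith @IsOpenImmersion b) (w : a ≫ f.hom = (yon S).map g ≫ b)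
    (hg : IsIso g.left) (hgen : genericPoints (Points X.obj) ⊆ Set.range (Points.ofPt a))
    {x : Points X.obj} (hx : Points.map f.hom x ∈ Set.range (Points.ofPt b)) :
    x ∈ Set.range (Points.ofPt a) := by
  let P := pullback f.hom b
  have hP : IsAlgSpace P := isAlgSpace_pullback X.property (IsAlgSpace.yon_obj _) Y.property _ _
  have sqP : IsPullback (pullback.fst f.hom b) (pullback.snd f.hom b) f.hom b := IsPullback.of_hasPullback _ _
  let l : (yon S).obj U ⟶ P := pullback.lift a ((yon S).map g) w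
  have hl₁ : l ≫ pullback.fst f.hom b = a := pullback.lift_fst _ _ _
  have hl₂ : l ≫ pullback.snd f.hom b = (yon S).map g := pullback.lift_snd _ _ _
  have hlfin : RepWith @IsFinite l := by
    refine AlgSpLib.of_comp_of_diagonal (RepWith @IsFinite) l (pullback.snd f.hom b) ?_ ?_
    · rw [hl₂]
      exact (repWith_yon_map_iff _ _).2 inferInstance
    · exact repWith_mono (fun _ _ i (_ : IsClosedImmersion i) => inferInstanceAs (IsFinite i)) _
        (isSeparatedMor_of_isPullback sqP hsep)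
  have hclosed : IsClosed (Set.range (Points.map l)) := isOpen_compl_iff.1 (Points.isOpen_iff.2 fun Z c => by
    have : IsFinite (hlfin.rep.snd c).left := hlfin.property_snd c
    rw [Set.preimage_compl, range_preimage (hlfin.rep.isPullback c), isOpen_compl_iff]
    exact (hlfin.rep.snd c).left.isClosedMap.isClosed_range)
  have hp : RepWith @IsOpenImmersion (pullback.fst f.hom b) := repWith_fst f.hom hb
  obtain ⟨v, hv⟩ := hx
  obtain ⟨z, hz, -⟩ := exists_point_of_isPullback sqP (x := x) (y := Points.ofScheme V v)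
    (hv.symm.trans (Points.ofPt_eq_map_ofScheme _ _))
  have hzl : z ∈ Set.range (Points.map l) := by
    by_contra hn
    obtain ⟨z₀, hz₀, hz₀m, -⟩ := exists_cz_generization hP hclosed.isOpen_compl (x := z) hn
    obtain ⟨u, hu⟩ := hgen ((gen_iff_cz hX _).2 ((cz_map_iff hP hp z₀).2 hz₀))
    refine hz₀m ⟨Points.ofScheme U u, (isOpenEmbedding_map' X.property hp).injective ?_⟩
    rw [← Points.map_comp, hl₁, ← Points.ofPt_eq_map_ofScheme, hu]
  obtain ⟨z', rfl⟩ := hzl
  obtain ⟨u, hu⟩ := (Points.schemeHomeo U).surjective z'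
  have hu' : Points.ofScheme U u = z' := hu
  exact ⟨u, by rw [← hz, ← Points.map_comp, hl₁, ← hu', Points.ofPt_eq_map_ofScheme]⟩

/-- Quasi-compact case: the preimage of an open containing all generic points has no other points. -/
theorem points_quasiCompact (hX : IsDecent X.obj) (hY : IsDecent Y.obj) (hf : IsBirational f.hom)
    (hq : IsQuasiCompactMor f.hom) (hYf : (irreducibleComponents (Points Y.obj)).Finite) {U V : Over S}
    {a : (yon S).obj U ⟶ X.obj} {b : (yon S).obj V ⟶ Y.obj} (ha : RepWith @IsOpenImmersion a)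
    (hb : RepWith @IsOpenImmersion b) (hgen : genericPoints (Points X.obj) ⊆ Set.range (Points.ofPt a))
    (hgenY : genericPoints (Points Y.obj) ⊆ Set.range (Points.ofPt b)) :
    ∃ V₁ : V.left.Opens, genericPoints (Points Y.obj) ⊆ Points.ofPt b '' (V₁ : Set ↥V.left) ∧
      ∀ x, Points.map f.hom x ∈ Points.ofPt b '' (V₁ : Set ↥V.left) → x ∈ Set.range (Points.ofPt a) := by
  obtain ⟨W, hW, hWgen⟩ := exists_affine_containing Y.property hb (genericPoints_finite hY hYf)
    (fun y hy => (gen_iff_cz hY y).2 hy) hgenY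
    fun y hy y' _ hne => not_mem_closure_of_isDecent hY ((gen_iff_cz hY y).1 hy) hne
  let V₀ := openOver V W
  let b₀ : (yon S).obj V₀ ⟶ Y.obj := (yon S).map (openOverι V W) ≫ b
  have hb₀ : RepWith @IsOpenImmersion b₀ :=
    repWith_comp ((repWith_yon_map_iff _ _).2 (inferInstanceAs (IsOpenImmersion W.ι))) hb
  have : IsAffine V₀.left := hW
  let P := pullback f.hom b₀
  have hP : IsAlgSpace P := isAlgSpace_pullback X.property (IsAlgSpace.yon_obj _) Y.property _ _
  have sqP : IsPullback (pullback.fst f.hom b₀) (pullback.snd f.hom b₀) f.hom b₀ := IsPullback.of_hasPullback _ _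
  let p := pullback.fst f.hom b₀
  have hPc : CompactSpace (Points P) :=
    (isQuasiCompactSp_iff hP).1 (hq (IsAlgSpace.yon_obj V₀) (AlgSpLib.isQuasiCompactSp_yon V₀) b₀ _ _ sqP)
  choose T c t hT hc ht using fun z : Points P => exists_affine_chart_at hP z
  obtain ⟨s, hs⟩ := hPc.isCompact_univ.elim_finite_subcover (fun z => Set.range (Points.ofPt (c z)))
    (fun z => by rw [← Set.image_univ]; exact isOpenMap_ofPt (hc z) _ isOpen_univ)
    fun z _ => Set.mem_iUnion.2 ⟨z, t z, ht z⟩
  let A : Set (Points X.obj) := Set.range (Points.ofPt a)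
  have hA : IsOpen A := by
    show IsOpen (Set.range (Points.ofPt a))
    rw [← Set.image_univ]
    exact isOpenMap_ofPt (repWith_etale_of_openImmersion ha) _ isOpen_univ
  let k : ∀ z, T z ⟶ V₀ := fun z => (yon S).preimage (c z ≫ pullback.snd f.hom b₀)
  let C : ∀ z, Set ↥(T z).left := fun z => (Points.ofPt (c z ≫ p) ⁻¹' A)ᶜ
  have key : ∀ z, ∀ u : ↥(T z).left,
      Points.map f.hom (Points.ofPt (c z ≫ p) u) = Points.ofPt b ((k z).left u).1 := fun z u => by
    rw [Points.map_ofPt, Category.assoc, sqP.w, ← Category.assoc,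
      show c z ≫ pullback.snd f.hom b₀ = (yon S).map (k z) from ((yon S).map_preimage _).symm, ofPt_comp]
    exact ofPt_comp _ _ _
  have hb₀e := repWith_etale_of_openImmersion hb₀
  have hout : ∀ v : ↥V₀.left, Points.ofPt b₀ v ∈ genericPoints (Points Y.obj) → ∀ z, ∀ u ∈ C z,
      (k z).left u ≠ v := fun v hv z u hu e => by
    obtain ⟨x, hx, hxv⟩ := hf.bijOn.surjOn hv
    have e' : Points.map f.hom (Points.ofPt (c z ≫ p) u) = Points.map f.hom x := by
      rw [key, e, hxv]
      exact (ofPt_comp (openOverι V W) b v).symm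
    exact hu (show Points.ofPt (c z ≫ p) u ∈ A from eq_of_map_eq_generic hX hY hf hb₀ hx e' ⟨v, hxv.symm⟩ ▸ hgen hx)
  choose O hvO hOC using fun (v : {v : ↥V₀.left // Points.ofPt b₀ v ∈ genericPoints (Points Y.obj)}) (z : Points P) =>
    have := hT z
    FinNhd.exists_open_avoid (k z).left
      ((CodimQf.coheight_eq_zero_iff v.1).1 (coheight_eq_zero_of_generic hY hb₀e v.2))
      ((hA.preimage (Points.continuous_ofPt (c z ≫ p))).isClosed_compl) (hout v.1 v.2 z)
  let V₁ : V₀.left.Opens :=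
    ⨆ v, (⟨⋂ z ∈ s, (O v z : Set ↥V₀.left), isOpen_biInter_finset fun z _ => (O v z).2⟩ : V₀.left.Opens)
  refine ⟨W.ι ''ᵁ V₁, fun y hy => ?_, fun x hx => ?_⟩
  · obtain ⟨v, hvW, rfl⟩ := hWgen y hy
    have hv : Points.ofPt b₀ ⟨v, hvW⟩ = Points.ofPt b v := ofPt_comp _ _ _
    exact ⟨v, ⟨⟨v, hvW⟩, TopologicalSpace.Opens.mem_iSup.2
      ⟨⟨⟨v, hvW⟩, hv.symm ▸ hy⟩, Set.mem_iInter₂.2 fun z _ => hvO _ z⟩, rfl⟩, rfl⟩
  · obtain ⟨_, ⟨v, hvV₁, rfl⟩, hxv⟩ := hx
    obtain ⟨z, hz, hzv⟩ := exists_point_of_isPullback sqP (x := x) (y := Points.ofScheme V₀ v)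
      (hxv.symm.trans ((ofPt_comp (openOverι V W) b v).symm.trans (Points.ofPt_eq_map_ofScheme _ _)))
    obtain ⟨z₀, hz₀, u, rfl⟩ := Set.mem_iUnion₂.1 (hs (Set.mem_univ z))
    by_contra hn
    have hu : u ∈ C z₀ := fun hm => hn (by rw [← hz, Points.map_ofPt]; exact hm)
    have hkv : (k z₀).left u = v := by
      rw [Points.map_ofPt, show c z₀ ≫ pullback.snd f.hom b₀ = (yon S).map (k z₀) from
        ((yon S).map_preimage _).symm] at hzv
      exact (Points.toScheme_ofPt (k z₀) u).symm.trans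
        ((congrArg (Points.toScheme V₀) hzv).trans (Points.toScheme_ofScheme V₀ v))
    obtain ⟨v', hv'⟩ := TopologicalSpace.Opens.mem_iSup.1 hvV₁
    exact hOC v' z₀ u hu (hkv ▸ Set.mem_iInter₂.1 hv' z₀ hz₀)

/-- A birational morphism is an isomorphism over a dense open of the target. -/
theorem exists_dense_open_isIso_pullback (hX : IsDecent X.obj) (hY : IsDecent Y.obj)
    (hXf : (irreducibleComponents (Points X.obj)).Finite) (hYf : (irreducibleComponents (Points Y.obj)).Finite)
    (hf : IsBirational f.hom) (h₁ : IsQuasiCompactMor f.hom ∨ IsSeparatedMor f.hom)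
    (h₂ : (LocP @LocallyOfFiniteType f.hom ∧ EtaleLocally (fun T => IsReduced T) Y.obj) ∨
      LocP @LocallyOfFinitePresentation f.hom) :
    ∃ (V : Over S) (b : (yon S).obj V ⟶ Y.obj), RepWith @IsOpenImmersion b ∧
      Dense (Set.range (Points.ofPt b)) ∧
        ∀ ⦃P : Sp S⦄ (fst : P ⟶ X.obj) (snd : P ⟶ (yon S).obj V),
          IsPullback fst snd f.hom b → IsIso snd := by
  have := quasiSober_points Y.property hY
  obtain ⟨U, V, a, b, g, ha, hb, hua, hvb, w, hg⟩ := exists_iso_over_generic f hX hY hXf hYf hf h₂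
  rcases h₁ with hq | hs
  · obtain ⟨V₁, hV₁, hpts⟩ := points_quasiCompact f hX hY hf hq hYf ha hb hua hvb
    let g₁ : openOver U (g.left ⁻¹ᵁ V₁) ⟶ openOver V V₁ := Over.homMk (g.left ∣_ V₁) (by
      show (g.left ∣_ V₁) ≫ V₁.ι ≫ V.hom = (g.left ⁻¹ᵁ V₁).ι ≫ U.hom
      rw [morphismRestrict_ι_assoc, Over.w g])
    have hgι : g₁ ≫ openOverι V V₁ = openOverι U (g.left ⁻¹ᵁ V₁) ≫ g :=
      Over.OverMorphism.ext (morphismRestrict_ι g.left V₁)
    refine ⟨openOver V V₁, (yon S).map (openOverι V V₁) ≫ b,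
      repWith_comp ((repWith_yon_map_iff _ _).2 (inferInstanceAs (IsOpenImmersion V₁.ι))) hb,
      dense_of_genericPoints fun y hy => ?_, isIso_of_points f
        (a := (yon S).map (openOverι U (g.left ⁻¹ᵁ V₁)) ≫ a) (g := g₁)
        (repWith_comp ((repWith_yon_map_iff _ _).2 (inferInstanceAs (IsOpenImmersion (g.left ⁻¹ᵁ V₁).ι))) ha)
        (repWith_comp ((repWith_yon_map_iff _ _).2 (inferInstanceAs (IsOpenImmersion V₁.ι))) hb)
        (by rw [Category.assoc, w, ← Category.assoc, ← Category.assoc, ← (yon S).map_comp, ← (yon S).map_comp, hgι])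
        (inferInstanceAs (IsIso (g.left ∣_ V₁))) fun x hx => ?_⟩
    · obtain ⟨v, hv, rfl⟩ := hV₁ hy
      exact ⟨⟨v, hv⟩, ofPt_comp _ _ _⟩
    · obtain ⟨v, hv⟩ := hx
      rw [ofPt_comp] at hv
      obtain ⟨u, rfl⟩ := hpts x ⟨v.1, v.2, hv⟩
      have hgu : g.left u = v.1 := AlgSpMor.injective_ofPt_openImm Y.property hb (by
        rw [← ofPt_comp, ← w, ← Points.map_ofPt, ← hv]
        rfl)
      exact ⟨⟨u, show g.left u ∈ V₁ from hgu.symm ▸ v.2⟩, ofPt_comp _ _ _⟩
  · exact ⟨V, b, hb, dense_of_genericPoints hvb,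
      isIso_of_points f ha hb w hg fun x hx => points_separated f hX hs ha hb w hg hua hx⟩

end Groth.Agent.AlgSpDM.Birat
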