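import Groth.Prelude.Def_W4stk3decentspacesp2Birat
import Groth.Agent.AlgSpDec.Fibres
import Groth.Agent.AlgSpDec.Basic
import Groth.Agent.AlgSpDec.ResTrdeg
import Groth.Agent.Cat15.Order
import Groth.Agent.H23.SetupLFT
import Groth.Agent.CodimQf.Basic

/-!
# Dimension functions and chains in the space of points of a decent space
-/

set_option autoImplicit false
set_option backward.isDefEq.respectTransparency false
set_option backward.isDefEq.respectTransparency.types false
set_option maxHeartbeats 800000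

universe u

open CategoryTheory CategoryTheory.Limits AlgebraicGeometry AlgSp Groth.Agent.AlgSpLib Groth.Agent.AlgSpPts
  Groth.Agent.AlgSpDec Groth.Agent.Cat15

namespace Groth.Agent.AlgSpDM.CatPts

variable {S : Scheme.{u}} {X : Sp S} (hX : IsDecent X) {U : Over S} {a : (yon S).obj U ⟶ X}
  (ha : RepWith @Etale a) (hs : RepWith @Surjective a)

include hX ha hs

theorem dimFun_of_chart (δX : Points X → ℤ) (h : Cyc.IsDimFun U.left (δX ∘ Points.ofPt a)) :
    ∀ x y : Points X, x ⤳ y → x ≠ y →
      δX y < δX x ∧ ((∀ z : Points X, x ⤳ z → z ⤳ y → z = x ∨ z = y) → δX x = δX y + 1) := by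
  intro x y hxy hne
  obtain ⟨v, rfl⟩ := surjective_ofPt hs y
  obtain ⟨u, huv, rfl⟩ := exists_specializes_lift_of_isDecent hX ha hxy
  obtain ⟨h1, h2⟩ := h u v huv fun e => hne (by rw [e])
  refine ⟨h1, fun himm => h2 fun z huz hzv => ?_⟩
  rcases himm (Points.ofPt a z) (huz.map (Points.continuous_ofPt a)) (hzv.map (Points.continuous_ofPt a)) with e | e
  · exact Or.inl (eq_of_specializes_of_isDecent hX ha e huz)
  · exact Or.inr (eq_of_specializes_of_isDecent hX ha e.symm hzv).symm

omit ha hs in
theorem length_eq_cd_of_saturated {T : Scheme.{u}} [IsLocallyNoetherian T] (hp : PCat T) (t : LTSeries T)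
    (ht : ∀ i : Fin t.length, t (Fin.castSucc i) ⋖ t (Fin.succ i)) :
    t.length = DimFormula.cd t.last t.head := by
  have hsp : t.last ⤳ t.head := Scheme.le_iff_specializes.1 (t.head_le (Fin.last _))
  obtain ⟨l, hl0, hl1, hl⟩ := DimFormula.exists_cd_series hsp
  have hlast : l.last = t.last := by
    by_contra hne
    have hlt : l.last < t.last := lt_of_le_not_ge (Scheme.le_iff_specializes.2 hl1) fun h' =>
      hne (DimFormula.eq_of_specializes_of_specializes (Scheme.le_iff_specializes.1 h') hl1)
    have := DimFormula.le_cd hsp (l.snoc _ hlt) (by rw [RelSeries.head_snoc]; exact hl0)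
      (by rw [RelSeries.last_snoc])
    rw [RelSeries.snoc_length, hl] at this
    omega
  have hsat : ∀ i : Fin l.length, l (Fin.castSucc i) ⋖ l (Fin.succ i) := fun i => by
    refine ⟨l.step i, fun z hz hz' => ?_⟩
    let l' := RelSeries.insertNth l i z hz hz'
    have h0 : l' 0 = t.head := by
      show Fin.insertNth (α := fun _ => ↥T) (Fin.castSucc i.succ) z l.toFun 0 = _
      rw [Fin.insertNth_apply_below (show (0 : Fin (l.length + 1 + 1)) < Fin.castSucc i.succ by
        simp [Fin.lt_def])]
      simpa [RelSeries.head] using hl0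
    have h1 : t.last ⤳ l'.last := by
      refine Scheme.le_iff_specializes.1 ?_
      show Fin.insertNth (α := fun _ => ↥T) (Fin.castSucc i.succ) z l.toFun (Fin.last _) ≤ _
      rw [Fin.insertNth_apply_above (show Fin.castSucc i.succ < Fin.last (l.length + 1) by
        simp only [Fin.lt_def, Fin.val_castSucc, Fin.val_succ, Fin.val_last]; omega)]
      simpa [RelSeries.last, Fin.pred_last] using hlast.le
    have := DimFormula.le_cd hsp l' h0 h1
    rw [show l'.length = l.length + 1 from rfl, hl] at this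
    omega
  rw [← hl]
  exact hp.2 t l hl0.symm hlast.symm ht hsat

theorem pcat_points [IsLocallyNoetherian S] [T0Space (Points X)]
    (hS : ∀ s : ↥S, CAlg.IsUniversallyCatenary (S.presheaf.stalk s)) {p : X ⟶ (yon S).obj (Over.mk (𝟙 S))}
    (hp : LocP @LocallyOfFiniteType p) : @PCat (Points X) (specializationOrder (Points X)) := by
  let _ : PartialOrder (Points X) := specializationOrder _
  obtain ⟨h, hh⟩ := (yon S).map_surjective (a ≫ p)
  have wp : a ≫ p = (yon S).map h ≫ 𝟙 _ := by rw [Category.comp_id, hh]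
  let g : U.left ⟶ S := h.left
  have : LocallyOfFiniteType g := hp a (𝟙 _) h ha (repWith_id _ _) wp
  have := LocallyOfFiniteType.isLocallyNoetherian g
  have hpU : PCat U.left := (pcat_stalk U.left).2 fun u => by
    have := H23.SetupLFT.isUniversallyCatenary_stalk g u (hS _)
    exact this.2 _ inferInstance
  let A : ↥U.left → Points X := Points.ofPt a
  have hmono : StrictMono A := fun u v huv => by
    have hsp : v ⤳ u := Scheme.le_iff_specializes.1 huv.le
    refine lt_of_le_of_ne (hsp.map (Points.continuous_ofPt a) : A v ⤳ A u) fun he => ?_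
    exact huv.ne (eq_of_specializes_of_isDecent hX ha he hsp)
  -- lifting of chains
  have hlift : ∀ (n : ℕ) (s : LTSeries (Points X)), s.length = n → ∀ u, A u = s.head →
      ∃ t : LTSeries U.left, ∃ hl : t.length = s.length, t.head = u ∧
        ∀ i : Fin (t.length + 1), A (t i) = s (i.cast (by rw [hl])) := by
    intro n s hn u hu
    induction s using RelSeries.inductionOn generalizing n u with
    | singleton x =>
      refine ⟨RelSeries.singleton _ u, rfl, rfl, fun i => ?_⟩
      exact hu
    | cons s x hx ih =>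
      rw [RelSeries.head_cons] at hu
      have hxs : x < s.head := hx
      obtain ⟨u', hu', hu'A⟩ := exists_specializes_lift_of_isDecent hX ha (u := u) (x' := s.head)
        (by rw [show Points.ofPt a u = x from hu]; exact hxs.le)
      obtain ⟨t, hl, ht0, ht⟩ := ih s.length rfl u' hu'A
      have hlt : u < t.head := lt_of_le_of_ne (ht0 ▸ Scheme.le_iff_specializes.2 hu') fun e =>
        hxs.ne (hu.symm.trans ((congrArg A (e.trans ht0)).trans hu'A))
      refine ⟨t.cons u hlt, by simp only [RelSeries.cons_length, hl], RelSeries.head_cons .., ?_⟩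
      rintro ⟨_ | k, hk⟩
      · exact hu
      · have hk1 : k < t.length + 1 := by simp only [RelSeries.cons_length] at hk; omega
        have e1 := RelSeries.cons_cast_succ t u hlt ⟨k, hk1⟩
        have e2 := RelSeries.cons_cast_succ s x hx ⟨k, hl ▸ hk1⟩
        exact (congrArg A e1).trans ((ht ⟨k, hk1⟩).trans e2.symm)
  have hcd : ∀ u w w' : ↥U.left, w ⤳ u → w' ⤳ u → A w = A w' →
      DimFormula.cd w u = DimFormula.cd w' u := fun u w w' hw hw' e => by
    have h1 := (DimFormula.cd_formula g hw).2 (hS _)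
    have h2 := (DimFormula.cd_formula g hw').2 (hS _)
    have hg : g w = g w' := by
      have := congrArg (fun z => Points.toScheme (Over.mk (𝟙 S)) (Points.map p z)) e
      simp only [A, Points.map_ofPt, wp] at this
      rw [ofPt_comp, ofPt_comp] at this
      exact (Points.toScheme_ofScheme _ _).symm.trans (this.trans (Points.toScheme_ofScheme _ _))
    have hrd : FibDim.rd g w = FibDim.rd g w' := by
      have h3 := ResTrdeg.rdeg_congr (f := p) ha (repWith_id _ _) wp
        ha (repWith_id _ _) wp e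
      have h4 : (FibDim.rd g w : Cardinal.{u}) = (FibDim.rd g w' : Cardinal.{u}) := by
        rw [FibDim.rd_eq_rdeg, FibDim.rd_eq_rdeg]; exact h3
      exact_mod_cast h4
    rw [hg, hrd] at h1
    omega
  refine ⟨fun P Q hPQ => ?_, fun s t h1 h2 hsat htsat => ?_⟩
  · obtain ⟨u, hu⟩ := surjective_ofPt hs P
    obtain ⟨w₀, hw₀, hw₀Q⟩ := exists_specializes_lift_of_isDecent hX ha (u := u) (hu ▸ (hPQ : Q ⤳ P))
    refine ⟨DimFormula.cd w₀ u, fun s hs0 hs1 => ?_⟩
    obtain ⟨t, hl, ht0, ht⟩ := hlift _ s rfl u (hu.trans hs0.symm)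
    have hlast : A t.last = Q := by
      rw [← hs1]
      exact (ht (Fin.last _)).trans (congrArg s.toFun (Fin.ext (by simp [hl])))
    have hsp : t.last ⤳ u := ht0 ▸ Scheme.le_iff_specializes.1 (t.head_le _)
    rw [← hl, hcd u w₀ t.last hw₀ hsp (hw₀Q.trans hlast.symm)]
    exact DimFormula.le_cd hsp t ht0 (specializes_refl _)
  · obtain ⟨u, hu⟩ := surjective_ofPt hs s.head
    obtain ⟨s', hls, hs0, hs'⟩ := hlift _ s rfl u hu
    obtain ⟨t', hlt, ht0, ht'⟩ := hlift _ t rfl u (hu.trans h1)
    have hcov : ∀ {v w : ↥U.left}, v < w → A v ⋖ A w → v ⋖ w := fun hvw h =>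
      ⟨hvw, fun z hz hz' => h.2 (hmono hz) (hmono hz')⟩
    have hsat' : ∀ j : Fin s'.length, s' (Fin.castSucc j) ⋖ s' (Fin.succ j) := fun j => hcov (s'.step j) (by
      rw [hs', hs']; exact hsat (j.cast hls))
    have htsat' : ∀ j : Fin t'.length, t' (Fin.castSucc j) ⋖ t' (Fin.succ j) := fun j => hcov (t'.step j) (by
      rw [ht', ht']; exact htsat (j.cast hlt))
    rw [← hls, ← hlt, length_eq_cd_of_saturated hX hpU s' hsat', length_eq_cd_of_saturated hX hpU t' htsat',
      hs0, ht0]
    refine hcd u _ _ (hs0 ▸ Scheme.le_iff_specializes.1 (s'.head_le _))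
      (ht0 ▸ Scheme.le_iff_specializes.1 (t'.head_le _)) ?_
    exact ((hs' (Fin.last _)).trans (congrArg s.toFun (Fin.ext (by simp [hls])))).trans
      (h2.trans ((congrArg t.toFun (Fin.ext (by simp [hlt]))).trans (ht' (Fin.last _)).symm))

end Groth.Agent.AlgSpDM.CatPts

namespace Groth.Agent.AlgSpDM.CatPts

attribute [local instance] specializationOrder

theorem isCatenarySpace_points {S : Scheme.{u}} [IsLocallyNoetherian S]
    (hS : ∀ s : ↥S, CAlg.IsUniversallyCatenary (S.presheaf.stalk s)) (X : Space S) (hX : IsDecent X.obj)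
    (p : X.obj ⟶ (yon S).obj (Over.mk (𝟙 S))) (hp : LocP @LocallyOfFiniteType p) :
    W4stk3decentspacesp2.IsCatenarySpace (Points X.obj) := by
  have := t0Space_points X.property hX
  have := quasiSober_points X.property hX
  obtain ⟨U, a, ha, hs⟩ := X.property.atlas
  have h := (pcat_congr (irreducibleSetEquivPoints (α := Points X.obj))).2 (pcat_points hX ha hs hS hp)
  exact fun T T' hle => ⟨h.1 T T' hle, fun P Q hP0 hP1 hQ0 hQ1 hPs hQs =>
    h.2 P Q (hP0.trans hQ0.symm) (hP1.trans hQ1.symm) hPs hQs⟩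

theorem isDimFun_points {S : Scheme.{u}} (δ : ↥S → ℤ) (hS : Cyc.IsSetup S δ) (X : Space S) (hX : IsDecent X.obj)
    {U : Over S} (a : (yon S).obj U ⟶ X.obj) (ha : RepWith @Etale a) (hs : RepWith @Surjective a)
    [LocallyOfFiniteType U.hom] (δX : Points X.obj → ℤ) (hδ : Cyc.DeltaCompat U.hom (δX ∘ Points.ofPt a) δ) :
    ∀ x y : Points X.obj, x ⤳ y → x ≠ y →
      δX y < δX x ∧ ((∀ z : Points X.obj, x ⤳ z → z ⤳ y → z = x ∨ z = y) → δX x = δX y + 1) :=
  dimFun_of_chart hX ha hs δX (CycLib.isDimFun_of_deltaCompat U.hom hS hδ)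

end Groth.Agent.AlgSpDM.CatPts
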