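import Groth.Agent.AlgSpLib.Covers
import Groth.Agent.AlgSpPts.Univ
import Groth.Agent.AlgSpDec.LqfPiece
import Groth.Prelude.Def_AlgSpCov
import Mathlib.AlgebraicGeometry.Morphisms.Affine
import Mathlib.AlgebraicGeometry.Morphisms.Separated

/-!
# Properties descending along fppf coverings
-/

set_option autoImplicit false
set_option backward.isDefEq.respectTransparency false
set_option backward.isDefEq.respectTransparency.types false
set_option maxHeartbeats 800000

universe u

open CategoryTheory CategoryTheory.Limits AlgebraicGeometry AlgSp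
open Groth.Agent.AlgSpLib Groth.Agent.AlgSpPts 
open Groth.Agent.AlgSpDec (openOver openOverι)

namespace Groth.Agent.AlgSpDM.Cech

variable {S : Scheme.{u}} {U : Sp S}

/-- Finitely many schemes over a space by a representable property have a fibre product which is a scheme, with
structure map of the same property. -/
theorem exists_fibre_product (Q : MorphismProperty Scheme.{u}) [Q.IsStableUnderComposition] [Q.IsStableUnderBaseChange] [Q.RespectsIso] :
    ∀ (n : ℕ) (T : Fin (n + 1) → Over S) (g : ∀ k, (yon S).obj (T k) ⟶ U), (∀ k, RepWith Q (g k)) →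
      ∃ (W : Over S) (β : (yon S).obj W ⟶ U) (π : ∀ k, W ⟶ T k), (∀ k, (yon S).map (π k) ≫ g k = β) ∧
        RepWith Q β ∧ (∀ (Z : Sp S) (φ ψ : Z ⟶ (yon S).obj W), (∀ k, φ ≫ (yon S).map (π k) = ψ ≫ (yon S).map (π k)) → φ = ψ) ∧
        ∀ (Z : Sp S) (z : Z ⟶ U) (l : ∀ k, Z ⟶ (yon S).obj (T k)), (∀ k, l k ≫ g k = z) →
          ∃ φ, ∀ k, φ ≫ (yon S).map (π k) = l k := by
  intro n
  induction n with
  | zero =>
    intro T g hg
    refine ⟨T 0, g 0, fun k => eqToHom (congrArg T (Subsingleton.elim (α := Fin 1) 0 k)), fun k => ?_, hg 0,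
      fun Z φ ψ h => ?_, fun Z z l hl => ⟨l 0, fun k => ?_⟩⟩
    · obtain rfl : 0 = k := Subsingleton.elim (α := Fin 1) _ _
      simp
    · simpa using h 0
    · obtain rfl : 0 = k := Subsingleton.elim (α := Fin 1) _ _
      simp
  | succ n ih =>
    intro T g hg
    obtain ⟨W', β', π', hπ', hβ', huniq, hex⟩ := ih (fun k => T k.succ) (fun k => g k.succ) (fun k => hg k.succ)
    let W := (hg 0).rep.pullback β'
    let q : W ⟶ W' := (hg 0).rep.snd β'
    let p₀ : W ⟶ T 0 := (hg 0).rep.fst' β'
    have sq : IsPullback ((yon S).map p₀) ((yon S).map q) (g 0) β' := (hg 0).rep.isPullback' β'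
    refine ⟨W, (yon S).map q ≫ β', fun k => Fin.cases (motive := fun k => W ⟶ T k) p₀ (fun i => q ≫ π' i) k,
      fun k => ?_, repWith_comp ((repWith_yon_map_iff _ _).2 ((hg 0).property_snd β')) hβ', fun Z φ ψ h => ?_,
      fun Z z l hl => ?_⟩
    · induction k using Fin.cases with
      | zero => exact sq.w
      | succ i =>
        show (yon S).map (q ≫ π' i) ≫ g i.succ = _
        rw [Functor.map_comp, Category.assoc, hπ']
    · refine sq.hom_ext (h 0) (huniq Z _ _ fun i => ?_)
      have h1 : φ ≫ (yon S).map (q ≫ π' i) = ψ ≫ (yon S).map (q ≫ π' i) := h i.succ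
      rw [Functor.map_comp, ← Category.assoc, ← Category.assoc] at h1
      exact h1
    · obtain ⟨φ', hφ'⟩ := hex Z z (fun i => l i.succ) (fun i => hl i.succ)
      have hw : l 0 ≫ g 0 = φ' ≫ β' := by
        rw [hl 0, ← hπ' 0, ← Category.assoc, hφ', hl]
      refine ⟨sq.lift (l 0) φ' hw, fun k => ?_⟩
      induction k using Fin.cases with
      | zero => exact sq.lift_fst _ _ _
      | succ i =>
        show sq.lift (l 0) φ' hw ≫ (yon S).map (q ≫ π' i) = _
        rw [Functor.map_comp, ← Category.assoc, sq.lift_snd, hφ']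

/-- The wide pullback of such schemes is a scheme. -/
theorem exists_iso_widePullback (Q : MorphismProperty Scheme.{u}) [Q.IsStableUnderComposition] [Q.IsStableUnderBaseChange] [Q.RespectsIso] {n : ℕ}
    (T : Fin (n + 1) → Over S) (g : ∀ k, (yon S).obj (T k) ⟶ U) (hg : ∀ k, RepWith Q (g k)) :
    ∃ (W : Over S) (e : widePullback U (fun k => (yon S).obj (T k)) g ≅ (yon S).obj W) (π : ∀ k, W ⟶ T k),
      RepWith Q (e.inv ≫ WidePullback.base g) ∧ ∀ k, (yon S).map (π k) ≫ g k = e.inv ≫ WidePullback.base g := by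
  obtain ⟨W, β, π, hπ, hβ, huniq, hex⟩ := exists_fibre_product Q n T g hg
  obtain ⟨φ, hφ⟩ := hex _ (WidePullback.base g) (fun k => WidePullback.π g k) (fun k => WidePullback.π_arrow g k)
  let ψ : (yon S).obj W ⟶ widePullback U (fun k => (yon S).obj (T k)) g :=
    WidePullback.lift β (fun k => (yon S).map (π k)) hπ
  have h1 : φ ≫ ψ = 𝟙 _ := by
    apply WidePullback.hom_ext
    · intro k
      rw [Category.assoc, WidePullback.lift_π, hφ, Category.id_comp]
    · rw [Category.assoc, WidePullback.lift_base, Category.id_comp, ← hπ 0, ← Category.assoc, hφ,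
        WidePullback.π_arrow]
  have h2 : ψ ≫ φ = 𝟙 _ := huniq _ _ _ fun k => by
    rw [Category.assoc, hφ, WidePullback.lift_π, Category.id_comp]
  refine ⟨W, ⟨φ, ψ, h1, h2⟩, π, ?_, fun k => ?_⟩
  · show RepWith Q (ψ ≫ WidePullback.base g)
    rw [WidePullback.lift_base]; exact hβ
  · show _ = ψ ≫ WidePullback.base g
    rw [WidePullback.lift_base]; exact hπ k

/-- An intersection of affine opens of a scheme. -/
theorem exists_inter {U : Sp S} (T : Over S) (e : U ≅ (yon S).obj T) {n : ℕ}
    (c : Fin (n + 1) → T.left.affineOpens) :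
    ∃ (W : Over S) (_eW : widePullback U (fun k => (yon S).obj (openOver T (c k).1))
        (fun k => (yon S).map (openOverι T (c k).1) ≫ e.inv) ≅ (yon S).obj W) (π : W ⟶ openOver T (c 0).1),
      IsOpenImmersion π.left ∧
      RepWith @IsOpenImmersion (WidePullback.base fun k => (yon S).map (openOverι T (c k).1) ≫ e.inv) ∧
      ([T.left.IsSeparated] → IsAffine W.left) := by
  have he : RepWith @IsOpenImmersion e.inv := repWith_of_isIso _ _
  have hg : ∀ k, RepWith @IsOpenImmersion ((yon S).map (openOverι T (c k).1) ≫ e.inv) := fun k =>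
    repWith_comp ((repWith_yon_map_iff _ _).2 (inferInstanceAs (IsOpenImmersion (c k).1.ι))) he
  obtain ⟨W, eW, π, hW, hπ⟩ := exists_iso_widePullback (U := U) @IsOpenImmersion _ _ hg
  obtain ⟨β, hβ⟩ := (yon S).map_surjective
    ((eW.inv ≫ WidePullback.base fun k => (yon S).map (openOverι T (c k).1) ≫ e.inv) ≫ e.hom)
  have hβo : IsOpenImmersion β.left := (repWith_yon_map_iff _ _).1
    (hβ ▸ repWith_comp hW (repWith_of_isIso @IsOpenImmersion e.hom))
  have h0 : (yon S).map (π 0 ≫ openOverι T (c 0).1) = (yon S).map β := by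
    rw [hβ, ← hπ 0, Functor.map_comp, Category.assoc, Category.assoc, e.inv_hom_id, Category.comp_id]
  have hfac : (π 0).left ≫ (c 0).1.ι = β.left := by
    have := congrArg Over.Hom.left ((yon S).map_injective h0)
    rw [Over.comp_left] at this
    exact this
  have : IsOpenImmersion ((π 0).left ≫ (c 0).1.ι) := hfac ▸ hβo
  refine ⟨W, eW, π 0, IsOpenImmersion.of_comp _ (c 0).1.ι, ?_, ?_⟩
  · have := repWith_comp (repWith_of_isIso @IsOpenImmersion eW.hom) hW
    rwa [Iso.hom_inv_id_assoc] at this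
  · intro hsep
    have hg' : ∀ k, RepWith @IsAffineHom ((yon S).map (openOverι T (c k).1) ≫ e.inv) := fun k =>
      repWith_comp ((repWith_yon_map_iff _ _).2 (by
        show IsAffineHom (c k).1.ι
        have : IsAffine (c k).1.toScheme := (c k).2
        have : IsAffineHom ((c k).1.ι ≫ terminal.from T.left) := isAffineHom_of_isAffine _
        exact IsAffineHom.of_comp _ (terminal.from T.left))) (repWith_of_isIso _ e.inv)
    obtain ⟨W', eW', π', hW', -⟩ := exists_iso_widePullback (U := U) @IsAffineHom _ _ hg'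
    have hA : RepWith @IsAffineHom (WidePullback.base fun k => (yon S).map (openOverι T (c k).1) ≫ e.inv) := by
      have := repWith_comp (repWith_of_isIso @IsAffineHom eW'.hom) hW'
      rwa [Iso.hom_inv_id_assoc] at this
    have hβa : IsAffineHom β.left := (repWith_yon_map_iff _ _).1
      (hβ ▸ repWith_comp (repWith_comp (repWith_of_isIso _ eW.inv) hA) (repWith_of_isIso _ e.hom))
    have : IsAffineHom ((π 0).left ≫ (c 0).1.ι) := hfac ▸ hβa
    have : IsAffineHom (π 0).left := IsAffineHom.of_comp _ (c 0).1.ι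
    have : IsAffine (openOver T (c 0).1).left := (c 0).2
    exact isAffine_of_isAffineHom (π 0).left

variable (X : Space S) (P : ∀ ⦃U : Sp S⦄, (U ⟶ X.obj) → Prop)
  (hP : ∀ ⦃U : Sp S⦄ (a : U ⟶ X.obj), IsAlgSpace U →
    ∀ ⦃ι : Type u⦄ (Ui : ι → Sp S) (g : ∀ i, Ui i ⟶ U), (∀ i, IsAlgSpace (Ui i)) →
    IsFppfCover Ui g →
    (∀ (n : ℕ) (c : Fin (n + 1) → ι),
      P (WidePullback.base (fun k : Fin (n + 1) => g (c k)) ≫ a)) → P a)
  (haff : ∀ ⦃U : Sp S⦄ (a : U ⟶ X.obj) (T : Over S) (_e : U ≅ (yon S).obj T), IsAffine T.left →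
    LocP @Flat a → LocP @LocallyOfFinitePresentation a → P a)

include haff in
theorem of_affine {U : Sp S} (a : U ⟶ X.obj) (ha : RepWith @Etale a) (T : Over S) (e : U ≅ (yon S).obj T)
    [IsAffine T.left] : P a :=
  haff a T e ‹_›
    (locP_mono (P := @Etale) (Q := @Flat) (fun _ _ f (_ : Etale f) => inferInstanceAs (Flat f)) (locP_of_repWith ha))
    (locP_mono (P := @Etale) (Q := @LocallyOfFinitePresentation)
      (fun _ _ f (_ : Etale f) => inferInstanceAs (LocallyOfFinitePresentation f)) (locP_of_repWith ha))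

theorem affine_openCover_step {U : Sp S} (a : U ⟶ X.obj) (ha : RepWith @Etale a) (T : Over S)
    (e : U ≅ (yon S).obj T)
    (hP : ∀ ⦃U : Sp S⦄ (a : U ⟶ X.obj), IsAlgSpace U →
      ∀ ⦃ι : Type u⦄ (Ui : ι → Sp S) (g : ∀ i, Ui i ⟶ U), (∀ i, IsAlgSpace (Ui i)) →
      IsFppfCover Ui g →
      (∀ (n : ℕ) (c : Fin (n + 1) → ι),
        P (WidePullback.base (fun k : Fin (n + 1) => g (c k)) ≫ a)) → P a)
    (hnext : ∀ (U' : Sp S) (a' : U' ⟶ X.obj), RepWith @Etale a' → ∀ (W : Over S), (U' ≅ (yon S).obj W) →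
      ∀ (V : T.left.Opens), IsAffineOpen V → ∀ (π : W ⟶ openOver T V), IsOpenImmersion π.left →
      ([T.left.IsSeparated] → IsAffine W.left) → P a') : P a := by
  have hU : IsAlgSpace U := isAlgSpace_of_representable e.hom (repWith_of_isIso @IsOpenImmersion e.hom).rep (IsAlgSpace.yon_obj T)
  have hg : ∀ V : T.left.affineOpens, RepWith @IsOpenImmersion ((yon S).map (openOverι T V.1) ≫ e.inv) := fun V =>
    repWith_comp ((repWith_yon_map_iff _ _).2 (inferInstanceAs (IsOpenImmersion V.1.ι)))
      (repWith_of_isIso _ e.inv)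
  refine hP a hU (fun V : T.left.affineOpens => (yon S).obj (openOver T V.1))
    (fun V => (yon S).map (openOverι T V.1) ≫ e.inv) (fun V => IsAlgSpace.yon_obj _)
    ⟨fun V => ⟨?_, ?_⟩, fun x => ?_⟩ fun n c => ?_
  · exact locP_of_repWith (repWith_mono (fun _ _ f (_ : IsOpenImmersion f) => inferInstanceAs (Flat f)) _ (hg V))
  · exact locP_of_repWith (repWith_mono (fun _ _ f (_ : IsOpenImmersion f) => inferInstanceAs (LocallyOfFinitePresentation f)) _ (hg V))
  · obtain ⟨t, ht⟩ := (Points.schemeHomeo T).surjective (Points.map e.hom x)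
    obtain ⟨V, hV, htV, -⟩ := exists_isAffineOpen_mem_and_subset (U := (⊤ : T.left.Opens)) (x := t) trivial
    refine ⟨⟨V, hV⟩, Points.schemeHomeo (openOver T V) ⟨t, htV⟩, ?_⟩
    rw [Points.map_comp, Points.map_yon_map_apply, show (openOverι T V).left ⟨t, htV⟩ = t from rfl, ht,
      ← Points.map_comp, e.hom_inv_id, Points.map_id]
  · obtain ⟨W, eW, π, hπ, hbase, hA⟩ := exists_inter T e c
    have hb : RepWith @Etale (WidePullback.base fun k => (yon S).map (openOverι T (c k).1) ≫ e.inv) :=
      repWith_mono (fun _ _ i (_ : IsOpenImmersion i) => (inferInstance : Etale i)) _ hbase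
    exact hnext _ _ (repWith_comp hb ha) W eW (c 0).1 (c 0).2 π hπ hA

include hP haff in
theorem of_separated {U : Sp S} (a : U ⟶ X.obj) (ha : RepWith @Etale a) (T : Over S) (e : U ≅ (yon S).obj T)
    [hT : T.left.IsSeparated] : P a :=
  affine_openCover_step X P a ha T e hP fun U' a' ha' W eW _ _ _ _ hW =>
    have := hW
    of_affine X P haff a' ha' W eW

include hP haff in
theorem of_scheme {U : Sp S} (a : U ⟶ X.obj) (ha : RepWith @Etale a) (T : Over S) (e : U ≅ (yon S).obj T) : P a :=
  affine_openCover_step X P a ha T e hP fun U' a' ha' W eW V hV π hπ _ => by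
    have : IsAffine (openOver T V).left := hV
    have : IsSeparated π.left := inferInstance
    have : W.left.IsSeparated := ⟨by
      rw [← terminal.comp_from π.left]; infer_instance⟩
    exact of_separated X P hP haff a' ha' W eW

include hP haff in
theorem of_all : P (𝟙 X.obj) := by
  obtain ⟨V, p, hp, hps⟩ := X.property.atlas
  refine hP (𝟙 X.obj) X.property (fun _ : PUnit.{u + 1} => (yon S).obj V) (fun _ => p)
    (fun _ => IsAlgSpace.yon_obj V) (isFppfCover_of_repWith_etale hp hps) fun n c => ?_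
  obtain ⟨W, eW, π, hW, -⟩ := exists_iso_widePullback (U := X.obj) @Etale (fun _ : Fin (n + 1) => V) (fun _ => p)
    (fun _ => hp)
  refine of_scheme X P hP haff _ ?_ W eW
  rw [Category.comp_id]
  have := repWith_comp (repWith_of_isIso @Etale eW.hom) hW
  rwa [Iso.hom_inv_id_assoc] at this

end Groth.Agent.AlgSpDM.Cech
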