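import Mathlib

/-!
# Biorthogonal systems over several residue fields
-/

set_option backward.isDefEq.respectTransparency false
set_option backward.isDefEq.respectTransparency.types false

universe u

open scoped TensorProduct
open PrimeSpectrum

namespace Groth.Agent.AlgSpDM

theorem exists_common_field (k : Type u) [Field k] (K : ℕ → Type u) [∀ n, Field (K n)]
    [∀ n, Algebra k (K n)] (N : ℕ) :
    ∃ (Ω : Type u) (_ : Field Ω) (_ : Algebra k Ω), ∀ n < N, Nonempty (K n →ₐ[k] Ω) := by
  induction N with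
  | zero => exact ⟨k, inferInstance, inferInstance, fun n h => absurd h (Nat.not_lt_zero n)⟩
  | succ N ih =>
    obtain ⟨Ω, _, _, h⟩ := ih
    obtain ⟨m, hm⟩ := Ideal.exists_maximal (Ω ⊗[k] K N)
    letI := Ideal.Quotient.field m
    refine ⟨(Ω ⊗[k] K N) ⧸ m, inferInstance, inferInstance, fun n hn => ?_⟩
    rcases Nat.lt_succ_iff_lt_or_eq.1 hn with hn | rfl
    · exact (h n hn).map fun σ =>
        ((Ideal.Quotient.mkₐ k m).comp Algebra.TensorProduct.includeLeft).comp σ
    · exact ⟨(Ideal.Quotient.mkₐ k m).comp Algebra.TensorProduct.includeRight⟩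

theorem no_biorthogonal {k A : Type u} [Field k] [CommRing A] {ι : Type*} [Fintype ι] (a b : ι → A)
    (K : ℕ → Type u) [∀ n, Field (K n)] [∀ n, Algebra A (K n)] [∀ n, Algebra k (K n)]
    (h1 : ∀ n, ∑ i, algebraMap A (K n) (a i) * algebraMap A (K n) (b i) = 1)
    (h2 : ∀ n m, n ≠ m → ∀ (Ω : Type u) [Field Ω] (φ : K n ⊗[k] K m →+* Ω),
      ∑ i, φ (algebraMap A (K n) (a i) ⊗ₜ[k] algebraMap A (K m) (b i)) = 0) : False := by
  obtain ⟨Ω, _, _, h⟩ := exists_common_field k K (Fintype.card ι + 1)
  let σ : ∀ j : Fin (Fintype.card ι + 1), K j →ₐ[k] Ω := fun j => (h j j.isLt).some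
  let v : Fin (Fintype.card ι + 1) → ι → Ω := fun j i => σ j (algebraMap A (K j) (a i))
  have key : ∀ j l : Fin (Fintype.card ι + 1),
      ∑ i, v j i * σ l (algebraMap A (K l) (b i)) = if j = l then 1 else 0 := by
    intro j l
    split_ifs with hjl
    · subst hjl
      rw [← map_one (σ j), ← h1 j, map_sum]
      exact Finset.sum_congr rfl fun i _ => (map_mul _ _ _).symm
    · simpa [v] using h2 j l (fun e => hjl (Fin.ext e)) Ω
        (Algebra.TensorProduct.lift (σ j) (σ l) fun _ _ => Commute.all _ _).toRingHom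
  have hli : LinearIndependent Ω v := by
    rw [Fintype.linearIndependent_iff]
    intro c hc l
    have := congrArg (fun f : ι → Ω => ∑ i, f i * σ l (algebraMap A (K l) (b i))) hc
    simp only [Finset.sum_apply, Pi.smul_apply, smul_eq_mul, Pi.zero_apply, zero_mul,
      Finset.sum_const_zero, Finset.sum_mul] at this
    rw [Finset.sum_comm] at this
    simpa [mul_assoc, ← Finset.mul_sum, key] using this
  have := hli.fintype_card_le_finrank
  simp at this

theorem range_comap_lmul' (A : Type u) [CommRing A] :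
    Set.range (PrimeSpectrum.comap (Algebra.TensorProduct.lmul' (S := A) ℤ).toRingHom) =
      PrimeSpectrum.zeroLocus
        (RingHom.ker (Algebra.TensorProduct.lmul' (S := A) ℤ).toRingHom : Set (A ⊗[ℤ] A)) :=
  range_comap_of_surjective _ _ fun x =>
    ⟨x ⊗ₜ 1, by simp⟩

end Groth.Agent.AlgSpDM
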