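import Groth.Agent.AlgSpDM.Finite
import Groth.Agent.AlgSpDM.Basics
import Groth.Agent.DimFormula.Criteria
import Groth.Agent.FlatDense.Basic

/-!
# Quasi-finiteness over points of codimension at most one
-/

set_option backward.isDefEq.respectTransparency false
set_option backward.isDefEq.respectTransparency.types false

universe u

open CategoryTheory CategoryTheory.Limits AlgebraicGeometry AlgSp Groth.Agent.AlgSpLib
  Groth.Agent.AlgSpPts Groth.Agent.AlgSpDec Order

namespace Groth.Agent.AlgSpDM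

theorem fibreDimAt_zero_of_codim_le_one {U V : Scheme.{u}} (h : U ⟶ V) [LocallyOfFiniteType h]
    [IsLocallyNoetherian V] (u : U) (hv : DimFormula.codim (h u) ≤ 1)
    (hmax : ∀ η, η ⤳ u → (∀ t, t ⤳ η → t = η) → FibDim.rd h η = 0) :
    FlatMor.fibreDimAt h u = 0 := by
  have := LocallyOfFiniteType.isLocallyNoetherian h
  refine (FieldFibre.fibreDimAt_eq_zero_iff_rd h u).2 fun ζ hζ he => ?_
  obtain ⟨η, hη, hm, -⟩ := DimFormula.exists_maximal_cd_eq_codim ζ
  have h1 := (DimFormula.cd_formula h hη).1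
  have h2 := DimFormula.cd_le_codim (hη.map h.continuous)
  have h3 := hmax η (hη.trans hζ) hm
  rw [he] at h1 h2
  by_contra hne
  have h4 : DimFormula.cd η ζ = 0 := by omega
  exact hne ((DimFormula.cd_eq_zero_iff hη).1 h4 ▸ h3)

variable {S : Scheme.{u}} {X Y : Space S}

theorem coheight_congr_chart {F : Sp S} {U U' : Over S} {a : (yon S).obj U ⟶ F} {a' : (yon S).obj U' ⟶ F}
    (ha : RepWith @Etale a) (ha' : RepWith @Etale a') {u : ↥U.left} {u' : ↥U'.left}
    (he : Points.ofPt a u = Points.ofPt a' u') : coheight u = coheight u' := by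
  obtain ⟨z, hz, hz'⟩ := exists_ofPt_of_eq (ha.rep.isPullback' a') he
  have : Etale (ha.rep.snd a').left := ha.property_snd a'
  have : Etale (ha.rep.fst' a').left := ha'.property _ _ _ (ha.rep.isPullback' a').flip
  rw [← hz, ← hz', ← coheight_eq_of_etale, ← coheight_eq_of_etale]

theorem hasAt_codim_iff {F : Sp S} {p : WithBot ℕ∞ → Prop} {U : Over S} {a : (yon S).obj U ⟶ F}
    (ha : RepWith @Etale a) (u : ↥U.left) :
    HasAt (fun U u => p (ringKrullDim ↥(U.presheaf.stalk u))) F (Points.ofPt a u) ↔ p (coheight u : WithBot ℕ∞) := by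
  constructor
  · rintro ⟨U', a', u', ha', he, h⟩
    change p _ at h
    rw [ringKrullDim_stalk_eq_coheight, coheight_congr_chart ha' ha he] at h
    exact h
  · intro h
    refine ⟨U, a, u, ha, rfl, ?_⟩
    change p _
    rw [ringKrullDim_stalk_eq_coheight]
    exact h

theorem qfAt_over_codim_le_one (f : X ⟶ Y) (hf : LocP @LocallyOfFiniteType f.hom)
    (hY : IsLocNoethSp Y.obj) (y : Points Y.obj)
    (hy : HasAt (fun U u => ringKrullDim ↥(U.presheaf.stalk u) ≤ 1) Y.obj y)
    (h : ∀ x : Points X.obj, HasAt (fun U u => ringKrullDim ↥(U.presheaf.stalk u) = 0) X.obj x →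
      Points.map f.hom x ⤳ y → HasAtMor (fun _ _ h u => Dual3.resTrdeg h u = 0) f.hom x)
    (x : Points X.obj) (hx : Points.map f.hom x = y) :
    PointLocus.At (fun {_ _} h u => FlatMor.fibreDimAt h u = 0) f.hom x := by
  obtain ⟨U, V, a, b, g, ha, ha', hb, -, w⟩ := exists_chart X.property Y.property f.hom
  obtain ⟨u, rfl⟩ := surjective_ofPt ha' x
  have : LocallyOfFiniteType g.left := hf a b g ha hb w
  have : IsLocallyNoetherian V.left := AlgSpDec.isLocallyNoetherian_chart hb hY
  have := LocallyOfFiniteType.isLocallyNoetherian g.left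
  have him : ∀ u' : ↥U.left, Points.map f.hom (Points.ofPt a u') = Points.ofPt b (g.left u') := fun u' => by
    rw [Points.map_ofPt, w, ofPt_comp]
  have hv : DimFormula.codim (g.left u) ≤ 1 := by
    rw [← hx, him] at hy
    have h1 := (hasAt_codim_iff (p := fun d => d ≤ 1) hb _).1 hy
    have h2 : coheight (g.left u) ≤ 1 := by exact_mod_cast h1
    rw [← DimFormula.coe_codim] at h2
    exact_mod_cast h2
  refine ⟨U, V, a, b, g, u, ha, hb, w, rfl,
    fibreDimAt_zero_of_codim_le_one g.left u hv fun η hη hm => ?_⟩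
  have h0 : HasAt (fun U u => ringKrullDim ↥(U.presheaf.stalk u) = 0) X.obj (Points.ofPt a η) := by
    refine (hasAt_codim_iff (p := fun d => d = 0) ha η).2 ?_
    rw [← DimFormula.coe_codim, DimFormula.codim_eq_zero_iff.2 hm]
    rfl
  have hsp : Points.map f.hom (Points.ofPt a η) ⤳ y := by
    rw [← hx]
    exact (hη.map (Points.continuous_ofPt a)).map (Points.continuous_map f.hom)
  have h1 := (ResTrdeg.hasAtMor_iff ha hb w η 0).1 (h _ h0 hsp)
  rw [← FibDim.rd_eq_rdeg] at h1
  exact_mod_cast h1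

theorem trdeg_zero_of_qfAt (f : X ⟶ Y) (hf : LocP @LocallyOfFiniteType f.hom) (x : Points X.obj)
    (h : PointLocus.At (fun {_ _} h u => FlatMor.fibreDimAt h u = 0) f.hom x) :
    HasAtMor (fun _ _ h u => Dual3.resTrdeg h u = 0) f.hom x := by
  obtain ⟨U, V, a, b, g, u, ha, hb, w, rfl, hu⟩ := h
  have : LocallyOfFiniteType g.left := hf a b g ha hb w
  refine (ResTrdeg.hasAtMor_iff ha hb w u 0).2 ?_
  rw [← FibDim.rd_eq_rdeg, (FieldFibre.fibreDimAt_eq_zero_iff_rd g.left u).1 hu u specializes_rfl rfl]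
  rfl

theorem mem_of_dense_of_codim_zero {F : Space S} (hF : IsLocNoethSp F.obj) {T : Set (Points F.obj)}
    (hT : IsOpen T) (hd : Dense T) {x : Points F.obj}
    (hx : HasAt (fun U u => ringKrullDim ↥(U.presheaf.stalk u) = 0) F.obj x) : x ∈ T := by
  obtain ⟨U, a, u, ha, rfl, hu⟩ := exists_chart_coheight_zero hx
  have := AlgSpDec.isLocallyNoetherian_chart ha hF
  let W : U.left.Opens := ⟨Points.ofPt a ⁻¹' T, hT.preimage (Points.continuous_ofPt a)⟩
  exact FlatDense.mem_of_dense_of_max_scheme W (hd.preimage (isOpenMap_ofPt ha))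
    (DimFormula.codim_eq_zero_iff.1 (by exact_mod_cast (DimFormula.coe_codim u).trans hu))

theorem isLocNoethSp_of_lft (f : X ⟶ Y) (hf : LocP @LocallyOfFiniteType f.hom) (hY : IsLocNoethSp Y.obj) :
    IsLocNoethSp X.obj := by
  obtain ⟨U, V, a, b, g, ha, ha', hb, -, w⟩ := exists_chart X.property Y.property f.hom
  have : LocallyOfFiniteType g.left := hf a b g ha hb w
  have : IsLocallyNoetherian V.left := AlgSpDec.isLocallyNoetherian_chart hb hY
  exact ⟨U, a, ha, ha', LocallyOfFiniteType.isLocallyNoetherian g.left⟩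

theorem qfAt_over_codim_le_one_of_dense (f : X ⟶ Y) (hf : LocP @LocallyOfFiniteType f.hom)
    (hY : IsLocNoethSp Y.obj) (y : Points Y.obj)
    (hy : HasAt (fun U u => ringKrullDim ↥(U.presheaf.stalk u) ≤ 1) Y.obj y)
    (h : Dense {x : Points X.obj | PointLocus.At (fun {_ _} h u => FlatMor.fibreDimAt h u = 0) f.hom x})
    (x : Points X.obj) (hx : Points.map f.hom x = y) :
    PointLocus.At (fun {_ _} h u => FlatMor.fibreDimAt h u = 0) f.hom x :=
  qfAt_over_codim_le_one f hf hY y hy (fun x' h0 _ => trdeg_zero_of_qfAt f hf x'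
    (mem_of_dense_of_codim_zero (isLocNoethSp_of_lft f hf hY)
      (PointLocus.isOpen_at PointLocus.ptProp_lqf hf) h h0)) x hx

theorem exists_finite_nhd' (f : X ⟶ Y) (y : Points Y.obj) (hf : IsProperMor f.hom)
    (hq : ∀ x : Points X.obj, Points.map f.hom x = y →
      PointLocus.At (fun {_ _} h u => FlatMor.fibreDimAt h u = 0) f.hom x) :
    ∃ (V : Space S) (j : V ⟶ Y), RepWith @IsOpenImmersion j.hom ∧ y ∈ Set.range (Points.map j.hom) ∧
      ∀ (P : Space S) (fst : P ⟶ V) (snd : P ⟶ X), IsPullback fst.hom snd.hom j.hom f.hom →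
        IsFiniteMor fst.hom := by
  obtain ⟨V, j, hj, hy, hP⟩ := exists_finite_nhd f y hf hq
  exact ⟨V, j, hj, hy, fun P fst snd sq => hP P snd fst sq.flip⟩

end Groth.Agent.AlgSpDM
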