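import Groth.Agent.AlgSpDM.FibPow
import Groth.Agent.AlgSpDec.RedInduced
import Groth.Agent.AlgSpDec.FreeAction
import Groth.Agent.AlgSpDec.FiniteQuot
import Groth.Agent.AlgSpDec.FinDeg

/-!
# Configuration spaces: tuples of pointwise distinct points in the fibres of an etale map
-/

set_option backward.isDefEq.respectTransparency false
set_option backward.isDefEq.respectTransparency.types false
set_option maxHeartbeats 800000

universe u

open CategoryTheory CategoryTheory.Limits AlgebraicGeometry AlgSp Groth.Agent.AlgSpLib Groth.Agent.AlgSpPts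

namespace Groth.Agent.AlgSpDM

variable {S : Scheme.{u}} {X : Sp S} {U T T' : Over S}

/-- Two maps agree at a point. -/
def SameAt (f g : T ⟶ U) (x : T.left) : Prop :=
  T.left.fromSpecResidueField x ≫ f.left = T.left.fromSpecResidueField x ≫ g.left

/-- A tuple of maps is pointwise distinct. -/
def IsDistinct {n : ℕ} (f : Fin n → (T ⟶ U)) : Prop := ∀ x i j, SameAt (f i) (f j) x → i = j

theorem sameAt_comp_iff (h : T' ⟶ T) (f g : T ⟶ U) (x : T'.left) :
    SameAt (h ≫ f) (h ≫ g) x ↔ SameAt f g (h.left x) := by
  simp only [SameAt, Over.comp_left, ← Scheme.Hom.SpecMap_residueFieldMap_fromSpecResidueField_assoc]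
  have : Flat (Spec.map (h.left.residueFieldMap x)) := by
    rw [HasRingHomProperty.Spec_iff (P := @Flat)]
    letI := (h.left.residueFieldMap x).hom.toAlgebra
    exact inferInstanceAs (Module.Flat (T.left.residueField (h.left x)) (T'.left.residueField x))
  have : Surjective (Spec.map (h.left.residueFieldMap x)) :=
    ⟨fun p => ⟨IsLocalRing.closedPoint _, Subsingleton.elim _ _⟩⟩
  have := Flat.epi_of_flat_of_surjective (Spec.map (h.left.residueFieldMap x))
  exact cancel_epi _

theorem IsDistinct.comp {n : ℕ} {f : Fin n → (T ⟶ U)} (hf : IsDistinct f) (h : T' ⟶ T) :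
    IsDistinct fun i => h ≫ f i :=
  fun x i j e => hf (h.left x) i j ((sameAt_comp_iff h _ _ x).1 e)

/-- Over the spectrum of a field, pointwise distinct means distinct. -/
theorem isDistinct_field {K : Type u} [Field K] {w : Spec (CommRingCat.of K) ⟶ S} {n : ℕ}
    {f : Fin n → (Over.mk w ⟶ U)} (hf : Function.Injective f) : IsDistinct f := fun x i j e => by
  let T := Over.mk w
  have : Subsingleton ↥T.left := inferInstanceAs (Subsingleton (PrimeSpectrum K))
  have : Flat (T.left.fromSpecResidueField x) := AlgSpDec.flat_toField (K := K) _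
  have : Surjective (T.left.fromSpecResidueField x) :=
    ⟨fun y => ⟨IsLocalRing.closedPoint _, Subsingleton.elim _ _⟩⟩
  have := Flat.epi_of_flat_of_surjective (T.left.fromSpecResidueField x)
  exact hf (Over.OverMorphism.ext ((cancel_epi _).1 e))

variable {a : (yon S).obj U ⟶ X}

theorem isClopen_sameAt (hX : IsAlgSpace X) (ha : RepWith @Etale a) [IsAffine U.left] {f g : T ⟶ U}
    (w : (yon S).map f ≫ a = (yon S).map g ≫ a) : IsClopen {x : T.left | SameAt f g x} := by
  let R := ha.rep.pullback a
  let t : R ⟶ U := ha.rep.fst' a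
  let s : R ⟶ U := ha.rep.snd a
  have sq : IsPullback ((yon S).map t) ((yon S).map s) a a := ha.rep.isPullback' a
  obtain ⟨e, het, hes⟩ := AlgSpDec.exists_rel_lift sq (𝟙 U) (𝟙 U) rfl
  obtain ⟨m, hmt, hms⟩ := AlgSpDec.exists_rel_lift sq f g w
  have : IsSeparated s.left :=
    (repWith_isSeparated_of_yon hX a (inferInstanceAs (IsSeparated U.hom))).property _ _ _ sq
  have hse : Etale s.left := ha.property _ _ _ sq
  have hes' : e.left ≫ s.left = 𝟙 U.left := by rw [← Over.comp_left, hes]; rfl
  have : IsClosedImmersion (e.left ≫ s.left) := by rw [hes']; infer_instance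
  have : IsClosedImmersion e.left := IsClosedImmersion.of_comp e.left s.left
  have : Etale (e.left ≫ s.left) := by rw [hes']; infer_instance
  have : Etale e.left := Etale.of_comp e.left s.left
  have key : {x : T.left | SameAt f g x} = m.left ⁻¹' Set.range e.left := by
    ext x
    let T₀ : Over S := Over.mk (T.left.fromSpecResidueField x ≫ T.hom)
    let i : T₀ ⟶ T := Over.homMk (T.left.fromSpecResidueField x) rfl
    constructor
    · intro h
      have hfg : i ≫ f = i ≫ g := Over.OverMorphism.ext h
      have hm : i ≫ m = (i ≫ f) ≫ e := (yon S).map_injective (sq.hom_ext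
        (by rw [← (yon S).map_comp, ← (yon S).map_comp, Category.assoc, hmt, Category.assoc, het,
          Category.comp_id])
        (by rw [← (yon S).map_comp, ← (yon S).map_comp, Category.assoc, hms, Category.assoc, hes,
          Category.comp_id, hfg]))
      refine ⟨(i ≫ f).left (IsLocalRing.closedPoint (T.left.residueField x)), ?_⟩
      have := congrArg (fun q : T₀ ⟶ R => q.left (IsLocalRing.closedPoint (T.left.residueField x))) hm
      simp only [Over.comp_left, Scheme.Hom.comp_apply] at this ⊢
      rw [← this]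
      exact congrArg m.left (Scheme.fromSpecResidueField_apply x _)
    · rintro ⟨v, hv⟩
      obtain ⟨l, hl⟩ := AlgSpDec.exists_factor_closed e.left (T.left.fromSpecResidueField x ≫ m.left) (by
        rintro _ ⟨y, rfl⟩
        exact ⟨v, hv.trans (congrArg m.left (Scheme.fromSpecResidueField_apply x y).symm)⟩)
      have het' : e.left ≫ t.left = 𝟙 U.left := by rw [← Over.comp_left, het]; rfl
      show T.left.fromSpecResidueField x ≫ f.left = T.left.fromSpecResidueField x ≫ g.left
      rw [← hmt, ← hms, Over.comp_left, Over.comp_left, ← Category.assoc, ← Category.assoc, ← hl,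
        Category.assoc, Category.assoc, het', hes']
  rw [key]
  exact ⟨e.left.isClosedEmbedding.isClosed_range.preimage m.left.continuous,
    e.left.isOpenMap.isOpen_range.preimage m.left.continuous⟩

/-- The configuration space of pointwise distinct tuples. -/
structure Config (a : (yon S).obj U ⟶ X) (n : ℕ) : Type (u + 1) where
  W : Over S
  π : Fin n → (W ⟶ U)
  w : ∀ i j, (yon S).map (π i) ≫ a = (yon S).map (π j) ≫ a
  distinct : IsDistinct π
  etale : ∀ i, Etale (π i).left
  sep : W.left.IsSeparated
  compact : RepWith @QuasiCompact a → CompactSpace ↥W.left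
  existsUnique : ∀ {T : Over S} (f : Fin n → (T ⟶ U)),
    (∀ i j, (yon S).map (f i) ≫ a = (yon S).map (f j) ≫ a) → IsDistinct f → ∃! l : T ⟶ W, ∀ i, l ≫ π i = f i

theorem Config.hom_ext {n : ℕ} (C : Config a n) {T : Over S} {l l' : T ⟶ C.W}
    (h : ∀ i, l ≫ C.π i = l' ≫ C.π i) : l = l' :=
  (C.existsUnique (fun i => l' ≫ C.π i)
    (fun i j => by rw [(yon S).map_comp, (yon S).map_comp, Category.assoc, Category.assoc, C.w i j])
    (C.distinct.comp l')).unique h fun _ => rfl

theorem nonempty_config (hX : IsAlgSpace X) (ha : RepWith @Etale a) [IsAffine U.left] (k : ℕ) :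
    Nonempty (Config a (k + 1)) := by
  obtain ⟨F⟩ := nonempty_fibPow hX ha k
  let E : Set F.P.left := ⋃ p : {p : Fin (k + 1) × Fin (k + 1) // p.1 ≠ p.2}, {x | SameAt (F.π p.1.1) (F.π p.1.2) x}
  have hEc : IsClosed E := isClosed_iUnion_of_finite fun p => (isClopen_sameAt hX ha (F.w _ _)).1
  have hEo : IsOpen E := isOpen_iUnion fun p => (isClopen_sameAt hX ha (F.w _ _)).2
  let O : F.P.left.Opens := ⟨Eᶜ, hEc.isOpen_compl⟩
  let W : Over S := Over.mk (O.ι ≫ F.P.hom)
  let ι : W ⟶ F.P := Over.homMk O.ι rfl
  have := F.sep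
  refine ⟨{ W := W, π := fun i => ι ≫ F.π i,
            w := fun i j => by rw [(yon S).map_comp, (yon S).map_comp, Category.assoc, Category.assoc, F.w i j],
            distinct := fun x i j e => ?_,
            etale := fun i => by
              have := F.etale i
              exact inferInstanceAs (Etale (O.ι ≫ (F.π i).left)),
            sep := ⟨by show IsSeparated (terminal.from O.toScheme); rw [← terminal.comp_from O.ι]; exact inferInstance⟩,
            compact := fun hq => by
              have := F.compact hq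
              exact isCompact_iff_compactSpace.1 (hEo.isClosed_compl.isCompact : IsCompact (O : Set F.P.left)),
            existsUnique := fun {T} f hf hd => ?_ }⟩
  · by_contra hne
    exact (show ι.left x ∈ O from x.2) (Set.mem_iUnion.2 ⟨⟨(i, j), hne⟩, (sameAt_comp_iff ι _ _ x).1 e⟩)
  obtain ⟨l, hl, hlu⟩ := F.existsUnique f hf
  have hrange : Set.range l.left ⊆ Set.range O.ι := by
    rintro _ ⟨x, rfl⟩
    rw [Scheme.Opens.range_ι]
    intro h
    obtain ⟨⟨⟨i, j⟩, hne⟩, h'⟩ := Set.mem_iUnion.1 h
    refine hne (hd x i j ?_)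
    rw [← hl i, ← hl j]
    exact (sameAt_comp_iff l _ _ x).2 h'
  let l' : T ⟶ W := Over.homMk (IsOpenImmersion.lift O.ι l.left hrange) (by
    show IsOpenImmersion.lift O.ι l.left hrange ≫ O.ι ≫ F.P.hom = T.hom
    rw [IsOpenImmersion.lift_fac_assoc, Over.w])
  have hl' : l' ≫ ι = l := Over.OverMorphism.ext (IsOpenImmersion.lift_fac _ _ _)
  refine ⟨l', fun i => by rw [← Category.assoc, hl', hl i], fun m hm => ?_⟩
  apply Over.OverMorphism.ext
  apply (cancel_mono O.ι).1
  show (m ≫ ι).left = (l' ≫ ι).left
  rw [hl', hlu (m ≫ ι) fun i => (Category.assoc _ _ _).trans (hm i)]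

/-- Permuting a configuration. -/
noncomputable def Config.permHom {n : ℕ} (C : Config a n) (σ : Equiv.Perm (Fin n)) : C.W ⟶ C.W :=
  (C.existsUnique (fun i => C.π (σ i)) (fun i j => C.w _ _)
    (fun x i j e => σ.injective (C.distinct x _ _ e))).choose

theorem Config.permHom_π {n : ℕ} (C : Config a n) (σ : Equiv.Perm (Fin n)) (i : Fin n) :
    C.permHom σ ≫ C.π i = C.π (σ i) :=
  (C.existsUnique (fun i => C.π (σ i)) (fun i j => C.w _ _)
    (fun x i j e => σ.injective (C.distinct x _ _ e))).choose_spec.1 i

theorem Config.permHom_comp {n : ℕ} (C : Config a n) (σ τ : Equiv.Perm (Fin n)) :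
    C.permHom σ ≫ C.permHom τ = C.permHom (σ * τ) :=
  C.hom_ext fun i => by rw [Category.assoc, C.permHom_π, C.permHom_π, C.permHom_π]; rfl

theorem Config.permHom_one {n : ℕ} (C : Config a n) : C.permHom 1 = 𝟙 C.W :=
  C.hom_ext fun i => by rw [C.permHom_π, Category.id_comp]; rfl

/-- The action of the symmetric group on a configuration space. -/
noncomputable def Config.perm {n : ℕ} (C : Config a n) : ULift.{u} (Equiv.Perm (Fin n)) →* Aut C.W where
  toFun σ :=
    { hom := C.permHom σ.down⁻¹
      inv := C.permHom σ.down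
      hom_inv_id := by rw [C.permHom_comp, inv_mul_cancel, C.permHom_one]
      inv_hom_id := by rw [C.permHom_comp, mul_inv_cancel, C.permHom_one] }
  map_one' := Iso.ext (by show C.permHom 1⁻¹ = 𝟙 C.W; rw [inv_one, C.permHom_one])
  map_mul' σ τ := Iso.ext (by
    show C.permHom (σ.down * τ.down)⁻¹ = C.permHom τ.down⁻¹ ≫ C.permHom σ.down⁻¹
    rw [C.permHom_comp, mul_inv_rev])

theorem Config.perm_free {n : ℕ} (C : Config a n) (σ : ULift.{u} (Equiv.Perm (Fin n))) (x : C.W.left)
    (hσ : σ ≠ 1) :
    C.W.left.fromSpecResidueField x ≫ (C.perm σ).hom.left ≠ C.W.left.fromSpecResidueField x := by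
  intro h
  refine hσ (ULift.ext _ _ (inv_eq_one.1 (Equiv.ext fun i => C.distinct x _ _ ?_)))
  show C.W.left.fromSpecResidueField x ≫ (C.π (σ.down⁻¹ i)).left = C.W.left.fromSpecResidueField x ≫ (C.π i).left
  rw [← C.permHom_π, Over.comp_left]
  exact congrArg (· ≫ (C.π i).left) h

end Groth.Agent.AlgSpDM
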