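import Groth.Agent.AlgSpDM.Config
import Groth.Agent.AlgSpDec.FinLocFreeQuot
import Groth.Agent.AlgSpDec.FinsetAffine
import Groth.Agent.AlgSpDec.AffineClassQuot
import Groth.Agent.AlgSpPts.Quot
import Groth.Agent.SGA1Q.SigmaFinite
import Groth.Agent.QCoh.ProperOver
import Groth.Agent.SrcDescent.Scheme

/-!
# The scheme of unordered configurations
-/

set_option backward.isDefEq.respectTransparency false
set_option backward.isDefEq.respectTransparency.types false
set_option maxHeartbeats 800000

universe u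

open CategoryTheory CategoryTheory.Limits AlgebraicGeometry AlgSp Groth.Agent.AlgSpLib Groth.Agent.AlgSpPts

namespace Groth.Agent.AlgSpDM

variable {S : Scheme.{u}} {X : Sp S} {U : Over S} {a : (yon S).obj U ⟶ X}

/-- The cofan of copies of an object, realised by the disjoint union. -/
noncomputable def copiesCofan (G : Type u) (W : Over S) : Cofan (fun _ : G => W) :=
  Cofan.mk (AlgSpDec.sigmaOver fun _ : G => W) (AlgSpDec.sigmaι fun _ : G => W)

/-- The disjoint union of copies is a coproduct. -/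
noncomputable def isColimitCopiesCofan (G : Type u) (W : Over S) : IsColimit (copiesCofan G W) :=
  mkCofanColimit _ (fun t => Over.homMk (Sigma.desc fun g => (t.inj g).left)
      (Sigma.hom_ext _ _ fun g => by
        show Sigma.ι (fun _ : G => W.left) g ≫ Sigma.desc (fun g => (t.inj g).left) ≫ t.pt.hom =
          Sigma.ι (fun _ : G => W.left) g ≫ Sigma.desc fun _ : G => W.hom
        rw [Sigma.ι_desc_assoc, Sigma.ι_desc, Over.w]))
    (fun t g => Over.OverMorphism.ext (Sigma.ι_desc (fun g => (t.inj g).left) g))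
    (fun t m hm => Over.OverMorphism.ext (Sigma.hom_ext _ _ fun g =>
      (congrArg Over.Hom.left (hm g)).trans (Sigma.ι_desc (fun g => (t.inj g).left) g).symm))

theorem Config.exists_quotient (hX : IsAlgSpace X) (ha : RepWith @Etale a) [IsAffine U.left] {k : ℕ}
    (C : Config a (k + 1)) :
    ∃ (V : Over S) (q : C.W ⟶ V) (f : (yon S).obj V ⟶ X), V.left.IsSeparated ∧
      (RepWith @QuasiCompact a → CompactSpace ↥V.left) ∧
      (yon S).map q ≫ f = (yon S).map (C.π 0) ≫ a ∧ RepWith @Etale f ∧
      Etale q.left ∧ Surjective q.left ∧ ∀ σ, C.permHom σ ≫ q = q := by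
  let G := ULift.{u} (Equiv.Perm (Fin (k + 1)))
  let c := copiesCofan G C.W
  let hc : IsColimit c := isColimitCopiesCofan G C.W
  let s : c.pt ⟶ C.W := Cofan.IsColimit.desc hc fun _ => 𝟙 C.W
  let t : c.pt ⟶ C.W := Cofan.IsColimit.desc hc fun g => (C.perm g).hom
  have hs : ∀ g, c.inj g ≫ s = 𝟙 C.W := fun g => Cofan.IsColimit.fac hc _ g
  have ht : ∀ g, c.inj g ≫ t = (C.perm g).hom := fun g => Cofan.IsColimit.fac hc _ g
  have H : IsEtaleEqvRel s t :=
    AlgSpDec.FreeAction.isEtaleEqvRel (fun g x h => C.perm_free g x h) hc hs ht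
  have hse : Etale s.left := H.etale_left
  have hsd : s.left = Sigma.desc fun _ : G => 𝟙 C.W.left := by
    refine Sigma.hom_ext _ _ fun g => ?_
    rw [Sigma.ι_desc]
    exact congrArg Over.Hom.left (hs g)
  have : Finite G := inferInstance
  have hsf : IsFinite s.left := by
    rw [hsd]; exact SGA1Q.isFinite_sigmaDesc _ fun _ => inferInstance
  have hsl : Mor2.IsFinLocFree s.left := ⟨hsf, inferInstance, inferInstance⟩
  -- the groupoid
  obtain ⟨Γ, hU, hR, hgs, hgt, hpU, hpR⟩ := AlgSpDec.exists_groupoid_over (isPullback_quotMap H.toIsEqvRel)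
  obtain ⟨GU, GR, pU, pR, gs, gt, ge, gi, gc, h1, h2, h3, h4, h5, h6, h7, h8, h9, h10, h11, h12, h13⟩ := Γ
  subst hU hR
  obtain rfl : gs = s.left := eq_of_heq hgs
  obtain rfl : gt = t.left := eq_of_heq hgt
  obtain rfl : pU = C.W.hom := eq_of_heq hpU
  obtain rfl : pR = c.pt.hom := eq_of_heq hpR
  have hπe : Etale (C.π 0).left := C.etale 0
  have := C.sep
  have horbit : ∀ z : C.W.left, ∃ A : C.W.left.Opens, IsAffineOpen A ∧
      ∀ r : c.pt.left, s.left r = z → t.left r ∈ A := fun z => by
    obtain ⟨A, hA, hsub⟩ := AlgSpDec.exists_affineOpen_of_finite (C.π 0).left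
      ((s.left.finite_preimage_singleton z).image t.left)
    exact ⟨A, hA, fun r hr => hsub ⟨r, hr, rfl⟩⟩
  obtain ⟨V, q₀, hq₀, hqs, hpb, -⟩ := AlgSpDec.FinLocFreeQuot.exists_quotient
    ⟨_, _, C.W.hom, c.pt.hom, _, _, ge, gi, gc, h1, h2, h3, h4, h5, h6, h7, h8, h9, h10, h11, h12, h13⟩
    hsl H.toIsEqvRel (fun Z _ ⟨z, hz⟩ => ⟨z, hz, horbit z⟩)
  let q : C.W ⟶ V := q₀
  obtain ⟨_, _, _⟩ : Mor2.IsFinLocFree q.left := hq₀
  have hqsur : Surjective q.left := hqs
  have hqe : Etale q.left :=
    MorphismProperty.of_isPullback_of_descendsAlong (P := @Etale) (Q := @Surjective ⊓ @Flat ⊓ @QuasiCompact)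
      hpb.flip ⟨⟨hqsur, inferInstance⟩, inferInstance⟩ hse
  have hpbY : IsPullback ((yon S).map t) ((yon S).map s) ((yon S).map q) ((yon S).map q) :=
    (IsPullback.of_map (Over.forget S) (f := t) (g := s) (h := q) (i := q)
      (Over.OverMorphism.ext hpb.w) hpb).map (yon S)
  have : Sheaf.IsLocallySurjective ((yon S).map q) :=
    isLocallySurjective_of_repWith ((repWith_yon_map_iff AlgSpLib.fppf q).2 (AlgSpLib.fppf_of q.left))
  have : Epi ((yon S).map q) := (Sheaf.isLocallySurjective_iff_epi _).1 inferInstance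
  have : IsRegularEpi ((yon S).map q) := IsRegularEpiCategory.regularEpiOfEpi _
  have : EffectiveEpi ((yon S).map q) := inferInstance
  let hcol := isColimitCoforkOfEffectiveEpi ((yon S).map q) hpbY.cone hpbY.isLimit
  let h : (yon S).obj C.W ⟶ X := (yon S).map (C.π 0) ≫ a
  have hh : (yon S).map t ≫ h = (yon S).map s ≫ h := AlgSpDec.hom_ext_sigma _ fun g => by
    show (yon S).map (c.inj g) ≫ (yon S).map t ≫ h = (yon S).map (c.inj g) ≫ (yon S).map s ≫ h
    rw [← Category.assoc ((yon S).map (c.inj g)) ((yon S).map t) h, ← (yon S).map_comp (c.inj g) t, ht,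
      ← Category.assoc ((yon S).map (c.inj g)) ((yon S).map s) h, ← (yon S).map_comp (c.inj g) s, hs]
    show (yon S).map (C.permHom g.down⁻¹) ≫ (yon S).map (C.π 0) ≫ a =
      (yon S).map (𝟙 C.W) ≫ (yon S).map (C.π 0) ≫ a
    rw [← Category.assoc, ← (yon S).map_comp, C.permHom_π, C.w _ 0, (yon S).map_id, Category.id_comp]
  obtain ⟨f, hf⟩ : ∃ f, (yon S).map q ≫ f = h :=
    ⟨hcol.desc (Cofork.ofπ h hh), hcol.fac (Cofork.ofπ h hh) WalkingParallelPair.one⟩
  have hinv : ∀ σ, C.permHom σ ≫ q = q := fun σ => by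
    have e := congrArg (fun m => c.inj (ULift.up σ⁻¹) ≫ m) (show t ≫ q = s ≫ q from Over.OverMorphism.ext hpb.w)
    change c.inj _ ≫ t ≫ q = c.inj _ ≫ s ≫ q at e
    rw [← Category.assoc, ht, ← Category.assoc, hs, Category.id_comp] at e
    have e' : C.permHom σ⁻¹⁻¹ ≫ q = q := e
    rwa [inv_inv] at e'
  refine ⟨V, q, f, ⟨?_⟩, fun hq => ?_, hf, ?_, hqe, hqsur, hinv⟩
  · have : IsSeparated (q.left ≫ terminal.from V.left) := by rw [terminal.comp_from]; infer_instance
    exact QCoh.isSeparated_of_comp_surjective q.left _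
  · have := C.compact hq
    exact ⟨by rw [← q.left.surjective.range_eq]; exact isCompact_range q.left.continuous⟩
  · have hr : Representable f := representable_from_yon' hX f
    have hhe : RepWith @Etale h := repWith_comp ((repWith_yon_map_iff _ _).2 hπe) ha
    refine ⟨hr, fun T P g fst snd sq => ?_⟩
    obtain ⟨fst, rfl⟩ := (yon S).map_surjective fst
    let q' := pullback.fst fst q
    have sqq : IsPullback q'.left (pullback.snd fst q).left fst.left q.left :=
      (IsPullback.of_hasPullback fst q).map (Over.forget S)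
    have : Surjective q'.left := MorphismProperty.of_isPullback (P := @Surjective) sqq.flip hqsur
    have : Etale q'.left := MorphismProperty.of_isPullback (P := @Etale) sqq.flip hqe
    have sqc : IsPullback ((yon S).map (pullback.snd fst q)) ((yon S).map (q' ≫ snd)) h g := by
      rw [(yon S).map_comp, ← hf]
      exact ((IsPullback.of_hasPullback fst q).flip.map (yon S)).paste_vert sq
    have e : Etale (q'.left ≫ snd.left) := by
      rw [← Over.comp_left]; exact hhe.property _ _ _ sqc
    exact SrcDescent.etale_of_etale_comp q'.left snd.left e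

end Groth.Agent.AlgSpDM
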