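import Mathlib

/-!
# A finite extension with a tuple all of whose conjugates avoid a hypersurface
-/

set_option autoImplicit false
set_option backward.isDefEq.respectTransparency false
set_option backward.isDefEq.respectTransparency.types false
set_option maxHeartbeats 800000

universe u

open MvPolynomial Finset

namespace Groth.Agent.AlgSpDM

theorem exists_large_extension (k : Type u) [Field k] (d : ℕ) :
    ∃ (k' : Type u) (_ : Field k') (_ : Algebra k k') (S : Finset k'), Module.Finite k k' ∧
      Module.finrank k k' * d < S.card := by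
  rcases finite_or_infinite k with hk | hk
  · obtain ⟨p, hp⟩ := CharP.exists k
    have : Fact p.Prime := ⟨(CharP.char_is_prime_or_zero k p).resolve_right (CharP.char_ne_zero_of_finite k p)⟩
    let n := 2 * d + 4
    have : NeZero n := ⟨by omega⟩
    have := Fintype.ofFinite (FiniteField.Extension k p n)
    refine ⟨ULift.{u} (FiniteField.Extension k p n), inferInstance, inferInstance, Finset.univ,
      Module.Finite.equiv (ULift.moduleEquiv (R := k)).symm, ?_⟩
    rw [(ULift.moduleEquiv (R := k)).finrank_eq, FiniteField.finrank_extension, Finset.card_univ, Fintype.card_ulift,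
      Fintype.card_eq_nat_card, FiniteField.natCard_extension]
    have h2 : 2 ≤ Nat.card k := Finite.one_lt_card
    calc n * d < 2 ^ n := by
          have h : ∀ d, (2 * d + 4) * d < 2 ^ (2 * d + 4) := by
            intro d
            induction d with
            | zero => simp
            | succ d ih =>
              rw [show 2 * (d + 1) + 4 = (2 * d + 4) + 2 by ring, pow_add]
              have h3 : 2 * d + 4 < 2 ^ (2 * d + 4) := Nat.lt_two_pow_self
              nlinarith
          exact h d
      _ ≤ Nat.card k ^ n := Nat.pow_le_pow_left h2 n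
  · obtain ⟨S, hS⟩ := Infinite.exists_subset_card_eq k (d + 1)
    exact ⟨k, inferInstance, inferInstance, S, inferInstance, by rw [Module.finrank_self, one_mul, hS]; omega⟩

variable {k κ : Type u} [Field k] [Field κ] [Algebra k κ]

theorem exists_avoid {n : ℕ} {P : MvPolynomial (Fin n) κ} (hP : P ≠ 0) :
    ∃ (k' : Type u) (_ : Field k') (_ : Algebra k k') (t : Fin n → k'), Module.Finite k k' ∧
      ∀ (Ω : Type u) [Field Ω] (i : κ →+* Ω) (σ : k' →+* Ω), i.comp (algebraMap k κ) = σ.comp (algebraMap k k') →
        eval₂ i (σ ∘ t) P ≠ 0 := by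
  classical
  obtain ⟨k', _, _, S, hfin, hS⟩ := exists_large_extension k P.totalDegree
  refine ⟨k', inferInstance, inferInstance, ?_⟩
  let Ω₀ := AlgebraicClosure κ
  let P₀ : MvPolynomial (Fin n) Ω₀ := MvPolynomial.map (algebraMap κ Ω₀) P
  have hP₀ : P₀ ≠ 0 := (map_ne_zero_iff _ (MvPolynomial.map_injective _ (algebraMap κ Ω₀).injective)).2 hP
  let bad : (k' →ₐ[k] Ω₀) → Finset (Fin n → k') := fun σ =>
    (Fintype.piFinset fun _ => S).filter fun t => eval (σ ∘ t) P₀ = 0
  have hbad : ∀ σ, (bad σ).card * S.card ≤ P.totalDegree * S.card ^ n := by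
    intro σ
    rcases S.eq_empty_or_nonempty with h | h
    · simp [h]
    have hsz := schwartz_zippel_totalDegree hP₀ (S.image σ)
    rw [Finset.card_image_of_injective (f := ⇑σ) S σ.injective,
      div_le_div_iff₀ (pow_pos (by exact_mod_cast h.card_pos) n) (by exact_mod_cast h.card_pos)] at hsz
    have h1 : (bad σ).card ≤
        ((Fintype.piFinset fun _ : Fin n => S.image σ).filter fun f => eval f P₀ = 0).card := by
      refine Finset.card_le_card_of_injOn (fun t => σ ∘ t) (fun t ht => ?_)
        (fun a _ b _ hab => funext fun j => σ.injective (congrFun hab j))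
      simp only [bad, Finset.coe_filter, Set.mem_ofPred_eq, Fintype.mem_piFinset] at ht
      simp only [Finset.coe_filter, Set.mem_ofPred_eq, Fintype.mem_piFinset]
      exact ⟨fun j => Finset.mem_image_of_mem _ (ht.1 j), ht.2⟩
    have h2 : P₀.totalDegree ≤ P.totalDegree :=
      Finset.sup_mono (MvPolynomial.support_map_subset _ _)
    have hsz' : ((Fintype.piFinset fun _ : Fin n => S.image σ).filter fun f => eval f P₀ = 0).card * S.card ≤
        P₀.totalDegree * S.card ^ n := by exact_mod_cast hsz
    calc (bad σ).card * S.card ≤ _ := Nat.mul_le_mul_right _ h1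
      _ ≤ P₀.totalDegree * S.card ^ n := hsz'
      _ ≤ P.totalDegree * S.card ^ n := Nat.mul_le_mul_right _ h2
  obtain ⟨t, htS, ht⟩ : ∃ t ∈ Fintype.piFinset (fun _ : Fin n => S), ∀ σ : k' →ₐ[k] Ω₀, t ∉ bad σ := by
    by_contra H
    push Not at H
    have h1 : (Fintype.piFinset fun _ : Fin n => S) ⊆ Finset.univ.biUnion bad := fun t ht => by
      obtain ⟨σ, hσ⟩ := H t ht
      exact Finset.mem_biUnion.2 ⟨σ, Finset.mem_univ _, hσ⟩
    have h2 : S.card ^ n * S.card ≤ Fintype.card (k' →ₐ[k] Ω₀) * (P.totalDegree * S.card ^ n) := by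
      calc S.card ^ n * S.card = (Fintype.piFinset fun _ : Fin n => S).card * S.card := by simp
        _ ≤ (∑ σ, (bad σ).card) * S.card :=
          Nat.mul_le_mul_right _ ((Finset.card_le_card h1).trans Finset.card_biUnion_le)
        _ ≤ _ := by
          rw [Finset.sum_mul]
          exact (Finset.sum_le_card_nsmul _ _ _ fun σ _ => hbad σ).trans (by simp)
    have h3 : Fintype.card (k' →ₐ[k] Ω₀) ≤ Module.finrank k k' := by
      have := cardinalMk_algHom k k' Ω₀
      rw [Cardinal.mk_fintype, Nat.cast_le] at this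
      exact this.trans (by rw [Module.finrank_linearMap_self])
    have h4 : 0 < S.card ^ n := pow_pos (by omega) n
    have h5 : S.card ^ n * S.card ≤ S.card ^ n * (Module.finrank k k' * P.totalDegree) := by
      calc _ ≤ _ := h2
        _ ≤ Module.finrank k k' * (P.totalDegree * S.card ^ n) := Nat.mul_le_mul_right _ h3
        _ = _ := by ring
    exact absurd (Nat.le_of_mul_le_mul_left h5 h4) (by omega)
  refine ⟨t, hfin, fun Ω _ i σ hσ h0 => ?_⟩
  let _ : Algebra κ Ω := i.toAlgebra
  let _ : Algebra k Ω := (i.comp (algebraMap k κ)).toAlgebra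
  have : IsScalarTower k κ Ω := IsScalarTower.of_algebraMap_eq fun _ => rfl
  let σk : k' →ₐ[k] Ω := { σ with commutes' := fun r => (RingHom.congr_fun hσ r).symm }
  let E := algebraicClosure κ Ω
  have hmem : ∀ x, σk x ∈ E := fun x =>
    mem_algebraicClosure_iff.2 ((((Algebra.IsIntegral.isIntegral (R := k) x).map σk).tower_top (A := κ)).isAlgebraic)
  let τ : E →ₐ[κ] Ω₀ := IsAlgClosed.lift
  let σE : k' →ₐ[k] E := σk.codRestrict (E.toSubalgebra.restrictScalars k) hmem
  let σ₀ : k' →ₐ[k] Ω₀ := (τ.restrictScalars k).comp σE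
  have hE : eval₂ (algebraMap κ E) (σE ∘ t) P = 0 := by
    refine (algebraMap E Ω).injective ?_
    rw [map_zero, eval₂_comp_left, ← IsScalarTower.algebraMap_eq]
    exact h0
  refine ht σ₀ (Finset.mem_filter.2 ⟨htS, ?_⟩)
  rw [eval_map, show (σ₀ ∘ t) = τ.toRingHom ∘ (σE ∘ t) from rfl, ← τ.comp_algebraMap]
  exact ((eval₂_comp_left τ.toRingHom (algebraMap κ E) (σE ∘ t) P).symm).trans (by rw [hE, map_zero])

end Groth.Agent.AlgSpDM
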