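import Groth.Agent.RelNorm.Glue
import Groth.Agent.AlgSpLib.LargestOpen
import Groth.Agent.AlgSpDec.AffineRep
import Groth.Agent.AlgSpDec.LqfScheme

/-!
# Isomorphisms local on coverings and gluing over two disjoint open subspaces
-/

set_option autoImplicit false
set_option backward.isDefEq.respectTransparency false
set_option backward.isDefEq.respectTransparency.types false
set_option maxHeartbeats 800000

universe u

open CategoryTheory CategoryTheory.Limits AlgebraicGeometry AlgSp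
open Groth.Agent.AlgSpLib Groth.Agent.AlgSpPts Groth.Agent.AlgSpDec Groth.Agent.RelNorm

namespace Groth.Agent.AlgSpDM.CoverGlue

variable {S : Scheme.{u}}

/-- A morphism which is an isomorphism over charts covering the target is an isomorphism. -/
theorem isIso_of_covers {G P : Sp S} {C : ∀ T : Over S, ((yon S).obj T ⟶ G) → Prop} (hC : Covers C)
    (g : P ⟶ G) (h : ∀ T c, C T c → IsIso (pullback.snd g c)) : IsIso g := by
  have hm : Mono g := ⟨fun {Q} a a' e => hom_ext_of_covers hC (a ≫ g) fun T c hc => by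
    have := h T c hc
    have h1 : (pullback.fst (a ≫ g) c ≫ a) ≫ g = pullback.snd (a ≫ g) c ≫ c := by
      rw [Category.assoc, pullback.condition]
    have h2 : (pullback.fst (a ≫ g) c ≫ a') ≫ g = pullback.snd (a ≫ g) c ≫ c := by
      rw [Category.assoc, ← e, pullback.condition]
    have h3 : pullback.lift (f := g) (g := c) _ _ h1 = pullback.lift _ _ h2 := by
      rw [← cancel_mono (pullback.snd g c), pullback.lift_snd, pullback.lift_snd]
    simpa only [pullback.lift_fst] using congrArg (· ≫ pullback.fst g c) h3⟩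
  let σ : ∀ T c, C T c → (pullback (𝟙 G) c ⟶ P) := fun T c hc =>
    haveI := h T c hc
    pullback.snd (𝟙 G) c ≫ inv (pullback.snd g c) ≫ pullback.fst g c
  have hσ : ∀ T c (hc : C T c), σ T c hc ≫ g = pullback.fst (𝟙 G) c := fun T c hc => by
    have := h T c hc
    simp only [σ, Category.assoc, pullback.condition, IsIso.inv_hom_id_assoc, ← pullback.condition (f := 𝟙 G),
      Category.comp_id]
  obtain ⟨H, hH⟩ := exists_glue hC (𝟙 G) σ fun T c hc T' c' hc' V y y' e => by
    refine (cancel_mono g).1 ?_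
    calc (y ≫ σ T c hc) ≫ g = y ≫ σ T c hc ≫ g := Category.assoc _ _ _
      _ = y' ≫ σ T' c' hc' ≫ g := by rw [hσ T c hc, hσ T' c' hc', e]
      _ = (y' ≫ σ T' c' hc') ≫ g := (Category.assoc _ _ _).symm
  have hHg : H ≫ g = 𝟙 G := hom_ext_of_covers hC (𝟙 G) fun T c hc => by
    rw [← Category.assoc, hH T c hc, hσ T c hc, Category.comp_id]
  exact ⟨H, by rw [← cancel_mono g, Category.assoc, hHg, Category.comp_id, Category.id_comp], hHg⟩

variable {P A B Z : Sp S}

/-- The charts lying in one of two open subspaces. -/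
def InAB (jA : A ⟶ P) (jB : B ⟶ P) (T : Over S) (c : (yon S).obj T ⟶ P) : Prop :=
  RepWith @Etale c ∧ ((∃ l, l ≫ jA = c) ∨ ∃ l, l ≫ jB = c)

theorem covers_inAB (hA : IsAlgSpace A) (hB : IsAlgSpace B) {jA : A ⟶ P} {jB : B ⟶ P}
    (hjA : RepWith @IsOpenImmersion jA) (hjB : RepWith @IsOpenImmersion jB)
    (hcov : ∀ x, x ∈ Set.range (Points.map jA) ∨ x ∈ Set.range (Points.map jB)) : Covers (InAB jA jB) := by
  refine ⟨fun T c h => h.1, fun x => ?_⟩
  have key : ∀ {A : Sp S} (jA : A ⟶ P), IsAlgSpace A → RepWith @IsOpenImmersion jA →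
      x ∈ Set.range (Points.map jA) → ∃ (T : Over S) (c : (yon S).obj T ⟶ P) (l : (yon S).obj T ⟶ A),
        RepWith @Etale c ∧ l ≫ jA = c ∧ ∃ t, Points.ofPt c t = x := by
    rintro A jA hA hjA ⟨a, rfl⟩
    obtain ⟨T, c, t, -, hc, rfl⟩ := exists_affine_chart_at hA a
    exact ⟨T, c ≫ jA, c, repWith_comp hc
      (repWith_mono (fun _ _ e (_ : IsOpenImmersion e) => inferInstanceAs (Etale e)) _ hjA), rfl, t,
      (Points.map_ofPt _ _ _).symm⟩
  rcases hcov x with h | h
  · obtain ⟨T, c, l, hc, hl, ht⟩ := key jA hA hjA h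
    exact ⟨T, c, ⟨hc, .inl ⟨l, hl⟩⟩, ht⟩
  · obtain ⟨T, c, l, hc, hl, ht⟩ := key jB hB hjB h
    exact ⟨T, c, ⟨hc, .inr ⟨l, hl⟩⟩, ht⟩

theorem hom_ext_disjoint (hA : IsAlgSpace A) (hB : IsAlgSpace B) {jA : A ⟶ P} {jB : B ⟶ P}
    (hjA : RepWith @IsOpenImmersion jA) (hjB : RepWith @IsOpenImmersion jB)
    (hcov : ∀ x, x ∈ Set.range (Points.map jA) ∨ x ∈ Set.range (Points.map jB)) {m m' : P ⟶ Z}
    (eA : jA ≫ m = jA ≫ m') (eB : jB ≫ m = jB ≫ m') : m = m' := by
  refine hom_ext_of_covers (covers_inAB hA hB hjA hjB hcov) (𝟙 P) fun T c hc => ?_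
  rw [show pullback.fst (𝟙 P) c = pullback.snd (𝟙 P) c ≫ c by rw [← pullback.condition, Category.comp_id]]
  rcases hc.2 with ⟨l, rfl⟩ | ⟨l, rfl⟩
  · rw [Category.assoc, Category.assoc, Category.assoc, Category.assoc, eA]
  · rw [Category.assoc, Category.assoc, Category.assoc, Category.assoc, eB]

/-- Maps out of two disjoint open subspaces covering a space glue. -/
theorem exists_glue_disjoint (hA : IsAlgSpace A) (hB : IsAlgSpace B) {jA : A ⟶ P} {jB : B ⟶ P}
    (hjA : RepWith @IsOpenImmersion jA) (hjB : RepWith @IsOpenImmersion jB)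
    (hcov : ∀ x, x ∈ Set.range (Points.map jA) ∨ x ∈ Set.range (Points.map jB))
    (hd : Disjoint (Set.range (Points.map jA)) (Set.range (Points.map jB))) (fA : A ⟶ Z) (fB : B ⟶ Z) :
    ∃ m : P ⟶ Z, jA ≫ m = fA ∧ jB ≫ m = fB := by
  classical
  have hC := covers_inAB hA hB hjA hjB hcov
  have := mono_of_openImmersion hjA
  have := mono_of_openImmersion hjB
  have hne : ∀ {V : Over S} (lA : (yon S).obj V ⟶ A) (lB : (yon S).obj V ⟶ B), lA ≫ jA = lB ≫ jB →
      IsEmpty ↥V.left := fun {V} lA lB e => ⟨fun v => Set.disjoint_left.1 hd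
    (show Points.ofPt (lA ≫ jA) v ∈ _ from ⟨Points.ofPt lA v, Points.map_ofPt _ _ _⟩)
    (show Points.ofPt (lA ≫ jA) v ∈ _ from ⟨Points.ofPt lB v, by rw [Points.map_ofPt, e]⟩)⟩
  -- the value on a chart in one of the two pieces
  let val : ∀ T (c : (yon S).obj T ⟶ P), InAB jA jB T c → ((yon S).obj T ⟶ Z) := fun T c hc =>
    if h : ∃ l, l ≫ jA = c then h.choose ≫ fA else (hc.2.resolve_left h).choose ≫ fB
  have key : ∀ T c (hc : InAB jA jB T c) (V : Over S) (q : (yon S).obj V ⟶ (yon S).obj T),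
      (∀ l, l ≫ jA = q ≫ c → q ≫ val T c hc = l ≫ fA) ∧ (∀ l, l ≫ jB = q ≫ c → q ≫ val T c hc = l ≫ fB) := by
    intro T c hc V q
    by_cases h : ∃ l, l ≫ jA = c
    · simp only [val, dif_pos h]
      refine ⟨fun l hl => ?_, fun l hl => ?_⟩
      · rw [(cancel_mono jA).1 (hl.trans (by rw [Category.assoc, h.choose_spec]) : l ≫ jA = (q ≫ h.choose) ≫ jA),
          Category.assoc]
      · have := hne (q ≫ h.choose) l (by rw [Category.assoc, h.choose_spec, hl])
        exact hom_ext_of_isEmpty _ _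
    · simp only [val, dif_neg h]
      have hs := (hc.2.resolve_left h).choose_spec
      refine ⟨fun l hl => ?_, fun l hl => ?_⟩
      · have := hne l (q ≫ (hc.2.resolve_left h).choose) (by rw [Category.assoc, hs, hl])
        exact hom_ext_of_isEmpty _ _
      · rw [(cancel_mono jB).1 (hl.trans (by rw [Category.assoc, hs]) :
          l ≫ jB = (q ≫ (hc.2.resolve_left h).choose) ≫ jB), Category.assoc]
  obtain ⟨m, hm⟩ := exists_glue hC (𝟙 P) (fun T c hc => pullback.snd (𝟙 P) c ≫ val T c hc)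
    fun T c hc T' c' hc' V y y' e => by
      have h1 : (y ≫ pullback.snd (𝟙 P) c) ≫ c = (y' ≫ pullback.snd (𝟙 P) c') ≫ c' := by
        rw [Category.assoc, Category.assoc, ← pullback.condition, ← pullback.condition, Category.comp_id,
          Category.comp_id, e]
      rw [← Category.assoc, ← Category.assoc]
      rcases hc.2 with ⟨l, hl⟩ | ⟨l, hl⟩
      · have e1 : ((y ≫ pullback.snd (𝟙 P) c) ≫ l) ≫ jA = (y ≫ pullback.snd (𝟙 P) c) ≫ c := by
          rw [Category.assoc _ l, hl]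
        rw [(key T c hc V _).1 _ e1, (key T' c' hc' V _).1 _ (e1.trans h1)]
      · have e1 : ((y ≫ pullback.snd (𝟙 P) c) ≫ l) ≫ jB = (y ≫ pullback.snd (𝟙 P) c) ≫ c := by
          rw [Category.assoc _ l, hl]
        rw [(key T c hc V _).2 _ e1, (key T' c' hc' V _).2 _ (e1.trans h1)]
  have hval : ∀ T c (hc : InAB jA jB T c), c ≫ m = val T c hc := fun T c hc => by
    have := congrArg (pullback.lift (f := 𝟙 P) (g := c) c (𝟙 _) (by simp) ≫ ·) (hm T c hc)
    simpa only [pullback.lift_fst_assoc, pullback.lift_snd_assoc, Category.id_comp] using this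
  have hpiece : ∀ {A' : Sp S} (_ : IsAlgSpace A') {j : A' ⟶ P} (_ : RepWith @IsOpenImmersion j) (f : A' ⟶ Z),
      (∀ T (l : (yon S).obj T ⟶ A'), RepWith @Etale l → ∃ hc : InAB jA jB T (l ≫ j), val T _ hc = l ≫ f) →
      j ≫ m = f := by
    intro A' hA' j hj f hf
    have hCA : Covers (fun T (c : (yon S).obj T ⟶ A') => RepWith @Etale c) :=
      ⟨fun _ _ h => h, fun x => by
        obtain ⟨T, c, t, -, hc, ht⟩ := exists_affine_chart_at hA' x
        exact ⟨T, c, hc, t, ht⟩⟩
    refine hom_ext_of_covers hCA (𝟙 A') fun T c hc => ?_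
    obtain ⟨hc', hv⟩ := hf T c hc
    rw [show pullback.fst (𝟙 A') c = pullback.snd (𝟙 A') c ≫ c by rw [← pullback.condition, Category.comp_id],
      Category.assoc, Category.assoc, ← hv, ← hval T _ hc', Category.assoc]
  have het : ∀ {A' : Sp S} {j : A' ⟶ P} (_ : RepWith @IsOpenImmersion j) {T} {l : (yon S).obj T ⟶ A'},
      RepWith @Etale l → RepWith @Etale (l ≫ j) := fun hj _ _ hl =>
    repWith_comp hl (repWith_mono (fun _ _ e (_ : IsOpenImmersion e) => inferInstanceAs (Etale e)) _ hj)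
  refine ⟨m, hpiece hA hjA fA fun T l hl => ⟨⟨het hjA hl, .inl ⟨l, rfl⟩⟩, ?_⟩,
    hpiece hB hjB fB fun T l hl => ⟨⟨het hjB hl, .inr ⟨l, rfl⟩⟩, ?_⟩⟩
  · simpa using (key T _ ⟨het hjA hl, .inl ⟨l, rfl⟩⟩ T (𝟙 _)).1 l (by simp)
  · simpa using (key T _ ⟨het hjB hl, .inr ⟨l, rfl⟩⟩ T (𝟙 _)).2 l (by simp)

end Groth.Agent.AlgSpDM.CoverGlue
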