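import Groth.Agent.AlgSpDM.QfDeg
import Groth.Agent.AlgSpDec.BddFibres
import Groth.Agent.AlgSpDec.RedInduced
import Groth.Agent.AlgSpLib.Points
import Groth.Prelude.Def_AlgSpMor5
import Groth.Prelude.Def_AlgSpSub
import Groth.Prelude.Def_W4decUnivBdd

/-!
# The degree stratification of a space by a flat separated quasi-finite morphism from a scheme
-/

set_option backward.isDefEq.respectTransparency false
set_option backward.isDefEq.respectTransparency.types false
set_option maxHeartbeats 800000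

universe u

open CategoryTheory CategoryTheory.Limits AlgebraicGeometry AlgSp Groth.Agent.AlgSpLib Groth.Agent.AlgSpDec

namespace Groth.Agent.AlgSpDM.DegStrat

variable {S : Scheme.{u}} {X : Sp S} {W : Over S} {w : (yon S).obj W ⟶ X}

theorem fibLE_of_isPullback {n : ℕ} (hb : W4dec.DegFibresLE n w) {V R : Over S} {g : (yon S).obj V ⟶ X}
    {fst : (yon S).obj R ⟶ (yon S).obj W} {p : R ⟶ V} (sq : IsPullback fst ((yon S).map p) w g) :
    QfDeg.FibLE n p.left := by
  intro K _ Q a c z h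
  let wK : Spec (CommRingCat.of K) ⟶ S := z ≫ V.hom
  let zO : Over.mk wK ⟶ V := Over.homMk z rfl
  let QO : Over S := Over.mk (c ≫ wK)
  let cO : QO ⟶ Over.mk wK := Over.homMk c rfl
  let aO : QO ⟶ R := Over.homMk a (by
    show a ≫ R.hom = c ≫ z ≫ V.hom
    rw [← Over.w p, ← Category.assoc, h.w, Category.assoc])
  have h₁ : IsPullback ((yon S).map aO) ((yon S).map cO) ((yon S).map p) ((yon S).map zO) :=
    isPullback_yon_of_left aO cO p zO h
  exact degFibres_apply hb ((yon S).map zO ≫ g) cO ((yon S).map aO ≫ fst) (h₁.paste_horiz sq).flip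

/-- The degree of the fibre does not depend on the chart. -/
theorem deg_paste {n : ℕ} (hb : W4dec.DegFibresLE n w) {V R V' R' : Over S} {g : (yon S).obj V ⟶ X}
    {fst : (yon S).obj R ⟶ (yon S).obj W} {p : R ⟶ V} (sq : IsPullback fst ((yon S).map p) w g)
    (h : V' ⟶ V) {fst' : (yon S).obj R' ⟶ (yon S).obj W} {p' : R' ⟶ V'}
    (sq' : IsPullback fst' ((yon S).map p') w ((yon S).map h ≫ g)) (v' : ↥V'.left) :
    QfDeg.deg p'.left v' = QfDeg.deg p.left (h.left v') := by
  have e : fst' ≫ w = ((yon S).map p' ≫ (yon S).map h) ≫ g := by rw [Category.assoc]; exact sq'.w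
  obtain ⟨m, hm⟩ := (yon S).map_surjective (sq.lift fst' ((yon S).map p' ≫ (yon S).map h) e)
  have h₁ : IsPullback ((yon S).map m) ((yon S).map p') ((yon S).map p) ((yon S).map h) := by
    refine IsPullback.of_right ?_ (by rw [hm, sq.lift_snd]) sq
    rw [hm, sq.lift_fst]
    exact sq'
  exact QfDeg.deg_of_isPullback (fibLE_of_isPullback hb sq) (isPullback_of_yon h₁) v'

/-- The degree function on points. -/
noncomputable def D (hr : Representable w) (x : Points X) : ℕ :=
  QfDeg.deg (hr.snd (exists_ofPt_eq x).choose_spec.choose).left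
    (exists_ofPt_eq x).choose_spec.choose_spec.choose

theorem deg_eq_D (hX : IsAlgSpace X) {n : ℕ} (hb : W4dec.DegFibresLE n w) (hr : Representable w)
    {V R : Over S} {g : (yon S).obj V ⟶ X} {fst : (yon S).obj R ⟶ (yon S).obj W} {p : R ⟶ V}
    (sq : IsPullback fst ((yon S).map p) w g) (v : ↥V.left) :
    QfDeg.deg p.left v = D hr (Points.ofPt g v) := by
  obtain ⟨V₀, g₀, v₀, hV₀, hg₀, hD⟩ : ∃ (V₀ : Over S) (g₀ : (yon S).obj V₀ ⟶ X) (v₀ : ↥V₀.left),
      V₀ = V₀ ∧ Points.ofPt g₀ v₀ = Points.ofPt g v ∧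
        D hr (Points.ofPt g v) = QfDeg.deg (hr.snd g₀).left v₀ :=
    ⟨_, (exists_ofPt_eq (Points.ofPt g v)).choose_spec.choose,
      (exists_ofPt_eq (Points.ofPt g v)).choose_spec.choose_spec.choose, rfl,
      (exists_ofPt_eq (Points.ofPt g v)).choose_spec.choose_spec.choose_spec.2, rfl⟩
  rw [hD]
  have hg : Representable g := representable_from_yon' hX g
  obtain ⟨z, hz₁, hz₂⟩ := exists_ofPt_of_eq (hg.isPullback' g₀) hg₀.symm
  have e : (yon S).map (hg.fst' g₀) ≫ g = (yon S).map (hg.snd g₀) ≫ g₀ := (hg.isPullback' g₀).w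
  have h₁ := deg_paste hb sq (hg.fst' g₀) (hr.isPullback' ((yon S).map (hg.fst' g₀) ≫ g)) z
  let a := hr.fst' ((yon S).map (hg.fst' g₀) ≫ g)
  let b := hr.snd ((yon S).map (hg.fst' g₀) ≫ g)
  have sq' : IsPullback ((yon S).map a) ((yon S).map b) w ((yon S).map (hg.snd g₀) ≫ g₀) := by
    rw [← e]; exact hr.isPullback' _
  have h₂ := deg_paste hb (hr.isPullback' g₀) (hg.snd g₀) sq' z
  rw [← hz₁, ← hz₂, ← h₁, ← h₂]

/-- The degree stratification. -/
theorem exists_stratification (X : Space S) {W : Over S} (w : (yon S).obj W ⟶ X.obj)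
    (hfl : RepWith @Flat w) (hfp : RepWith @LocallyOfFinitePresentation w) (hsep : RepWith @IsSeparated w)
    (hqf : RepWith @LocallyQuasiFinite w) (hb : W4dec.HasUnivBddFibres w) :
    ∃ (n : ℕ) (Zs : ℕ → Space S) (i : ∀ r, Zs r ⟶ X),
      (∀ r, IsRedInduced (Set.range (Points.map (i r).hom)) (i r).hom) ∧
      IsEmpty (Points (Zs 0).obj) ∧ Set.range (Points.map (i (n + 1)).hom) = Set.univ ∧
      (∀ r, Set.range (Points.map (i r).hom) ⊆ Set.range (Points.map (i (r + 1)).hom)) ∧
      ∀ (r : ℕ) (T : Space S) (g : T ⟶ X) (P : Sp S) (fst : P ⟶ (yon S).obj W) (snd : P ⟶ T.obj),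
        IsPullback fst snd w g.hom →
          (IsFinLocFreeOfDegMor r snd ↔
            Set.range (Points.map g.hom) ⊆
              Set.range (Points.map (i (r + 1)).hom) \ Set.range (Points.map (i r).hom)) := by
  obtain ⟨n, hb⟩ := hb
  have hr : Representable w := hfl.rep
  have hprops : ∀ {V R : Over S} {g : (yon S).obj V ⟶ X.obj} {fst : (yon S).obj R ⟶ (yon S).obj W}
      {p : R ⟶ V}, IsPullback fst ((yon S).map p) w g → Flat p.left ∧ LocallyOfFinitePresentation p.left ∧
        IsSeparated p.left ∧ LocallyQuasiFinite p.left := fun sq =>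
    ⟨hfl.property _ _ _ sq, hfp.property _ _ _ sq, hsep.property _ _ _ sq, hqf.property _ _ _ sq⟩
  have hclosed : ∀ r, IsClosed {x : Points X.obj | D hr x < r} := fun r => by
    refine isOpen_compl_iff.1 (Points.isOpen_iff.2 fun V g => ?_)
    obtain ⟨_, _, _, _⟩ := hprops (hr.isPullback' g)
    have e : Points.ofPt g ⁻¹' {x : Points X.obj | D hr x < r}ᶜ = {v | r ≤ QfDeg.deg (hr.snd g).left v} :=
      Set.ext fun v => by
        show ¬ D hr (Points.ofPt g v) < r ↔ r ≤ QfDeg.deg (hr.snd g).left v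
        rw [not_lt, deg_eq_D X.property hb hr (hr.isPullback' g)]
    rw [e]
    exact QfDeg.isOpen_le_deg _ (fibLE_of_isPullback hb (hr.isPullback' g)) r
  choose Zs j hj using fun r => exists_reduced_induced X.property (hclosed r)
  let i : ∀ r, Zs r ⟶ X := fun r => ObjectProperty.homMk (j r)
  have hrange : ∀ r, Set.range (Points.map (i r).hom) = {x | D hr x < r} := fun r => (hj r).2.1
  refine ⟨n, Zs, i, fun r => by rw [hrange]; exact hj r, ⟨fun z => ?_⟩, ?_, fun r => ?_, ?_⟩
  · have h : Points.map (i 0).hom z ∈ {x : Points X.obj | D hr x < 0} := hrange 0 ▸ ⟨z, rfl⟩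
    exact Nat.not_lt_zero _ h
  · rw [hrange]
    refine Set.eq_univ_of_forall fun x => ?_
    exact Nat.lt_succ_of_le (QfDeg.deg_le (fibLE_of_isPullback hb (hr.isPullback' _)) _)
  · rw [hrange, hrange]
    exact fun x hx => Nat.lt_succ_of_lt hx
  intro r T g P fst snd sq
  rw [hrange, hrange]
  have hsnd : Representable snd := MorphismProperty.of_isPullback (P := Functor.relativelyRepresentable (yon S)) sq hr
  constructor
  · rintro hP _ ⟨x, rfl⟩
    obtain ⟨V, b, v, -, rfl⟩ := exists_ofPt_eq x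
    rw [Points.map_ofPt]
    have sqV : IsPullback (hsnd.fst b ≫ fst) ((yon S).map (hsnd.snd b)) w (b ≫ g.hom) :=
      (hsnd.isPullback b).paste_horiz sq
    have hP' : RepWith (finLocFreeOfDeg r) snd := hP
    obtain ⟨⟨_, _, _⟩, hdeg⟩ : finLocFreeOfDeg r (hsnd.snd b).left :=
      hP'.property _ _ _ (hsnd.isPullback b)
    have e : D hr (Points.ofPt (b ≫ g.hom) v) = r := by
      rw [← deg_eq_D X.property hb hr sqV, QfDeg.deg, Scheme.Hom.finrank_pullback_snd,
        Scheme.fromSpecResidueField_apply, hdeg]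
    exact ⟨show D hr _ < r + 1 by omega, show ¬ D hr _ < r by omega⟩
  · intro hP
    refine ⟨hsnd, fun V R b fstR p h => ?_⟩
    have sqV : IsPullback (fstR ≫ fst) ((yon S).map p) w (b ≫ g.hom) := h.paste_horiz sq
    obtain ⟨_, _, _, _⟩ := hprops sqV
    refine QfDeg.isFinLocFreeOfDeg_of_deg_eq _ (fibLE_of_isPullback hb sqV) r fun v => ?_
    rw [deg_eq_D X.property hb hr sqV]
    obtain ⟨h₁, h₂⟩ := hP ⟨Points.ofPt b v, Points.map_ofPt b g.hom v⟩
    have h₁' : D hr (Points.ofPt (b ≫ g.hom) v) < r + 1 := h₁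
    have h₂' : ¬ D hr (Points.ofPt (b ≫ g.hom) v) < r := h₂
    omega

end Groth.Agent.AlgSpDM.DegStrat
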