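import Groth.Agent.AlgSpDec.FinDeg
import Groth.Agent.AlgSpLib.Points
import Groth.Agent.CodimQf.Basic
import Groth.Agent.AlgSpPts.OpenSub
import Groth.Agent.AlgSpDec.PointsSpectral
import Groth.Agent.AlgSpDec.Fibres
import Groth.Agent.EtFound.Descent

/-!
# Points of codimension zero and bounds on geometric lifts
-/

set_option autoImplicit false
set_option backward.isDefEq.respectTransparency false
set_option backward.isDefEq.respectTransparency.types false
set_option maxHeartbeats 800000

universe u

open CategoryTheory CategoryTheory.Limits AlgebraicGeometry AlgSp Groth.Agent.AlgSpLib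

namespace Groth.Agent.AlgSpDM.DenseFin

/-- The minimal points of a scheme. -/
def minPts (U : Scheme.{u}) : Set ↥U := {u | Order.coheight u = 0}

/-- A point without generizations in the closure of an open set lies in it. -/
theorem mem_of_mem_closure {U : Scheme.{u}} (h : (minPts U).Finite) {A : Set ↥U} (hA : IsOpen A)
    {u : ↥U} (hu : u ∈ minPts U) (hc : u ∈ closure A) : u ∈ A := by
  have hsub : A ⊆ ⋃ m ∈ minPts U ∩ A, closure ({m} : Set ↥U) := fun z hz => by
    obtain ⟨g, hg, hg0⟩ := CodimQf.exists_coheight_zero_specializes z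
    exact Set.mem_iUnion₂.2 ⟨g, ⟨hg0, hg.mem_open hA hz⟩, hg.mem_closure⟩
  have hcl : IsClosed (⋃ m ∈ minPts U ∩ A, closure ({m} : Set ↥U)) :=
    (h.inter_of_left A).isClosed_biUnion fun m _ => isClosed_closure
  obtain ⟨m, ⟨hm, hmA⟩, hum⟩ := Set.mem_iUnion₂.1 (closure_minimal hsub hcl hc)
  rwa [← (CodimQf.coheight_eq_zero_iff u).1 hu m (specializes_iff_mem_closure.2 hum)]

variable {S : Scheme.{u}} {X : Sp S} {U : Over S} {a : (yon S).obj U ⟶ X}

theorem mem_of_mem_closure_points (ha : RepWith @Etale a) (h : (minPts U.left).Finite) {A : Set (Points X)}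
    (hA : IsOpen A) {u : ↥U.left} (hu : u ∈ minPts U.left) (hc : Points.ofPt a u ∈ closure A) :
    Points.ofPt a u ∈ A := by
  have hc' : u ∈ closure (Points.ofPt a ⁻¹' A) := by
    rw [← (isOpenMap_ofPt ha).preimage_closure_eq_closure_preimage (Points.continuous_ofPt a)]
    exact hc
  exact mem_of_mem_closure h (hA.preimage (Points.continuous_ofPt a)) hu hc'

/-- A point of codimension zero is not in the closure of other points with finitely many lifts to a chart. -/
theorem not_mem_closure_singleton (ha : RepWith @Etale a) {x' : Points X}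
    (hfin : (Points.ofPt a ⁻¹' {x'}).Finite) {u : ↥U.left} (hu : u ∈ minPts U.left)
    (hne : Points.ofPt a u ≠ x') : Points.ofPt a u ∉ closure ({x'} : Set (Points X)) := by
  intro hc
  have hc' : u ∈ closure (Points.ofPt a ⁻¹' {x'}) := by
    rw [← (isOpenMap_ofPt ha).preimage_closure_eq_closure_preimage (Points.continuous_ofPt a)]
    exact hc
  have hsub : closure (Points.ofPt a ⁻¹' {x'}) ⊆ ⋃ m ∈ Points.ofPt a ⁻¹' {x'}, closure ({m} : Set ↥U.left) :=
    closure_minimal (fun z hz => Set.mem_iUnion₂.2 ⟨z, hz, subset_closure rfl⟩)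
      (hfin.isClosed_biUnion fun m _ => isClosed_closure)
  obtain ⟨m, hm, hum⟩ := Set.mem_iUnion₂.1 (hsub hc')
  rw [← (CodimQf.coheight_eq_zero_iff u).1 hu m (specializes_iff_mem_closure.2 hum)] at hne
  exact hne hm

/-- Points of codimension zero with a common open subscheme have an affine open neighbourhood there. -/
theorem exists_affine_containing (hX : IsAlgSpace X) {T : Over S} {j : (yon S).obj T ⟶ X}
    (hj : RepWith @IsOpenImmersion j) {F : Set (Points X)} (hF : F.Finite)
    (hall : ∀ x, HasAt (fun U u => ringKrullDim ↥(U.presheaf.stalk u) = 0) X x → x ∈ F)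
    (hFj : ∀ x ∈ F, x ∈ Set.range (Points.ofPt j))
    (hsep : ∀ x ∈ F, ∀ x' ∈ F, x ≠ x' → x ∉ closure ({x'} : Set (Points X))) :
    ∃ W : T.left.Opens, IsAffineOpen W ∧ ∀ x ∈ F, x ∈ Points.ofPt j '' (W : Set ↥T.left) := by
  choose t ht using fun x : F => hFj x.1 x.2
  have hje : RepWith @Etale j :=
    repWith_mono (fun _ _ i (_ : IsOpenImmersion i) => inferInstanceAs (Etale i)) _ hj
  let O : F → T.left.Opens := fun x =>
    ⟨Points.ofPt j ⁻¹' (⋃ x' ∈ F \ {x.1}, closure ({x'} : Set (Points X)))ᶜ,
      (((hF.subset Set.diff_subset).isClosed_biUnion fun _ _ => isClosed_closure).isOpen_compl).preimage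
        (Points.continuous_ofPt j)⟩
  have htO : ∀ x : F, t x ∈ O x := fun x hx => by
    obtain ⟨x', ⟨hx', hne⟩, hc⟩ := Set.mem_iUnion₂.1 hx
    rw [ht x] at hc
    exact hsep x.1 x.2 x' hx' (Ne.symm hne) hc
  choose A hA htA hAO using fun x : F => exists_isAffineOpen_mem_and_subset (htO x)
  have : Finite F := hF.to_subtype
  refine ⟨⨆ x, A x, IsAffineOpen.iSup_of_disjoint hA fun x x' hne => ?_, fun x hx =>
    ⟨t ⟨x, hx⟩, TopologicalSpace.Opens.mem_iSup.2 ⟨⟨x, hx⟩, htA ⟨x, hx⟩⟩, ht ⟨x, hx⟩⟩⟩
  show Disjoint (A x) (A x')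
  refine disjoint_iff.2 (TopologicalSpace.Opens.ext ?_)
  rw [TopologicalSpace.Opens.coe_bot]
  refine Set.eq_empty_iff_forall_notMem.2 fun s hs => ?_
  obtain ⟨g, hg, hg0⟩ := CodimQf.exists_coheight_zero_specializes s
  have hgA : g ∈ A x ⊓ A x' := hg.mem_open (A x ⊓ A x').isOpen hs
  have hgF : Points.ofPt j g ∈ F := hall _ ((CodimQf.hasAt_codim_zero_iff hje g).2 hg0)
  have key : ∀ y : F, g ∈ A y → Points.ofPt j g = y.1 := fun y hy => by
    by_contra hne'
    exact hAO y hy (Set.mem_iUnion₂.2 ⟨_, ⟨hgF, hne'⟩, subset_closure rfl⟩)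
  exact hne (Subtype.ext ((key x hgA.1).symm.trans (key x' hgA.2)))

/-- The number of lifts of a field-valued point to a finite scheme over a field is bounded. -/
theorem exists_bound_of_finite {K : Type u} [Field K] {F : Scheme.{u}} (c : F ⟶ Spec (CommRingCat.of K))
    [IsFinite c] : ∃ d : ℕ, ∀ (Ω : Type u) [Field Ω] (g : Spec (CommRingCat.of Ω) ⟶ Spec (CommRingCat.of K))
      (n : ℕ) (l : Fin n → (Spec (CommRingCat.of Ω) ⟶ F)), Function.Injective l → (∀ i, l i ≫ c = g) → n ≤ d := by
  have : IsAffine F := isAffine_of_isAffineHom c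
  obtain ⟨B, _, _, e, he⟩ := AlgSpDec.exists_spec c
  have : Module.Finite K B := by
    have h : IsFinite (Spec.map (CommRingCat.ofHom (algebraMap K B))) :=
      (MorphismProperty.cancel_left_of_respectsIso @IsFinite e.hom _).1 (he ▸ ‹IsFinite c›)
    exact RingHom.finite_algebraMap.1 ((IsFinite.SpecMap_iff _).1 h)
  refine ⟨Module.finrank K B, fun Ω _ g n l hl hg => ?_⟩
  let : Algebra K Ω := (Spec.preimage g).hom.toAlgebra
  have hφ : ∀ i, (Spec.preimage (l i ≫ e.hom)).hom.comp (algebraMap K B) = algebraMap K Ω := fun i => by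
    have h : Spec.map (CommRingCat.ofHom (algebraMap K B) ≫ Spec.preimage (l i ≫ e.hom)) =
        Spec.map (Spec.preimage g) := by
      rw [Spec.map_comp, Spec.map_preimage, Spec.map_preimage, Category.assoc, he, hg]
    exact congrArg CommRingCat.Hom.hom (Spec.map_injective h)
  let ψ : Fin n → (B →ₐ[K] Ω) := fun i =>
    { (Spec.preimage (l i ≫ e.hom)).hom with commutes' := fun r => RingHom.congr_fun (hφ i) r }
  have hψ : Function.Injective ψ := fun i i' h => hl ((cancel_mono e.hom).1 (by
    rw [← Spec.map_preimage (l i ≫ e.hom), ← Spec.map_preimage (l i' ≫ e.hom)]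
    exact congrArg Spec.map (CommRingCat.hom_ext (RingHom.ext fun b => DFunLike.congr_fun h b))))
  have := Nat.card_le_card_of_injective ψ hψ
  rw [Nat.card_fin] at this
  exact this.trans (card_algHom_le_finrank K B Ω)

/-- A fibre with finitely many points of a quasi-compact morphism of finite type is finite. -/
theorem isFinite_fibre {U V : Scheme.{u}} (h : U ⟶ V) [LocallyOfFiniteType h] [QuasiCompact h] (v : ↥V)
    (hfin : (h ⁻¹' {v}).Finite) : IsFinite (pullback.snd h (V.fromSpecResidueField v)) := by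
  have : LocallyOfFiniteType (pullback.snd h (V.fromSpecResidueField v)) := inferInstance
  have : QuasiCompact (pullback.snd h (V.fromSpecResidueField v)) := inferInstance
  have : Finite ↥(h ⁻¹' {v}) := hfin.to_subtype
  have : Finite ↥(pullback h (V.fromSpecResidueField v)) :=
    Finite.of_equiv ↥(h ⁻¹' {v}) (h.fiberHomeo v).symm.toEquiv
  have : LocallyQuasiFinite (pullback.snd h (V.fromSpecResidueField v)) :=
    locallyQuasiFinite_iff_finite_preimage_singleton.2 fun _ => Set.toFinite _
  have : Subsingleton ↥(Spec (V.residueField v)) := inferInstanceAs (Subsingleton (PrimeSpectrum (V.residueField v)))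
  have := EtFound.fpqc_isFinite.{u}
  exact locallyQuasiFinite_iff_isFinite_fiber.1 ‹_› (IsLocalRing.closedPoint (V.residueField v)) |>
    fun h' => by
      have : IsFinite ((pullback.snd h (V.fromSpecResidueField v)).fiberToSpecResidueField
        (IsLocalRing.closedPoint (V.residueField v))) := h'
      exact (MorphismProperty.of_isPullback_of_descendsAlong (P := @IsFinite) (Q := @Surjective ⊓ @Flat ⊓ @QuasiCompact)
        (IsPullback.of_hasPullback _ _).flip
        ⟨⟨⟨fun _ => ⟨IsLocalRing.closedPoint _, Subsingleton.elim _ _⟩⟩, AlgSpDec.flat_toField _⟩,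
          quasiCompact_of_compactSpace _⟩ h')

end Groth.Agent.AlgSpDM.DenseFin
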