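import Groth.Agent.AlgSpDec.ArtinAffine
import Groth.Agent.AlgSpDec.LqfPiece
import Groth.Agent.AlgSpLib.Points

/-!
# Maps from quasi-compact schemes to quasi-separated spaces are quasi-compact
-/

set_option backward.isDefEq.respectTransparency false
set_option backward.isDefEq.respectTransparency.types false
set_option maxHeartbeats 800000

universe u

open CategoryTheory CategoryTheory.Limits AlgebraicGeometry AlgSp Groth.Agent.AlgSpLib Groth.Agent.AlgSpDec

namespace Groth.Agent.AlgSpDM

variable {S : Scheme.{u}} {X : Sp S} {U : Over S}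

theorem repWith_quasiCompact_of_qs [QuasiSeparatedSpace ↥S] (hX : IsQuasiSeparatedSp X) [CompactSpace ↥U.left]
    {a : (yon S).obj U ⟶ X} (ha : Representable a) : RepWith @QuasiCompact a := by
  refine ⟨ha, fun T P g fst snd sq => ?_⟩
  obtain ⟨fst, rfl⟩ := (yon S).map_surjective fst
  show QuasiCompact snd.left
  refine IsZariskiLocalAtTarget.of_forall_exists_morphismRestrict fun x => ?_
  obtain ⟨V, hV, hxV, -⟩ := exists_isAffineOpen_mem_and_subset (U := (⊤ : T.left.Opens)) (x := x) trivial
  refine ⟨V, hxV, ?_⟩
  have : IsAffine (openOver T V).left := hV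
  have h₁ := ((isPullback_openOverRes snd V).map (yon S)).paste_horiz sq
  rw [← (yon S).map_comp] at h₁
  exact quasiCompact_fibreProd hX h₁

end Groth.Agent.AlgSpDM
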