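import Groth.Agent.AlgSpDM.ConfigQuot
import Groth.Agent.AlgSpDec.EtaleBdd
import Groth.Agent.AlgSpPts.OpenSub
import Groth.Agent.AlgSpLib.LargestOpen
import Groth.Agent.AlgSpLib.ClosedImmDesc
import Groth.Agent.EtCount.Basic
import Groth.Agent.AlgSpPts.Imm
import Groth.Agent.AlgSpDM.AffChart
import Groth.Agent.AlgSpDM.QcChart
import Groth.Prelude.Def_AlgSpSub

/-!
# The filtration of a space by the number of points in geometric fibres of an etale chart
-/

set_option backward.isDefEq.respectTransparency false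
set_option backward.isDefEq.respectTransparency.types false
set_option maxHeartbeats 800000

universe u

open CategoryTheory CategoryTheory.Limits AlgebraicGeometry AlgSp Groth.Agent.AlgSpLib Groth.Agent.AlgSpPts

namespace Groth.Agent.AlgSpDM

variable {S : Scheme.{u}} {X : Sp S} {U : Over S}

/-- The geometric fibre over a point has at least `n` points. -/
def HasLifts (a : (yon S).obj U ⟶ X) (n : ℕ) (x : Points X) : Prop :=
  ∃ (K : Type u) (_ : Field K) (str : Spec (CommRingCat.of K) ⟶ S) (g : (yon S).obj (Over.mk str) ⟶ X)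
    (f : Fin n → (Over.mk str ⟶ U)),
    Function.Injective f ∧ (∀ i, (yon S).map (f i) ≫ a = g) ∧ Points.ofPt g (IsLocalRing.closedPoint K) = x

variable {a : (yon S).obj U ⟶ X}

theorem hasLifts_zero (x : Points X) : HasLifts a 0 x := by
  obtain ⟨q, rfl⟩ := Points.mk_surjective x
  exact ⟨q.K, inferInstance, q.str, q.toHom, Fin.elim0, fun i => i.elim0, fun i => i.elim0,
    Points.ofPt_toHom q _⟩

theorem HasLifts.of_succ {n : ℕ} {x : Points X} (h : HasLifts a (n + 1) x) : HasLifts a n x := by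
  obtain ⟨K, _, str, g, f, hf, hg, hx⟩ := h
  exact ⟨K, inferInstance, str, g, f ∘ Fin.castSucc, hf.comp (Fin.castSucc_injective n),
    fun i => hg _, hx⟩

theorem range_quotient {k : ℕ} (C : Config a (k + 1)) {V : Over S} {q : C.W ⟶ V} [Surjective q.left]
    {f : (yon S).obj V ⟶ X} (hf : (yon S).map q ≫ f = (yon S).map (C.π 0) ≫ a) :
    Set.range (Points.ofPt f) = {x | HasLifts a (k + 1) x} := by
  refine Set.Subset.antisymm ?_ ?_
  · rintro _ ⟨v, rfl⟩
    obtain ⟨w, rfl⟩ := q.left.surjective v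
    let str := C.W.left.fromSpecResidueField w ≫ C.W.hom
    let i : Over.mk str ⟶ C.W := Over.homMk (C.W.left.fromSpecResidueField w) rfl
    refine ⟨C.W.left.residueField w, inferInstance, str, (yon S).map i ≫ (yon S).map q ≫ f,
      fun j => i ≫ C.π j, fun j j' e => C.distinct w j j' (congrArg Over.Hom.left e), fun j => ?_, ?_⟩
    · rw [(yon S).map_comp, Category.assoc, C.w j 0, hf]
    · rw [← Category.assoc, ← (yon S).map_comp, ofPt_comp, Over.comp_left, Scheme.Hom.comp_apply]
      exact congrArg (fun z => Points.ofPt f (q.left z)) (Scheme.fromSpecResidueField_apply w _)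
  · rintro _ ⟨K, _, str, g, l, hl, hg, rfl⟩
    obtain ⟨m, hm, -⟩ := C.existsUnique l (fun i j => (hg i).trans (hg j).symm) (isDistinct_field hl)
    refine ⟨(m ≫ q).left (IsLocalRing.closedPoint K), ?_⟩
    rw [← ofPt_comp, (yon S).map_comp, Category.assoc, hf, ← Category.assoc, ← (yon S).map_comp, hm, hg]

/-- The number of lifts of a field-valued point to a quasi-compact etale scheme is bounded. -/
theorem exists_bound_of_etale {A B : Scheme.{u}} (f : A ⟶ B) [Etale f] [CompactSpace ↥A] :
    ∃ d : ℕ, ∀ (Ω : Type u) [Field Ω] (g : Spec (CommRingCat.of Ω) ⟶ B) (n : ℕ)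
      (l : Fin n → EtCount.Lifts f g), Function.Injective l → n ≤ d := by
  obtain ⟨d, hd⟩ := AlgSpDec.exists_degLE_of_etale f
  refine ⟨d, fun Ω _ g n l hl => ?_⟩
  let e : Spec (CommRingCat.of (AlgebraicClosure Ω)) ⟶ Spec (CommRingCat.of Ω) :=
    Spec.map (CommRingCat.ofHom (algebraMap Ω (AlgebraicClosure Ω)))
  have : Flat e := AlgSpDec.flat_toField (K := Ω) _
  have : Surjective e := ⟨fun p => ⟨IsLocalRing.closedPoint _, Subsingleton.elim _ _⟩⟩
  have := Flat.epi_of_flat_of_surjective e
  let l' : Fin n → EtCount.Lifts f (e ≫ g) := fun i => ⟨e ≫ (l i).1, by rw [Category.assoc, (l i).2]⟩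
  have hl' : Function.Injective l' := fun i j h =>
    hl (Subtype.ext ((cancel_epi e).1 (congrArg Subtype.val h)))
  obtain ⟨hfin, -, hcard⟩ := (hd (AlgebraicClosure Ω) (e ≫ g)).space
  have h1 : (n : ℕ∞) ≤ ENat.card ↥(pullback f (e ≫ g)) := by
    rw [← EtCount.card_lifts_eq_card_pullback]
    simpa using ENat.card_le_card_of_injective hl'
  rw [ENat.card_congr (pullbackSymmetry f (e ≫ g)).hom.homeomorph.toEquiv, ENat.card_eq_coe_natCard] at h1
  exact le_trans (by exact_mod_cast h1) hcard

/-- Over a point given by a quasi-compact field-valued point the number of lifts is bounded. -/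
theorem exists_not_hasLifts_of_qc_point (hX : IsAlgSpace X) (ha : RepWith @Etale a) [CompactSpace ↥U.left]
    {q : FieldPt X} (hq : RepWith @QuasiCompact q.toHom) : ∃ n, ¬ HasLifts a n (Points.mk q) := by
  have sqP : IsPullback ((yon S).map (ha.rep.fst' q.toHom)) ((yon S).map (ha.rep.snd q.toHom)) a q.toHom :=
    ha.rep.isPullback' q.toHom
  have : Etale (ha.rep.snd q.toHom).left := ha.property_snd q.toHom
  have : QuasiCompact (ha.rep.fst' q.toHom).left := hq.property _ _ _ sqP.flip
  have : CompactSpace ↥(ha.rep.pullback q.toHom).left :=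
    QuasiCompact.compactSpace_of_compactSpace (ha.rep.fst' q.toHom).left
  obtain ⟨d, hd⟩ := exists_bound_of_etale (ha.rep.snd q.toHom).left
  refine ⟨d + 1, ?_⟩
  rintro ⟨K, _, str, g, f, hf, hg, hx⟩
  have hgr : Representable g := representable_from_yon' hX g
  obtain ⟨z, -, -⟩ := exists_ofPt_of_eq (hgr.isPullback' q.toHom) (u := IsLocalRing.closedPoint K)
    (v := IsLocalRing.closedPoint q.K) (hx.trans (mk_eq_ofPt q))
  let R := hgr.pullback q.toHom
  let T : Over S := Over.mk (R.left.fromSpecResidueField z ≫ R.hom)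
  let i : T ⟶ R := Over.homMk (R.left.fromSpecResidueField z) rfl
  let p : T ⟶ Over.mk str := i ≫ hgr.fst' q.toHom
  let m : T ⟶ q.pt := i ≫ hgr.snd q.toHom
  have hpm : (yon S).map p ≫ g = (yon S).map m ≫ q.toHom := by
    rw [(yon S).map_comp, (yon S).map_comp, Category.assoc, Category.assoc, (hgr.isPullback' q.toHom).w]
  have : Flat p.left := AlgSpDec.flat_toField (K := K) _
  have : Surjective p.left := by
    have : Subsingleton ↥(Over.mk str).left := inferInstanceAs (Subsingleton (PrimeSpectrum K))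
    exact ⟨fun y => ⟨IsLocalRing.closedPoint _, Subsingleton.elim _ _⟩⟩
  have := Flat.epi_of_flat_of_surjective p.left
  have hw : ∀ j, (yon S).map (p ≫ f j) ≫ a = (yon S).map m ≫ q.toHom := fun j => by
    rw [(yon S).map_comp, Category.assoc, hg, hpm]
  choose r hr using fun j => (yon S).map_surjective (sqP.lift _ _ (hw j))
  have hr₁ : ∀ j, r j ≫ ha.rep.fst' q.toHom = p ≫ f j := fun j =>
    (yon S).map_injective (by rw [(yon S).map_comp, hr, sqP.lift_fst])
  have hr₂ : ∀ j, r j ≫ ha.rep.snd q.toHom = m := fun j =>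
    (yon S).map_injective (by rw [(yon S).map_comp, hr, sqP.lift_snd])
  have := hd (R.left.residueField z) m.left (d + 1)
    (fun j => ⟨(r j).left, congrArg Over.Hom.left (hr₂ j)⟩) fun j j' e => by
      refine hf (Over.OverMorphism.ext ((cancel_epi p.left).1 ?_))
      rw [← Over.comp_left, ← Over.comp_left, ← hr₁, ← hr₁, Over.comp_left, Over.comp_left]
      exact congrArg (· ≫ (ha.rep.fst' q.toHom).left) (congrArg Subtype.val e)
  omega

/-- For a quasi-compact chart the number of lifts is uniformly bounded. -/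
theorem exists_bound_hasLifts (ha : RepWith @Etale a) [CompactSpace ↥U.left] (hq : RepWith @QuasiCompact a) :
    ∃ n, ∀ x, ¬ HasLifts a (n + 1) x := by
  have sqR : IsPullback ((yon S).map (ha.rep.fst' a)) ((yon S).map (ha.rep.snd a)) a a := ha.rep.isPullback' a
  have : Etale (ha.rep.snd a).left := ha.property_snd a
  have : QuasiCompact (ha.rep.snd a).left := hq.property _ _ _ sqR
  have : CompactSpace ↥(ha.rep.pullback a).left :=
    QuasiCompact.compactSpace_of_compactSpace (ha.rep.snd a).left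
  obtain ⟨d, hd⟩ := exists_bound_of_etale (ha.rep.snd a).left
  refine ⟨d, ?_⟩
  rintro x ⟨K, _, str, g, f, hf, hg, -⟩
  have hw : ∀ j, (yon S).map (f j) ≫ a = (yon S).map (f 0) ≫ a := fun j => (hg j).trans (hg 0).symm
  choose r hr using fun j => (yon S).map_surjective (sqR.lift _ _ (hw j))
  have := hd K (f 0).left (d + 1) (fun j => ⟨(r j).left, congrArg Over.Hom.left
      (show r j ≫ ha.rep.snd a = f 0 from (yon S).map_injective (by rw [(yon S).map_comp, hr, sqR.lift_snd]))⟩)
    fun j j' e => by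
      refine hf ?_
      have h1 : ∀ j, r j ≫ ha.rep.fst' a = f j := fun j =>
        (yon S).map_injective (by rw [(yon S).map_comp, hr, sqR.lift_fst])
      rw [← h1 j, ← h1 j', show r j = r j' from Over.OverMorphism.ext (congrArg Subtype.val e)]
  omega

/-- A surjective open immersion is an isomorphism. -/
theorem isIso_of_openImmersion_surjective {A B : Scheme.{u}} (p : A ⟶ B) [IsOpenImmersion p] [Surjective p] :
    IsIso p :=
  have : Epi p.base := (TopCat.epi_iff_surjective _).2 p.surjective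
  IsOpenImmersion.isIso p

/-- An etale surjection which is injective on geometric points is an isomorphism. -/
theorem isIso_of_etale_of_lifts_eq {A B : Scheme.{u}} (p : A ⟶ B) [Etale p] [Surjective p]
    (h : ∀ (Ω : Type u) [Field Ω] [IsAlgClosed Ω] (l₁ l₂ : Spec (CommRingCat.of Ω) ⟶ A), l₁ ≫ p = l₂ ≫ p → l₁ = l₂) :
    IsIso p := by
  have hsur : Surjective (pullback.diagonal p) := ⟨fun z => by
    let Ω := AlgebraicClosure ((pullback p p).residueField z)
    let e : Spec (CommRingCat.of Ω) ⟶ pullback p p :=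
      Spec.map (CommRingCat.ofHom (algebraMap ((pullback p p).residueField z) Ω)) ≫
        (pullback p p).fromSpecResidueField z
    have he : e = (e ≫ pullback.fst p p) ≫ pullback.diagonal p := by
      apply pullback.hom_ext
      · simp
      · simp only [Category.assoc, pullback.diagonal_snd, Category.comp_id]
        exact (h Ω _ _ (by simp only [Category.assoc, pullback.condition])).symm
    refine ⟨(e ≫ pullback.fst p p) (IsLocalRing.closedPoint Ω), ?_⟩
    rw [← Scheme.Hom.comp_apply, ← he, Scheme.Hom.comp_apply]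
    exact Scheme.fromSpecResidueField_apply z _⟩
  have : IsOpenImmersion (pullback.diagonal p) := inferInstance
  have : IsIso (pullback.diagonal p) := isIso_of_openImmersion_surjective _
  have : Mono p := (pullback.isIso_diagonal_iff p).1 this
  have := IsOpenImmersion.of_flat_of_mono p
  exact isIso_of_openImmersion_surjective p

/-- Over points with exactly `k+1` geometric lifts the unordered configurations are an isomorphism. -/
theorem isIso_of_not_hasLifts {k : ℕ} (C : Config a (k + 1)) {V : Over S}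
    {q : C.W ⟶ V} [Surjective q.left] [Etale q.left] {f : (yon S).obj V ⟶ X}
    (hf : (yon S).map q ≫ f = (yon S).map (C.π 0) ≫ a) (hinv : ∀ σ, C.permHom σ ≫ q = q)
    {O T P : Sp S} (j : O ⟶ X) (f' : (yon S).obj V ⟶ O) (hfe : RepWith @Etale f') (hfs : RepWith @Surjective f')
    (hf' : f' ≫ j = f) (i : T ⟶ O) (hT : ∀ t, ¬ HasLifts a (k + 2) (Points.map (i ≫ j) t))
    (fst : P ⟶ T) (snd : P ⟶ (yon S).obj V) (sq : IsPullback fst snd i f') : IsIso fst := by
  refine (repWith_isomorphisms_iff fst).1 ⟨(repWith_of_isPullback sq.flip hfe).rep, fun B A b fb p h => ?_⟩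
  have : Etale p.left := (repWith_of_isPullback sq.flip hfe).property _ _ _ h
  have : Surjective p.left := (repWith_of_isPullback sq.flip hfs).property _ _ _ h
  show IsIso p.left
  obtain ⟨v, hv⟩ := (yon S).map_surjective (fb ≫ snd)
  have sqA : IsPullback ((yon S).map v) ((yon S).map p) f' (b ≫ i) := hv ▸ h.paste_horiz sq.flip
  refine isIso_of_etale_of_lifts_eq p.left fun Ω _ _ l₁ l₂ hl => ?_
  let str : Spec (CommRingCat.of Ω) ⟶ S := l₁ ≫ A.hom
  let L₁ : Over.mk str ⟶ A := Over.homMk l₁ rfl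
  let L₂ : Over.mk str ⟶ A := Over.homMk l₂ (by
    show l₂ ≫ A.hom = l₁ ≫ A.hom
    rw [← Over.w p, ← Category.assoc, ← hl, Category.assoc])
  have hL : L₁ ≫ p = L₂ ≫ p := Over.OverMorphism.ext hl
  -- lift to ordered configurations
  have hlift : ∀ L : Over.mk str ⟶ A, ∃ w : Over.mk str ⟶ C.W, w ≫ q = L ≫ v := fun L => by
    obtain ⟨w₀, hw₀⟩ := q.left.surjective ((L ≫ v).left (IsLocalRing.closedPoint Ω))
    obtain ⟨l, hl, -⟩ := Scheme.exists_fac_of_etale_of_isSepClosed q.left (L ≫ v).left w₀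
      (hw₀.trans (congrArg (L ≫ v).left (@Subsingleton.elim (PrimeSpectrum Ω) inferInstance _ _)))
    exact ⟨Over.homMk l (by rw [← Over.w q, ← Category.assoc, hl]; exact Over.w (L ≫ v)),
      Over.OverMorphism.ext hl⟩
  obtain ⟨w₁, hw₁⟩ := hlift L₁
  obtain ⟨w₂, hw₂⟩ := hlift L₂
  let g : (yon S).obj (Over.mk str) ⟶ X := (yon S).map (L₁ ≫ p) ≫ b ≫ i ≫ j
  have hg : ∀ (L : Over.mk str ⟶ A) (w : Over.mk str ⟶ C.W), w ≫ q = L ≫ v → L ≫ p = L₁ ≫ p →
      ∀ i', (yon S).map (w ≫ C.π i') ≫ a = g := fun L w hw hp i' => by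
    rw [(yon S).map_comp, Category.assoc, C.w i' 0, ← hf, ← Category.assoc, ← (yon S).map_comp, hw,
      ← hf', (yon S).map_comp, Category.assoc, ← Category.assoc ((yon S).map v), sqA.w, Category.assoc,
      Category.assoc, ← Category.assoc, ← (yon S).map_comp, hp]
  have hinj : ∀ w : Over.mk str ⟶ C.W, Function.Injective fun i' => w ≫ C.π i' := fun w i' i'' e =>
    C.distinct.comp w (IsLocalRing.closedPoint Ω) i' i''
      (congrArg (fun φ : Over.mk str ⟶ U => (Over.mk str).left.fromSpecResidueField _ ≫ φ.left) e)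
  -- the two tuples have the same members
  have hmem : ∀ i', ∃ i'', w₁ ≫ C.π i'' = w₂ ≫ C.π i' := by
    by_contra hne
    push Not at hne
    obtain ⟨i', hi'⟩ := hne
    let t : Points T := Points.map b (Points.map ((yon S).map (L₁ ≫ p)) (Points.ofScheme _ (IsLocalRing.closedPoint Ω)))
    refine hT t ⟨Ω, inferInstance, str, g, Fin.snoc (fun i'' => w₁ ≫ C.π i'') (w₂ ≫ C.π i'),
      Fin.snoc_injective_iff.2 ⟨hinj w₁, fun ⟨i'', h⟩ => hi' i'' h⟩, fun j' => ?_, ?_⟩
    · cases j' using Fin.lastCases with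
      | last => rw [Fin.snoc_last]; exact hg L₂ w₂ hw₂ hL.symm i'
      | cast j' => rw [Fin.snoc_castSucc]; exact hg L₁ w₁ hw₁ rfl j'
    · show Points.ofPt g _ = Points.map (i ≫ j) t
      rw [Points.ofPt_eq_map_ofScheme g, ← Points.map_comp, ← Points.map_comp]
  choose τ hτ using hmem
  have hτi : Function.Injective τ := fun x y e => hinj w₂ (by
    show w₂ ≫ C.π x = w₂ ≫ C.π y
    rw [← hτ, ← hτ, e])
  let σ : Equiv.Perm (Fin (k + 1)) := Equiv.ofBijective τ ⟨hτi, Finite.injective_iff_surjective.1 hτi⟩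
  have hσ : w₁ ≫ C.permHom σ = w₂ := C.hom_ext fun i' => by
    rw [Category.assoc, C.permHom_π]; exact hτ i'
  have hv' : L₁ ≫ v = L₂ ≫ v := by rw [← hw₁, ← hw₂, ← hσ, Category.assoc, hinv]
  have : L₁ = L₂ := (yon S).map_injective (sqA.hom_ext
    (by rw [← (yon S).map_comp, ← (yon S).map_comp, hv'])
    (by rw [← (yon S).map_comp, ← (yon S).map_comp, hL]))
  exact congrArg Over.Hom.left this

/-- The filtration by the number of geometric points in the fibres of an etale chart. -/
theorem exists_filtration (X : Space S) (a : (yon S).obj U ⟶ X.obj) (ha : RepWith @Etale a)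
    (has : RepWith @Surjective a) [IsAffine U.left] :
    ∃ (Uo : ℕ → Space S) (j : ∀ p, Uo p ⟶ X) (k : ∀ p, Uo (p + 1) ⟶ Uo p) (T : ℕ → Space S)
      (i : ∀ p, T p ⟶ Uo p),
      (∀ p, RepWith @IsOpenImmersion (j p).hom) ∧ (∀ p, k p ≫ j p = j (p + 1)) ∧ IsIso (j 1) ∧
      (∀ p, IsRedInduced (Set.range (Points.map (k p).hom))ᶜ (i p).hom) ∧
      (∀ p, Set.range (Points.map (j p).hom) = {x | HasLifts a p x}) ∧
      (∀ p, Set.range (Points.map ((i p) ≫ (j p)).hom) = {x | HasLifts a p x ∧ ¬ HasLifts a (p + 1) x}) ∧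
      ∀ p, 1 ≤ p → ∃ (V : Over S) (f : (yon S).obj V ⟶ (Uo p).obj), V.left.IsSeparated ∧
        (RepWith @QuasiCompact a → CompactSpace ↥V.left) ∧
        RepWith @Etale f ∧ RepWith @Surjective f ∧
        ∀ (P : Sp S) (fst : P ⟶ (T p).obj) (snd : P ⟶ (yon S).obj V),
          IsPullback fst snd (i p).hom f → IsIso fst := by
  have hcfg : ∀ k : ℕ, ∃ (C : Config a (k + 1)) (V : Over S) (q : C.W ⟶ V) (f : (yon S).obj V ⟶ X.obj),
      V.left.IsSeparated ∧ (RepWith @QuasiCompact a → CompactSpace ↥V.left) ∧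
      (yon S).map q ≫ f = (yon S).map (C.π 0) ≫ a ∧ RepWith @Etale f ∧
      Etale q.left ∧ Surjective q.left ∧ (∀ σ, C.permHom σ ≫ q = q) ∧
      Set.range (Points.ofPt f) = {x | HasLifts a (k + 1) x} := fun k => by
    obtain ⟨C⟩ := nonempty_config X.property ha k
    obtain ⟨V, q, f, h1, h2, h3, h4, h5, h6, h7⟩ := C.exists_quotient X.property ha
    exact ⟨C, V, q, f, h1, h2, h3, h4, h5, h6, h7, range_quotient C h3⟩
  have hopen : ∀ p, IsOpen {x : Points X.obj | HasLifts a p x} := fun p => by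
    cases p with
    | zero => simp only [hasLifts_zero, Set.ofPred_true]; exact isOpen_univ
    | succ k =>
      obtain ⟨_, _, _, f, -, -, -, hfe, -, -, -, hr⟩ := hcfg k
      rw [← hr, ← Set.image_univ]
      exact isOpenMap_ofPt hfe _ isOpen_univ
  choose Uo j hO hj hrange using fun p => exists_open_subspace X.property (hopen p)
  let U' : ℕ → Space S := fun p => ⟨Uo p, hO p⟩
  let j' : ∀ p, U' p ⟶ X := fun p => ObjectProperty.homMk (j p)
  choose k hk using fun p => exists_lift_openImmersion (hO (p + 1)) (hO p) X.property (hj p) (j (p + 1))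
    (by rw [hrange, hrange]; exact fun x hx => hx.of_succ)
  have hkr : ∀ p, (Set.range (Points.map (k p)))ᶜ = Points.map (j p) ⁻¹' {x | ¬ HasLifts a (p + 1) x} := fun p => by
    have hinj : Function.Injective (Points.map (j p)) := (isEmbedding_map X.property
      (repWith_mono (fun _ _ h hh => by
        have : IsOpenImmersion h := hh
        exact inferInstanceAs (IsImmersion h)) _ (hj p))).injective
    ext z
    show ¬ z ∈ Set.range (Points.map (k p)) ↔ ¬ HasLifts a (p + 1) (Points.map (j p) z)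
    refine not_congr ⟨?_, fun h => ?_⟩
    · rintro ⟨y, rfl⟩
      rw [← Points.map_comp, hk]
      exact (hrange (p + 1)).subset ⟨y, rfl⟩
    · obtain ⟨y, hy⟩ := (hrange (p + 1)).symm.subset h
      exact ⟨y, hinj (by rw [← Points.map_comp, hk, hy])⟩
  have hclosed : ∀ p, IsClosed (Set.range (Points.map (k p)))ᶜ := fun p => by
    rw [hkr]
    exact ((hopen (p + 1)).isClosed_compl).preimage (Points.continuous_map _)
  choose T i hi using fun p => AlgSpDec.exists_reduced_induced (hO p) (hclosed p)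
  have h1 : ∀ x, HasLifts a 1 x := fun x => by
    obtain ⟨u, rfl⟩ := surjective_ofPt has x
    let str := U.left.fromSpecResidueField u ≫ U.hom
    let l : Over.mk str ⟶ U := Over.homMk (U.left.fromSpecResidueField u) rfl
    refine ⟨_, inferInstance, str, (yon S).map l ≫ a, fun _ => l,
      Function.injective_of_subsingleton _, fun _ => rfl, ?_⟩
    rw [ofPt_comp]
    exact congrArg (Points.ofPt a) (Scheme.fromSpecResidueField_apply u _)
  have hiso : IsIso (j 1) := by
    have hs : RepWith @Surjective (j 1) := (repWith_surjective_iff (hj 1).rep).2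
      (Set.range_eq_univ.1 ((hrange 1).trans (Set.eq_univ_of_forall h1)))
    exact (repWith_isomorphisms_iff _).1 ⟨(hj 1).rep, fun V W g fst snd sq => by
      have : IsOpenImmersion snd.left := (hj 1).property _ _ _ sq
      have : Surjective snd.left := hs.property _ _ _ sq
      exact isIso_of_openImmersion_surjective snd.left⟩
  refine ⟨U', j', fun p => ObjectProperty.homMk (k p), T, fun p => ObjectProperty.homMk (i p), hj,
    fun p => ObjectProperty.hom_ext _ (hk p), ?_, hi, hrange, fun p => ?_, fun p hp => ?_⟩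
  · exact ⟨ObjectProperty.homMk (inv (j 1)), ObjectProperty.hom_ext _ (IsIso.hom_inv_id (j 1)),
      ObjectProperty.hom_ext _ (IsIso.inv_hom_id (j 1))⟩
  · show Set.range (Points.map (i p ≫ j p)) = _
    rw [show Points.map (i p ≫ j p) = Points.map (j p) ∘ Points.map (i p) from funext (Points.map_comp _ _),
      Set.range_comp, (hi p).2.1, hkr, Set.image_preimage_eq_inter_range, hrange]
    exact Set.inter_comm _ _
  obtain ⟨m, rfl⟩ : ∃ m, p = m + 1 := ⟨p - 1, by omega⟩
  obtain ⟨C, V, q, f, hsep, hcpt, hqf, hfe, _, _, hinv, hr⟩ := hcfg m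
  obtain ⟨f', hf'⟩ := exists_lift_openImmersion (IsAlgSpace.yon_obj V) (hO (m + 1)) X.property (hj (m + 1)) f (by
    rw [hrange, ← hr, ← (Points.schemeHomeo V).surjective.range_comp (Points.map f)]
    exact (congrArg Set.range (funext fun v => (Points.ofPt_eq_map_ofScheme f v).symm)).subset)
  have := AlgSpDec.mono_of_openImmersion (hj (m + 1))
  have hfe' : RepWith @Etale f' := repWith_of_isPullback (fst := 𝟙 _) (g := j (m + 1))
    ⟨⟨by rw [Category.id_comp, hf']⟩, ⟨PullbackCone.IsLimit.mk _ (fun s => s.fst)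
      (fun s => Category.comp_id _)
      (fun s => by rw [← cancel_mono (j (m + 1)), Category.assoc, hf', s.condition])
      (fun s l h _ => (Category.comp_id l).symm.trans h)⟩⟩ hfe
  have hfs' : RepWith @Surjective f' := (repWith_surjective_iff hfe'.rep).2 fun z => by
    have hz : Points.map (j (m + 1)) z ∈ Set.range (Points.ofPt f) := by
      rw [hr, ← hrange]; exact ⟨z, rfl⟩
    obtain ⟨v, hv⟩ := hz
    refine ⟨Points.ofScheme V v, ?_⟩
    have hinj : Function.Injective (Points.map (j (m + 1))) := (isEmbedding_map X.property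
      (repWith_mono (fun _ _ h hh => by
        have : IsOpenImmersion h := hh
        exact inferInstanceAs (IsImmersion h)) _ (hj _))).injective
    refine hinj ?_
    rw [← Points.map_comp, hf', ← Points.ofPt_eq_map_ofScheme, hv]
  refine ⟨V, f', hsep, hcpt, hfe', hfs', fun P fst snd sq => ?_⟩
  refine isIso_of_not_hasLifts C hqf hinv (j (m + 1)) f' hfe' hfs' hf' (i (m + 1)) (fun t => ?_) fst snd sq
  have ht : Points.map (i (m + 1)) t ∈ (Set.range (Points.map (k (m + 1))))ᶜ := (hi (m + 1)).2.1.subset ⟨t, rfl⟩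
  rw [hkr] at ht
  rw [Points.map_comp]
  exact ht

theorem hasLifts_one_of_isIso {X : Space S} {a : (yon S).obj U ⟶ X.obj} {O : Space S} {j : O ⟶ X}
    (hj : IsIso j) (hr : Set.range (Points.map j.hom) = {x | HasLifts a 1 x}) (x : Points X.obj) :
    HasLifts a 1 x := by
  refine hr.subset ⟨Points.map (inv j).hom x, ?_⟩
  rw [← Points.map_comp, ← ObjectProperty.FullSubcategory.comp_hom, IsIso.inv_hom_id]
  exact Points.map_id x

theorem exists_filtration_qc (X : Space S) (hX : IsQuasiCompactSp X.obj) :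
    ∃ (Uo : ℕ → Space S) (j : ∀ p, Uo p ⟶ X) (k : ∀ p, Uo (p + 1) ⟶ Uo p)
      (T : ℕ → Space S) (i : ∀ p, T p ⟶ Uo p),
      (∀ p, RepWith @IsOpenImmersion (j p).hom) ∧ (∀ p, k p ≫ j p = j (p + 1)) ∧ IsIso (j 1) ∧
      (∀ p, IsRedInduced (Set.range (Points.map (k p).hom))ᶜ (i p).hom) ∧
      (∀ p, 1 ≤ p → ∃ (V : Over S) (f : (yon S).obj V ⟶ (Uo p).obj), V.left.IsSeparated ∧
        RepWith @Etale f ∧ RepWith @Surjective f ∧
        ∀ (P : Sp S) (fst : P ⟶ (T p).obj) (snd : P ⟶ (yon S).obj V),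
          IsPullback fst snd (i p).hom f → IsIso fst) ∧
      (∀ x : Points X.obj, (∃ q : FieldPt X.obj, Points.mk q = x ∧ RepWith @QuasiCompact q.toHom) →
        ∃ p, 1 ≤ p ∧ x ∈ Set.range (Points.map ((i p) ≫ (j p)).hom)) := by
  classical
  obtain ⟨U, a, hU, ha, has⟩ := exists_affine_chart hX
  obtain ⟨Uo, j, k, T, i, hj, hk, hiso, hi, hr, hT, hV⟩ := exists_filtration X a ha has
  refine ⟨Uo, j, k, T, i, hj, hk, hiso, hi, fun p hp => ?_, ?_⟩
  · obtain ⟨V, f, h1, -, h2⟩ := hV p hp
    exact ⟨V, f, h1, h2⟩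
  rintro x ⟨q, rfl, hq⟩
  have hex : ∃ m, ¬ HasLifts a m (Points.mk q) := exists_not_hasLifts_of_qc_point X.property ha hq
  have h1 : HasLifts a 1 (Points.mk q) := hasLifts_one_of_isIso hiso (hr 1) _
  have h2 : 2 ≤ Nat.find hex := by
    by_contra hlt
    rcases (show Nat.find hex = 0 ∨ Nat.find hex = 1 by omega) with h | h
    · exact Nat.find_spec hex (h ▸ hasLifts_zero _)
    · exact Nat.find_spec hex (h ▸ h1)
  refine ⟨Nat.find hex - 1, by omega, ?_⟩
  rw [hT]
  refine ⟨not_not.1 (Nat.find_min hex (by omega)), ?_⟩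
  rw [show Nat.find hex - 1 + 1 = Nat.find hex by omega]
  exact Nat.find_spec hex

theorem exists_filtration_qcqs [QuasiSeparatedSpace ↥S] (X : Space S)
    (hqc : IsQuasiCompactSp X.obj) (hqs : IsQuasiSeparatedSp X.obj) :
    ∃ (n : ℕ) (Uo : ℕ → Space S) (j : ∀ p, Uo p ⟶ X) (k : ∀ p, Uo (p + 1) ⟶ Uo p)
      (T : ℕ → Space S) (i : ∀ p, T p ⟶ Uo p),
      (∀ p, RepWith @IsOpenImmersion (j p).hom) ∧ (∀ p, k p ≫ j p = j (p + 1)) ∧ IsIso (j 1) ∧
      IsEmpty (Points (Uo (n + 1)).obj) ∧
      (∀ p, IsRedInduced (Set.range (Points.map (k p).hom))ᶜ (i p).hom) ∧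
      (∀ p, 1 ≤ p → ∃ (V : Over S) (f : (yon S).obj V ⟶ (Uo p).obj), V.left.IsSeparated ∧ CompactSpace ↥V.left ∧
        RepWith @Etale f ∧ RepWith @Surjective f ∧
        ∀ (P : Sp S) (fst : P ⟶ (T p).obj) (snd : P ⟶ (yon S).obj V),
          IsPullback fst snd (i p).hom f → IsIso fst) := by
  obtain ⟨U, a, hU, ha, has⟩ := exists_affine_chart hqc
  have hq : RepWith @QuasiCompact a := repWith_quasiCompact_of_qs hqs ha.rep
  obtain ⟨Uo, j, k, T, i, hj, hk, hiso, hi, hr, hT, hV⟩ := exists_filtration X a ha has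
  obtain ⟨n, hn⟩ := exists_bound_hasLifts ha hq
  refine ⟨n, Uo, j, k, T, i, hj, hk, hiso, ⟨fun z => hn _ ((hr (n + 1)).subset ⟨z, rfl⟩)⟩, hi, fun p hp => ?_⟩
  obtain ⟨V, f, h1, h2, h3⟩ := hV p hp
  exact ⟨V, f, h1, h2 hq, h3⟩

end Groth.Agent.AlgSpDM
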