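import Groth.Agent.AlgSpDM.DenseFiniteAux
import Groth.Agent.AlgSpDM.Filtration
import Groth.Agent.AlgSpDec.DenseSubscheme
import Groth.Agent.AlgSpDec.LqfPiece
import Groth.Agent.FinNhd.Basic
import Groth.Agent.AlgSpDec.MonoPoint
import Groth.Agent.S10197

/-!
# Finiteness over a neighbourhood of the minimal points of an affine base
-/

set_option autoImplicit false
set_option backward.isDefEq.respectTransparency false
set_option backward.isDefEq.respectTransparency.types false
set_option maxHeartbeats 800000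

universe u

open CategoryTheory CategoryTheory.Limits AlgebraicGeometry AlgSp Groth.Agent.AlgSpLib Groth.Agent.AlgSpPts
  Groth.Agent.AlgSpDec

namespace Groth.Agent.AlgSpDM.DenseFin

variable {S : Scheme.{u}} (X : Space S) {V : Over S}

theorem ofScheme_injective (V : Over S) : Function.Injective (Points.ofScheme V) :=
  (Points.schemeHomeo V).injective

theorem ofPt_map {T : Over S} (h : T ⟶ V) (t : ↥T.left) :
    Points.ofPt ((yon S).map h) t = Points.ofScheme V (h.left t) :=
  (congrArg (Points.ofPt · t) (Category.comp_id _).symm).trans (ofPt_comp h (𝟙 _) t)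

/-- Each point over a minimal point has an open subscheme neighbourhood. -/
theorem exists_subscheme_nhd {U : Over S} [IsAffine U.left] {a : (yon S).obj U ⟶ X.obj} (ha : RepWith @Etale a)
    (has : RepWith @Surjective a) (hUfin : (minPts U.left).Finite) (g : X.obj ⟶ (yon S).obj V) (h : U ⟶ V)
    (w : a ≫ g = (yon S).map h) [LocallyOfFiniteType h.left] [QuasiCompact h.left] {u : ↥U.left}
    (hu : u ∈ minPts U.left) (hfin : (h.left ⁻¹' {h.left u}).Finite) :
    ∃ (T : Over S) (j : (yon S).obj T ⟶ X.obj), RepWith @IsOpenImmersion j ∧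
      Points.ofPt a u ∈ Set.range (Points.map j) := by
  classical
  -- the number of lifts is bounded
  have : IsFinite (pullback.snd h.left (V.left.fromSpecResidueField (h.left u))) := isFinite_fibre h.left _ hfin
  obtain ⟨d, hd⟩ := exists_bound_of_finite (pullback.snd h.left (V.left.fromSpecResidueField (h.left u)))
  have hno : ¬ HasLifts a (d + 1) (Points.ofPt a u) := by
    rintro ⟨K, _, str, g₀, f, hf, hg, hx⟩
    let φ : Over.mk str ⟶ V := f 0 ≫ h
    have hfh : ∀ i, f i ≫ h = φ := fun i => (yon S).map_injective (by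
      rw [(yon S).map_comp, (yon S).map_comp, ← w, ← Category.assoc, ← Category.assoc, hg i, hg 0])
    have hpt : φ.left (IsLocalRing.closedPoint K) = h.left u := by
      have e : Points.ofPt ((yon S).map φ) (IsLocalRing.closedPoint K) = Points.ofPt ((yon S).map h) u := by
        rw [show (yon S).map φ = g₀ ≫ g by rw [(yon S).map_comp, ← w, ← Category.assoc, hg 0],
          ← Points.map_ofPt, hx, Points.map_ofPt, w]
      rw [ofPt_map, ofPt_map] at e
      exact ofScheme_injective V e
    have : Subsingleton ↥(Over.mk str).left := inferInstanceAs (Subsingleton (PrimeSpectrum K))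
    have : IsReduced (Over.mk str).left := inferInstanceAs (IsReduced (Spec (CommRingCat.of K)))
    obtain ⟨l, hl⟩ := exists_factor_residueField φ.left (h.left u) fun s => by
      rw [Subsingleton.elim s (IsLocalRing.closedPoint K)]; exact hpt
    have hw : ∀ i, (f i).left ≫ h.left = l ≫ V.left.fromSpecResidueField (h.left u) := fun i => by
      rw [hl, ← Over.comp_left, hfh]
    have := hd K l (d + 1) (fun i => pullback.lift (f i).left l (hw i)) (fun i i' e => hf (Over.OverMorphism.ext (by
      rw [← pullback.lift_fst (f i).left l (hw i), ← pullback.lift_fst (f i').left l (hw i')]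
      exact congrArg (· ≫ pullback.fst _ _) e))) fun i => pullback.lift_snd _ _ _
    omega
  have h1 : HasLifts a 1 (Points.ofPt a u) := by
    let str := U.left.fromSpecResidueField u ≫ U.hom
    let l : Over.mk str ⟶ U := Over.homMk (U.left.fromSpecResidueField u) rfl
    refine ⟨_, inferInstance, str, (yon S).map l ≫ a, fun _ => l,
      Function.injective_of_subsingleton _, fun _ => rfl, ?_⟩
    rw [ofPt_comp]
    exact congrArg (Points.ofPt a) (Scheme.fromSpecResidueField_apply u _)
  have hex : ∃ m, ¬ HasLifts a m (Points.ofPt a u) := ⟨_, hno⟩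
  have h2 : 2 ≤ Nat.find hex := by
    by_contra hlt
    rcases (show Nat.find hex = 0 ∨ Nat.find hex = 1 by omega) with h' | h'
    · exact Nat.find_spec hex (h' ▸ hasLifts_zero _)
    · exact Nat.find_spec hex (h' ▸ h1)
  obtain ⟨k, hk⟩ : ∃ k, Nat.find hex = k + 2 := ⟨Nat.find hex - 2, by omega⟩
  have hlow : HasLifts a (k + 1) (Points.ofPt a u) := not_not.1 (Nat.find_min hex (by omega))
  have hhigh : ¬ HasLifts a (k + 2) (Points.ofPt a u) := hk ▸ Nat.find_spec hex
  -- the unordered configurations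
  obtain ⟨C⟩ := nonempty_config X.property ha k
  obtain ⟨V', q, f, -, -, hqf, hfe, hqe, hqs, hinv⟩ := C.exists_quotient X.property ha
  have hr := range_quotient C hqf
  obtain ⟨C'⟩ := nonempty_config X.property ha (k + 1)
  obtain ⟨V'', q', f'', -, -, hqf', hfe'', -, hqs', -⟩ := C'.exists_quotient X.property ha
  have hopen' : IsOpen {x | HasLifts a (k + 2) x} := by
    rw [← range_quotient C' hqf', ← Set.image_univ]; exact isOpenMap_ofPt hfe'' _ isOpen_univ
  have hopen : IsOpen ({x | HasLifts a (k + 1) x} ∩ (closure {x | HasLifts a (k + 2) x})ᶜ) := by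
    refine IsOpen.inter ?_ isClosed_closure.isOpen_compl
    rw [← hr, ← Set.image_univ]; exact isOpenMap_ofPt hfe _ isOpen_univ
  obtain ⟨O, j, hO, hj, hjr⟩ := exists_open_subspace X.property hopen
  obtain ⟨O₁, j₁, hO₁, hj₁, hj₁r⟩ := exists_open_subspace X.property
    (show IsOpen (Set.range (Points.ofPt f)) by rw [← Set.image_univ]; exact isOpenMap_ofPt hfe _ isOpen_univ)
  obtain ⟨f', hf'⟩ := AlgSpDec.exists_factor_open hj₁ f fun v => hj₁r.symm ▸ ⟨v, rfl⟩
  have := AlgSpDec.mono_of_openImmersion hj₁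
  have hfe' : RepWith @Etale f' := by
    refine repWith_of_isPullback (fst := 𝟙 _) (g := j₁) ?_ hfe
    exact ⟨⟨by rw [Category.id_comp, hf']⟩, ⟨PullbackCone.IsLimit.mk _ (fun s => s.fst)
      (fun s => Category.comp_id _)
      (fun s => by rw [← cancel_mono j₁, Category.assoc, hf', s.condition])
      (fun s l h _ => (Category.comp_id l).symm.trans h)⟩⟩
  have hfs' : RepWith @Surjective f' := (repWith_surjective_iff hfe'.rep).2 fun z => by
    obtain ⟨v, hv⟩ : Points.map j₁ z ∈ Set.range (Points.ofPt f) := hj₁r ▸ ⟨z, rfl⟩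
    refine ⟨Points.ofScheme V' v, (isOpenEmbedding_map' X.property hj₁).injective ?_⟩
    rw [← Points.map_comp, hf', ← Points.ofPt_eq_map_ofScheme, hv]
  obtain ⟨i, hi⟩ := exists_lift_openImmersion hO hO₁ X.property hj₁ j (by
    rw [hjr, hj₁r, hr]; exact Set.inter_subset_left)
  have hio : RepWith @IsOpenImmersion i := by
    refine repWith_of_isPullback (fst := 𝟙 _) (g := j₁) ?_ hj
    exact ⟨⟨by rw [Category.id_comp, hi]⟩, ⟨PullbackCone.IsLimit.mk _ (fun s => s.fst)
      (fun s => Category.comp_id _)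
      (fun s => by rw [← cancel_mono j₁, Category.assoc, hi, s.condition])
      (fun s l h _ => (Category.comp_id l).symm.trans h)⟩⟩
  have sq := hio.rep.isPullback f'
  have : IsIso (hio.rep.fst f') := isIso_of_not_hasLifts C hqf hinv j₁ f' hfe' hfs' hf' i (fun t ht => by
    have h' : Points.map j t ∈ (closure {x | HasLifts a (k + 2) x})ᶜ := (hjr.subset ⟨t, rfl⟩).2
    rw [hi] at ht
    exact h' (subset_closure ht)) _ _ sq
  refine ⟨hio.rep.pullback f', hio.rep.fst f' ≫ j, repWith_comp (repWith_of_isIso _ _) hj, ?_⟩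
  obtain ⟨z, hz⟩ : Points.ofPt a u ∈ Set.range (Points.map j) :=
    hjr.symm ▸ ⟨hlow, fun hc => hhigh (mem_of_mem_closure_points ha hUfin hopen' hu hc)⟩
  exact ⟨Points.map (inv (hio.rep.fst f')) z, by
    rw [← Points.map_comp, IsIso.inv_hom_id_assoc, hz]⟩

/-- A quasi-compact space of finite type over an affine scheme whose points of codimension zero are those over
the finitely many minimal points is finite over a neighbourhood of the minimal points. -/
theorem exists_finite_over_minPts [IsAffine V.left] (g : X.obj ⟶ (yon S).obj V) (hqc : IsQuasiCompactSp X.obj)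
    (hV : (minPts V.left).Finite)
    (hlft : ∀ (U : Over S) (a : (yon S).obj U ⟶ X.obj) (h : U ⟶ V), RepWith @Etale a → a ≫ g = (yon S).map h →
      LocallyOfFiniteType h.left)
    (hpre : ∀ (U : Over S) (a : (yon S).obj U ⟶ X.obj) (h : U ⟶ V), RepWith @Etale a → a ≫ g = (yon S).map h →
      ∀ u, u ∈ minPts U.left ↔ h.left u ∈ minPts V.left) :
    ∃ (V₁ : V.left.Opens) (TV : Over S) (g' : TV ⟶ openOver V V₁) (m : (yon S).obj TV ⟶ X.obj),
      minPts V.left ⊆ (V₁ : Set ↥V.left) ∧ IsFinite g'.left ∧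
        IsPullback m ((yon S).map g') g ((yon S).map (openOverι V V₁)) := by
  obtain ⟨U, a, hU, ha, has⟩ := CartierRegular.exists_affine_atlas X.property hqc
  obtain ⟨h, hh⟩ := (yon S).map_surjective (a ≫ g)
  have hhl : LocallyOfFiniteType h.left := hlft U a h ha hh.symm
  have : QuasiCompact h.left := inferInstance
  have hmin := hpre U a h ha hh.symm
  have hfib : ∀ v ∈ minPts V.left, (h.left ⁻¹' {v}).Finite := fun v hv => by
    refine (FieldFibre.finite_qf_points h.left v).subset fun u hu => ⟨hu, ?_⟩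
    refine CodimQf.fibreDimAt_eq_zero_of_max h.left fun z z' hz hz' => ?_
    have hz0 : z ∈ minPts U.left := (hmin z).2 (by rw [hz, show h.left u = v from hu]; exact hv)
    exact (CodimQf.coheight_eq_zero_iff z).1 hz0 z' hz'
  have hUfin : (minPts U.left).Finite := by
    refine (hV.biUnion fun v hv => hfib v hv).subset fun u hu => ?_
    exact Set.mem_iUnion₂.2 ⟨h.left u, (hmin u).1 hu, rfl⟩
  -- the codimension zero points
  let F : Set (Points X.obj) := Points.ofPt a '' minPts U.left
  have hall : ∀ x, HasAt (fun U u => ringKrullDim ↥(U.presheaf.stalk u) = 0) X.obj x → x ∈ F := fun x hx => by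
    obtain ⟨u, rfl⟩ := surjective_ofPt has x
    exact ⟨u, (CodimQf.hasAt_codim_zero_iff ha u).1 hx, rfl⟩
  have hag : ∀ u, Points.map g (Points.ofPt a u) = Points.ofScheme V (h.left u) := fun u => by
    rw [Points.map_ofPt, ← hh]; exact ofPt_map h u
  -- the largest open subscheme
  obtain ⟨X', j₀, hj₀, hrep, hmax⟩ := Groth.Agent.S10197.result X
  obtain ⟨T, ⟨r⟩⟩ := hrep.has_representation
  let e : (yon S).obj T ≅ X'.obj := AlgSp.isoOfRepresentableBy r
  let j : (yon S).obj T ⟶ X.obj := e.hom ≫ j₀.hom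
  have hj : RepWith @IsOpenImmersion j := repWith_comp (repWith_of_isIso _ _) hj₀
  have hrange : Set.range (Points.ofPt j) = Set.range (Points.map j) := by
    rw [← (Points.schemeHomeo T).surjective.range_comp (Points.map j)]
    exact congrArg Set.range (funext fun t => Points.ofPt_eq_map_ofScheme j t)
  obtain ⟨W, hW, hFW⟩ := exists_affine_containing X.property hj (hUfin.image _) hall (by
    rintro _ ⟨u, hu, rfl⟩
    obtain ⟨T', t, ht, hx⟩ := exists_subscheme_nhd X ha has hUfin g h hh.symm hu (hfib _ ((hmin u).1 hu))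
    obtain ⟨z, hz⟩ := mem_range_of_openImm j₀ hmax t ht hx
    rw [hrange]
    exact ⟨Points.map e.inv z, by rw [← Points.map_comp, e.inv_hom_id_assoc, hz]⟩) (by
    rintro _ ⟨u, hu, rfl⟩ _ ⟨u', hu', rfl⟩ hne
    refine not_mem_closure_singleton ha ?_ hu hne
    refine (hfib _ ((hmin u').1 hu')).subset fun z hz => ofScheme_injective V ?_
    rw [← hag, ← hag]
    exact congrArg (Points.map g) hz)
  let WO : Over S := openOver T W
  let jW : (yon S).obj WO ⟶ X.obj := (yon S).map (openOverι T W) ≫ j
  have hjW : RepWith @IsOpenImmersion jW :=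
    repWith_comp ((repWith_yon_map_iff _ _).2 (inferInstanceAs (IsOpenImmersion W.ι))) hj
  have : IsAffine WO.left := hW
  have hjWe : RepWith @Etale jW :=
    repWith_mono (fun _ _ i (_ : IsOpenImmersion i) => inferInstanceAs (Etale i)) _ hjW
  obtain ⟨gW, hgW⟩ := (yon S).map_surjective (jW ≫ g)
  have : LocallyOfFiniteType gW.left := hlft WO jW gW hjWe hgW.symm
  have hWmin := hpre WO jW gW hjWe hgW.symm
  have hjWr : Set.range (Points.map jW) = Points.ofPt j '' (W : Set ↥T.left) := by
    rw [← (Points.schemeHomeo WO).surjective.range_comp (Points.map jW),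
      show Points.map jW ∘ Points.schemeHomeo WO = Points.ofPt j ∘ (openOverι T W).left from funext fun t =>
        ((Points.ofPt_eq_map_ofScheme jW t).symm.trans (ofPt_comp _ j t)), Set.range_comp]
    exact congrArg _ (Scheme.Opens.range_ι W)
  have hFr : ∀ u, u ∈ minPts U.left → Points.ofPt a u ∈ Set.range (Points.map jW) :=
    fun u hu => hjWr.symm ▸ hFW _ ⟨u, hu, rfl⟩
  -- avoid the closed complement
  let C : Set ↥U.left := (Points.ofPt a ⁻¹' Set.range (Points.map jW))ᶜ
  have hC : IsClosed C :=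
    ((isOpenEmbedding_map' X.property hjW).isOpen_range.preimage (Points.continuous_ofPt a)).isClosed_compl
  have key : ∀ v : minPts V.left, ∃ O : V.left.Opens, v.1 ∈ O ∧ (∀ u ∈ C, h.left u ∉ O) ∧ IsFinite (gW.left ∣_ O) := by
    rintro ⟨v, hv⟩
    have hv' : ∀ v' : ↥V.left, v' ⤳ v → v' = v := (CodimQf.coheight_eq_zero_iff v).1 hv
    obtain ⟨W₁, hvW₁, hW₁⟩ := FinNhd.exists_open_avoid h.left hv' hC fun u hu hu' =>
      hu (hFr u ((hmin u).2 (hu'.symm ▸ hv)))
    have hη : v ∈ genericPoints V.left := FinNhd.mem_genericPoints hv'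
    have hfin : (gW.left ⁻¹' {v}).Finite := by
      refine (FieldFibre.finite_qf_points gW.left v).subset fun t ht => ⟨ht, ?_⟩
      refine CodimQf.fibreDimAt_eq_zero_of_max gW.left fun z z' hz hz' => ?_
      have hz0 : z ∈ minPts WO.left := (hWmin z).2 (by rw [hz, show gW.left t = v from ht]; exact hv)
      exact (CodimQf.coheight_eq_zero_iff z).1 hz0 z' hz'
    obtain ⟨V₂, -, hvV₂, -, hfin₂⟩ := MorLib.GenFinite.exists_isFinite gW.left hη hfin
      (fun x hx => MorLib.GenFinite.exists_open_of_finite_fibre gW.left hfin x hx)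
      (fun V₀ hV₀ hη₀ U₁ U₂ h₁ h₂ e₁ e₂ hne => MorLib.GenFinite.exists_avoid_inf gW.left hη hV₀ hη₀ h₁ h₂ e₁ e₂ hne)
      ⊤ trivial
    refine ⟨V₂ ⊓ W₁, ⟨hvV₂, hvW₁⟩, fun u hu hu' => hW₁ u hu hu'.2, ?_⟩
    have : IsFinite (gW.left ∣_ V₂ ∣_ (V₂.ι ⁻¹ᵁ W₁)) := IsZariskiLocalAtTarget.restrict hfin₂ _
    have h' := (MorphismProperty.arrow_mk_iso_iff @IsFinite
      (morphismRestrictRestrict gW.left V₂ (V₂.ι ⁻¹ᵁ W₁))).1 this
    have e' : V₂.ι ''ᵁ (V₂.ι ⁻¹ᵁ W₁) = V₂ ⊓ W₁ := by
      rw [Scheme.Hom.image_preimage_eq_opensRange_inf, Scheme.Opens.opensRange_ι]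
    exact e' ▸ h'
  choose O hvO hOC hOfin using key
  let V₁ : V.left.Opens := ⨆ v, O v
  have hfinV₁ : IsFinite (gW.left ∣_ V₁) := MorLib.GenFinite.isFinite_iSup gW.left O hOfin
  have hcov : ∀ z : Points X.obj, Points.map g z ∈ Points.ofScheme V '' (V₁ : Set ↥V.left) →
      z ∈ Set.range (Points.map jW) := fun z hz => by
    obtain ⟨u, rfl⟩ := surjective_ofPt has z
    obtain ⟨w', hw', he⟩ := hz
    rw [hag] at he
    obtain ⟨v, hv⟩ := TopologicalSpace.Opens.mem_iSup.1 (ofScheme_injective V he ▸ hw' : h.left u ∈ V₁)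
    by_contra hn
    exact hOC v u hn hv
  let TV : Over S := openOver WO (gW.left ⁻¹ᵁ V₁)
  let g' : TV ⟶ openOver V V₁ := openOverRes gW V₁
  have sqT := (isPullback_openOverRes gW V₁).map (yon S)
  refine ⟨V₁, TV, g', (yon S).map (openOverι WO (gW.left ⁻¹ᵁ V₁)) ≫ jW, fun v hv =>
    TopologicalSpace.Opens.mem_iSup.2 ⟨⟨v, hv⟩, hvO ⟨v, hv⟩⟩, hfinV₁, ?_⟩
  have hmono := mono_of_openImmersion hjW
  have hQ : IsAlgSpace (pullback g ((yon S).map (openOverι V V₁))) :=
    isAlgSpace_pullback X.property (IsAlgSpace.yon_obj _) (IsAlgSpace.yon_obj _) _ _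
  obtain ⟨ψ, hψ⟩ := FinNhd.exists_factor_open_space hjW hQ (pullback.fst g ((yon S).map (openOverι V V₁))) fun z => by
    refine hcov _ ?_
    rw [← Points.map_comp, pullback.condition, Points.map_comp]
    obtain ⟨q, hq⟩ := (Points.schemeHomeo (openOver V V₁)).surjective
      (Points.map (pullback.snd g ((yon S).map (openOverι V V₁))) z)
    refine ⟨(openOverι V V₁).left q, q.2, ?_⟩
    rw [← hq]
    exact (ofPt_map _ q).symm.trans
      ((congrArg (Points.ofPt · q) (Category.id_comp _).symm).trans (Points.map_ofPt _ _ _).symm)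
  refine IsPullback.of_isLimit' ⟨by rw [Category.assoc, ← hgW, sqT.w]⟩ ?_
  exact PullbackCone.IsLimit.mk _
    (fun c => sqT.lift (pullback.lift c.fst c.snd c.condition ≫ ψ) c.snd (by
      rw [hgW, Category.assoc, ← Category.assoc ψ, hψ, pullback.lift_fst_assoc, c.condition]))
    (fun c => by rw [← Category.assoc, sqT.lift_fst, Category.assoc, hψ, pullback.lift_fst])
    (fun c => sqT.lift_snd _ _ _)
    fun c m h1 h2 => sqT.hom_ext ((cancel_mono jW).1 (by
      rw [sqT.lift_fst, Category.assoc, Category.assoc, hψ, pullback.lift_fst, h1])) (by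
      rw [sqT.lift_snd, h2])

end Groth.Agent.AlgSpDM.DenseFin
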