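import Groth.Agent.AlgSpDM.SplitPiece
import Groth.Agent.AlgSpDM.DenseFinite
import Groth.Agent.IntCover.Cover
import Groth.Agent.RelNorm.Sigma
import Groth.Agent.AlgSpDec.Basic
import Groth.Agent.S10394

/-!
# A dense open subscheme over which an etale chart is split by a finite etale covering
-/

set_option autoImplicit false
set_option backward.isDefEq.respectTransparency false
set_option backward.isDefEq.respectTransparency.types false
set_option maxHeartbeats 800000

universe u

open CategoryTheory CategoryTheory.Limits AlgebraicGeometry AlgSp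
open Groth.Agent.AlgSpLib Groth.Agent.AlgSpPts Groth.Agent.AlgSpDec Groth.Agent.RelNorm
open Groth.Agent.AlgSpDM.DenseFin Groth.Agent.AlgSpDM.SplitCover

namespace Groth.Agent.AlgSpDM.SplitCover

theorem SplitOver.of_cover {R V W : Scheme.{u}} {r : R ⟶ V} {w : W ⟶ V}
    (h : ∀ x : ↥W, ∃ (W' : Scheme.{u}) (j : W' ⟶ W), IsOpenImmersion j ∧ x ∈ Set.range j ∧ SplitOver r (j ≫ w)) :
    SplitOver r w := by
  intro z
  obtain ⟨W', j, _, hx, hs⟩ := h (pullback.snd r w z)
  obtain ⟨x', hx'⟩ := hx
  let κ : pullback r (j ≫ w) ⟶ pullback r w :=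
    pullback.lift (pullback.fst _ _) (pullback.snd _ _ ≫ j) (by rw [Category.assoc]; exact pullback.condition)
  have sq : IsPullback κ (pullback.snd r (j ≫ w)) (pullback.snd r w) j := by
    refine IsPullback.of_right ?_ (pullback.lift_snd _ _ _) (IsPullback.of_hasPullback r w)
    rw [pullback.lift_fst]
    exact IsPullback.of_hasPullback r (j ≫ w)
  have : IsOpenImmersion κ := MorphismProperty.of_isPullback (P := @IsOpenImmersion) sq.flip ‹_›
  obtain ⟨z', hz', -⟩ := Scheme.exists_preimage_of_isPullback sq z x' hx'.symm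
  obtain ⟨O, hzO, hO⟩ := hs z'
  refine ⟨(O.ι ≫ κ).opensRange, ⟨⟨z', hzO⟩, hz'⟩, ?_⟩
  have e : (O.ι ≫ κ) ≫ pullback.snd r w = (O.ι ≫ pullback.snd r (j ≫ w)) ≫ j := by
    rw [Category.assoc, sq.w, Category.assoc]
  rw [← Scheme.Hom.isoOpensRange_inv_comp, Category.assoc, e]
  infer_instance

end Groth.Agent.AlgSpDM.SplitCover

namespace Groth.Agent.AlgSpDM.DenseSplit

variable {S : Scheme.{u}}

/-- A decent space with finitely many irreducible components has finitely many points of codimension zero. -/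
theorem finite_cz {X : Sp S} (hX : IsAlgSpace X) (hd : IsDecent X)
    (hirr : (irreducibleComponents (Points X)).Finite) : {x | CZ X x}.Finite := by
  have := t0Space_points hX hd
  have := quasiSober_points hX hd
  have key : ∀ x : Points X, CZ X x → closure {x} ∈ irreducibleComponents (Points X) := fun x hx => by
    obtain ⟨T, hT, hxT⟩ := (Groth.Agent.S10394.result ⟨X, hX⟩ hd x).2 hx
    exact hxT.def.symm ▸ hT
  exact Set.Finite.of_finite_image (f := fun x => closure ({x} : Set (Points X)))
    (hirr.subset (Set.image_subset_iff.2 fun x hx => key x hx))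
    fun x _ y _ h => (isGenericPoint_closure (x := x)).eq ((isGenericPoint_closure (x := y)).def.trans h.symm)

/-- A finite etale covering of a dense affine open splitting a given affine etale chart. -/
theorem exists_dense_split [QuasiSeparatedSpace ↥S] {X : Sp S} (hX : IsAlgSpace X) (hqs : IsQuasiSeparatedSp X)
    (hX0 : {x | CZ X x}.Finite) {U' : Over S} [IsAffine U'.left] {φ : (yon S).obj U' ⟶ X}
    (hφ : RepWith @Etale φ) (hφs : RepWith @Surjective φ) :
    ∃ (U W : Over S) (jU : (yon S).obj U ⟶ X) (w : W ⟶ U), RepWith @IsOpenImmersion jU ∧ IsAffine U.left ∧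
      Dense (Set.range (Points.map jU)) ∧ IsAffine W.left ∧ IsFinite w.left ∧ Etale w.left ∧ Surjective w.left ∧
      (minPts W.left).Finite ∧ SepMin W.left ∧
      ∀ (P : Over S) (a : (yon S).obj P ⟶ (yon S).obj U') (π : P ⟶ W),
        IsPullback a ((yon S).map π) φ ((yon S).map w ≫ jU) →
          ∀ z : ↥P.left, ∃ O : P.left.Opens, z ∈ O ∧ IsOpenImmersion (O.ι ≫ π.left) := by
  have hd := isDecent_of_isQuasiSeparatedSp hX hqs
  obtain ⟨V, c, hV, hc, hcr⟩ := exists_affine_dense (Y := ⟨X, hX⟩) hd hX0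
  have hce : RepWith @Etale c := repWith_etale_of_openImmersion hc
  let R := hφ.rep.pullback c
  let r : R ⟶ V := hφ.rep.snd c
  have sqR : IsPullback (hφ.rep.fst c) ((yon S).map r) φ c := hφ.rep.isPullback c
  have hre : Etale r.left := hφ.property_snd c
  have hcinj : Function.Injective (Points.ofPt c) := fun v v' h => by
    rw [Points.ofPt_eq_map_ofScheme c v, Points.ofPt_eq_map_ofScheme c v'] at h
    exact (Points.schemeHomeo V).injective ((isOpenEmbedding_map' hX hc).injective h)
  have hVfin : (minPts V.left).Finite :=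
    (hX0.preimage hcinj.injOn).subset fun v hv => (CodimQf.hasAt_codim_zero_iff hce v).2 hv
  obtain ⟨V₁, TV, g', m, hV₁, hfin, sq⟩ := exists_finite_over_minPts ⟨_, IsAlgSpace.yon_obj R⟩ ((yon S).map r)
    ((Groth.Agent.IntCover.qcqs_of_affine hX hqs φ).1 (IsAlgSpace.yon_obj V) (AlgSpLib.isQuasiCompactSp_yon V) c _ _ sqR) hVfin
    (fun U a h ha w => by
      obtain ⟨a', rfl⟩ := (yon S).map_surjective a
      have : Etale a'.left := (repWith_yon_map_iff _ _).1 ha
      rw [← Functor.map_comp] at w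
      rw [← (yon S).map_injective w, Over.comp_left]
      infer_instance)
    (fun U a h ha w u => by
      obtain ⟨a', rfl⟩ := (yon S).map_surjective a
      have : Etale a'.left := (repWith_yon_map_iff _ _).1 ha
      rw [← Functor.map_comp] at w
      have : Etale h.left := by rw [← (yon S).map_injective w, Over.comp_left]; infer_instance
      show Order.coheight u = 0 ↔ Order.coheight (h.left u) = 0
      rw [AlgSpPts.coheight_eq_of_etale h.left u])
  have : IsFinite (r.left ∣_ V₁) := by
    obtain ⟨m', rfl⟩ := (yon S).map_surjective m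
    have sq' : IsPullback m'.left g'.left r.left (openOverι V V₁).left :=
      (IsPullback.of_map (yon S) ((yon S).map_injective (by simpa using sq.w)) sq).map (Over.forget S)
    have h2 := (isPullback_morphismRestrict r.left V₁).flip
    rw [show r.left ∣_ V₁ = (h2.isoIsPullback _ _ sq').hom ≫ g'.left from (h2.isoIsPullback_hom_snd _ _ sq').symm]
    infer_instance
  have hp : ∀ v : {v // v ∈ minPts V.left}, _ := fun v => exists_piece r.left hVfin v.2 (hV₁ v.2)
  choose A hAaff hvA hAone hAV Wv wv hWaff hwf hwe hws hWfin hWsep hsplit using hp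
  let Tv : {v // v ∈ minPts V.left} → Over S := fun v => openOver V (A v)
  let Nv : {v // v ∈ minPts V.left} → Over S := fun v => Over.mk (wv v ≫ (A v).ι ≫ V.hom)
  let U := sigmaOver Tv
  let W := sigmaOver Nv
  let ιV : U ⟶ V := Over.homMk (Sigma.desc fun v => (A v).ι) (by
    apply Sigma.hom_ext
    intro v
    change Sigma.ι _ v ≫ Sigma.desc _ ≫ V.hom = Sigma.ι _ v ≫ Sigma.desc _
    rw [Sigma.ι_desc_assoc, Sigma.ι_desc]
    rfl)
  let w : W ⟶ U := Over.homMk (Sigma.desc fun v => wv v ≫ (sigmaι Tv v).left) (by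
    apply Sigma.hom_ext
    intro v
    change Sigma.ι _ v ≫ Sigma.desc _ ≫ U.hom = Sigma.ι _ v ≫ Sigma.desc _
    rw [Sigma.ι_desc_assoc, Sigma.ι_desc, Category.assoc, Over.w (sigmaι Tv v)]
    rfl)
  have hιV : ∀ v, (sigmaι Tv v).left ≫ ιV.left = (A v).ι := fun v => Sigma.ι_desc _ v
  have hw : ∀ v, sigmaι Nv v ≫ w = (Over.homMk (wv v) rfl : Nv v ⟶ Tv v) ≫ sigmaι Tv v := fun v =>
    Over.OverMorphism.ext (Sigma.ι_desc _ v)
  have sqw : ∀ v, IsPullback (sigmaι Nv v).left (wv v) w.left (sigmaι Tv v).left := fun v => (isPullback_sigmaMap (fun v => (Over.homMk (wv v) rfl : Nv v ⟶ Tv v)) hw v).map (Over.forget S)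
  have hprop : ∀ (Q : MorphismProperty Scheme.{u}) [IsZariskiLocalAtTarget Q], (∀ v, Q (wv v)) → Q w.left := by
    intro Q _ hQ
    rw [IsZariskiLocalAtTarget.iff_of_openCover (P := Q) (sigmaOpenCover fun v => (Tv v).left)]
    intro v
    exact (MorphismProperty.cancel_left_of_respectsIso Q (sqw v).isoPullback.hom _).1
      (by show Q ((sqw v).isoPullback.hom ≫ pullback.snd w.left (sigmaι Tv v).left)
          rw [(sqw v).isoPullback_hom_snd]; exact hQ v)
  have : IsOpenImmersion ιV.left := by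
    have hdis : Pairwise (Function.onFun Disjoint fun v => Set.range (A v).ι) := fun v v' hne => by
      refine Set.disjoint_left.2 fun a ha ha' => hne ?_
      simp only [Scheme.Opens.range_ι] at ha ha'
      obtain ⟨v₀, h₁, h₀⟩ := CodimQf.exists_coheight_zero_specializes a
      exact Subtype.ext ((hAone v v₀ h₀ (h₁.mem_open (A v).2 ha)).symm.trans
        (hAone v' v₀ h₀ (h₁.mem_open (A v').2 ha')))
    exact isOpenImmersion_sigmaDesc _ _ hdis
  have : Finite {v // v ∈ minPts V.left} := hVfin.to_subtype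
  have hUaff : IsAffine U.left := by
    have : ∀ v, IsAffine (Tv v).left := hAaff
    exact inferInstanceAs (IsAffine (∐ fun v => (Tv v).left))
  have hNaff : IsAffine W.left := by
    have : ∀ v, IsAffine (Nv v).left := hWaff
    exact inferInstanceAs (IsAffine (∐ fun v => (Nv v).left))
  have hmin : ∀ v (x : ↥(Nv v).left), Order.coheight ((sigmaι Nv v).left x) = Order.coheight x := fun v x =>
    (AlgSpPts.coheight_eq_of_etale (sigmaι Nv v).left x).symm
  let jU : (yon S).obj U ⟶ X := (yon S).map ιV ≫ c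
  refine ⟨U, W, jU, w, repWith_comp ((repWith_yon_map_iff _ _).2 ‹IsOpenImmersion ιV.left›) hc, hUaff, ?_, hNaff,
    hprop @IsFinite hwf, hprop @Etale hwe, hprop @Surjective hws, ?_, ?_, ?_⟩
  · refine dense_iff_inter_open.2 fun O hO ⟨y₀, hy₀⟩ => ?_
    obtain ⟨y, hy, hyO, -⟩ := exists_cz_generization hX hO hy₀
    obtain ⟨v, rfl⟩ := hcr y hy
    have hv : v ∈ minPts V.left := (CodimQf.hasAt_codim_zero_iff hce v).1 hy
    refine ⟨_, hyO, Points.ofScheme U ((sigmaι Tv ⟨v, hv⟩).left ⟨v, hvA _⟩), ?_⟩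
    show Points.map jU _ = _
    rw [← Points.ofPt_eq_map_ofScheme, ofPt_comp, ← Scheme.Hom.comp_apply, hιV]
    rfl
  · refine (Set.finite_iUnion fun v => (hWfin v).image (sigmaι Nv v).left).subset fun x hx => ?_
    obtain ⟨v, t, rfl⟩ := exists_sigmaι Nv x
    exact Set.mem_iUnion.2 ⟨v, t, (hmin v t).symm.trans hx, rfl⟩
  · intro x₁ x₂ z h₁ h₂ s₁ s₂
    obtain ⟨v, t, rfl⟩ := exists_sigmaι Nv z
    obtain ⟨t₁, rfl⟩ := s₁.mem_open (sigmaι Nv v).left.isOpenEmbedding.isOpen_range ⟨t, rfl⟩
    obtain ⟨t₂, rfl⟩ := s₂.mem_open (sigmaι Nv v).left.isOpenEmbedding.isOpen_range ⟨t, rfl⟩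
    have hi := (sigmaι Nv v).left.isOpenEmbedding.isInducing
    rw [hWsep v t₁ t₂ t ((hmin v t₁).symm.trans h₁) ((hmin v t₂).symm.trans h₂) (hi.specializes_iff.1 s₁)
      (hi.specializes_iff.1 s₂)]
  · intro P a π sqP z
    have hrs : SplitOver r.left (w ≫ ιV).left := SplitOver.of_cover fun x => by
      obtain ⟨v, t, rfl⟩ := exists_sigmaι Nv x
      refine ⟨(Nv v).left, (sigmaι Nv v).left, inferInstance, ⟨t, rfl⟩, ?_⟩
      rw [Over.comp_left, ← Category.assoc, ← Over.comp_left, hw, Over.comp_left, Category.assoc, hιV]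
      exact hsplit v
    obtain ⟨l, hl⟩ := (yon S).map_surjective (sqR.lift a ((yon S).map (π ≫ w ≫ ιV))
      (by rw [sqP.w, Functor.map_comp, Functor.map_comp, Category.assoc, Category.assoc]))
    have sql : IsPullback ((yon S).map l) ((yon S).map π) ((yon S).map r) ((yon S).map (w ≫ ιV)) := by
      refine IsPullback.of_right ?_ (by rw [hl, sqR.lift_snd, Functor.map_comp]) sqR
      rw [hl, sqR.lift_fst, Functor.map_comp, Category.assoc]
      exact sqP
    have sql' : IsPullback l.left π.left r.left (w ≫ ιV).left :=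
      (IsPullback.of_map (yon S) ((yon S).map_injective (by simpa using sql.w)) sql).map (Over.forget S)
    obtain ⟨O, hzO, hO⟩ := hrs (sql'.isoPullback.hom z)
    refine ⟨sql'.isoPullback.hom ⁻¹ᵁ O, hzO, ?_⟩
    rw [show (sql'.isoPullback.hom ⁻¹ᵁ O).ι ≫ π.left =
        (sql'.isoPullback.hom ⁻¹ᵁ O).ι ≫ sql'.isoPullback.hom ≫ pullback.snd _ _ by rw [sql'.isoPullback_hom_snd],
      ← reassoc_of% (isPullback_morphismRestrict sql'.isoPullback.hom O).w]
    infer_instance

end Groth.Agent.AlgSpDM.DenseSplit
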