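import Groth.Agent.AlgSpDec.AffineRep
import Groth.Agent.AlgSpPts.Univ
import Groth.Prelude.Def_AlgSp4

/-!
# Dimension functions descend along finite surjective morphisms
-/

set_option autoImplicit false
set_option backward.isDefEq.respectTransparency false
set_option backward.isDefEq.respectTransparency.types false
set_option maxHeartbeats 800000

universe u

open CategoryTheory CategoryTheory.Limits AlgebraicGeometry AlgSp Groth.Agent.AlgSpLib Groth.Agent.AlgSpPts
  Groth.Agent.AlgSpDec

namespace Groth.Agent.AlgSpDM.DimFunDescend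

variable {S : Scheme.{u}} {X Y : Space S} (f : Y ⟶ X)

theorem of_comp (hf : IsFiniteMor f.hom) (hs : IsSurjectiveMor f.hom) (δ : Points X.obj → ℤ)
    (hδ : ∀ a b : Points Y.obj, a ⤳ b → a ≠ b →
      (δ ∘ Points.map f.hom) b < (δ ∘ Points.map f.hom) a ∧
      ((∀ c : Points Y.obj, a ⤳ c → c ⤳ b → c = a ∨ c = b) →
        (δ ∘ Points.map f.hom) a = (δ ∘ Points.map f.hom) b + 1))
    (a b : Points X.obj) (hab : a ⤳ b) (hne : a ≠ b) :
    δ b < δ a ∧ ((∀ c : Points X.obj, a ⤳ c → c ⤳ b → c = a ∨ c = b) → δ a = δ b + 1) := by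
  have hcm : IsClosedMap (Points.map f.hom) := isClosedMap_map
    (repWith_mono (fun _ _ e (_ : IsFinite e) => inferInstanceAs (UniversallyClosed e)) _
      (isFiniteMor_iff_repWith.1 hf))
  have hfib : ∀ y y' : Points Y.obj, y ⤳ y' → Points.map f.hom y = Points.map f.hom y' → y = y' := fun y y' h e => by
    by_contra hne'
    have := (hδ y y' h hne').1
    simp only [Function.comp_apply, e] at this
    exact lt_irrefl _ this
  obtain ⟨a', rfl⟩ := hs a
  have hb : b ∈ Points.map f.hom '' closure {a'} :=
    (show closure {Points.map f.hom a'} ⊆ Points.map f.hom '' closure {a'} from closure_minimal (Set.singleton_subset_iff.2 ⟨a', subset_closure rfl, rfl⟩) (hcm _ isClosed_closure))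
      (specializes_iff_mem_closure.1 hab)
  obtain ⟨b', hb', rfl⟩ := hb
  have hsp : a' ⤳ b' := specializes_iff_mem_closure.2 hb'
  obtain ⟨h1, h2⟩ := hδ a' b' hsp fun e => hne (by rw [e])
  refine ⟨h1, fun himm => h2 fun c hac hcb => ?_⟩
  rcases himm _ (hac.map (Points.continuous_map f.hom)) (hcb.map (Points.continuous_map f.hom)) with e | e
  · exact Or.inl (hfib a' c hac e.symm).symm
  · exact Or.inr (hfib c b' hcb e)

end Groth.Agent.AlgSpDM.DimFunDescend
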