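import Groth.Agent.AlgSpPts.Dim
import Groth.Agent.AlgSpDec.AffineRep
import Groth.Agent.GrpSchLib.FieldDim

/-!
# Dimension and integral morphisms
-/

set_option backward.isDefEq.respectTransparency false
set_option backward.isDefEq.respectTransparency.types false

universe u

open CategoryTheory CategoryTheory.Limits AlgebraicGeometry AlgSp Order Groth.Agent.AlgSpLib
  Groth.Agent.AlgSpPts

namespace Groth.Agent.AlgSpDM

theorem coheight_le_of_isIntegralHom {A B : Scheme.{u}} (f : A ⟶ B) [IsIntegralHom f] (a : A) :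
    coheight a ≤ coheight (f a) := by
  refine coheight_le_coheight_apply_of_strictMono (f : ↥A → ↥B) (fun x y hxy => ?_) a
  obtain ⟨h1, h2⟩ := lt_iff_le_not_ge.1 hxy
  refine lt_iff_le_not_ge.2 ⟨(show y ⤳ x from h1).map f.continuous, fun h => h2 ?_⟩
  rw [GrpSchLib.eq_of_specializes_of_isIntegralHom f (show y ⤳ x from h1)
    (((show y ⤳ x from h1).map f.continuous).antisymm (show f x ⤳ f y from h)).eq]

theorem exists_series_lift {A B : Scheme.{u}} (f : A ⟶ B) [IsIntegralHom f] [Surjective f] (l : LTSeries B) :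
    ∃ m : LTSeries A, m.length = l.length ∧ f m.head = l.head := by
  induction l using RelSeries.inductionOn with
  | singleton b =>
    obtain ⟨a, rfl⟩ := f.surjective b
    exact ⟨RelSeries.singleton _ a, rfl, rfl⟩
  | cons l b hb ih =>
    obtain ⟨m, hm, hh⟩ := ih
    have hsp : l.head ⤳ b := (show b < l.head from hb).le
    have hcl : b ∈ f '' closure {m.head} := by
      refine (f.isClosedMap _ isClosed_closure).closure_subset ?_
      exact closure_mono (Set.singleton_subset_iff.2 (show l.head ∈ f '' closure {m.head} from ⟨_, subset_closure rfl, hh⟩)) hsp.mem_closure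
    obtain ⟨a, ha, hab⟩ := hcl
    have hlt : a < m.head := lt_iff_le_not_ge.2 ⟨specializes_iff_mem_closure.2 ha, fun e => by
      refine (lt_iff_le_not_ge.1 (show b < l.head from hb)).2 ?_
      rw [← hab, ← hh]
      exact (show a ⤳ m.head from e).map f.continuous⟩
    exact ⟨m.cons a hlt, by simp [hm], by simp [hab]⟩

variable {S : Scheme.{u}} {X Y : Space S}

theorem dim_le_of_integral (f : X ⟶ Y) (hf : IsIntegralMor f.hom) : AlgSp.dim X.obj ≤ AlgSp.dim Y.obj := by
  have h := AlgSpDec.isIntegralMor_iff_repWith.1 hf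
  obtain ⟨V, b, hb, hbs⟩ := Y.property.atlas
  have sq := h.rep.isPullback b
  have he : RepWith @Etale (h.rep.fst b) := repWith_of_isPullback sq.flip hb
  have : IsIntegralHom (h.rep.snd b).left := h.property_snd b
  refine dim_le_iff.2 fun U a ha u => ?_
  obtain ⟨v, hv⟩ := surjective_ofPt hbs (Points.map f.hom (Points.ofPt a u))
  obtain ⟨z, hz, -⟩ := exists_point_of_isPullback sq (x := Points.ofPt a u) (y := Points.ofScheme V v)
    (by rw [← hv, Points.ofPt_eq_map_ofScheme b v])
  obtain ⟨w, rfl⟩ := (Points.schemeHomeo (h.rep.pullback b)).surjective z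
  have hw : Points.ofPt (h.rep.fst b) w = Points.ofPt a u :=
    (Points.ofPt_eq_map_ofScheme _ w).trans hz
  rw [← coheight_eq_of_charts he ha hw]
  exact le_trans (WithBot.coe_le_coe.2 (coheight_le_of_isIntegralHom (h.rep.snd b).left w)) (coheight_le_dim hb _)

theorem dim_le_of_integral_surjective (f : X ⟶ Y) (hf : IsIntegralMor f.hom) (hs : IsSurjectiveMor f.hom) :
    AlgSp.dim Y.obj ≤ AlgSp.dim X.obj := by
  have h := AlgSpDec.isIntegralMor_iff_repWith.1 hf
  have hsr : RepWith @Surjective f.hom := repWith_surjective_of_surjective h.rep hs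
  refine iSup₂_le fun V b => iSup_le fun hb => ?_
  have he : RepWith @Etale (h.rep.fst b) := repWith_of_isPullback (h.rep.isPullback b).flip hb
  have : IsIntegralHom (h.rep.snd b).left := h.property_snd b
  have : Surjective (h.rep.snd b).left := hsr.property _ _ _ (h.rep.isPullback b)
  refine le_trans ?_ (le_iSup₂_of_le _ (h.rep.fst b) (le_iSup_of_le he le_rfl))
  rw [topologicalKrullDim_eq_krullDim, topologicalKrullDim_eq_krullDim]
  refine iSup_le fun l => ?_
  obtain ⟨m, hm, -⟩ := exists_series_lift (h.rep.snd b).left l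
  exact le_iSup_of_le m (by rw [hm])

end Groth.Agent.AlgSpDM
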