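import Groth.Agent.AlgSpDM.GenFinite
import Groth.Agent.AlgSpDec.FieldFibre
import Groth.Agent.AlgSpPts.Dim
import Groth.Agent.DimFormula.Fibre
import Groth.Agent.DimFormula.Jacobson

/-!
# Dimension of integral spaces over a dominated one
-/

set_option autoImplicit false
set_option backward.isDefEq.respectTransparency false
set_option backward.isDefEq.respectTransparency.types false
set_option maxHeartbeats 800000

universe u

open CategoryTheory CategoryTheory.Limits AlgebraicGeometry AlgSp Order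
open Groth.Agent.AlgSpLib Groth.Agent.AlgSpPts Groth.Agent.AlgSpDec Groth.Agent.AlgSpDM.DenseFin

namespace Groth.Agent.AlgSpDM.DimTrdeg

attribute [local instance] specializationOrder

theorem rd_congr' {S : Scheme.{u}} {F G : Sp S} {f : F ⟶ G} {U V : Over S} {a : (yon S).obj U ⟶ F}
    {b : (yon S).obj V ⟶ G} {h : U ⟶ V} [LocallyOfFiniteType h.left] (ha : RepWith @Etale a) (hb : RepWith @Etale b)
    (w : a ≫ f = (yon S).map h ≫ b) {u u' : ↥U.left} (he : Points.ofPt a u = Points.ofPt a u') :
    FibDim.rd h.left u = FibDim.rd h.left u' := by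
  have := ResTrdeg.rdeg_congr ha hb w ha hb w he
  rw [← FibDim.rd_eq_rdeg, ← FibDim.rd_eq_rdeg] at this
  exact_mod_cast this

theorem length_add_coheight_le {α : Type*} [Preorder α] (l : LTSeries α) :
    (l.length : ℕ∞) + coheight l.last ≤ coheight l.head := by
  induction l using RelSeries.inductionOn with
  | singleton x => simp
  | cons l x hx ih =>
    rw [RelSeries.head_cons, RelSeries.last_cons, RelSeries.cons_length, Nat.cast_add, Nat.cast_one,
      add_right_comm]
    exact le_trans (add_le_add ih le_rfl) (coheight_add_one_le (show x < l.head from hx))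

/-- A point of relative degree `d` has a specialisation in its fibre of codimension larger by `d`. -/
theorem exists_coheight_add_rd {U V : Scheme.{u}} (h : U ⟶ V) [LocallyOfFiniteType h] (z : U) :
    ∃ u : U, coheight z + (FibDim.rd h z : ℕ∞) ≤ coheight u := by
  have hd := FibDim.dim_closure_inter_fibre h z
  let T : Set U := closure {z} ∩ h ⁻¹' {h z}
  let e : ↥((h.fiberι (h z)) ⁻¹' closure {z}) ≃ₜ ↥T :=
    ((h.fiberι (h z)).isEmbedding.homeomorphImage _).trans (Homeomorph.setCongr (by
      rw [Set.image_preimage_eq_inter_range, Scheme.Hom.range_fiberι]))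
  have : QuasiSober ↥((h.fiberι (h z)) ⁻¹' closure {z}) :=
    (isClosed_closure.preimage (h.fiberι (h z)).continuous).isClosedEmbedding_subtypeVal.quasiSober
  have : QuasiSober ↥T := e.symm.isClosedEmbedding.quasiSober
  change topologicalKrullDim ↥T = _ at hd
  rw [DimFormula.topologicalKrullDim_subset] at hd
  obtain ⟨m, hm⟩ : ∃ m : LTSeries ↥T, m.length = FibDim.rd h z := by
    have : Nonempty ↥T := ⟨⟨z, subset_closure rfl, rfl⟩⟩
    exact (le_krullDim_iff (α := ↥T)).1 hd.ge
  let m' : LTSeries U := m.map (fun t => t.1) fun a b hab => hab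
  refine ⟨m'.head, ?_⟩
  have h1 : coheight z ≤ coheight m'.last :=
    coheight_anti (show m'.last ≤ z from specializes_iff_mem_closure.2 m.last.2.1)
  have h2 := length_add_coheight_le m'
  rw [show m'.length = FibDim.rd h z from hm] at h2
  exact le_trans (by rw [add_comm]; exact add_le_add le_rfl h1) h2

variable {S : Scheme.{u}} {X Y : Space S} {f : X ⟶ Y} {x : Points X.obj}
  (hft : LocP @LocallyOfFiniteType f.hom) (hX : IsDecent X.obj)
  (hx : IsGenericPoint x (Set.univ : Set (Points X.obj))) {r : ℕ}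
  (hr : HasAtMor (fun _ _ h u => Dual3.resTrdeg h u = (r : Cardinal.{u})) f.hom x)
  {U V : Over S} {a : (yon S).obj U ⟶ X.obj} {b : (yon S).obj V ⟶ Y.obj} {h : U ⟶ V}
  (ha : RepWith @Etale a) (hb : RepWith @Etale b) (w : a ≫ f.hom = (yon S).map h ≫ b)

include hX hx hr ha hb w in
theorem rd_generic [LocallyOfFiniteType h.left] {η : ↥U.left} (hη : coheight η = 0) : FibDim.rd h.left η = r := by
  have he : Points.ofPt a η = x :=
    (GenFinite.cz_iff hX hx _).1 ((CodimQf.hasAt_codim_zero_iff ha η).2 hη)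
  rw [← he, ResTrdeg.hasAtMor_iff ha hb w, ← FibDim.rd_eq_rdeg] at hr
  exact_mod_cast hr

include hX hx hr ha hb w in
theorem coheight_le [LocallyOfFiniteType h.left] [IsLocallyNoetherian V.left] (u : ↥U.left) :
    coheight u ≤ coheight (h.left u) + (r : ℕ∞) := by
  have := LocallyOfFiniteType.isLocallyNoetherian h.left
  obtain ⟨η, hη, hmax, he⟩ := DimFormula.exists_maximal_cd_eq_codim u
  have hrd : FibDim.rd h.left η = r := rd_generic hX hx hr ha hb w ((CodimQf.coheight_eq_zero_iff η).2 hmax)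
  have h1 := (DimFormula.cd_formula h.left hη).1
  have h2 := DimFormula.cd_le_codim (hη.map h.left.continuous)
  rw [← DimFormula.coe_codim, ← DimFormula.coe_codim, ← Nat.cast_add]
  exact ENat.natCast_le_natCast.2 (by omega)

include hft hX hx hr in
theorem dim_le (hY : IsLocNoethSp Y.obj) : AlgSp.dim X.obj ≤ AlgSp.dim Y.obj + ((r : ℕ∞) : WithBot ℕ∞) := by
  obtain ⟨U, V, a, b, h, ha, has, hb, -, w⟩ := exists_chart X.property Y.property f.hom
  have : LocallyOfFiniteType h.left := hft a b h ha hb w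
  have := AlgSpDec.isLocallyNoetherian_chart hb hY
  refine dim_le_iff.2 fun U' a' ha' u' => ?_
  obtain ⟨u, hu⟩ := surjective_ofPt has (Points.ofPt a' u')
  rw [← coheight_eq_of_charts ha ha' hu]
  refine le_trans (WithBot.coe_le_coe.2 (coheight_le hX hx hr ha hb w u)) ?_
  rw [WithBot.coe_add]
  exact add_le_add (coheight_le_dim hb _) le_rfl

include hX ha hb w in
/-- Along a closed map, a specialisation of the image lifts without losing relative degree. -/
theorem exists_step [LocallyOfFiniteType h.left] (has : RepWith @Surjective a) (hcl : IsClosedMap (Points.map f.hom))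
    (u : ↥U.left) {y' : Points Y.obj} (hy : Points.map f.hom (Points.ofPt a u) ⤳ y') :
    ∃ z : ↥U.left, Points.map f.hom (Points.ofPt a z) = y' ∧ FibDim.rd h.left u ≤ FibDim.rd h.left z ∧
      ∃ u' : ↥U.left, u' ⤳ z ∧ Points.ofPt a u' = Points.ofPt a u := by
  have hmem : y' ∈ Points.map f.hom '' closure {Points.ofPt a u} :=
    hy.mem_closed (hcl _ isClosed_closure) ⟨_, subset_closure rfl, rfl⟩
  obtain ⟨q, hq, rfl⟩ := hmem
  obtain ⟨q₀, rfl⟩ := surjective_ofPt has q
  obtain ⟨u', hu', he⟩ := exists_specializes_lift_of_isDecent hX ha (specializes_iff_mem_closure.2 hq)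
  obtain ⟨z, hz, -, hfz, hle⟩ := FibDim.exists_rd_ge h.left hu'
  refine ⟨z, ?_, ?_, u', hz, he⟩
  · rw [Points.map_ofPt, Points.map_ofPt, w, ofPt_comp, ofPt_comp, hfz]
  · exact (rd_congr' ha hb w he.symm).le.trans hle

include hft hX hx hr in
theorem dim_add_le (hY : IsDecent Y.obj) (hcl : IsClosedMap (Points.map f.hom))
    (hy : IsGenericPoint (Points.map f.hom x) (Set.univ : Set (Points Y.obj))) :
    AlgSp.dim Y.obj + ((r : ℕ∞) : WithBot ℕ∞) ≤ AlgSp.dim X.obj := by
  obtain ⟨U, V, a, b, h, ha, has, hb, -, w⟩ := exists_chart X.property Y.property f.hom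
  have : LocallyOfFiniteType h.left := hft a b h ha hb w
  have key : ∀ (V₂ : Over S) (b₂ : (yon S).obj V₂ ⟶ Y.obj), RepWith @Etale b₂ → ∀ l : LTSeries ↥V₂.left,
      ∃ u : ↥U.left, Points.map f.hom (Points.ofPt a u) = Points.ofPt b₂ l.head ∧ r ≤ FibDim.rd h.left u ∧
        (l.length : ℕ∞) ≤ coheight u := by
    intro V₂ b₂ hb₂ l
    induction l using RelSeries.inductionOn with
    | singleton v =>
      obtain ⟨η, hη⟩ := surjective_ofPt has x
      have h0 : coheight η = 0 :=
        (CodimQf.hasAt_codim_zero_iff ha η).1 (hη.symm ▸ (GenFinite.cz_iff hX hx x).2 rfl)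
      obtain ⟨z, hz, hle, -⟩ := exists_step hX ha hb w has hcl η (y' := Points.ofPt b₂ v)
        (hη.symm ▸ hy.specializes (Set.mem_univ _))
      exact ⟨z, hz, (rd_generic hX hx hr ha hb w h0).symm.le.trans hle, by simp⟩
    | cons l v hv ih =>
      obtain ⟨u, hu, hru, hlu⟩ := ih
      obtain ⟨z, hz, hle, u', hu', he⟩ := exists_step hX ha hb w has hcl u (y' := Points.ofPt b₂ v)
        (hu ▸ (show l.head ⤳ v from (show v < l.head from hv).le).map (Points.continuous_ofPt b₂))
      refine ⟨z, by rw [RelSeries.head_cons]; exact hz, hru.trans hle, ?_⟩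
      have hne : z ≠ u' := fun e => by
        subst e
        rw [he, hu] at hz
        exact (show v < l.head from hv).ne
          (eq_of_specializes_of_isDecent hY hb₂ hz.symm (show v < l.head from hv).le)
      rw [RelSeries.cons_length, Nat.cast_add, Nat.cast_one]
      refine le_trans (add_le_add hlu le_rfl) ?_
      rw [← coheight_eq_of_charts ha ha he]
      exact coheight_add_one_le (lt_of_le_of_ne (show z ≤ u' from hu') hne)
  have key' : ∀ (V₂ : Over S) (b₂ : (yon S).obj V₂ ⟶ Y.obj), RepWith @Etale b₂ → ∀ l : LTSeries ↥V₂.left,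
      (((l.length + r : ℕ) : ℕ∞) : WithBot ℕ∞) ≤ AlgSp.dim X.obj := by
    intro V₂ b₂ hb₂ l
    obtain ⟨z, -, hrz, hlz⟩ := key V₂ b₂ hb₂ l
    obtain ⟨u, hu⟩ := exists_coheight_add_rd h.left z
    refine le_trans (WithBot.coe_le_coe.2 ?_) (coheight_le_dim ha u)
    exact le_trans (by rw [Nat.cast_add]; exact add_le_add hlz (ENat.natCast_le_natCast.2 hrz)) hu
  obtain ⟨η, hη⟩ := surjective_ofPt has x
  obtain ⟨d, hd⟩ : ∃ d : ℕ∞, (d : WithBot ℕ∞) = AlgSp.dim X.obj :=
    WithBot.ne_bot_iff_exists.1 fun e => not_lt.2 (coheight_le_dim ha η) (e ▸ WithBot.bot_lt_coe (coheight η))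
  rcases eq_or_ne d ⊤ with rfl | hdt
  · rw [← hd]; exact le_top
  obtain ⟨n, rfl⟩ := ENat.ne_top_iff_exists.1 hdt
  have hn : ∀ (V₂ : Over S) (b₂ : (yon S).obj V₂ ⟶ Y.obj), RepWith @Etale b₂ → ∀ l : LTSeries ↥V₂.left,
      l.length + r ≤ n := fun V₂ b₂ hb₂ l => by
    have := key' V₂ b₂ hb₂ l
    rw [← hd, WithBot.coe_le_coe, ENat.natCast_le_natCast] at this
    exact this
  have hY' : AlgSp.dim Y.obj ≤ (((n - r : ℕ) : ℕ∞) : WithBot ℕ∞) := by
    refine iSup₂_le fun V₂ b₂ => iSup_le fun hb₂ => ?_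
    rw [topologicalKrullDim_eq_krullDim]
    refine iSup_le fun l => WithBot.coe_le_coe.2 (ENat.natCast_le_natCast.2 ?_)
    have := hn V₂ b₂ hb₂ l
    omega
  have h1 := hn V b hb (RelSeries.singleton _ (h.left η))
  refine le_trans (add_le_add hY' le_rfl) ?_
  rw [← hd, ← WithBot.coe_add, ← Nat.cast_add, WithBot.coe_le_coe, ENat.natCast_le_natCast]
  omega

end Groth.Agent.AlgSpDM.DimTrdeg
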