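import Groth.Agent.AlgSpDec.MonoPoint
import Groth.Agent.AlgSpLib.EtLocalInst
import Groth.Prelude.Def_AlgSpDec

/-!
# Elementary etale neighbourhoods
-/

set_option backward.isDefEq.respectTransparency false
set_option backward.isDefEq.respectTransparency.types false

universe u

open CategoryTheory CategoryTheory.Limits AlgebraicGeometry AlgSp Groth.Agent.AlgSpLib
  Groth.Agent.AlgSpPts Groth.Agent.AlgSpDec

namespace Groth.Agent.AlgSpDM

set_option maxHeartbeats 400000

variable {S : Scheme.{u}} {X : Sp S}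

/-- The inclusion of the spectrum of the residue field at a point. -/
noncomputable def ptι {U : Over S} (a : (yon S).obj U ⟶ X) (u : ↥U.left) : (FieldPt.ofPt a u).pt ⟶ U :=
  Over.homMk (U.left.fromSpecResidueField u) rfl

theorem exists_factor_ptι {K : Type u} [Field K] {str : Spec (CommRingCat.of K) ⟶ S} {U : Over S}
    (a : (yon S).obj U ⟶ X) (k : Over.mk str ⟶ U) (u : ↥U.left) (hu : ∀ z, k.left z = u) :
    ∃ k' : Over.mk str ⟶ (FieldPt.ofPt a u).pt, k' ≫ ptι a u = k := by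
  obtain ⟨l, hl⟩ := exists_factor_residueField (T := Spec (CommRingCat.of K)) k.left u hu
  exact ⟨Over.homMk l (by
    change l ≫ U.left.fromSpecResidueField u ≫ U.hom = str
    rw [reassoc_of% hl]; exact Over.w k), Over.OverMorphism.ext hl⟩

/-- A neighbourhood receiving the point of an elementary one by a section is elementary. -/
theorem isElem_of_section {U W : Over S} {a : (yon S).obj U ⟶ X} {u : ↥U.left} {x : Points X}
    (h : IsElemEtaleNbhd a u x) {aW : (yon S).obj W ⟶ X} (hW : RepWith @Etale aW) (π : W ⟶ U)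
    (hπ : (yon S).map π ≫ a = aW) (k : (FieldPt.ofPt a u).pt ⟶ W) (hk : k ≫ π = ptι a u) :
    IsElemEtaleNbhd aW (k.left (IsLocalRing.closedPoint (U.left.residueField u))) x ∧
      π.left (k.left (IsLocalRing.closedPoint (U.left.residueField u))) = u := by
  set v := k.left (IsLocalRing.closedPoint (U.left.residueField u)) with hv
  have hπv : π.left v = u := by
    rw [hv, ← Scheme.Hom.comp_apply, ← Over.comp_left, hk]
    exact U.left.fromSpecResidueField_apply u _
  refine ⟨⟨hW, ?_, ?_⟩, hπv⟩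
  · rw [← hπ, ofPt_comp, hπv]; exact h.ofPt_eq
  obtain ⟨k', hk'⟩ := exists_factor_ptι (K := U.left.residueField u) aW k v fun z => by
    have : Subsingleton ↥(Spec (CommRingCat.of (U.left.residueField u))) :=
      inferInstanceAs (Subsingleton (PrimeSpectrum (U.left.residueField u)))
    rw [hv, Subsingleton.elim z (IsLocalRing.closedPoint (U.left.residueField u))]
  obtain ⟨h', hh'⟩ := exists_factor_ptι (K := W.left.residueField v) a (ptι aW v ≫ π) u fun z => by
    show π.left ((W.left.fromSpecResidueField v) z) = u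
    rw [W.left.fromSpecResidueField_apply]; exact hπv
  have : Mono (ptι a u).left := inferInstanceAs (Mono (U.left.fromSpecResidueField u))
  have : Mono (ptι a u) := (Over.forget S).mono_of_mono_map ‹Mono (ptι a u).left›
  have hid : k' ≫ h' = 𝟙 _ := by
    rw [← cancel_mono (ptι a u), Category.assoc, hh', ← Category.assoc, hk', Category.id_comp]
    exact hk
  have : IsSplitMono k' := ⟨⟨⟨h', hid⟩⟩⟩
  have : IsIso ((yon S).map k') := isIso_of_mono_field (IsAlgSpace.yon_obj _) ((yon S).map k')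
    (Points.ofScheme _ (IsLocalRing.closedPoint (U.left.residueField u)))
  have he : (yon S).map k' ≫ (FieldPt.ofPt aW v).toHom = (FieldPt.ofPt a u).toHom := by
    rw [FieldPt.toHom_ofPt aW v, FieldPt.toHom_ofPt a u, ← Category.assoc, ← Functor.map_comp]
    change (yon S).map (k' ≫ ptι aW v) ≫ aW = (yon S).map (ptι a u) ≫ a
    rw [hk', ← hπ, ← Category.assoc, ← Functor.map_comp, hk]
  have := h.mono
  rw [(asIso ((yon S).map k')).eq_inv_comp.2 he]
  infer_instance

theorem exists_elem_dominating (hX : IsAlgSpace X) {x : Points X} {U₁ U₂ : Over S} {a₁ : (yon S).obj U₁ ⟶ X}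
    {a₂ : (yon S).obj U₂ ⟶ X} {u₁ : ↥U₁.left} {u₂ : ↥U₂.left} (h₁ : IsElemEtaleNbhd a₁ u₁ x)
    (h₂ : IsElemEtaleNbhd a₂ u₂ x) :
    ∃ (U : Over S) (a : (yon S).obj U ⟶ X) (v : ↥U.left) (p₁ : U ⟶ U₁) (p₂ : U ⟶ U₂),
      IsElemEtaleNbhd a v x ∧ (yon S).map p₁ ≫ a₁ = a ∧ (yon S).map p₂ ≫ a₂ = a ∧
        p₁.left v = u₁ ∧ p₂.left v = u₂ := by
  let q₁ := FieldPt.ofPt a₁ u₁
  let q₂ := FieldPt.ofPt a₂ u₂
  have := h₂.mono
  obtain ⟨z, -, -⟩ := exists_point_of_isPullback (IsPullback.of_hasPullback q₂.toHom q₁.toHom)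
    (x := Points.ofScheme q₂.pt (IsLocalRing.closedPoint q₂.K))
    (y := Points.ofScheme q₁.pt (IsLocalRing.closedPoint q₁.K))
    (by rw [← Points.ofPt_eq_map_ofScheme, ← Points.ofPt_eq_map_ofScheme, ← mk_eq_ofPt, ← mk_eq_ofPt]
        exact h₂.ofPt_eq.trans h₁.ofPt_eq.symm)
  have := isIso_of_mono_field (isAlgSpace_pullback (IsAlgSpace.yon_obj _) (IsAlgSpace.yon_obj _) hX q₂.toHom q₁.toHom)
    (pullback.snd q₂.toHom q₁.toHom) z
  obtain ⟨c, hc⟩ := (yon S).map_surjective (inv (pullback.snd q₂.toHom q₁.toHom) ≫ pullback.fst q₂.toHom q₁.toHom)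
  have hcq : (yon S).map c ≫ q₂.toHom = q₁.toHom := by
    rw [hc, Category.assoc, pullback.condition, IsIso.inv_hom_id_assoc]
  let W := h₁.etale.rep.pullback a₂
  let p₁ : W ⟶ U₁ := h₁.etale.rep.fst' a₂
  let p₂ : W ⟶ U₂ := h₁.etale.rep.snd a₂
  have sq : IsPullback ((yon S).map p₁) ((yon S).map p₂) a₁ a₂ := h₁.etale.rep.isPullback' a₂
  obtain ⟨k, hk⟩ := (yon S).map_surjective (sq.lift ((yon S).map (ptι a₁ u₁)) ((yon S).map (c ≫ ptι a₂ u₂))
    (by rw [Functor.map_comp, Category.assoc]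
        refine ((FieldPt.toHom_ofPt a₁ u₁).symm.trans hcq.symm).trans ?_
        rw [FieldPt.toHom_ofPt a₂ u₂]; rfl))
  have hk₁ : k ≫ p₁ = ptι a₁ u₁ := (yon S).map_injective (by rw [Functor.map_comp, hk, sq.lift_fst])
  have hk₂ : k ≫ p₂ = c ≫ ptι a₂ u₂ := (yon S).map_injective (by rw [Functor.map_comp, hk, sq.lift_snd])
  have : Etale p₁.left := h₂.etale.property _ _ _ sq.flip
  have haW : RepWith @Etale ((yon S).map p₁ ≫ a₁) := repWith_comp ((repWith_yon_map_iff _ p₁).2 ‹_›) h₁.etale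
  obtain ⟨he, hp⟩ := isElem_of_section h₁ haW p₁ rfl k hk₁
  refine ⟨W, _, _, p₁, p₂, he, rfl, sq.w.symm, hp, ?_⟩
  rw [← Scheme.Hom.comp_apply, ← Over.comp_left, hk₂]
  exact U₂.left.fromSpecResidueField_apply u₂ _

theorem exists_elem_equalizing {x : Points X} {U₁ U₂ : Over S} {a₁ : (yon S).obj U₁ ⟶ X}
    {a₂ : (yon S).obj U₂ ⟶ X} {u₁ : ↥U₁.left} {u₂ : ↥U₂.left} {b c : U₁ ⟶ U₂}
    (h₁ : IsElemEtaleNbhd a₁ u₁ x) (h₂ : IsElemEtaleNbhd a₂ u₂ x)
    (hb : (yon S).map b ≫ a₂ = a₁) (hc : (yon S).map c ≫ a₂ = a₁) (hbu : b.left u₁ = u₂) (hcu : c.left u₁ = u₂) :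
    ∃ (U : Over S) (a : (yon S).obj U ⟶ X) (v : ↥U.left) (h : U ⟶ U₁),
      IsElemEtaleNbhd a v x ∧ (yon S).map h ≫ a₁ = a ∧ h.left v = u₁ ∧ h ≫ b = h ≫ c := by
  -- the two maps agree at the point
  have hpt : ptι a₁ u₁ ≫ b = ptι a₁ u₁ ≫ c := by
    have hval : ∀ (e : U₁ ⟶ U₂), e.left u₁ = u₂ → ∀ z, (ptι a₁ u₁ ≫ e).left z = u₂ := fun e he z => by
      show e.left (U₁.left.fromSpecResidueField u₁ z) = u₂
      rw [U₁.left.fromSpecResidueField_apply]; exact he
    obtain ⟨b', hb'⟩ := exists_factor_ptι (K := U₁.left.residueField u₁) a₂ (ptι a₁ u₁ ≫ b) u₂ (hval b hbu)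
    obtain ⟨c', hc'⟩ := exists_factor_ptι (K := U₁.left.residueField u₁) a₂ (ptι a₁ u₁ ≫ c) u₂ (hval c hcu)
    have := h₂.mono
    have he : b' = c' := (yon S).map_injective ((cancel_mono (FieldPt.ofPt a₂ u₂).toHom).1 (by
      rw [FieldPt.toHom_ofPt, ← Category.assoc, ← Functor.map_comp, ← Category.assoc, ← Functor.map_comp]
      change (yon S).map (b' ≫ ptι a₂ u₂) ≫ a₂ = (yon S).map (c' ≫ ptι a₂ u₂) ≫ a₂
      rw [hb', hc', Functor.map_comp, Category.assoc, hb, Functor.map_comp, Category.assoc, hc]))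
    rw [← hb', ← hc', he]
  have sq := h₂.etale.rep.isPullback' a₂
  let fstR : h₂.etale.rep.pullback a₂ ⟶ U₂ := h₂.etale.rep.fst' a₂
  let sndR : h₂.etale.rep.pullback a₂ ⟶ U₂ := h₂.etale.rep.snd a₂
  obtain ⟨δ, hδ⟩ := (yon S).map_surjective (sq.lift (𝟙 _) (𝟙 _) rfl)
  have hδ1 : δ ≫ fstR = 𝟙 _ := (yon S).map_injective (by rw [Functor.map_comp, hδ, sq.lift_fst, CategoryTheory.Functor.map_id])
  have hδ2 : δ ≫ sndR = 𝟙 _ := (yon S).map_injective (by rw [Functor.map_comp, hδ, sq.lift_snd, CategoryTheory.Functor.map_id])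
  obtain ⟨l, hl⟩ := (yon S).map_surjective (sq.lift ((yon S).map b) ((yon S).map c) (hb.trans hc.symm))
  have hl1 : l ≫ fstR = b := (yon S).map_injective (by rw [Functor.map_comp, hl, sq.lift_fst])
  have hl2 : l ≫ sndR = c := (yon S).map_injective (by rw [Functor.map_comp, hl, sq.lift_snd])
  have hδe : Etale δ.left := by
    refine MorphismProperty.HasOfPostcompProperty.of_postcomp (W := @Etale) δ.left sndR.left
      (h₂.etale.property_snd a₂) ?_
    rw [← Over.comp_left, hδ2]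
    exact inferInstanceAs (Etale (𝟙 _))
  haveI : Etale (pullback.fst l δ).left :=
    MorphismProperty.of_isPullback ((IsPullback.of_hasPullback l δ).flip.map (Over.forget S)) hδe
  have heq : pullback.fst l δ ≫ b = pullback.fst l δ ≫ c := by
    rw [← hl1, ← hl2, pullback.condition_assoc, pullback.condition_assoc, hδ1, hδ2]
  let k : (FieldPt.ofPt a₁ u₁).pt ⟶ pullback l δ := pullback.lift (ptι a₁ u₁) (ptι a₁ u₁ ≫ b)
    ((yon S).map_injective (sq.hom_ext
      (by rw [← Functor.map_comp, ← Functor.map_comp, Category.assoc, hl1, Category.assoc, Category.assoc,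
        hδ1, Category.comp_id])
      (by rw [← Functor.map_comp, ← Functor.map_comp, Category.assoc, hl2, Category.assoc, Category.assoc,
        hδ2, Category.comp_id, hpt])))
  obtain ⟨he, hp⟩ := isElem_of_section h₁
    (repWith_comp ((repWith_yon_map_iff _ (pullback.fst l δ)).2 ‹_›) h₁.etale) (pullback.fst l δ) rfl k
    (pullback.lift_fst _ _ _)
  exact ⟨_, _, _, pullback.fst l δ, he, rfl, hp, heq⟩

end Groth.Agent.AlgSpDM
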