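import Groth.Agent.AlgSpDec.PostcompSite
import Groth.Agent.AlgSpLib.EtaleSmoothLocal
import Groth.Agent.AlgSpLib.Points
import Groth.Agent.AlgSpDec.MonoRep
import Groth.Prelude.Def_AlgSpCov

/-!
# The small etale site inside the big etale site of spaces over a space
-/

set_option autoImplicit false
set_option backward.isDefEq.respectTransparency false
set_option backward.isDefEq.respectTransparency.types false
set_option maxHeartbeats 800000

universe u

open CategoryTheory CategoryTheory.Limits Opposite AlgebraicGeometry AlgSp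
open Groth.Agent.AlgSpLib Groth.Agent.AlgSpPts

namespace Groth.Agent.AlgSpDM.EtSite

variable {S : Scheme.{u}}

/-- Coverings of the big etale site restrict to schemes as jointly surjective etale families of schemes. -/
theorem exists_scheme_family {Z : Space S} {R : Sieve Z} (hR : R ∈ spacesTop S IsEtaleMor Z) :
    ∀ (U : Over S) (t : (AlgSp.ofScheme S).obj U ⟶ Z), ∀ u : ↥U.left, ∃ (V : Over S) (c : V ⟶ U),
      Etale c.left ∧ u ∈ Set.range c.left ∧ R ((AlgSp.ofScheme S).map c ≫ t) := by
  induction hR with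
  | of X T hT =>
    intro U t u
    obtain ⟨Y, g, hg, y, hy⟩ := hT.2 (Points.ofPt t.hom u)
    obtain ⟨z, -, hz⟩ := exists_point_of_isPullback (IsPullback.of_hasPullback g.hom t.hom) (x := y)
      (y := Points.ofScheme U u) (hy.trans (Points.ofPt_eq_map_ofScheme t.hom u))
    have hP : IsAlgSpace (pullback g.hom t.hom) :=
      isAlgSpace_pullback Y.property (IsAlgSpace.yon_obj U) X.property g.hom t.hom
    have hsnd : IsEtaleMor (pullback.snd g.hom t.hom) :=
      isEtaleMor_of_isPullback (IsPullback.of_hasPullback g.hom t.hom) Y.property X.property (IsAlgSpace.yon_obj U)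
        (hT.1 g hg)
    obtain ⟨V, a, ha, has⟩ := hP.atlas
    obtain ⟨v, hv⟩ := surjective_ofPt has z
    obtain ⟨c, hc⟩ := (yon S).map_surjective (a ≫ pullback.snd g.hom t.hom)
    refine ⟨V, c, (repWith_yon_map_iff _ _).1 (hc ▸ hsnd a ha), ⟨v, ?_⟩, Y,
      (InducedCategory.homMk (a ≫ pullback.fst g.hom t.hom) : (AlgSp.ofScheme S).obj V ⟶ Y), g, hg, ?_⟩
    · refine (Points.schemeEquiv U).injective ?_
      show Points.ofScheme U (c.left v) = Points.ofScheme U u
      rw [← hz, ← hv, Points.map_ofPt, ← hc]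
      exact (Points.map_yon_map_apply c v).symm.trans (by rw [Points.ofPt_eq_map_ofScheme]; rfl)
    · refine InducedCategory.hom_ext ?_
      show (a ≫ pullback.fst g.hom t.hom) ≫ g.hom = (yon S).map c ≫ t.hom
      rw [Category.assoc, pullback.condition, ← Category.assoc, hc]
  | top X =>
    intro U t u
    exact ⟨U, 𝟙 U, inferInstanceAs (Etale (𝟙 U.left)), ⟨u, rfl⟩, trivial⟩
  | pullback X T _ Y f ih =>
    intro U t u
    obtain ⟨V, c, hc, hu, hT⟩ := ih U (t ≫ f) u
    refine ⟨V, c, hc, hu, ?_⟩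
    show T (((AlgSp.ofScheme S).map c ≫ t) ≫ f)
    rw [Category.assoc]
    exact hT
  | transitive X T R _ _ ih₁ ih₂ =>
    intro U t u
    obtain ⟨V, c, hc, ⟨v, hv⟩, hT⟩ := ih₁ U t u
    obtain ⟨W, d, hd, ⟨w, hw⟩, hR⟩ := ih₂ hT V (𝟙 _) v
    refine ⟨W, d ≫ c, ?_, ⟨w, ?_⟩, ?_⟩
    · rw [Over.comp_left]; infer_instance
    · rw [Over.comp_left, Scheme.Hom.comp_apply, hw, hv]
    · rw [Functor.map_comp, Category.assoc]
      simpa using hR

variable {X Y : Space S} (f : Y ⟶ X)

/-- The functor from the small etale site to the spaces over the target. -/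
noncomputable abbrev comparison : EtOver Y.obj ⥤ Over X :=
  EtOver.toEtSpOver Y ⋙ ObjectProperty.ι (fun E : Over Y => IsEtaleMor E.hom.hom) ⋙ Over.map f

theorem isCocontinuous : (comparison f).IsCocontinuous (etTop Y.obj) (spacesTopOver IsEtaleMor X) := by
  constructor
  intro E T hT
  have h := exists_scheme_family ((GrothendieckTopology.mem_over_iff _ _).1 hT) E.obj.left (𝟙 _)
  choose V c hc hu hT' using h
  let Z : ↥E.obj.left.left → EtOver Y.obj := fun u =>
    EtOver.mk ((yon S).map (c u) ≫ E.obj.hom)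
      (repWith_comp ((repWith_yon_map_iff _ _).2 (hc u)) E.property)
  let g : ∀ u, Z u ⟶ E := fun u => EtOver.homMk (c u) rfl
  refine GrothendieckTopology.superset_covering _ ?_ (ofArrows_mem_etTop Z g fun u => ⟨u, hu u⟩)
  rw [Sieve.ofArrows, Sieve.generate_le_iff]
  rintro _ _ ⟨u⟩
  rw [Sieve.functorPullback_apply, Presieve.functorPullback_mem]
  have h := hT' u
  rw [Category.comp_id, Sieve.overEquiv_iff] at h
  let m : Over.mk ((AlgSp.ofScheme S).map (c u) ≫ ((comparison f).obj E).hom) ⟶ (comparison f).obj E :=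
    Over.homMk (U := Over.mk _) (V := (comparison f).obj E) ((AlgSp.ofScheme S).map (c u)) rfl
  let k : (comparison f).obj (Z u) ⟶ Over.mk ((AlgSp.ofScheme S).map (c u) ≫ ((comparison f).obj E).hom) :=
    Over.homMk (𝟙 _) (InducedCategory.hom_ext (by
      show 𝟙 _ ≫ (yon S).map (c u) ≫ E.obj.hom ≫ f.hom = ((yon S).map (c u) ≫ E.obj.hom) ≫ f.hom
      rw [Category.id_comp, Category.assoc]))
  have hk : (comparison f).map (g u) = k ≫ m :=
    Over.OverMorphism.ext (Category.id_comp _).symm
  rw [hk]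
  exact T.downward_closed h k

theorem coverPreserving : CoverPreserving (etTop Y.obj) (spacesTopOver IsEtaleMor X) (comparison f) := by
  constructor
  intro E T hT
  unfold etTop at hT
  obtain ⟨R, hR, hle⟩ := Precoverage.mem_toGrothendieck_iff_of_isStableUnderComposition.1 hT
  obtain ⟨ι, Z, g, rfl⟩ := R.exists_eq_ofArrows
  have hs := (ofArrows_mem_etPre_iff Z g).1 hR
  choose i hi using hs
  let g' : ↥E.obj.left.left → Σ' (W : Over X), (W ⟶ (comparison f).obj E) := fun u =>
    ⟨(comparison f).obj (Z (i u)), (comparison f).map (g (i u))⟩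
  refine GrothendieckTopology.superset_covering _
    (S := Sieve.ofArrows (fun u => (g' u).1) (fun u => (g' u).2)) ?_ ?_
  · rw [Sieve.ofArrows, Sieve.generate_le_iff]
    rintro _ _ ⟨u⟩
    exact Sieve.image_mem_functorPushforward _ _ (hle _ _ (Presieve.ofArrows.mk (i u)))
  · rw [GrothendieckTopology.mem_over_iff, Sieve.overEquiv_ofArrows]
    refine Precoverage.generate_mem_toGrothendieck ?_
    rw [ofArrows_mem_spacesPre_iff]
    refine ⟨fun u => (isEtaleMor_yon_map_iff _).2 (EtOver.etale_left (g (i u))), fun x => ?_⟩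
    obtain ⟨u, rfl⟩ := (Points.schemeHomeo E.obj.left).surjective x
    obtain ⟨z, hz⟩ := hi u
    refine ⟨u, Points.schemeHomeo (Z (i u)).obj.left z, ?_⟩
    exact (Points.map_yon_map_apply (g (i u)).hom.left z).trans (congrArg _ hz)

theorem compatiblePreserving : CompatiblePreserving.{u + 2} (spacesTopOver IsEtaleMor X) (comparison f) := by
  constructor
  intro ℱ E T x hx E₁ E₂ W f₁ f₂ g₁ g₂ hg₁ hg₂ e
  have hsq : IsPullback ((yon S).map (pullback.fst g₁.hom.left g₂.hom.left))
      ((yon S).map (pullback.snd g₁.hom.left g₂.hom.left)) ((yon S).map g₁.hom.left) ((yon S).map g₂.hom.left) :=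
    (IsPullback.of_hasPullback _ _).map (yon S)
  have ew : f₁.left.hom ≫ (yon S).map g₁.hom.left = f₂.left.hom ≫ (yon S).map g₂.hom.left :=
    congrArg (fun k : W ⟶ (comparison f).obj E => k.left.hom) e
  let l : W.left ⟶ (AlgSp.ofScheme S).obj (pullback g₁.hom.left g₂.hom.left) :=
    InducedCategory.homMk (hsq.lift f₁.left.hom f₂.left.hom ew)
  let k : W ⟶ (comparison f).obj (EtOver.pullbackObj g₁ g₂) := Over.homMk l (InducedCategory.hom_ext (by
    show hsq.lift f₁.left.hom f₂.left.hom ew ≫
      ((yon S).map (pullback.fst g₁.hom.left g₂.hom.left) ≫ E₁.obj.hom) ≫ f.hom = W.hom.hom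
    rw [← Category.assoc, hsq.lift_fst_assoc, Category.assoc]
    exact congrArg InducedCategory.Hom.hom (Over.w f₁)))
  have e₁ : k ≫ (comparison f).map (EtOver.pullbackFst g₁ g₂) = f₁ :=
    Over.OverMorphism.ext (InducedCategory.hom_ext (hsq.lift_fst _ _ _))
  have e₂ : k ≫ (comparison f).map (EtOver.pullbackSnd g₁ g₂) = f₂ :=
    Over.OverMorphism.ext (InducedCategory.hom_ext (hsq.lift_snd _ _ _))
  rw [← e₁, ← e₂, op_comp, op_comp, Functor.map_comp_apply, Functor.map_comp_apply]
  exact congrArg _ (hx _ _ hg₁ hg₂ (EtOver.pullback_condition g₁ g₂))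

theorem isContinuous : (comparison f).IsContinuous (etTop Y.obj) (spacesTopOver IsEtaleMor X) :=
  Functor.isContinuous_of_coverPreserving (compatiblePreserving f) (coverPreserving f)

end Groth.Agent.AlgSpDM.EtSite
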