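import Groth.Agent.AlgSpPts.Descent
import Groth.Agent.AlgSpLib.Points

/-!
# Fibre powers of an etale map from an affine scheme to an algebraic space, and their
configuration spaces
-/

set_option backward.isDefEq.respectTransparency false
set_option backward.isDefEq.respectTransparency.types false
set_option maxHeartbeats 800000

universe u

open CategoryTheory CategoryTheory.Limits AlgebraicGeometry AlgSp Groth.Agent.AlgSpLib Groth.Agent.AlgSpPts

namespace Groth.Agent.AlgSpDM

variable {S : Scheme.{u}} {X : Sp S} {U : Over S}

/-- A fibre power of `a`: pairwise compatible maps with the universal property. -/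
structure FibPow (a : (yon S).obj U ⟶ X) (n : ℕ) : Type (u + 1) where
  P : Over S
  π : Fin n → (P ⟶ U)
  w : ∀ i j, (yon S).map (π i) ≫ a = (yon S).map (π j) ≫ a
  etale : ∀ i, Etale (π i).left
  sep : P.left.IsSeparated
  compact : RepWith @QuasiCompact a → CompactSpace ↥P.left
  existsUnique : ∀ {T : Over S} (f : Fin n → (T ⟶ U)),
    (∀ i j, (yon S).map (f i) ≫ a = (yon S).map (f j) ≫ a) → ∃! l : T ⟶ P, ∀ i, l ≫ π i = f i

theorem FibPow.hom_ext {a : (yon S).obj U ⟶ X} {n : ℕ} (F : FibPow a n) {T : Over S} {l l' : T ⟶ F.P}
    (h : ∀ i, l ≫ F.π i = l' ≫ F.π i) : l = l' :=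
  (F.existsUnique (fun i => l' ≫ F.π i)
    fun i j => by rw [(yon S).map_comp, (yon S).map_comp, Category.assoc, Category.assoc, F.w i j]).unique h
    fun _ => rfl

/-- Fibre powers exist. -/
theorem nonempty_fibPow (hX : IsAlgSpace X) {a : (yon S).obj U ⟶ X} (ha : RepWith @Etale a)
    [IsAffine U.left] (k : ℕ) : Nonempty (FibPow a (k + 1)) := by
  induction k with
  | zero =>
    exact ⟨{ P := U, π := fun _ => 𝟙 U, w := fun _ _ => rfl, sep := inferInstance,
             compact := fun _ => inferInstance,
             etale := fun _ => inferInstanceAs (Etale (𝟙 U.left)),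
             existsUnique := fun f _ => ⟨f 0, fun i => by rw [Category.comp_id, Fin.eq_zero i],
               fun l hl => (Category.comp_id l).symm.trans (hl 0)⟩ }⟩
  | succ k ih =>
    obtain ⟨F⟩ := ih
    let b : (yon S).obj F.P ⟶ X := (yon S).map (F.π 0) ≫ a
    let P := ha.rep.pullback b
    let t : P ⟶ U := ha.rep.fst' b
    let s : P ⟶ F.P := ha.rep.snd b
    have sq : IsPullback ((yon S).map t) ((yon S).map s) a b := ha.rep.isPullback' b
    have hb : RepWith @Etale b := repWith_comp ((repWith_yon_map_iff _ _).2 (F.etale 0)) ha
    have hse : Etale s.left := ha.property _ _ _ sq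
    have hte : Etale t.left := hb.property _ _ _ sq.flip
    have hss : IsSeparated s.left :=
      (repWith_isSeparated_of_yon hX a (inferInstanceAs (IsSeparated U.hom))).property _ _ _ sq
    have := F.sep
    let π : Fin (k + 2) → (P ⟶ U) := Fin.cons t fun i => s ≫ F.π i
    have hπ : ∀ i, (yon S).map (π i) ≫ a = (yon S).map s ≫ b := fun i => by
      cases i using Fin.cases with
      | zero => exact sq.w
      | succ i =>
        show (yon S).map (s ≫ F.π i) ≫ a = _
        rw [(yon S).map_comp, Category.assoc, F.w i 0]
    refine ⟨{ P := P, π := π, w := fun i j => (hπ i).trans (hπ j).symm,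
              sep := ⟨by rw [← terminal.comp_from s.left]; infer_instance⟩,
              compact := fun hq => by
                have := F.compact hq
                have : QuasiCompact s.left := hq.property _ _ _ sq
                exact QuasiCompact.compactSpace_of_compactSpace s.left,
              etale := fun i => by
                cases i using Fin.cases with
                | zero => exact hte
                | succ i =>
                  have := F.etale i
                  exact inferInstanceAs (Etale (s.left ≫ (F.π i).left))
              existsUnique := fun {T} f hf => ?_ }⟩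
    obtain ⟨l, hl, hlu⟩ := F.existsUnique (fun i => f i.succ) fun i j => hf _ _
    have e : (yon S).map (f 0) ≫ a = (yon S).map l ≫ b := by
      rw [← Category.assoc, ← (yon S).map_comp, hl 0]
      exact hf _ _
    obtain ⟨m, hm⟩ := (yon S).map_surjective (sq.lift _ _ e)
    have hmt : m ≫ t = f 0 := (yon S).map_injective (by rw [(yon S).map_comp, hm, sq.lift_fst])
    have hms : m ≫ s = l := (yon S).map_injective (by rw [(yon S).map_comp, hm, sq.lift_snd])
    refine ⟨m, fun i => ?_, fun m' hm' => ?_⟩
    · cases i using Fin.cases with
      | zero => exact hmt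
      | succ i =>
        show m ≫ s ≫ F.π i = _
        rw [← Category.assoc, hms, hl i]
    · have h₂ : m' ≫ s = l := hlu _ fun i => (Category.assoc _ _ _).trans (hm' i.succ)
      refine (yon S).map_injective (sq.hom_ext ?_ ?_)
      · rw [← (yon S).map_comp, ← (yon S).map_comp, hmt]; exact congrArg _ (hm' 0)
      · rw [← (yon S).map_comp, ← (yon S).map_comp, hms, h₂]

end Groth.Agent.AlgSpDM
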