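import Groth.Agent.AlgSpDM.JacobsonPoints
import Groth.Agent.CodimQf.Basic
import Groth.Agent.H3Sch.AlgClosedPt
import Groth.Agent.CycLib.Finite
import Groth.Prelude.Def_AlgSpDec

/-!
# Isolated points of fibres of morphisms locally of finite type
-/

set_option autoImplicit false
set_option backward.isDefEq.respectTransparency false
set_option backward.isDefEq.respectTransparency.types false
set_option maxHeartbeats 800000

universe u

open CategoryTheory CategoryTheory.Limits AlgebraicGeometry AlgSp Groth.Agent.AlgSpLib Groth.Agent.AlgSpPts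
  Groth.Agent.AlgSpDec

namespace Groth.Agent.AlgSpDM.FibreCond

variable {S : Scheme.{u}} {X Y : Sp S} {f : X ⟶ Y}

/-- Quasi-finiteness at a point. -/
abbrev Qf (f : X ⟶ Y) (x : Points X) : Prop :=
  HasAtMor (fun U _ h u => ∃ W : U.Opens, u ∈ W ∧ LocallyQuasiFinite (W.ι ≫ h) ∧
    LocallyOfFiniteType (W.ι ≫ h)) f x

variable (hf : LocP @LocallyOfFiniteType f) {U V : Over S} {a : (yon S).obj U ⟶ X}
  {b : (yon S).obj V ⟶ Y} {h : U ⟶ V} (ha : RepWith @Etale a) (hb : RepWith @Etale b)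
  (w : a ≫ f = (yon S).map h ≫ b)

theorem fiber_lnj {A B : Scheme.{u}} (g : A ⟶ B) [LocallyOfFiniteType g] (v : ↥B) :
    IsLocallyNoetherian (g.fiber v) ∧ JacobsonSpace ↥(g.fiber v) :=
  have : LocallyOfFiniteType (g.fiberToSpecResidueField v) :=
    MorphismProperty.pullback_snd (P := @LocallyOfFiniteType) _ _ ‹_›
  have : JacobsonSpace ↥(Spec (B.residueField v)) := inferInstanceAs (JacobsonSpace (PrimeSpectrum _))
  ⟨LocallyOfFiniteType.isLocallyNoetherian (g.fiberToSpecResidueField v),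
    LocallyOfFiniteType.jacobsonSpace (g.fiberToSpecResidueField v)⟩

theorem map_fiberι {A B : Scheme.{u}} (g : A ⟶ B) {v : ↥B} (z : ↥(g.fiber v)) : g (g.fiberι v z) = v := by
  have : g.fiberι v z ∈ Set.range (g.fiberι v) := ⟨z, rfl⟩
  rwa [g.range_fiberι] at this

/-- The points over `x` in a fibre of a chart. -/
abbrev trace (a : (yon S).obj U ⟶ X) (h : U ⟶ V) (x : Points X) (v : ↥V.left) : Set ↥(h.left.fiber v) :=
  {z | Points.ofPt a (h.left.fiberι v z) = x}

include hf ha hb w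

theorem qf_iff_isOpen_asFiber (u : ↥U.left) :
    Qf f (Points.ofPt a u) ↔ IsOpen ({h.left.asFiber u} : Set ↥(h.left.fiber (h.left u))) := by
  have : LocallyOfFiniteType h.left := hf a b h ha hb w
  exact (CodimQf.hasAtMor_qf_iff hf ha hb w u).trans (AlgSpDec.fibreDimAt_eq_zero_iff h.left u)

/-- A nonempty open trace consists of isolated points. -/
theorem qf_of_isOpen_trace {x : Points X} (u : ↥U.left) (hu : Points.ofPt a u = x)
    (ho : IsOpen (trace a h x (h.left u))) : Qf f x := by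
  have : LocallyOfFiniteType h.left := hf a b h ha hb w
  obtain ⟨_, _⟩ := fiber_lnj h.left (h.left u)
  rw [← hu, qf_iff_isOpen_asFiber hf ha hb w u]
  have hmem : h.left.asFiber u ∈ trace a h x (h.left u) := by
    show Points.ofPt a (h.left.fiberι _ (h.left.asFiber u)) = x
    rw [Scheme.Hom.fiberι_asFiber, hu]
  obtain ⟨z₀, hz₀, hc₀⟩ := nonempty_inter_closedPoints (Z := trace a h x (h.left u)) ⟨_, hmem⟩ ho.isLocallyClosed
  have hι := (h.left.fiberι (h.left u)).isEmbedding
  have h0 : FibDim.rd h.left (h.left.fiberι _ z₀) = 0 := DimFormula.rd_eq_zero_of_closed h.left fun x' hx' hsp => by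
    obtain ⟨z', rfl⟩ : x' ∈ Set.range (h.left.fiberι (h.left u)) := by
      rw [Scheme.Hom.range_fiberι]; exact hx'.trans (map_fiberι h.left z₀)
    have h2 := (hι.isInducing.specializes_iff.1 hsp).mem_closed (hc₀ : IsClosed ({z₀} : Set _)) rfl
    rw [(h2 : z' = z₀)]
  have hcl : ∀ z ∈ trace a h x (h.left u), IsClosed ({z} : Set ↥(h.left.fiber (h.left u))) := fun z hz => by
    let p := h.left.fiberι (h.left u) z
    have h1 := ResTrdeg.rdeg_congr (f := f) ha hb w ha hb w
      (u := h.left.fiberι (h.left u) z₀) (u' := p) ((hz₀ : Points.ofPt a _ = x).trans (hz : Points.ofPt a p = x).symm)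
    have h2 : FibDim.rd h.left p = 0 := by
      have h3 : (FibDim.rd h.left p : Cardinal.{u}) = (FibDim.rd h.left (h.left.fiberι _ z₀) : Cardinal.{u}) := by
        rw [FibDim.rd_eq_rdeg, FibDim.rd_eq_rdeg]; exact h1.symm
      rw [h0] at h3
      exact_mod_cast h3
    have hfin := CycLib.finite_residueFieldMap_of_rd_eq_zero h.left p h2
    have halg : @Algebra.IsAlgebraic (V.left.residueField (h.left p)) _ _ _ (h.left.residueFieldMap p).hom.toAlgebra := by
      algebraize [(h.left.residueFieldMap p).hom]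
      exact Algebra.IsAlgebraic.of_finite _ _
    refine isClosed_of_closure_subset fun z' hz' => ?_
    exact (hι.injective (H3Sch.eq_of_specializes_of_isAlgebraic h.left p halg
      ((specializes_iff_mem_closure.2 hz').map hι.continuous)
      ((map_fiberι h.left z).trans (map_fiberι h.left z').symm))).symm
  refine FieldDim.isOpen_singleton_of_closed (hcl _ hmem) fun z' hz' => ?_
  exact ((hz'.mem_closed (hcl z' (hz'.mem_open ho hmem)) rfl) : h.left.asFiber u = z').symm

theorem isOpen_singleton_of_qf {x : Points X} (hx : Qf f x) {v : ↥V.left} {z : ↥(h.left.fiber v)}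
    (hz : z ∈ trace a h x v) : IsOpen ({z} : Set ↥(h.left.fiber v)) := by
  suffices key : ∀ u, h.left.fiberι v z = u → h.left u = v → IsOpen ({z} : Set ↥(h.left.fiber v)) from
    key _ rfl (map_fiberι h.left z)
  rintro u hzu rfl
  have h1 := (qf_iff_isOpen_asFiber hf ha hb w u).1 (by rwa [← hzu, (hz : Points.ofPt a _ = x)])
  have : z = h.left.asFiber u :=
    (h.left.fiberι (h.left u)).isEmbedding.injective (hzu.trans (Scheme.Hom.fiberι_asFiber h.left u).symm)
  rwa [this]

/-- The trace of a quasi-finite point is open and closed. -/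
theorem isClopen_trace_of_qf {x : Points X} (hx : Qf f x) (v : ↥V.left) : IsClopen (trace a h x v) := by
  have : LocallyOfFiniteType h.left := hf a b h ha hb w
  obtain ⟨_, _⟩ := fiber_lnj h.left v
  have ho : IsOpen (trace a h x v) := by
    rw [← Set.biUnion_of_singleton (trace a h x v)]
    exact isOpen_biUnion fun z hz => isOpen_singleton_of_qf hf ha hb w hx hz
  refine ⟨FieldDim.isClosed_of_isOpen ho fun z z' hzz' hz => ?_, ho⟩
  have hc : IsClosed ({z} : Set ↥(h.left.fiber v)) :=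
    isClosed_singleton_of_isLocallyClosed_singleton (isOpen_singleton_of_qf hf ha hb w hx hz).isLocallyClosed
  rwa [(hzz'.mem_closed hc rfl : z' = z)]

omit hf ha

/-- Over a point of a decent space, a set of points of the chart with open traces is the trace of an open. -/
theorem exists_open_of_trace (hYa : IsAlgSpace Y) (hY : IsDecent Y) (y : Points Y) {A : Set ↥U.left}
    (hA : ∀ u ∈ A, Points.ofPt b (h.left u) = y)
    (ho : ∀ u ∈ A, IsOpen (h.left.fiberι (h.left u) ⁻¹' A)) :
    ∃ O : Set ↥U.left, IsOpen O ∧ A ⊆ O ∧ ∀ u ∈ O, Points.ofPt b (h.left u) = y → u ∈ A := by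
  have key : ∀ u ∈ A, ∃ O : Set ↥U.left, IsOpen O ∧ u ∈ O ∧ ∀ u' ∈ O, Points.ofPt b (h.left u') = y → u' ∈ A := by
    intro u hu
    obtain ⟨W, hW, hvW, -⟩ := exists_isAffineOpen_mem_and_subset (U := (⊤ : V.left.Opens)) (x := h.left u) trivial
    let b' : (yon S).obj (Over.mk (W.ι ≫ V.hom)) ⟶ Y := (yon S).map (Over.homMk W.ι rfl) ≫ b
    have hb' : RepWith @Etale b' :=
      repWith_comp ((repWith_yon_map_iff _ _).2 (inferInstanceAs (Etale W.ι))) hb
    have : CompactSpace ↥(Over.mk (W.ι ≫ V.hom)).left := isCompact_iff_compactSpace.1 hW.isCompact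
    have hfin : {v | v ∈ W ∧ Points.ofPt b v = y}.Finite := by
      refine ((finite_fibre hYa hY hb' y).image W.ι).subset fun v hv => ⟨⟨v, hv.1⟩, ?_, rfl⟩
      show Points.ofPt b' _ = y
      rw [ofPt_comp]
      exact hv.2
    let N : Set ↥V.left := (W : Set ↥V.left) \ ⋃ v ∈ {v | v ∈ W ∧ Points.ofPt b v = y} \ {h.left u}, closure {v}
    have hN : IsOpen N := W.2.sdiff ((hfin.subset Set.diff_subset).isClosed_biUnion fun _ _ => isClosed_closure)
    have huN : h.left u ∈ N := ⟨hvW, fun hm => by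
      obtain ⟨v, ⟨⟨-, hv⟩, hne⟩, hc⟩ := Set.mem_iUnion₂.1 hm
      exact hne (eq_of_specializes_of_isDecent hY hb ((hA u hu).trans hv.symm)
        (specializes_iff_mem_closure.2 hc)).symm⟩
    obtain ⟨O₁, hO₁, hO₁A⟩ := (h.left.fiberι (h.left u)).isEmbedding.isInducing.isOpen_iff.1 (ho u hu)
    refine ⟨O₁ ∩ h.left ⁻¹' N, hO₁.inter (hN.preimage h.left.continuous), ⟨?_, huN⟩, ?_⟩
    · have h2 : h.left.asFiber u ∈ h.left.fiberι (h.left u) ⁻¹' A := by
        rw [Set.mem_preimage, Scheme.Hom.fiberι_asFiber]; exact hu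
      rw [← hO₁A, Set.mem_preimage, Scheme.Hom.fiberι_asFiber] at h2
      exact h2
    · rintro u' ⟨hu'O, hu'W, hu'N⟩ hy'
      have he : h.left u' = h.left u := by
        by_contra hne
        exact hu'N (Set.mem_iUnion₂.2 ⟨_, ⟨⟨hu'W, hy'⟩, hne⟩, subset_closure rfl⟩)
      obtain ⟨z, rfl⟩ : u' ∈ Set.range (h.left.fiberι (h.left u)) := by rw [Scheme.Hom.range_fiberι]; exact he
      exact hO₁A.subset hu'O
  choose O hO huO hOA using key
  exact ⟨⋃ (u) (hu : u ∈ A), O u hu, isOpen_iUnion fun u => isOpen_iUnion fun hu => hO u hu,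
    fun u hu => Set.mem_iUnion₂.2 ⟨u, hu, huO u hu⟩, fun u hu hy => by
      obtain ⟨u', hu', hm⟩ := Set.mem_iUnion₂.1 hu
      exact hOA u' hu' u hm hy⟩

omit w
include hf

section fibre

variable (hXa : IsAlgSpace X) (hYa : IsAlgSpace Y) {y : Points Y} {x : Points X}
  (hx : x ∈ Points.map f ⁻¹' {y})

omit hb
include hXa hYa

theorem exists_chart_point : ∃ (U V : Over S) (a : (yon S).obj U ⟶ X) (b : (yon S).obj V ⟶ Y) (h : U ⟶ V),
    RepWith @Etale a ∧ RepWith @Surjective a ∧ RepWith @Etale b ∧ a ≫ f = (yon S).map h ≫ b ∧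
      ∀ u, Points.map f (Points.ofPt a u) = Points.ofPt b (h.left u) := by
  obtain ⟨U, V, a, b, h, ha, hs, hb, -, w⟩ := exists_chart hXa hYa f
  exact ⟨U, V, a, b, h, ha, hs, hb, w, fun u => by rw [Points.map_ofPt, w, ofPt_comp]⟩

theorem qf_of_isolated (hi : IsOpen ({⟨x, hx⟩} : Set ↥(Points.map f ⁻¹' {y}))) : Qf f x := by
  obtain ⟨U, V, a, b, h, ha, hs, hb, w, hm⟩ := exists_chart_point hf hXa hYa
  obtain ⟨u, hu⟩ := surjective_ofPt hs x
  obtain ⟨O, hO, hOe⟩ := isOpen_induced_iff.1 hi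
  refine qf_of_isOpen_trace hf ha hb w u hu ?_
  have hy : Points.ofPt b (h.left u) = y := by rw [← hm, hu]; exact hx
  convert hO.preimage ((Points.continuous_ofPt a).comp (h.left.fiberι (h.left u)).continuous) using 1
  ext z
  have hzy : Points.ofPt a (h.left.fiberι (h.left u) z) ∈ Points.map f ⁻¹' {y} := by
    rw [Set.mem_preimage, hm, map_fiberι]; exact hy
  have := Set.ext_iff.1 hOe ⟨_, hzy⟩
  simpa using this.symm

theorem qf_of_closed_max (hc : IsClosed ({⟨x, hx⟩} : Set ↥(Points.map f ⁻¹' {y})))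
    (hg : ∀ x' : ↥(Points.map f ⁻¹' {y}), x' ⤳ ⟨x, hx⟩ → x' = ⟨x, hx⟩) : Qf f x := by
  obtain ⟨U, V, a, b, h, ha, hs, hb, w, hm⟩ := exists_chart_point hf hXa hYa
  obtain ⟨u, hu⟩ := surjective_ofPt hs x
  have : LocallyOfFiniteType h.left := hf a b h ha hb w
  obtain ⟨_, _⟩ := fiber_lnj h.left (h.left u)
  obtain ⟨C, hC, hCe⟩ := isClosed_induced_iff.1 hc
  refine qf_of_isOpen_trace hf ha hb w u hu ?_
  have hy : Points.ofPt b (h.left u) = y := by rw [← hm, hu]; exact hx
  have hzy : ∀ z, Points.ofPt a (h.left.fiberι (h.left u) z) ∈ Points.map f ⁻¹' {y} := fun z => by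
    rw [Set.mem_preimage, hm, map_fiberι]; exact hy
  refine FieldDim.isOpen_of_isClosed ?_ fun z z' hzz' hz => ?_
  · convert hC.preimage ((Points.continuous_ofPt a).comp (h.left.fiberι (h.left u)).continuous) using 1
    ext z
    have := Set.ext_iff.1 hCe ⟨_, hzy z⟩
    simpa using this.symm
  · have h1 := hg ⟨_, hzy z'⟩ ((subtype_specializes_iff _ _).2
      ((hz : Points.ofPt a _ = x) ▸ hzz'.map ((Points.continuous_ofPt a).comp (h.left.fiberι _).continuous)))
    exact congrArg Subtype.val h1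

theorem isolated_closed_of_qf (hY : IsDecent Y) (hq : Qf f x) :
    IsOpen ({⟨x, hx⟩} : Set ↥(Points.map f ⁻¹' {y})) ∧
      IsClosed ({⟨x, hx⟩} : Set ↥(Points.map f ⁻¹' {y})) := by
  obtain ⟨U, V, a, b, h, ha, hs, hb, w, hm⟩ := exists_chart_point hf hXa hYa
  obtain ⟨O, hO, hAO, hOA⟩ := exists_open_of_trace hb w hYa hY y (A := Points.ofPt a ⁻¹' {x})
    (fun u hu => by rw [← hm, (hu : Points.ofPt a u = x)]; exact hx)
    (fun u _ => (isClopen_trace_of_qf hf ha hb w hq (h.left u)).2)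
  obtain ⟨O', hO', hAO', hOA'⟩ := exists_open_of_trace hb w hYa hY y
    (A := {u | Points.ofPt b (h.left u) = y} \ Points.ofPt a ⁻¹' {x}) (fun u hu => hu.1)
    (fun u hu => by
      convert (isClopen_trace_of_qf hf ha hb w hq (h.left u)).1.isOpen_compl using 1
      ext z
      simp only [Set.mem_preimage, Set.mem_sdiff, Set.mem_setOf_eq, map_fiberι, Set.mem_compl_iff,
        Set.mem_singleton_iff]
      exact ⟨fun h => h.2, fun h => ⟨hu.1, h⟩⟩)
  refine ⟨?_, isOpen_compl_iff.1 ?_⟩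
  · refine isOpen_induced_iff.2 ⟨Points.ofPt a '' O, isOpenMap_ofPt ha _ hO, ?_⟩
    ext ⟨x', hx'⟩
    simp only [Set.mem_preimage, Set.mem_singleton_iff, Subtype.mk.injEq]
    constructor
    · rintro ⟨u, hu, rfl⟩
      exact hOA u hu ((hm u).symm.trans hx')
    · intro he
      subst he
      obtain ⟨u, rfl⟩ := surjective_ofPt hs x'
      exact ⟨u, hAO rfl, rfl⟩
  · refine isOpen_induced_iff.2 ⟨Points.ofPt a '' O', isOpenMap_ofPt ha _ hO', ?_⟩
    ext ⟨x', hx'⟩
    simp only [Set.mem_preimage, Set.mem_compl_iff, Set.mem_singleton_iff, Subtype.mk.injEq]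
    constructor
    · rintro ⟨u, hu, rfl⟩
      exact (hOA' u hu ((hm u).symm.trans hx')).2
    · intro hne
      obtain ⟨u, rfl⟩ := surjective_ofPt hs x'
      exact ⟨u, hAO' ⟨(hm u).symm.trans hx', hne⟩, rfl⟩

theorem qf_of_localDim (hX : IsDecent X) (hl : FlatMor.localDim ↥(Points.map f ⁻¹' {y}) ⟨x, hx⟩ = 0) :
    Qf f x := by
  obtain ⟨U, V, a, b, h, ha, hs, hb, w, hm⟩ := exists_chart_point hf hXa hYa
  obtain ⟨u, hu⟩ := surjective_ofPt hs x
  have : LocallyOfFiniteType h.left := hf a b h ha hb w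
  obtain ⟨_, _⟩ := fiber_lnj h.left (h.left u)
  have := t0Space_points hXa hX
  obtain ⟨O, hxO, hO⟩ := FieldDim.exists_open_of_localDim_eq_zero hl
  have hy : Points.ofPt b (h.left u) = y := by rw [← hm, hu]; exact hx
  have hzy : ∀ z, Points.ofPt a (h.left.fiberι (h.left u) z) ∈ Points.map f ⁻¹' {y} := fun z => by
    rw [Set.mem_preimage, hm, map_fiberι]; exact hy
  let π : ↥(h.left.fiber (h.left u)) → ↥(Points.map f ⁻¹' {y}) := fun z => ⟨_, hzy z⟩
  have hπ : Continuous π :=
    ((Points.continuous_ofPt a).comp (h.left.fiberι (h.left u)).continuous).subtype_mk _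
  have hO' : IsOpen (π ⁻¹' O) := O.2.preimage hπ
  have key : ∀ z z', π z ∈ O → π z' ∈ O → z ⤳ z' → z' = z := fun z z' hz hz' hzz' => by
    have h1 : π z ⤳ π z' := hzz'.map hπ
    have h2 : π z = π z' := (h1.antisymm (FieldDim.specializes_symm_of_dim_le_zero hO hz hz' h1)).eq
    exact (h.left.fiberι (h.left u)).isEmbedding.injective (eq_of_specializes_of_isDecent hX ha
      (congrArg Subtype.val h2).symm (hzz'.map (h.left.fiberι (h.left u)).continuous))
  rw [← hu, qf_iff_isOpen_asFiber hf ha hb w u]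
  have hmem : π (h.left.asFiber u) ∈ O := by
    have : π (h.left.asFiber u) = ⟨x, hx⟩ := Subtype.ext (by
      show Points.ofPt a (h.left.fiberι _ _) = x
      rw [Scheme.Hom.fiberι_asFiber, hu])
    rwa [this]
  refine FieldDim.isOpen_singleton_of_closed ?_ fun z' h' => (key z' _ (h'.mem_open hO' hmem) hmem h').symm
  refine isClosed_singleton_of_isLocallyClosed_singleton ?_
  refine ⟨_, closure {h.left.asFiber u}, hO', isClosed_closure, ?_⟩
  refine Set.Subset.antisymm (fun z hz => ?_) fun z hz => ?_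
  · rw [(hz : z = h.left.asFiber u)]
    exact ⟨hmem, subset_closure rfl⟩
  · exact key _ z hmem hz.1 (specializes_iff_mem_closure.2 hz.2)

include hx in
theorem qf_of_finite (hX : IsDecent X) (hfin : (Points.map f ⁻¹' {y}).Finite) : Qf f x := by
  obtain ⟨U, V, a, b, h, ha, hs, hb, w, hm⟩ := exists_chart_point hf hXa hYa
  obtain ⟨u, hu⟩ := surjective_ofPt hs x
  have : LocallyOfFiniteType h.left := hf a b h ha hb w
  obtain ⟨_, _⟩ := fiber_lnj h.left (h.left u)
  obtain ⟨W, hW, huW, -⟩ := exists_isAffineOpen_mem_and_subset (U := (⊤ : U.left.Opens)) (x := u) trivial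
  let a' : (yon S).obj (Over.mk (W.ι ≫ U.hom)) ⟶ X := (yon S).map (Over.homMk W.ι rfl) ≫ a
  have ha' : RepWith @Etale a' := repWith_comp ((repWith_yon_map_iff _ _).2 (inferInstanceAs (Etale W.ι))) ha
  have : CompactSpace ↥(Over.mk (W.ι ≫ U.hom)).left := isCompact_iff_compactSpace.1 hW.isCompact
  rw [← hu, qf_iff_isOpen_asFiber hf ha hb w u]
  have hy : Points.ofPt b (h.left u) = y := by rw [← hm, hu]; exact hx
  refine Jac.isOpen_singleton_of_finite (W.2.preimage (h.left.fiberι (h.left u)).continuous)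
    (Set.Finite.of_finite_image ?_ (h.left.fiberι (h.left u)).isEmbedding.injective.injOn) ?_
  · refine ((hfin.biUnion fun x' _ => finite_fibre hXa hX ha' x').image W.ι).subset ?_
    rintro _ ⟨z, hz, rfl⟩
    refine ⟨⟨_, hz⟩, Set.mem_iUnion₂.2 ⟨Points.ofPt a (h.left.fiberι _ z), ?_, ?_⟩, rfl⟩
    · rw [Set.mem_preimage, hm, map_fiberι]; exact hy
    · show Points.ofPt a' _ = _
      rw [ofPt_comp]; rfl
  · show h.left.fiberι _ (h.left.asFiber u) ∈ W
    rw [Scheme.Hom.fiberι_asFiber]; exact huW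

end fibre

end Groth.Agent.AlgSpDM.FibreCond
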