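import Groth.Agent.AlgSpDM.FibreCond

/-!
# Conditions on fibres over field valued points
-/

set_option autoImplicit false
set_option backward.isDefEq.respectTransparency false
set_option backward.isDefEq.respectTransparency.types false
set_option maxHeartbeats 800000

universe u

open CategoryTheory CategoryTheory.Limits AlgebraicGeometry AlgSp Groth.Agent.AlgSpLib Groth.Agent.AlgSpPts
  Groth.Agent.AlgSpDec Groth.Agent.AlgSpDM.FibreCond Topology

namespace Groth.Agent.AlgSpDM.FibreField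

variable {S : Scheme.{u}} {X Y : Space S} (f : X ⟶ Y) (hf : LocP @LocallyOfFiniteType f.hom)
  (r : FieldPt Y.obj) (Xk : Space S) (fst : Xk ⟶ X) (snd : Xk.obj ⟶ (yon S).obj r.pt)
  (hsq : IsPullback fst.hom snd f.hom r.toHom)

include hf hsq

theorem lft_snd : LocP @LocallyOfFiniteType snd :=
  locP_of_isPullback hsq X.property Y.property (IsAlgSpace.yon_obj _) hf

theorem lnj : Jac.LNJ Xk.obj := Jac.lnj_of_field (lft_snd f hf r Xk fst snd hsq)

theorem localDim_zero_iff_qf (xt : Points Xk.obj) :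
    HasAt (fun U u => FlatMor.localDim ↥U u = 0) Xk.obj xt ↔ Qf f.hom (Points.map fst.hom xt) := by
  have hsl := lft_snd f hf r Xk fst snd hsq
  have : Subsingleton ↥r.pt.left := inferInstanceAs (Subsingleton (PrimeSpectrum r.K))
  constructor
  · rintro ⟨U, a, u, ha, hu, h0⟩
    obtain ⟨h, hh⟩ := (yon S).map_surjective (a ≫ snd)
    have : LocallyOfFiniteType h.left := hsl a (𝟙 _) h ha (repWith_id _ _) (by rw [Category.comp_id, hh])
    obtain ⟨U₀, V₀, a₀, b₀, h₀, u₀, ha₀, hb₀, w₀, hx₀, hd⟩ :=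
      FieldFibre.hasAtMor_zero_of_fibre hsq X.property Y.property hf xt a ha h hh.symm u hu
        (by rw [FieldFibre.fibreDimAt_of_subsingleton]; exact h0)
    rw [← hx₀]
    exact (CodimQf.hasAtMor_qf_iff hf ha₀ hb₀ w₀ u₀).2 hd
  · intro hq
    obtain ⟨U₀, V₀, a₀, b₀, h₀, ha₀, hs₀, hb₀, -, w₀⟩ := exists_chart X.property Y.property f.hom
    obtain ⟨u₀, hu₀⟩ := surjective_ofPt hs₀ (Points.map fst.hom xt)
    rw [← hu₀] at hq
    replace hq := (CodimQf.hasAtMor_qf_iff hf ha₀ hb₀ w₀ u₀).1 hq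
    have hd := RelDimSp.baseChange hsq X.property Y.property (IsAlgSpace.yon_obj _) hf xt 0
      ⟨U₀, V₀, a₀, b₀, h₀, u₀, ha₀, hb₀, w₀, hu₀, hq⟩
    obtain ⟨U, a, u, -, ha, rfl⟩ := exists_affine_chart_at Xk.property xt
    obtain ⟨h, hh⟩ := (yon S).map_surjective (a ≫ snd)
    have w : a ≫ snd = (yon S).map h ≫ 𝟙 _ := by rw [Category.comp_id, hh]
    rw [FieldFibre.hasAtMor_iff hsl ha (repWith_id _ _) w] at hd
    have : LocallyOfFiniteType h.left := hsl a (𝟙 _) h ha (repWith_id _ _) w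
    rw [FieldFibre.fibreDimAt_of_subsingleton] at hd
    exact ⟨U, a, u, ha, rfl, hd⟩

theorem isOpen_iff_qf (xt : Points Xk.obj) :
    IsOpen ({xt} : Set (Points Xk.obj)) ↔ Qf f.hom (Points.map fst.hom xt) :=
  (Jac.isOpen_singleton_iff_hasAt (lnj f hf r Xk fst snd hsq) Xk.property xt).trans
    (localDim_zero_iff_qf f hf r Xk fst snd hsq xt)

theorem point_conditions (x : Points X.obj) (hx : x ∈ Points.map f.hom ⁻¹' {Points.mk r}) (xt : Points Xk.obj)
    (hxt : Points.map fst.hom xt = x) :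
    ((IsOpen ({xt} : Set (Points Xk.obj)) ↔
      IsClosed ({xt} : Set (Points Xk.obj)) ∧ ∀ x' : Points Xk.obj, x' ⤳ xt → x' = xt) ∧
    (IsOpen ({xt} : Set (Points Xk.obj)) ↔ HasAt (fun U u => FlatMor.localDim ↥U u = 0) Xk.obj xt) ∧
    (HasAt (fun U u => FlatMor.localDim ↥U u = 0) Xk.obj xt ↔ Qf f.hom x) ∧
    (IsDecent Xk.obj → (FlatMor.localDim (Points Xk.obj) xt = 0 ↔ IsOpen ({xt} : Set (Points Xk.obj)))) ∧
    (IsDecent Y.obj →
      (IsOpen ({(⟨x, hx⟩ : ↥(Points.map f.hom ⁻¹' {Points.mk r}))} : Set ↥(Points.map f.hom ⁻¹' {Points.mk r})) ↔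
        IsOpen ({xt} : Set (Points Xk.obj))) ∧
      ((IsClosed ({(⟨x, hx⟩ : ↥(Points.map f.hom ⁻¹' {Points.mk r}))} : Set ↥(Points.map f.hom ⁻¹' {Points.mk r})) ∧
          ∀ x' : ↥(Points.map f.hom ⁻¹' {Points.mk r}), x' ⤳ (⟨x, hx⟩ : ↥(Points.map f.hom ⁻¹' {Points.mk r})) →
            x' = (⟨x, hx⟩ : ↥(Points.map f.hom ⁻¹' {Points.mk r}))) ↔
        IsClosed ({xt} : Set (Points Xk.obj)) ∧ ∀ x' : Points Xk.obj, x' ⤳ xt → x' = xt)) ∧
    (IsDecent Y.obj → IsDecent X.obj →
      (FlatMor.localDim ↥(Points.map f.hom ⁻¹' {Points.mk r}) (⟨x, hx⟩ : ↥(Points.map f.hom ⁻¹' {Points.mk r})) = 0 ↔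
        IsOpen ({(⟨x, hx⟩ : ↥(Points.map f.hom ⁻¹' {Points.mk r}))} : Set ↥(Points.map f.hom ⁻¹' {Points.mk r}))))) := by
  have hJ := lnj f hf r Xk fst snd hsq
  have hq := isOpen_iff_qf f hf r Xk fst snd hsq xt
  rw [hxt] at hq
  have h3 := Jac.isOpen_singleton_iff hJ Xk.property xt
  refine ⟨h3, Jac.isOpen_singleton_iff_hasAt hJ Xk.property xt, hxt ▸ localDim_zero_iff_qf f hf r Xk fst snd hsq xt,
    fun hd => Jac.localDim_points_eq_zero_iff hJ Xk.property hd xt, fun hY => ⟨?_, ?_⟩, fun hY hX => ⟨?_, ?_⟩⟩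
  · exact ⟨fun hi => hq.2 (qf_of_isolated hf X.property Y.property hx hi),
      fun h => (isolated_closed_of_qf hf X.property Y.property hx hY (hq.1 h)).1⟩
  · rw [← h3, hq]
    refine ⟨fun h => qf_of_closed_max hf X.property Y.property hx h.1 h.2, fun h => ?_⟩
    obtain ⟨ho, hc⟩ := isolated_closed_of_qf hf X.property Y.property hx hY h
    exact ⟨hc, fun x' hx' => hx'.mem_open ho rfl⟩
  · intro h
    exact (isolated_closed_of_qf hf X.property Y.property hx hY
      (qf_of_localDim hf X.property Y.property hx hX h)).1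
  · exact FieldDim.localDim_eq_zero_of_isOpen

theorem fibre_conditions (hy : Points.mk r ∈ Set.range (Points.map f.hom)) :
    (DiscreteTopology (Points Xk.obj) ↔ AlgSp.dim Xk.obj = 0) ∧
    (AlgSp.dim Xk.obj = 0 ↔ ∀ x : Points X.obj, Points.map f.hom x = Points.mk r → Qf f.hom x) ∧
    (DiscreteTopology (Points Xk.obj) → topologicalKrullDim (Points Xk.obj) = 0) ∧
    (IsDecent Xk.obj → topologicalKrullDim (Points Xk.obj) = 0 → DiscreteTopology (Points Xk.obj)) ∧
    (IsDecent Xk.obj → Finite (Points Xk.obj) → DiscreteTopology (Points Xk.obj)) ∧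
    (Finite (Points Xk.obj) → (Points.map f.hom ⁻¹' {Points.mk r}).Finite) ∧
    (DiscreteTopology ↥(Points.map f.hom ⁻¹' {Points.mk r}) →
      topologicalKrullDim ↥(Points.map f.hom ⁻¹' {Points.mk r}) = 0) ∧
    (IsDecent Y.obj → (DiscreteTopology ↥(Points.map f.hom ⁻¹' {Points.mk r}) ↔ DiscreteTopology (Points Xk.obj))) ∧
    (IsDecent Y.obj → IsDecent X.obj →
      (topologicalKrullDim ↥(Points.map f.hom ⁻¹' {Points.mk r}) = 0 →
        DiscreteTopology ↥(Points.map f.hom ⁻¹' {Points.mk r})) ∧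
      ((Points.map f.hom ⁻¹' {Points.mk r}).Finite → DiscreteTopology ↥(Points.map f.hom ⁻¹' {Points.mk r}))) := by
  have hJ := lnj f hf r Xk fst snd hsq
  have hlift : ∀ x : Points X.obj, Points.map f.hom x = Points.mk r → ∃ xt, Points.map fst.hom xt = x := fun x hx => by
    obtain ⟨z, hz, -⟩ := exists_point_of_isPullback hsq (x := x)
      (y := Points.ofScheme r.pt (IsLocalRing.closedPoint r.K))
      (by rw [hx, ← Points.ofPt_eq_map_ofScheme, Points.ofPt_toHom])
    exact ⟨z, hz⟩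
  have hover : ∀ xt, Points.map f.hom (Points.map fst.hom xt) = Points.mk r := fun xt => by
    obtain ⟨t, ht⟩ := (Points.schemeHomeo r.pt).surjective (Points.map snd xt)
    have ht' : Points.ofScheme r.pt t = Points.map snd xt := ht
    rw [← Points.map_comp, hsq.w, Points.map_comp, ← ht', ← Points.ofPt_eq_map_ofScheme, Points.ofPt_toHom]
  obtain ⟨x₀, hx₀⟩ := hy
  have : Nonempty (Points Xk.obj) := ⟨(hlift x₀ hx₀).choose⟩
  have : Nonempty ↥(Points.map f.hom ⁻¹' {Points.mk r}) := ⟨⟨x₀, hx₀⟩⟩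
  have hdim := Jac.discreteTopology_iff_dim hJ Xk.property
  have hdq : DiscreteTopology (Points Xk.obj) ↔
      ∀ x : Points X.obj, Points.map f.hom x = Points.mk r → Qf f.hom x := by
    refine ⟨fun _ x hx => ?_, fun h => discreteTopology_iff_isOpen_singleton.2 fun xt =>
      (isOpen_iff_qf f hf r Xk fst snd hsq xt).2 (h _ (hover xt))⟩
    obtain ⟨xt, rfl⟩ := hlift x hx
    exact (isOpen_iff_qf f hf r Xk fst snd hsq xt).1 (isOpen_discrete _)
  refine ⟨hdim, hdim.symm.trans hdq, fun _ => ?_, fun hd h => ?_, fun hd _ => ?_, fun _ => ?_, fun _ => ?_,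
    fun hY => ?_, fun hY hX => ⟨fun h => ?_, fun h => ?_⟩⟩
  · exact le_antisymm (topologicalKrullDim_zero_of_discreteTopology _) FieldDim.zero_le_topologicalKrullDim
  · exact discreteTopology_iff_isOpen_singleton.2 fun xt => (Jac.localDim_points_eq_zero_iff hJ Xk.property hd xt).1
      (le_antisymm (h ▸ FieldDim.localDim_le xt) (FieldDim.zero_le_localDim xt))
  · exact discreteTopology_iff_isOpen_singleton.2 fun xt => Jac.isOpen_singleton_of_finite_points hJ Xk.property hd xt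
  · refine (Set.finite_range (Points.map fst.hom)).subset fun x hx => ?_
    obtain ⟨xt, rfl⟩ := hlift x hx
    exact ⟨xt, rfl⟩
  · exact le_antisymm (topologicalKrullDim_zero_of_discreteTopology _) FieldDim.zero_le_topologicalKrullDim
  · rw [hdq]
    refine ⟨fun _ x hx => qf_of_isolated hf X.property Y.property (hx : x ∈ Points.map f.hom ⁻¹' {Points.mk r})
      (isOpen_discrete _), fun h => discreteTopology_iff_isOpen_singleton.2 fun ⟨x, hx⟩ =>
        (isolated_closed_of_qf hf X.property Y.property hx hY (h x hx)).1⟩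
  · exact discreteTopology_iff_isOpen_singleton.2 fun ⟨x, hx⟩ =>
      (isolated_closed_of_qf hf X.property Y.property hx hY (qf_of_localDim hf X.property Y.property hx hX
        (le_antisymm (h ▸ FieldDim.localDim_le _) (FieldDim.zero_le_localDim _)))).1
  · exact discreteTopology_iff_isOpen_singleton.2 fun ⟨x, hx⟩ =>
      (isolated_closed_of_qf hf X.property Y.property hx hY (qf_of_finite hf X.property Y.property hx hX h)).1

end Groth.Agent.AlgSpDM.FibreField
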