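import Groth.Agent.AlgSpMor.QfSplit

/-!
# Points of a fibre product over a quasi-finite point
-/

set_option autoImplicit false
set_option backward.isDefEq.respectTransparency false
set_option backward.isDefEq.respectTransparency.types false
set_option maxHeartbeats 800000

universe u

open CategoryTheory CategoryTheory.Limits AlgebraicGeometry AlgSp
open Groth.Agent.AlgSpLib Groth.Agent.AlgSpPts Groth.Agent.AlgSpMor

namespace Groth.Agent.AlgSpDM.FibreFinite

variable {S : Scheme.{u}} {X Y Z W : Sp S} {f : X ⟶ Y} {g : Z ⟶ Y} {p : W ⟶ X} {q : W ⟶ Z}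

/-- A point at which a quasi-compact morphism is quasi-finite has finitely many preimages in every base change over
a given point of the base. -/
theorem finite_fibre (hX : IsAlgSpace X) (hY : IsAlgSpace Y) (hW : IsPullback p q f g)
    (hft : LocP @LocallyOfFiniteType f) (hq : IsQuasiCompactMor f) (x : Points X) (hx : QfAt f x) (z : Points Z) :
    {w : Points W | Points.map p w = x ∧ Points.map q w = z}.Finite := by
  obtain ⟨k, rfl⟩ := Points.mk_surjective z
  let y' := k.toHom ≫ g
  have hP : IsAlgSpace (pullback f y') := isAlgSpace_pullback hX (IsAlgSpace.yon_obj k.pt) hY f y'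
  let M : pullback f y' ⟶ W := hW.lift (pullback.fst f y') (pullback.snd f y' ≫ k.toHom)
    (by rw [pullback.condition, Category.assoc])
  have sqM : IsPullback (pullback.snd f y') M k.toHom q := by
    refine IsPullback.of_bot ?_ (hW.lift_snd _ _ _).symm hW.flip
    rw [hW.lift_fst]
    exact (IsPullback.of_hasPullback f y').flip
  suffices hfin : {r : Points (pullback f y') | Points.map (pullback.fst f y') r = x}.Finite by
    refine (hfin.image (Points.map M)).subset fun w hw => ?_
    obtain ⟨r, -, hr⟩ := exists_point_of_isPullback sqM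
      (x := Points.ofScheme k.pt (IsLocalRing.closedPoint k.K)) (y := w)
      (by rw [hw.2, ← Points.ofPt_eq_map_ofScheme, Points.ofPt_toHom])
    refine ⟨r, ?_, hr⟩
    show Points.map (pullback.fst f y') r = x
    rw [← hW.lift_fst (pullback.fst f y') (pullback.snd f y' ≫ k.toHom)
      (by rw [pullback.condition, Category.assoc]), Points.map_comp]
    exact (congrArg (Points.map p) hr).trans hw.1
  haveI : IsAffine k.pt.left := inferInstanceAs (IsAffine (Spec _))
  obtain ⟨A, a, hA, ha, has⟩ := AlgSpDec.exists_affine_atlas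
    (hq (IsAlgSpace.yon_obj k.pt) (isQuasiCompactSp_yon k.pt) y' _ _ (IsPullback.of_hasPullback f y'))
  obtain ⟨h, hh⟩ := (yon S).map_surjective (a ≫ pullback.snd f y')
  haveI := hA
  haveI : LocallyOfFiniteType h.left :=
    locP_of_isPullback (IsPullback.of_hasPullback f y') hX hY (IsAlgSpace.yon_obj k.pt) hft a (𝟙 _) h ha
      (repWith_id _ k.pt) (by rw [Category.comp_id]; exact hh.symm)
  haveI : IsLocallyNoetherian A.left := by
    haveI : IsLocallyNoetherian k.pt.left := inferInstanceAs (IsLocallyNoetherian (Spec (CommRingCat.of k.K)))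
    exact LocallyOfFiniteType.isLocallyNoetherian h.left
  haveI : IsNoetherian A.left := ⟨⟩
  obtain ⟨X', j, hX', hj, hlqf, hxj⟩ := exists_lqf_open hX (ι := PUnit.{u + 1}) (fun _ => x) (fun _ => hx)
  let P' := pullback j (pullback.fst f y')
  let jP : P' ⟶ pullback f y' := pullback.snd j (pullback.fst f y')
  have hjP : RepWith @IsOpenImmersion jP := repWith_snd _ hj
  have sq' : IsPullback (pullback.fst j (pullback.fst f y')) (jP ≫ pullback.snd f y') (j ≫ f) y' :=
    ((IsPullback.of_hasPullback j (pullback.fst f y')).flip.paste_horiz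
      (IsPullback.of_hasPullback f y').flip).flip
  have hl := locP_of_isPullback sq' hX' hY (IsAlgSpace.yon_obj k.pt) hlqf
  let O := hjP.rep.pullback a
  let o : O ⟶ A := hjP.rep.snd a
  let a' : (yon S).obj O ⟶ P' := hjP.rep.fst a
  have sqO : IsPullback a' ((yon S).map o) jP a := hjP.rep.isPullback a
  haveI : IsOpenImmersion o.left := hjP.property_snd a
  haveI : IsLocallyNoetherian O.left := isLocallyNoetherian_of_isOpenImmersion o.left
  haveI : CompactSpace ↥O.left := QuasiCompact.compactSpace_of_compactSpace o.left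
  haveI : IsNoetherian O.left := ⟨⟩
  haveI : LocallyQuasiFinite (o ≫ h).left :=
    (hl a' (𝟙 _) (o ≫ h) (repWith_of_isPullback sqO.flip ha) (repWith_id _ k.pt)
      (by rw [Category.comp_id, Functor.map_comp, hh, ← Category.assoc, sqO.w, Category.assoc])).1
  have hOfin : (Set.univ : Set ↥O.left).Finite := by
    refine Set.Finite.subset (IsCompact.finite (s := (o ≫ h).left ⁻¹' {IsLocalRing.closedPoint k.K})
      (TopologicalSpace.NoetherianSpace.isCompact _) ((o ≫ h).left.isDiscrete_preimage_singleton _)) ?_
    intro w _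
    exact Subsingleton.elim (α := ↥k.pt.left) _ _
  refine (hOfin.image (fun t => Points.map jP (Points.ofPt a' t))).subset fun r hr => ?_
  obtain ⟨x', hx'⟩ := hxj PUnit.unit
  obtain ⟨r', -, hr'⟩ := exists_point_of_isPullback (IsPullback.of_hasPullback j (pullback.fst f y'))
    (x := x') (y := r) (hx'.trans hr.symm)
  obtain ⟨t, ht⟩ := surjective_ofPt has r
  obtain ⟨e, he, -⟩ := exists_point_of_isPullback sqO (x := r') (y := Points.ofScheme A t)
    (hr'.trans (ht.symm.trans (Points.ofPt_eq_map_ofScheme a t)))
  obtain ⟨e₀, rfl⟩ := (Points.schemeHomeo O).surjective e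
  refine ⟨e₀, Set.mem_univ _, ?_⟩
  show Points.map jP (Points.ofPt a' e₀) = r
  rw [Points.ofPt_eq_map_ofScheme, ← hr']
  exact congrArg (Points.map jP) he

end Groth.Agent.AlgSpDM.FibreFinite
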