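import Groth.Agent.AlgSpDec.AffineClassQuot
import Groth.Agent.AlgSpLib.LargestOpen
import Groth.Agent.AlgSpPts.Univ
import Groth.Agent.AlgSpPts.Imm
import Groth.Prelude.Def_AlgSpMor5

/-!
# The schematic locus of the target of a finite locally free cover
-/

set_option backward.isDefEq.respectTransparency false
set_option backward.isDefEq.respectTransparency.types false
set_option maxHeartbeats 800000

universe u

open CategoryTheory CategoryTheory.Limits AlgebraicGeometry AlgSp Groth.Agent.AlgSpLib Groth.Agent.AlgSpPts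
  Groth.Agent.AlgSpDec

namespace Groth.Agent.AlgSpDM

variable {S : Scheme.{u}} {X Y : Sp S} {U : Over S}

theorem isOpenMap_of_finLocFree {f : X ⟶ Y} (hf : RepWith finLocFree f) : IsOpenMap (Points.map f) := by
  refine fun A hA => Points.isOpen_iff.2 fun T g => ?_
  obtain ⟨-, _, _⟩ : finLocFree (hf.rep.snd g).left := hf.property_snd g
  rw [preimage_image (hf.rep.isPullback g)]
  exact (hf.rep.snd g).left.isOpenMap _ (hA.preimage (Points.continuous_ofPt _))

theorem isClosedMap_of_finLocFree {f : X ⟶ Y} (hf : RepWith finLocFree f) : IsClosedMap (Points.map f) := by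
  refine fun A hA => isOpen_compl_iff.1 (Points.isOpen_iff.2 fun T g => ?_)
  obtain ⟨_, -, -⟩ : finLocFree (hf.rep.snd g).left := hf.property_snd g
  rw [Set.preimage_compl, preimage_image (hf.rep.isPullback g), isOpen_compl_iff]
  exact (hf.rep.snd g).left.isClosedMap _ (hA.preimage (Points.continuous_ofPt _))

theorem isOpenMap_ofPt_of_finLocFree {a : (yon S).obj U ⟶ Y} (ha : RepWith finLocFree a) :
    IsOpenMap (Points.ofPt a) := fun A hA => by
  have h : Points.ofPt a '' A = Points.map a '' (Points.schemeHomeo U '' A) := by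
    rw [Set.image_image]
    exact congrArg (· '' A) (funext fun v => Points.ofPt_eq_map_ofScheme a v)
  rw [h]
  exact isOpenMap_of_finLocFree ha _ ((Points.schemeHomeo U).isOpenMap _ hA)

theorem exists_iso_of_affine_finLocFree (a : (yon S).obj U ⟶ Y) (hf : RepWith finLocFree a)
    (hs : RepWith @Surjective a) [IsAffine U.left] :
    ∃ Z : Over S, Nonempty ((yon S).obj Z ≅ Y) := by
  let R := hf.rep.pullback a
  let t : R ⟶ U := hf.rep.fst' a
  let s : R ⟶ U := hf.rep.snd a
  have sq : IsPullback ((yon S).map t) ((yon S).map s) a a := hf.rep.isPullback' a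
  obtain ⟨G, hU, hR, hgs, hgt, hpU, hpR⟩ := exists_groupoid_over sq
  obtain ⟨GU, GR, pU, pR, gs, gt, ge, gi, gc, h1, h2, h3, h4, h5, h6, h7, h8, h9, h10, h11, h12, h13⟩ := G
  subst hU hR
  obtain rfl : gs = s.left := eq_of_heq hgs
  obtain rfl : gt = t.left := eq_of_heq hgt
  obtain rfl : pU = U.hom := eq_of_heq hpU
  obtain rfl : pR = R.hom := eq_of_heq hpR
  have heq : AlgSp.IsEqvRel s t := by
    refine ⟨fun T r r' ht' hs' => ?_, fun T => ⟨fun y => ?_, ?_, ?_⟩⟩
    · exact Over.OverMorphism.ext (rel_ext sq (congrArg Over.Hom.left ht') (congrArg Over.Hom.left hs'))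
    · exact exists_rel_lift sq y y rfl
    · rintro y z ⟨r, rfl, rfl⟩
      refine exists_rel_lift sq _ _ ?_
      rw [(yon S).map_comp r t, (yon S).map_comp r s, Category.assoc, Category.assoc, sq.w]
    · rintro y z w ⟨r, rfl, hr⟩ ⟨r', rfl, rfl⟩
      refine exists_rel_lift sq _ _ ?_
      rw [(yon S).map_comp r t, Category.assoc, sq.w, ← Category.assoc, ← (yon S).map_comp r s, hr,
        (yon S).map_comp r' t, Category.assoc, sq.w, ← Category.assoc, ← (yon S).map_comp r' s]
  obtain ⟨M, m, hm, hmsurj, hpb, -⟩ := FinLocFreeQuot.exists_quotient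
    ⟨_, _, U.hom, R.hom, _, _, ge, gi, gc, h1, h2, h3, h4, h5, h6, h7, h8, h9, h10, h11, h12, h13⟩
    (hf.property_snd a) heq
    (fun Z _ ⟨z, hz⟩ => ⟨z, hz, ⊤, isAffineOpen_top U.left, fun _ _ => trivial⟩)
  let m' : U ⟶ M := m
  haveI : Flat m'.left := hm.2.1
  haveI : LocallyOfFinitePresentation m'.left := hm.2.2
  haveI : Surjective m'.left := hmsurj
  haveI : Sheaf.IsLocallySurjective a := isLocallySurjective_of_repWith ⟨hf.rep, fun T W g fst snd sq => by
    obtain ⟨-, _, _⟩ : finLocFree snd.left := hf.property _ _ _ sq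
    have : Surjective snd.left := hs.property _ _ _ sq
    exact fppf_of snd.left⟩
  haveI : Sheaf.IsLocallySurjective ((yon S).map m') :=
    isLocallySurjective_of_repWith ((repWith_yon_map_iff fppf m').2 (fppf_of m'.left))
  haveI : Epi a := (Sheaf.isLocallySurjective_iff_epi a).1 inferInstance
  haveI : Epi ((yon S).map m') := (Sheaf.isLocallySurjective_iff_epi _).1 inferInstance
  have hpb' : IsPullback ((yon S).map t) ((yon S).map s) ((yon S).map m') ((yon S).map m') :=
    (IsPullback.of_map (Over.forget S) (f := t) (g := s) (h := m') (i := m')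
      (Over.OverMorphism.ext hpb.w) hpb).map (yon S)
  exact ⟨M, nonempty_iso_of_same_kernelPair _ _ _ _ hpb' sq⟩

/-- A point whose class lies in an affine open of a finite locally free cover by a scheme has an open
neighbourhood which is a scheme. -/
theorem exists_open_subscheme_of_finLocFree_class (hY : IsAlgSpace Y) (a : (yon S).obj U ⟶ Y)
    (hf : RepWith finLocFree a) (hs : RepWith @Surjective a) {V : U.left.Opens} (hV : IsAffineOpen V) (u : U.left)
    (huV : Points.ofPt a ⁻¹' {Points.ofPt a u} ⊆ (V : Set U.left)) :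
    ∃ (T : Over S) (j : (yon S).obj T ⟶ Y),
      RepWith @IsOpenImmersion j ∧ Points.ofPt a u ∈ Set.range (Points.map j) := by
  let R := hf.rep.pullback a
  let t : R ⟶ U := hf.rep.fst' a
  let s : R ⟶ U := hf.rep.snd a
  have sq : IsPullback ((yon S).map t) ((yon S).map s) a a := hf.rep.isPullback' a
  obtain ⟨G, hU, hR, hgs, hgt⟩ := exists_groupoid sq
  obtain ⟨GU, GR, pU, pR, gs, gt, ge, gi, gc, h1, h2, h3, h4, h5, h6, h7, h8, h9, h10, h11, h12, h13⟩ := G
  subst hU hR
  obtain rfl : gs = s.left := eq_of_heq hgs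
  obtain rfl : gt = t.left := eq_of_heq hgt
  let G : Grpd.GroupoidScheme S :=
    ⟨_, _, pU, pR, _, _, ge, gi, gc, h1, h2, h3, h4, h5, h6, h7, h8, h9, h10, h11, h12, h13⟩
  obtain ⟨hG₁, hG₂, hG₃⟩ : finLocFree G.s := hf.property_snd a
  haveI : IsFinite G.s := hG₁
  haveI : Flat G.s := hG₂
  haveI : LocallyOfFinitePresentation G.s := hG₃
  have hrel : ∀ r : R.left, Points.ofPt a (t.left r) = Points.ofPt a (s.left r) := fun r => by
    rw [← ofPt_comp, ← ofPt_comp, sq.w]
  obtain ⟨W, hW, huW, hinv, -⟩ := GrpdLib.exists_invariant_affineOpen (G := G) u V hV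
    (fun r hr => huV (show Points.ofPt a (t.left r) = _ from (hrel r).trans (by rw [← hr])))
  have hpre : Points.ofPt a ⁻¹' (Points.ofPt a '' (W : Set U.left)) = W := by
    refine Set.Subset.antisymm ?_ fun x hx => ⟨x, hx, rfl⟩
    rintro x ⟨w, hw, e⟩
    obtain ⟨r, hr₁, hr₂⟩ := exists_ofPt_of_eq sq (u := w) (v := x) e
    rw [← hr₂]
    have hw' : G.t r ∈ W := by
      show t.left r ∈ W
      rw [hr₁]; exact hw
    exact (hinv.mem_iff r).2 hw'
  obtain ⟨O, j, hO, hj, hrange⟩ :=
    exists_open_subspace hY (isOpenMap_ofPt_of_finLocFree hf _ W.isOpen)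
  let P := hj.rep.pullback a
  let i : P ⟶ U := hj.rep.snd a
  haveI : IsOpenImmersion i.left := hj.property_snd a
  have hPr : i.left.opensRange = W := TopologicalSpace.Opens.ext (by
    show Set.range i.left = (W : Set U.left)
    rw [← AlgSpPts.range_preimage (hj.rep.isPullback a), hrange, hpre])
  haveI : IsAffine i.left.opensRange.toScheme := hPr ▸ hW
  haveI : IsAffine P.left := IsAffine.of_isIso i.left.isoOpensRange.hom
  have sqP := hj.rep.isPullback a
  obtain ⟨Z, ⟨e⟩⟩ := exists_iso_of_affine_finLocFree (Y := O) (hj.rep.fst a)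
    (repWith_of_isPullback sqP.flip hf) (repWith_of_isPullback sqP.flip hs)
  refine ⟨Z, e.hom ≫ j, repWith_comp (repWith_of_isIso _ e.hom) hj, ?_⟩
  obtain ⟨z, hz⟩ : Points.ofPt a u ∈ Set.range (Points.map j) := hrange.symm.subset ⟨u, huW, rfl⟩
  exact ⟨Points.map e.inv z, by rw [← Points.map_comp, e.inv_hom_id_assoc, hz]⟩

theorem finite_preimage_of_finLocFree {a : (yon S).obj U ⟶ Y} (hf : RepWith finLocFree a) (y : Points Y) :
    (Points.ofPt a ⁻¹' {y}).Finite := by
  obtain ⟨T, g, t, -, rfl⟩ := exists_ofPt_eq y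
  have sq : IsPullback ((yon S).map (hf.rep.fst' g)) ((yon S).map (hf.rep.snd g)) a g := hf.rep.isPullback' g
  obtain ⟨_, -, -⟩ : finLocFree (hf.rep.snd g).left := hf.property_snd g
  refine (((hf.rep.snd g).left.finite_preimage_singleton t).image (hf.rep.fst' g).left).subset fun x hx => ?_
  obtain ⟨w, hw₁, hw₂⟩ := exists_ofPt_of_eq sq (u := x) (v := t) hx
  exact ⟨w, hw₂, hw₁⟩

/-- A point of the target whose fibre lies in an affine open of the source is schematic. -/
theorem exists_open_subscheme_of_fibre_affine (hX : IsAlgSpace X) (hY : IsAlgSpace Y) {f : X ⟶ Y}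
    (hf : RepWith finLocFree f) (hs : RepWith @Surjective f) (y : Points Y) {U : Over S} [IsAffine U.left]
    (a : (yon S).obj U ⟶ X) (ha : RepWith @IsOpenImmersion a)
    (hy : Points.map f ⁻¹' {y} ⊆ Set.range (Points.ofPt a)) :
    ∃ (T : Over S) (j : (yon S).obj T ⟶ Y), RepWith @IsOpenImmersion j ∧ y ∈ Set.range (Points.map j) := by
  let W₀ : Set (Points Y) := (Points.map f '' (Set.range (Points.map a))ᶜ)ᶜ
  have hop : IsOpen (Set.range (Points.map a)) := by
    obtain ⟨V, p, hp, hps⟩ := hX.atlas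
    refine (isOpen_iff_chart hp hps).2 ?_
    have : IsOpenImmersion (ha.rep.snd p).left := ha.property_snd p
    rw [AlgSpPts.range_preimage (ha.rep.isPullback p)]
    exact (ha.rep.snd p).left.isOpenEmbedding.isOpen_range
  have hrange : Set.range (Points.ofPt a) = Set.range (Points.map a) := by
    rw [← (Points.schemeHomeo U).surjective.range_comp (Points.map a)]
    exact congrArg Set.range (funext fun v => Points.ofPt_eq_map_ofScheme a v)
  obtain ⟨Y₀, j₀, hY₀, hj₀, hr₀⟩ := exists_open_subspace hY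
    (W := W₀) (isClosedMap_of_finLocFree hf _ hop.isClosed_compl).isOpen_compl
  have hyW : y ∈ W₀ := by
    rintro ⟨x, hx, e⟩
    exact hx (hrange ▸ hy e)
  have := AlgSpDec.mono_of_openImmersion hj₀
  -- the preimage of the good open is a scheme
  have hjX : RepWith @IsOpenImmersion (pullback.fst f j₀) := repWith_fst f hj₀
  obtain ⟨l, hl⟩ := exists_lift_openImmersion (isAlgSpace_pullback hX hY₀ hY f j₀) (IsAlgSpace.yon_obj U) hX ha
    (pullback.fst f j₀) (by
      rw [range_map_snd_of_isPullback (IsPullback.of_hasPullback f j₀).flip, hr₀]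
      intro x hx
      by_contra hxa
      exact hx ⟨x, hxa, rfl⟩)
  let U₀ := hjX.rep.pullback a
  let i₀ : U₀ ⟶ U := hjX.rep.snd a
  let e₀ : (yon S).obj U₀ ⟶ pullback f j₀ := hjX.rep.fst a
  have sq₀ : IsPullback e₀ ((yon S).map i₀) (pullback.fst f j₀) a := hjX.rep.isPullback a
  have := AlgSpDec.mono_of_openImmersion ha
  have : IsIso e₀ := by
    have : Mono e₀ := MorphismProperty.of_isPullback (P := MorphismProperty.monomorphisms _) sq₀.flip
      (inferInstanceAs (Mono a))
    exact ⟨sq₀.lift (𝟙 _) l (by rw [Category.id_comp, hl]), by rw [← cancel_mono e₀, Category.assoc, sq₀.lift_fst,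
      Category.comp_id, Category.id_comp], sq₀.lift_fst _ _ _⟩
  have : IsOpenImmersion i₀.left := hjX.property_snd a
  have hf₀ : RepWith finLocFree (e₀ ≫ pullback.snd f j₀) :=
    (MorphismProperty.cancel_left_of_respectsIso (RepWith finLocFree) e₀ _).2 (repWith_snd j₀ hf)
  have hs₀ : RepWith @Surjective (e₀ ≫ pullback.snd f j₀) :=
    (MorphismProperty.cancel_left_of_respectsIso (RepWith @Surjective) e₀ _).2 (repWith_snd j₀ hs)
  obtain ⟨y₀, hy₀⟩ : y ∈ Set.range (Points.map j₀) := hr₀ ▸ hyW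
  obtain ⟨v₀, hv₀⟩ := surjective_ofPt hs₀ y₀
  -- an affine open of the chart around the class
  obtain ⟨g, hg₁, hg₂⟩ := GrpdLib.exists_basicOpen_of_finite (isAffineOpen_top U.left)
    ((finite_preimage_of_finLocFree hf₀ y₀).image i₀.left) i₀.left.opensRange (fun _ _ => trivial)
    (by rintro _ ⟨v, -, rfl⟩; exact ⟨v, rfl⟩)
  obtain ⟨T, j, hj, hyj⟩ := exists_open_subscheme_of_finLocFree_class hY₀ _ hf₀ hs₀
    (((isAffineOpen_top U.left).basicOpen g).preimage_of_isOpenImmersion i₀.left hg₂) v₀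
    (fun v hv => hg₁ ⟨v, hv.trans hv₀, rfl⟩)
  refine ⟨T, j ≫ j₀, repWith_comp hj hj₀, ?_⟩
  obtain ⟨z, hz⟩ := hyj
  exact ⟨z, by rw [Points.map_comp, hz, hv₀, hy₀]⟩

end Groth.Agent.AlgSpDM
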