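import Groth.Agent.AlgSpDM.GeomConnected
import Groth.Agent.GeomField.Connected
import Mathlib.FieldTheory.KrullTopology

/-!
# Galois descent of topology of spaces over fields
-/

set_option autoImplicit false
set_option backward.isDefEq.respectTransparency false
set_option backward.isDefEq.respectTransparency.types false
set_option maxHeartbeats 800000

universe u

open CategoryTheory CategoryTheory.Limits AlgebraicGeometry Topology AlgSp
open Groth.Agent.AlgSpLib Groth.Agent.AlgSpPts Groth.Agent.AlgSpDec

namespace Groth.Agent.AlgSpDM.GalDesc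

open GeomConn

variable {k : Type u} [Field k]

local notation "Sk" => Spec (CommRingCat.of k)

variable (X : Sp (Spec (CommRingCat.of k)))

/-- The base change of a space to a field. -/
noncomputable abbrev Xat (K : Type u) [Field K] [Algebra k K] : Sp Sk := X ⨯ (yon Sk).obj (pt k K)

variable {K : Type u} [Field K] [Algebra k K]

/-- The morphism of `Spec K` given by an automorphism. -/
noncomputable def ptσ (σ : K ≃ₐ[k] K) : pt k K ⟶ pt k K :=
  Over.homMk (Spec.map (CommRingCat.ofHom (σ : K →ₐ[k] K).toRingHom)) (by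
    simp only [Over.mk_hom]
    rw [← Spec.map_comp, ← CommRingCat.ofHom_comp, AlgHom.toRingHom_eq_coe, AlgHom.comp_algebraMap])

/-- The action of an automorphism on the base change. -/
noncomputable def act (σ : K ≃ₐ[k] K) : Xat X K ⟶ Xat X K := prod.map (𝟙 X) ((yon Sk).map (ptσ σ))

theorem eq_act (σ : K ≃ₐ[k] K) (g : pt k K ⟶ pt k K)
    (hg : g.left = Spec.map (CommRingCat.ofHom (σ : K ≃ₐ[k] K).toRingHom)) :
    prod.map (𝟙 X) ((yon Sk).map g) = act X σ := by
  have : g = ptσ σ := Over.OverMorphism.ext hg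
  rw [this]; rfl

/-- The morphism to the level of a subextension. -/
noncomputable def ptF (F : IntermediateField k K) : pt k K ⟶ pt k F :=
  Over.homMk (Spec.map (CommRingCat.ofHom (algebraMap F K))) (by
    simp only [Over.mk_hom]
    rw [← Spec.map_comp, ← CommRingCat.ofHom_comp, ← IsScalarTower.algebraMap_eq])

/-- The projection to the level of a subextension. -/
noncomputable def lev (F : IntermediateField k K) : Xat X K ⟶ Xat X F := prod.map (𝟙 X) ((yon Sk).map (ptF F))

variable {X} {U : Over (Spec (CommRingCat.of k))} (a : (yon (Spec (CommRingCat.of k))).obj U ⟶ X)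

/-- A scheme over the field, as such. -/
noncomputable abbrev overInst (U : Over Sk) : U.left.Over Sk := ⟨U.hom⟩

attribute [local instance] overInst

/-- The base change of a chart. -/
noncomputable abbrev bcOver (U : Over Sk) (K : Type u) [Field K] [Algebra k K] : Over Sk :=
  Over.mk (Curv2.bcFst k U.left K ≫ U.hom)

/-- The projection of the base change of a chart. -/
noncomputable abbrev bcπ (U : Over Sk) (K : Type u) [Field K] [Algebra k K] : bcOver U K ⟶ U :=
  Over.homMk (Curv2.bcFst k U.left K) rfl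

/-- The second projection of the base change of a chart. -/
noncomputable abbrev bcσ (U : Over Sk) (K : Type u) [Field K] [Algebra k K] : bcOver U K ⟶ pt k K :=
  Over.homMk (Curv2.bcSnd k U.left K) pullback.condition.symm

variable (K) in
/-- The chart of the base change. -/
noncomputable def φ : (yon Sk).obj (bcOver U K) ⟶ Xat X K :=
  prod.lift ((yon Sk).map (bcπ U K) ≫ a) ((yon Sk).map (bcσ U K))

variable (K) in
theorem isPullback_φ : IsPullback ((yon Sk).map (bcπ U K)) (φ K a) a prod.fst := by
  have h0 : IsPullback (bcπ U K).left (bcσ U K).left U.hom (Spec.map (CommRingCat.ofHom (algebraMap k K))) :=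
    IsPullback.of_hasPullback _ _
  have h1 : IsPullback (bcπ U K) (bcσ U K) (toS U) (toS (pt k K)) := IsPullback.of_map (Over.forget Sk)
    (Over.OverMorphism.ext h0.w) h0
  have h2 := h1.map (yon Sk)
  have e : (yon Sk).map (toS U) = a ≫ (IsTerminal.isTerminalObj (yon Sk) _ Over.mkIdTerminal).from X :=
    (IsTerminal.isTerminalObj (yon Sk) _ Over.mkIdTerminal).hom_ext _ _
  rw [e] at h2
  refine (IsPullback.of_right ?_ (by rw [φ, prod.lift_fst]) (isPullback_prod_fst (X := X) (pt k K)).flip).flip
  rw [φ, prod.lift_snd]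
  exact h2.flip

theorem map_act_ofPt (σ : K ≃ₐ[k] K) (w : ↥(bcOver U K).left) :
    Points.map (act X σ) (Points.ofPt (φ K a) w) = Points.ofPt (φ K a) (Curv2.galAct k U.left K σ w) := by
  let gσ : bcOver U K ⟶ bcOver U K := Over.homMk (Curv2.galAct k U.left K σ) (by
    simp only [Over.mk_hom, Curv2.galAct]
    rw [pullback.lift_fst_assoc, Category.comp_id])
  have h : φ K a ≫ act X σ = (yon Sk).map gσ ≫ φ K a := by
    apply Limits.prod.hom_ext
    · simp only [φ, act, Category.assoc, prod.map_fst, prod.lift_fst, prod.lift_fst_assoc, Category.comp_id]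
      rw [← Category.assoc, ← Functor.map_comp]
      congr 2
      exact Over.OverMorphism.ext (by simp [gσ, Curv2.galAct])
    · simp only [φ, act, Category.assoc, prod.map_snd, prod.lift_snd, prod.lift_snd_assoc]
      rw [← Functor.map_comp, ← Functor.map_comp]
      congr 1
      exact Over.OverMorphism.ext (by simp [gσ, Curv2.galAct, ptσ])
  rw [Points.map_ofPt, h]
  exact ofPt_comp gσ _ w

theorem map_fst_ofPt (w : ↥(bcOver U K).left) :
    Points.map (prod.fst : Xat X K ⟶ X) (Points.ofPt (φ K a) w) = Points.ofPt a (Curv2.bcFst k U.left K w) := by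
  rw [Points.map_ofPt, φ, prod.lift_fst]
  exact ofPt_comp (bcπ U K) a w

theorem map_lev_ofPt (F : IntermediateField k K) (w : ↥(bcOver U K).left) :
    Points.map (lev X F) (Points.ofPt (φ K a) w) = Points.ofPt (φ F a) (FBaseLib.bcMap U.hom F K w) := by
  let gF : bcOver U K ⟶ bcOver U F := Over.homMk (FBaseLib.bcMap U.hom F K) (by
    simp only [Over.mk_hom]
    rw [← Category.assoc]
    exact congrArg (· ≫ U.hom) (FBaseLib.bcMap_fst U.hom F K))
  have h : φ K a ≫ lev X F = (yon Sk).map gF ≫ φ F a := by
    apply Limits.prod.hom_ext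
    · simp only [φ, lev, Category.assoc, prod.map_fst, prod.lift_fst, prod.lift_fst_assoc, Category.comp_id]
      rw [← Category.assoc, ← Functor.map_comp]
      congr 2
      exact Over.OverMorphism.ext (FBaseLib.bcMap_fst U.hom F K).symm
    · simp only [φ, lev, Category.assoc, prod.map_snd, prod.lift_snd, prod.lift_snd_assoc]
      rw [← Functor.map_comp, ← Functor.map_comp]
      congr 1
      exact Over.OverMorphism.ext (FBaseLib.bcMap_snd U.hom F K).symm
  rw [Points.map_ofPt, h]
  exact ofPt_comp gF _ w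

variable {a} (ha : RepWith @Etale a) (has : RepWith @Surjective a)

include ha in
theorem isOpenMap_φ : IsOpenMap (Points.ofPt (φ K a)) :=
  isOpenMap_ofPt (repWith_of_isPullback (isPullback_φ K a) ha)

include has in
theorem surjective_φ : Function.Surjective (Points.ofPt (φ K a)) :=
  surjective_ofPt (repWith_of_isPullback (isPullback_φ K a) has)

/-- A point of the base change lifts over any lift of its image. -/
theorem exists_lift_fst {z : Points (Xat X K)} {u : ↥U.left}
    (h : Points.ofPt a u = Points.map prod.fst z) :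
    ∃ w, Points.ofPt (φ K a) w = z ∧ Curv2.bcFst k U.left K w = u := by
  obtain ⟨r, hr, hr'⟩ := exists_point_of_isPullback (isPullback_φ K a) (x := Points.ofScheme U u) (y := z)
    (by rw [← Points.ofPt_eq_map_ofScheme]; exact h)
  obtain ⟨w, rfl⟩ := (Points.schemeHomeo _).surjective r
  refine ⟨w, (Points.ofPt_eq_map_ofScheme _ w).trans hr', (Points.schemeEquiv U).injective ?_⟩
  show Points.ofScheme U _ = Points.ofScheme U u
  rw [← hr]
  exact (Points.map_yon_map_apply (bcπ U K) w).symm

/-- A point of the base change lifts over any lift of its image at a finite level. -/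
theorem exists_lift_lev (F : IntermediateField k K) {z : Points (Xat X K)} {t : ↥(bcOver U F).left}
    (h : Points.ofPt (φ F a) t = Points.map (lev X F) z) :
    ∃ w, Points.ofPt (φ K a) w = z ∧ FBaseLib.bcMap U.hom F K w = t := by
  let gF : bcOver U K ⟶ bcOver U F := Over.homMk (FBaseLib.bcMap U.hom F K) (by
    simp only [Over.mk_hom]
    rw [← Category.assoc]
    exact congrArg (· ≫ U.hom) (FBaseLib.bcMap_fst U.hom F K))
  have hw : (yon Sk).map gF ≫ φ F a = φ K a ≫ lev X F := by
    apply Limits.prod.hom_ext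
    · simp only [φ, lev, Category.assoc, prod.map_fst, prod.lift_fst, prod.lift_fst_assoc, Category.comp_id]
      rw [← Category.assoc, ← Functor.map_comp]
      congr 2
      exact Over.OverMorphism.ext (FBaseLib.bcMap_fst U.hom F K)
    · simp only [φ, lev, Category.assoc, prod.map_snd, prod.lift_snd, prod.lift_snd_assoc]
      rw [← Functor.map_comp, ← Functor.map_comp]
      congr 1
      exact Over.OverMorphism.ext (FBaseLib.bcMap_snd U.hom F K)
  have sq : IsPullback ((yon Sk).map gF) (φ K a) (φ F a) (lev X F) := by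
    refine IsPullback.of_right ?_ hw (isPullback_φ F a)
    have e1 : gF ≫ bcπ U F = bcπ U K := Over.OverMorphism.ext (FBaseLib.bcMap_fst U.hom F K)
    rw [← Functor.map_comp, e1, lev, prod.map_fst, Category.comp_id]
    exact isPullback_φ K a
  obtain ⟨r, hr, hr'⟩ := exists_point_of_isPullback sq (x := Points.ofScheme _ t) (y := z)
    (by rw [← Points.ofPt_eq_map_ofScheme]; exact h)
  obtain ⟨w, rfl⟩ := (Points.schemeHomeo _).surjective r
  refine ⟨w, (Points.ofPt_eq_map_ofScheme _ w).trans hr', (Points.schemeEquiv (bcOver U F)).injective ?_⟩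
  show Points.ofScheme _ _ = Points.ofScheme _ t
  rw [← hr]
  exact (Points.map_yon_map_apply gF w).symm

section

variable (hX : IsAlgSpace X)

include hX in
theorem map_fst_act (σ : K ≃ₐ[k] K) (z : Points (Xat X K)) :
    Points.map (prod.fst : Xat X K ⟶ X) (Points.map (act X σ) z) = Points.map prod.fst z := by
  rw [← Points.map_comp, act, prod.map_fst, Category.comp_id]

include hX in
/-- Points over the same point are conjugate. -/
theorem exists_act_eq [Normal k K] {z z' : Points (Xat X K)}
    (h : Points.map prod.fst z = Points.map prod.fst z') : ∃ σ : K ≃ₐ[k] K, Points.map (act X σ) z = z' := by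
  obtain ⟨U, a, ha, has⟩ := hX.atlas
  obtain ⟨w, rfl⟩ := surjective_φ has z
  obtain ⟨w', rfl, hw'⟩ := exists_lift_fst (a := a) (u := Curv2.bcFst k U.left K w) (z := z')
    (by rw [← map_fst_ofPt, h])
  obtain ⟨σ, hσ⟩ := GeomField.exists_galAct_eq w w' hw'.symm
  exact ⟨σ, by rw [map_act_ofPt, hσ]⟩

include hX in
/-- Points over the same point of an intermediate level are conjugate over it. -/
theorem exists_act_eq_over [Normal k K] (F : IntermediateField k K) {z z' : Points (Xat X K)}
    (h : Points.map (lev X F) z = Points.map (lev X F) z') :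
    ∃ σ : K ≃ₐ[k] K, (∀ r : F, σ r = r) ∧ Points.map (act X σ) z = z' := by
  obtain ⟨U, a, ha, has⟩ := hX.atlas
  obtain ⟨w, rfl⟩ := surjective_φ has z
  obtain ⟨w', rfl, hw'⟩ := exists_lift_lev (a := a) F (t := FBaseLib.bcMap U.hom F K w) (z := z')
    (by rw [← map_lev_ofPt, h])
  obtain ⟨σ, hσ, hσw⟩ := GeomField.exists_galAct_eq_over (X := U.left) F w w' hw'.symm
  exact ⟨σ, hσ, by rw [map_act_ofPt, hσw]⟩

include hX in
theorem map_lev_act (F : IntermediateField k K) (σ : K ≃ₐ[k] K) (hσ : ∀ r : F, σ r = r) (z : Points (Xat X K)) :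
    Points.map (lev X F) (Points.map (act X σ) z) = Points.map (lev X F) z := by
  obtain ⟨U, a, ha, has⟩ := hX.atlas
  obtain ⟨w, rfl⟩ := surjective_φ has z
  rw [map_act_ofPt, map_lev_ofPt, map_lev_ofPt]
  exact congrArg _ (GeomField.galAct_bcMap (X := U.left) F σ hσ w)

include hX in
theorem isOpenMap_lev (F : IntermediateField k K) : IsOpenMap (Points.map (lev X F)) := by
  obtain ⟨U, a, ha, has⟩ := hX.atlas
  intro O hO
  have : Points.map (lev X F) '' O =
      Points.ofPt (φ F a) '' (FBaseLib.bcMap U.hom F K '' (Points.ofPt (φ K a) ⁻¹' O)) := by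
    rw [Set.image_image]
    conv_lhs => rw [← Set.image_preimage_eq O (surjective_φ (K := K) has), Set.image_image]
    exact Set.image_congr fun w _ => map_lev_ofPt a F w
  rw [this]
  exact isOpenMap_φ ha _ ((FBaseLib.bcMap U.hom F K).isOpenMap _
    (hO.preimage (Points.continuous_ofPt _)))

include hX in
theorem isOpenMap_fst' : IsOpenMap (Points.map (prod.fst : Xat X K ⟶ X)) :=
  have := uo_from (pt k K)
  isOpenMap_fst (isPullback_prod_fst (X := X) (pt k K))

include hX in
theorem isClosedMap_fst [Algebra.IsAlgebraic k K] : IsClosedMap (Points.map (prod.fst : Xat X K ⟶ X)) := by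
  obtain ⟨U, a, ha, has⟩ := hX.atlas
  intro T hT
  refine (((isOpenMap_ofPt ha).isQuotientMap (Points.continuous_ofPt a) (surjective_ofPt has)).isClosed_preimage).1 ?_
  convert GeomField.isClosedMap_bcFst (k := k) (X := U.left) K _ (hT.preimage (Points.continuous_ofPt (φ K a)))
  ext u
  constructor
  · rintro ⟨z, hz, hzu⟩
    obtain ⟨w, rfl, hw⟩ := exists_lift_fst (a := a) (u := u) hzu.symm
    exact ⟨w, hz, hw⟩
  · rintro ⟨w, hw, rfl⟩
    exact ⟨_, hw, map_fst_ofPt a w⟩

include hX in
/-- A closed set stable under all automorphisms descends. -/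
theorem exists_closed_descent [IsGalois k K] {T : Set (Points (Xat X K))} (hT : IsClosed T)
    (hσ : ∀ σ : K ≃ₐ[k] K, Points.map (act X σ) '' T = T) :
    ∃ T₀ : Set (Points X), IsClosed T₀ ∧ Points.map (prod.fst : Xat X K ⟶ X) ⁻¹' T₀ = T := by
  refine ⟨_, isClosedMap_fst hX T hT, Set.Subset.antisymm ?_ (Set.subset_preimage_image _ _)⟩
  rintro z ⟨z', hz', he⟩
  obtain ⟨σ, rfl⟩ := exists_act_eq hX he
  exact (hσ σ) ▸ Set.mem_image_of_mem _ hz'

include hX in
theorem exists_level_nhd [Algebra.IsAlgebraic k K] {V : Set (Points (Xat X K))} (hV : IsOpen V)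
    {z : Points (Xat X K)} (hz : z ∈ V) : ∃ F : IntermediateField k K, FiniteDimensional k F ∧
      ∀ F' : IntermediateField k K, F ≤ F' → ∃ O : Set (Points (Xat X K)), IsOpen O ∧ z ∈ O ∧ O ⊆ V ∧
        ∀ σ : K ≃ₐ[k] K, (∀ r : F', σ r = r) → ∀ w ∈ O, Points.map (act X σ) w ∈ O := by
  obtain ⟨U, a, ha, has⟩ := hX.atlas
  obtain ⟨w, rfl⟩ := surjective_φ has z
  obtain ⟨F, hF, h⟩ := GeomField.exists_open_descend (k := k) (X := U.left)
    (hV.preimage (Points.continuous_ofPt (φ K a))) hz
  refine ⟨F, hF, fun F' hle => ?_⟩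
  obtain ⟨V', hV', hw, hsub⟩ := h F' hle
  refine ⟨Points.ofPt (φ K a) '' (FBaseLib.bcMap U.hom F' K ⁻¹' V'), isOpenMap_φ ha _
    (hV'.preimage (FBaseLib.bcMap U.hom F' K).continuous), ⟨w, hw, rfl⟩, Set.image_subset_iff.2 hsub, ?_⟩
  rintro σ hσ _ ⟨v, hv, rfl⟩
  refine ⟨Curv2.galAct k U.left K σ v, ?_, (map_act_ofPt a σ v).symm⟩
  show FBaseLib.bcMap U.hom F' K (Curv2.galAct k U.left K σ v) ∈ V'
  exact (congrArg (· ∈ V') (GeomField.galAct_bcMap (X := U.left) F' σ hσ v)).mpr hv

include hX in
/-- A quasi-compact open is stable under the automorphisms fixing a finite subextension. -/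
theorem exists_finite_stable [IsGalois k K] {V : Set (Points (Xat X K))} (hV : IsOpen V) (hVc : IsCompact V) :
    ∃ F : IntermediateField k K, FiniteDimensional k F ∧
      ∀ σ : K ≃ₐ[k] K, (∀ r : F, σ r = r) → Points.map (act X σ) '' V = V := by
  classical
  choose F hF h using fun z : V => exists_level_nhd hX hV z.2
  choose O hO hzO hOV hOs using fun z : V => h z (F z) le_rfl
  obtain ⟨t, ht⟩ := hVc.elim_finite_subcover O hO fun z hz => Set.mem_iUnion.2 ⟨⟨z, hz⟩, hzO ⟨z, hz⟩⟩
  have : ∀ z : (t : Set V), FiniteDimensional k (F z.1) := fun z => hF z.1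
  refine ⟨⨆ z : (t : Set V), F z.1, inferInstance, fun σ hσ => ?_⟩
  have hin : ∀ σ : K ≃ₐ[k] K, (∀ r : ↥(⨆ z : (t : Set V), F z.1), σ r = r) →
      ∀ w ∈ V, Points.map (act X σ) w ∈ V := fun σ hσ w hw => by
    obtain ⟨z, hz⟩ := Set.mem_iUnion.1 (ht hw)
    obtain ⟨hzt, hwz⟩ := Set.mem_iUnion.1 hz
    exact hOV z (hOs z σ (fun r => hσ ⟨r.1, le_iSup (fun z : (t : Set V) => F z.1) ⟨z, hzt⟩ r.2⟩) w hwz)
  refine Set.Subset.antisymm (Set.image_subset_iff.2 (hin σ hσ)) fun w hw => ?_
  refine ⟨_, hin σ.symm (fun r => σ.symm_apply_eq.2 (hσ r).symm) w hw, ?_⟩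
  rw [← Points.map_comp]
  have : act X σ.symm ≫ act X σ = 𝟙 _ := by
    rw [act, act, prod.map_map, Category.comp_id, ← Functor.map_comp]
    have : ptσ (k := k) σ.symm ≫ ptσ σ = 𝟙 _ := by
      refine Over.OverMorphism.ext ?_
      simp only [ptσ, Over.comp_left, Over.homMk_left, Over.id_left, ← Spec.map_comp]
      change _ = 𝟙 (Spec (CommRingCat.of K))
      rw [← Spec.map_id]
      congr 1
      ext r
      exact σ.symm_apply_apply r
    rw [this, CategoryTheory.Functor.map_id, prod.map_id_id]
  rw [this, Points.map_id]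

include hX in
/-- A quasi-compact open descends to a finite subextension. -/
theorem exists_finite_descent [IsGalois k K] {V : Set (Points (Xat X K))} (hV : IsOpen V) (hVc : IsCompact V) :
    ∃ F : IntermediateField k K, FiniteDimensional k F ∧ ∃ V' : Set (Points (Xat X F)), IsOpen V' ∧ IsCompact V' ∧
      Points.map (lev X F) ⁻¹' V' = V := by
  obtain ⟨F, hF, h⟩ := exists_finite_stable hX hV hVc
  refine ⟨F, hF, _, isOpenMap_lev hX F V hV, hVc.image (Points.continuous_map _),
    Set.Subset.antisymm ?_ (Set.subset_preimage_image _ _)⟩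
  rintro z ⟨z', hz', he⟩
  obtain ⟨σ, hσ, rfl⟩ := exists_act_eq_over hX F he
  exact (h σ hσ) ▸ Set.mem_image_of_mem _ hz'

end

end Groth.Agent.AlgSpDM.GalDesc
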