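import Groth.Agent.FieldDim.Basic
import Groth.Agent.AlgSpLib.LocP

/-!
# Isolated points of spaces with locally Noetherian Jacobson charts
-/

set_option autoImplicit false
set_option backward.isDefEq.respectTransparency false
set_option backward.isDefEq.respectTransparency.types false
set_option maxHeartbeats 800000

universe u

open CategoryTheory CategoryTheory.Limits AlgebraicGeometry Opposite AlgSp Groth.Agent.AlgSpLib
open Topology TopologicalSpace

namespace Groth.Agent.AlgSpDM.Jac

variable {S : Scheme.{u}}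

/-- All etale charts are locally Noetherian and Jacobson. -/
def LNJ (X : Sp S) : Prop :=
  ∀ (U : Over S) (a : (yon S).obj U ⟶ X), RepWith @Etale a → IsLocallyNoetherian U.left ∧ JacobsonSpace ↥U.left

theorem lnj_of_field {K : Type u} [Field K] {str : Spec (CommRingCat.of K) ⟶ S} {P : Sp S}
    {q : P ⟶ (yon S).obj (Over.mk str)} (hq : LocP @LocallyOfFiniteType q) : LNJ P := fun U a ha => by
  obtain ⟨h, hh⟩ := (yon S).map_surjective (a ≫ q)
  let h' : U.left ⟶ Spec (CommRingCat.of K) := h.left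
  have : LocallyOfFiniteType h' := hq a (𝟙 _) h ha (repWith_id _ _) (by rw [Category.comp_id, hh])
  exact ⟨LocallyOfFiniteType.isLocallyNoetherian h', LocallyOfFiniteType.jacobsonSpace h'⟩

theorem isOpen_singleton_of_finite {T : Type*} [TopologicalSpace T] [JacobsonSpace T] {O : Set T} (hO : IsOpen O)
    (hf : O.Finite) {z : T} (hz : z ∈ O) : IsOpen ({z} : Set T) := by
  have hcl : ∀ p ∈ O, IsClosed ({p} : Set T) := fun p hp => by
    by_contra hn
    have hO' : IsOpen (O \ ⋃ q ∈ {q ∈ O | IsClosed ({q} : Set T)}, {q}) :=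
      hO.sdiff ((hf.sep _).isClosed_biUnion fun q hq => hq.2)
    obtain ⟨q, ⟨hqO, hq⟩, hq'⟩ := nonempty_inter_closedPoints
      (Z := O \ ⋃ q ∈ {q ∈ O | IsClosed ({q} : Set T)}, {q}) ⟨p, hp, fun h => by
        obtain ⟨q, hq, rfl⟩ := Set.mem_iUnion₂.1 h
        exact hn hq.2⟩ hO'.isLocallyClosed
    exact hq (Set.mem_iUnion₂.2 ⟨q, ⟨hqO, hq'⟩, rfl⟩)
  have : ({z} : Set T) = O \ ⋃ q ∈ O \ {z}, {q} := by
    ext p
    refine ⟨fun h => ?_, fun ⟨hp, h⟩ => ?_⟩
    · rw [(h : p = z)]
      refine ⟨hz, fun h' => ?_⟩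
      obtain ⟨q, hq, hzq⟩ := Set.mem_iUnion₂.1 h'
      exact hq.2 (hzq : z = q).symm
    · by_contra hne
      exact h (Set.mem_iUnion₂.2 ⟨p, ⟨hp, hne⟩, rfl⟩)
  rw [this]
  exact hO.sdiff ((hf.subset Set.diff_subset).isClosed_biUnion fun q hq => hcl q hq.1)

variable {X : Sp S} (hJ : LNJ X)

include hJ

/-- Over an isolated point all points of a chart are open and closed. -/
theorem isOpen_of_mem_isOpen {x : Points X} (hx : IsOpen ({x} : Set (Points X))) {U : Over S}
    {a : (yon S).obj U ⟶ X} (ha : RepWith @Etale a) {u : ↥U.left} (hu : Points.ofPt a u = x) :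
    IsClosed ({u} : Set ↥U.left) ∧ IsOpen ({u} : Set ↥U.left) := by
  obtain ⟨_, _⟩ := hJ U a ha
  have hF : IsOpen (Points.ofPt a ⁻¹' {x}) := hx.preimage (Points.continuous_ofPt a)
  obtain ⟨u₀, hu₀, hc₀⟩ := nonempty_inter_closedPoints (Z := Points.ofPt a ⁻¹' {x})
    ⟨u, hu⟩ hF.isLocallyClosed
  have cl : ∀ v : ↥U.left, Points.ofPt a v = x → IsClosed ({v} : Set ↥U.left) := by
    intro v hv
    obtain ⟨r, hr1, hr2⟩ := exists_ofPt_of_eq (ha.rep.isPullback' a)
      (hv.trans (hu₀ : Points.ofPt a u₀ = x).symm)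
    have : Etale (ha.rep.snd a).left := ha.property_snd a
    have : Etale (ha.rep.fst' a).left := ha.property a _ _ (ha.rep.isPullback' a).flip
    let f₁ := (ha.rep.fst' a).left
    let f₂ := (ha.rep.snd a).left
    have hcl : IsClosed (f₂ ⁻¹' {u₀}) := (hc₀ : IsClosed ({u₀} : Set ↥U.left)).preimage f₂.continuous
    have hd : DiscreteTopology ↥(f₂ ⁻¹' {u₀}) :=
      isDiscrete_iff_discreteTopology.1 (f₂.isDiscrete_preimage_singleton u₀)
    have hrc : IsClosed ({r} : Set ↥(ha.rep.pullback a).left) := by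
      have := hcl.isClosedEmbedding_subtypeVal.isClosedMap _
        (isClosed_discrete ({⟨r, hr2⟩} : Set ↥(f₂ ⁻¹' {u₀})))
      simpa using this
    have := f₁.closePoints_subset_preimage_closedPoints hrc
    simpa [f₁, hr1, mem_closedPoints_iff] using this
  refine ⟨cl u hu, FieldDim.isOpen_singleton_of_closed (cl u hu) fun u' h => ?_⟩
  have hu' : Points.ofPt a u' = x := h.mem_open hF hu
  exact (specializes_iff_mem_closure.1 h |> fun h' => by
    rw [(cl u' hu').closure_eq] at h'; exact h'.symm)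

/-- An isolated point is closed. -/
theorem isClosed_of_isOpen_singleton (hA : IsAlgSpace X) {x : Points X}
    (hx : IsOpen ({x} : Set (Points X))) : IsClosed ({x} : Set (Points X)) := by
  obtain ⟨U, a, ha, hs⟩ := hA.atlas
  obtain ⟨_, _⟩ := hJ U a ha
  rw [← isOpen_compl_iff, isOpen_iff_chart ha hs, Set.preimage_compl, isOpen_compl_iff]
  refine FieldDim.isClosed_of_isOpen (hx.preimage (Points.continuous_ofPt a)) fun u v huv hu => ?_
  have := (isOpen_of_mem_isOpen hJ hx ha hu).1
  have h2 := specializes_iff_mem_closure.1 huv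
  rw [this.closure_eq] at h2
  rwa [(h2 : v = u)]

theorem isOpen_singleton_iff (hA : IsAlgSpace X) (x : Points X) :
    IsOpen ({x} : Set (Points X)) ↔
      (IsClosed ({x} : Set (Points X)) ∧ ∀ x' : Points X, x' ⤳ x → x' = x) := by
  refine ⟨fun hx => ⟨isClosed_of_isOpen_singleton hJ hA hx, fun x' h => h.mem_open hx rfl⟩, fun ⟨hc, hg⟩ => ?_⟩
  obtain ⟨U, a, ha, hs⟩ := hA.atlas
  obtain ⟨_, _⟩ := hJ U a ha
  rw [isOpen_iff_chart ha hs]
  refine FieldDim.isOpen_of_isClosed (hc.preimage (Points.continuous_ofPt a)) fun u v hvu hu => ?_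
  exact hg _ ((hu : Points.ofPt a u = x) ▸ hvu.map (Points.continuous_ofPt a))

theorem isOpen_singleton_iff_hasAt (hA : IsAlgSpace X) (x : Points X) :
    IsOpen ({x} : Set (Points X)) ↔ HasAt (fun U u => FlatMor.localDim ↥U u = 0) X x := by
  constructor
  · intro hx
    obtain ⟨U, a, ha, hs⟩ := hA.atlas
    obtain ⟨u, hu⟩ := surjective_ofPt hs x
    exact ⟨U, a, u, ha, hu, FieldDim.localDim_eq_zero_of_isOpen (isOpen_of_mem_isOpen hJ hx ha hu).2⟩
  · rintro ⟨U, a, u, ha, rfl, hu⟩
    obtain ⟨_, _⟩ := hJ U a ha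
    have := isOpenMap_ofPt ha _ ((FieldDim.isOpen_singleton_iff_localDim u).2 hu)
    rwa [Set.image_singleton] at this

theorem localDim_points_eq_zero_iff (hA : IsAlgSpace X) (hd : IsDecent X) (x : Points X) :
    FlatMor.localDim (Points X) x = 0 ↔ IsOpen ({x} : Set (Points X)) := by
  refine ⟨fun h => ?_, FieldDim.localDim_eq_zero_of_isOpen⟩
  obtain ⟨O, hxO, hO⟩ := FieldDim.exists_open_of_localDim_eq_zero h
  have := AlgSpDec.t0Space_points hA hd
  obtain ⟨U, a, ha, hs⟩ := hA.atlas
  obtain ⟨u, rfl⟩ := surjective_ofPt hs x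
  obtain ⟨_, _⟩ := hJ U a ha
  have hOU : IsOpen (Points.ofPt a ⁻¹' O) := O.2.preimage (Points.continuous_ofPt a)
  have key : ∀ v w : ↥U.left, Points.ofPt a v ∈ O → Points.ofPt a w ∈ O → v ⤳ w → w = v := by
    intro v w hv hw hvw
    have h1 : Points.ofPt a v ⤳ Points.ofPt a w := hvw.map (Points.continuous_ofPt a)
    exact AlgSpDec.eq_of_specializes_of_isDecent hd ha
      (h1.antisymm (FieldDim.specializes_symm_of_dim_le_zero hO hv hw h1)).eq.symm hvw
  have : IsOpen ({u} : Set ↥U.left) := by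
    refine FieldDim.isOpen_singleton_of_closed ?_ fun u' h' => (key u' u (h'.mem_open hOU hxO) hxO h').symm
    refine isClosed_singleton_of_isLocallyClosed_singleton ?_
    refine ⟨_, closure {u}, hOU, isClosed_closure, ?_⟩
    refine Set.Subset.antisymm (fun v hv => ?_) fun v hv => ?_
    · rw [(hv : v = u)]
      exact ⟨hxO, subset_closure rfl⟩
    · exact key u v hxO hv.1 (specializes_iff_mem_closure.2 hv.2)
  have := isOpenMap_ofPt ha _ this
  rwa [Set.image_singleton] at this

theorem discreteTopology_iff_dim (hA : IsAlgSpace X) [Nonempty (Points X)] :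
    DiscreteTopology (Points X) ↔ AlgSp.dim X = 0 := by
  constructor
  · intro _
    refine le_antisymm (AlgSpPts.dim_le_iff.2 fun U a ha u => ?_) ?_
    · have : DiscreteTopology ↥U.left := discreteTopology_iff_isOpen_singleton.2 fun v =>
        (isOpen_of_mem_isOpen hJ (isOpen_discrete _) ha (u := v) rfl).2
      rw [show Order.coheight u = 0 from Order.coheight_eq_zero.2 fun v hv => by
        rw [show v = u from (specializes_iff_eq.1 (show v ⤳ u from hv))]]
      rfl
    · obtain ⟨U, a, ha, hs⟩ := hA.atlas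
      obtain ⟨x⟩ := ‹Nonempty (Points X)›
      obtain ⟨u, -⟩ := surjective_ofPt hs x
      exact le_trans (WithBot.coe_le_coe.2 zero_le) (AlgSpPts.coheight_le_dim ha u)
  · intro hd
    refine discreteTopology_iff_isOpen_singleton.2 fun x => ?_
    obtain ⟨U, a, ha, hs⟩ := hA.atlas
    obtain ⟨u, rfl⟩ := surjective_ofPt hs x
    obtain ⟨_, _⟩ := hJ U a ha
    have hle : topologicalKrullDim ↥U.left ≤ 0 := by
      rw [AlgSpPts.topologicalKrullDim_eq_krullDim]
      refine @iSup_le _ _ _ _ _ fun p => ?_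
      exact le_trans (WithBot.coe_le_coe.2 (@Order.length_le_coheight_head _ (specializationPreorder _) p))
        ((AlgSpPts.coheight_le_dim ha _).trans hd.le)
    have := IsLocallyArtinian.of_topologicalKrullDim_le_zero hle
    have := isOpenMap_ofPt ha _ (isOpen_discrete {u})
    rwa [Set.image_singleton] at this

theorem isOpen_singleton_of_finite_points (hA : IsAlgSpace X) (hd : IsDecent X) [Finite (Points X)]
    (x : Points X) : IsOpen ({x} : Set (Points X)) := by
  obtain ⟨U, a, u, hU, ha, rfl⟩ := AlgSpDec.exists_affine_chart_at hA x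
  obtain ⟨_, _⟩ := hJ U a ha
  have : Finite ↥U.left := Set.finite_univ_iff.1 <| by
    rw [show (Set.univ : Set ↥U.left) = ⋃ y : Points X, Points.ofPt a ⁻¹' {y} by ext v; simp]
    exact Set.finite_iUnion fun y => AlgSpDec.finite_fibre hA hd ha y
  have := isOpenMap_ofPt ha _ (isOpen_singleton_of_finite isOpen_univ Set.finite_univ (Set.mem_univ u))
  rwa [Set.image_singleton] at this

end Groth.Agent.AlgSpDM.Jac
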