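import Groth.Agent.AlgSpDM.FieldSchStage
import Groth.Agent.AlgSpDM.FinLocFreeClass
import Groth.Agent.AlgSpDM.GaloisDescent
import Groth.Agent.AlgSpDM.JacobsonPoints
import Mathlib.AlgebraicGeometry.AlgClosed.Basic

/-!
# Descent of representability from an algebraic closure
-/

set_option autoImplicit false
set_option backward.isDefEq.respectTransparency false
set_option backward.isDefEq.respectTransparency.types false
set_option maxHeartbeats 800000

universe u

open CategoryTheory CategoryTheory.Limits AlgebraicGeometry Opposite AlgSp Groth.Agent.AlgSpLib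
  Groth.Agent.AlgSpPts Groth.Agent.AlgSpDec Groth.Agent.AlgSpDM.GeomConn Groth.Agent.AlgSpDM.SchPt
  Groth.Agent.AlgSpDM.GalDesc Topology

namespace Groth.Agent.AlgSpDM.FieldSch

/-- An open of a space over an affine scheme whose preimage in a flat affine covering is affine is affine. -/
theorem exists_affine_open_descent {S : Scheme.{u}} {X P : Sp S} (hX : IsAlgSpace X) {T T' : Over S} [IsAffine T.left]
    [IsAffine T'.left] (g : T' ⟶ T) [Flat g.left] [Surjective g.left] {h : X ⟶ (yon S).obj T}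
    {fst : P ⟶ X} {snd : P ⟶ (yon S).obj T'} (sq : IsPullback fst snd h ((yon S).map g))
    {O : Set (Points X)} (hO : IsOpen O) {V : Over S} [IsAffine V.left] {a : (yon S).obj V ⟶ P}
    (ha : RepWith @IsOpenImmersion a) (hr : Set.range (Points.ofPt a) = Points.map fst ⁻¹' O) :
    ∃ (Q : Over S) (j : (yon S).obj Q ⟶ X), IsAffine Q.left ∧ RepWith @IsOpenImmersion j ∧
      Set.range (Points.ofPt j) = O := by
  have hPA : IsAlgSpace P := isAlgSpace_of_isPullback sq hX (IsAlgSpace.yon_obj T') (IsAlgSpace.yon_obj T)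
  obtain ⟨W, j, hW, hj, hjr⟩ := exists_open_subspace hX hO
  have sqO := IsPullback.of_hasPullback j fst
  have hb : RepWith @IsOpenImmersion (pullback.snd j fst) := repWith_of_isPullback sqO hj
  have hrange : Set.range (Points.map (pullback.snd j fst)) = Set.range (Points.map a) := by
    rw [range_map_snd_of_isPullback sqO, hjr, range_map_eq_ofPt, hr]
  have hOP : IsAlgSpace (pullback j fst) := isAlgSpace_pullback hW hPA hX j fst
  obtain ⟨l, hl⟩ := exists_lift_openImmersion (IsAlgSpace.yon_obj V) hOP hPA hb a hrange.ge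
  obtain ⟨l', hl'⟩ := exists_lift_openImmersion hOP (IsAlgSpace.yon_obj V) hPA ha _ hrange.le
  have := AlgSpDec.mono_of_openImmersion ha
  have := AlgSpDec.mono_of_openImmersion hb
  let e : (yon S).obj V ≅ pullback j fst :=
    ⟨l, l', by rw [← cancel_mono a, Category.assoc, hl', hl, Category.id_comp],
      by rw [← cancel_mono (pullback.snd j fst), Category.assoc, hl, hl', Category.id_comp]⟩
  obtain ⟨Q, hQ, ⟨eO⟩⟩ := exists_affine_of_flat_cover hW g (sqO.paste_vert sq) e
  refine ⟨Q, eO.hom ≫ j, hQ, repWith_comp (repWith_of_isIso _ _) hj, ?_⟩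
  rw [← range_map_eq_ofPt, ← hjr]
  ext x
  constructor
  · rintro ⟨y, rfl⟩
    exact ⟨Points.map eO.hom y, (Points.map_comp _ _ y).symm⟩
  · rintro ⟨o, rfl⟩
    exact ⟨Points.map eO.inv o, by rw [← Points.map_comp, eO.inv_hom_id_assoc]⟩

variable {k : Type u} [Field k]

local notation "Sk" => Spec (CommRingCat.of k)

theorem finite_preimage_bcFst (U : Over Sk) [LocallyOfFiniteType U.hom] (K : Type u) [Field K] [Algebra k K]
    {u : U.left} (hu : IsClosed ({u} : Set U.left)) :
    (⇑(bcπ U K).left ⁻¹' {u}).Finite := by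
  have hfin : IsFinite (U.left.fromSpecResidueField u ≫ U.hom) := by
    rw [isClosed_singleton_iff_isClosedImmersion] at hu
    rw [isFinite_iff_locallyOfFiniteType_of_jacobsonSpace]
    infer_instance
  let ι := U.left.fromSpecResidueField u
  let g := Spec.map (CommRingCat.ofHom (algebraMap k K))
  have sq : IsPullback (pullback.fst U.hom g) (pullback.snd U.hom g) U.hom g := IsPullback.of_hasPullback _ _
  let P := pullback ι (pullback.fst U.hom g)
  have sq₂ : IsPullback (pullback.fst ι (pullback.fst U.hom g))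
      (pullback.snd ι (pullback.fst U.hom g) ≫ pullback.snd U.hom g) (ι ≫ U.hom) g :=
    (IsPullback.of_hasPullback _ _).paste_vert sq
  have : IsFinite (pullback.snd ι (pullback.fst U.hom g) ≫ pullback.snd U.hom g) :=
    MorphismProperty.of_isPullback (P := @IsFinite) sq₂ hfin
  have hP : (Set.univ : Set P).Finite := by
    have hs : Subsingleton (PrimeSpectrum K) := inferInstance
    have := (pullback.snd ι (pullback.fst U.hom g) ≫ pullback.snd U.hom g).finite_preimage_singleton
      (IsLocalRing.closedPoint K)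
    convert this using 1
    exact (Set.eq_univ_of_forall fun x => hs.elim _ _).symm
  refine (hP.image (pullback.snd ι (pullback.fst U.hom g))).subset fun z hz => ?_
  obtain ⟨r, -, hr⟩ := Scheme.Pullback.exists_preimage_pullback (f := ι) (g := pullback.fst U.hom g)
    (IsLocalRing.closedPoint _) z ((Scheme.fromSpecResidueField_apply _ _).trans hz.symm)
  exact ⟨r, trivial, hr⟩

theorem isSchPt_of_closed {X : Sp Sk} (hX : IsAlgSpace X)
    {p : X ⟶ (yon Sk).obj (Over.mk (𝟙 _))} (hp : LocP @LocallyOfFiniteType p)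
    (kbar : Type u) [Field kbar] [Algebra k kbar] [IsAlgClosure k kbar]
    (T : Over Sk) (e : (yon Sk).obj T ≅ (X ⨯ (yon Sk).obj (pt k kbar)))
    (q : T ⟶ pt k kbar) (hq : (yon Sk).map q = e.hom ≫ Limits.prod.snd)
    (h3 : ∀ s : Finset ↥T.left,
      (∀ t ∈ s, ∃ σ : Spec (CommRingCat.of kbar) ⟶ T.left, σ ≫ q.left = 𝟙 _ ∧
        σ (IsLocalRing.closedPoint kbar) = t) →
        ∃ W : T.left.Opens, IsAffineOpen W ∧ ∀ t ∈ s, t ∈ W)
    {U : Over Sk} {a : (yon Sk).obj U ⟶ X} (ha : RepWith @Etale a) {u : U.left}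
    (hu : IsClosed ({u} : Set U.left)) : IsSchPt X (Points.ofPt a u) := by
  classical
  haveI : IsAlgClosed kbar := IsAlgClosure.isAlgClosed k
  haveI : Algebra.IsAlgebraic k kbar := IsAlgClosure.isAlgebraic
  have hUft : LocallyOfFiniteType U.hom := by
    have h := hp (U := U) (V := Over.mk (𝟙 Sk)) a (𝟙 _) (toS U) ha (repWith_id _ _)
      ((IsTerminal.isTerminalObj (yon Sk) _ Over.mkIdTerminal).hom_ext _ _)
    exact h
  have hqft : LocallyOfFiniteType q.left := by
    have h1 : LocP @LocallyOfFiniteType (prod.snd : X ⨯ (yon Sk).obj (pt k kbar) ⟶ _) :=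
      locP_of_isPullback (isPullback_prod_fst (X := X) (pt k kbar)) hX (IsAlgSpace.yon_obj _) (IsAlgSpace.yon_obj _)
        (by rwa [(IsTerminal.isTerminalObj (yon Sk) _ Over.mkIdTerminal).hom_ext
          ((IsTerminal.isTerminalObj (yon Sk) _ Over.mkIdTerminal).from X) p])
    exact h1 e.hom (𝟙 _) q (repWith_of_isIso _ _) (repWith_id _ _) (by rw [Category.comp_id, hq])
  -- the fibre in the scheme
  obtain ⟨m, hm⟩ := (yon Sk).map_surjective (φ kbar a ≫ e.inv)
  have hme : (yon Sk).map m ≫ e.hom = φ kbar a := by rw [hm, Category.assoc, e.inv_hom_id, Category.comp_id]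
  have : Etale m.left := by
    refine (repWith_yon_map_iff _ m).1 ?_
    rw [hm]
    exact repWith_comp (repWith_of_isPullback (isPullback_φ kbar a) ha) (repWith_of_isIso _ _)
  let q' : T.left ⟶ Spec (CommRingCat.of kbar) := q.left
  haveI : LocallyOfFiniteType q' := hqft
  haveI : JacobsonSpace ↥T.left := LocallyOfFiniteType.jacobsonSpace q'
  let h' : (bcOver U kbar).left ⟶ Spec (CommRingCat.of kbar) := (bcσ U kbar).left
  haveI : LocallyOfFiniteType h' :=
    MorphismProperty.of_isPullback (P := @LocallyOfFiniteType)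
      (IsPullback.of_hasPullback U.hom (Spec.map (CommRingCat.ofHom (algebraMap k kbar)))) hUft
  haveI : JacobsonSpace ↥(bcOver U kbar).left := LocallyOfFiniteType.jacobsonSpace h'
  let F₀ : Set ↥(bcOver U kbar).left := ⇑(bcπ U kbar).left ⁻¹' {u}
  have hF₀ : F₀.Finite := finite_preimage_bcFst U kbar hu
  have hF₀c : IsClosed F₀ := hu.preimage (bcπ U kbar).left.continuous
  have hclosed : ∀ w ∈ F₀, IsClosed ({w} : Set ↥(bcOver U kbar).left) := by
    intro w hw
    by_contra hn
    let C : Set ↥(bcOver U kbar).left := ⋃ v ∈ {v ∈ F₀ | IsClosed ({v} : Set ↥(bcOver U kbar).left)}, {v}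
    have hC : IsClosed C := (hF₀.sep _).isClosed_biUnion fun v hv => hv.2
    obtain ⟨v, ⟨hv, hvC⟩, hvc⟩ := nonempty_inter_closedPoints (Z := F₀ \ C)
      ⟨w, hw, fun h => by obtain ⟨v, hv, rfl⟩ := Set.mem_iUnion₂.1 h; exact hn hv.2⟩
      (hF₀c.isLocallyClosed.inter hC.isOpen_compl.isLocallyClosed)
    exact hvC (Set.mem_iUnion₂.2 ⟨v, ⟨hv, hvc⟩, rfl⟩)
  let s : Finset ↥T.left := hF₀.toFinset.image fun w => m.left w
  obtain ⟨W, hW, hsW⟩ := h3 s (by
    intro t ht
    obtain ⟨w, hw, rfl⟩ := Finset.mem_image.1 ht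
    have hc : IsClosed ({m.left w} : Set ↥T.left) :=
      m.left.closePoints_subset_preimage_closedPoints (hclosed w (hF₀.mem_toFinset.1 hw))
    exact ⟨pointOfClosedPoint q' _ hc, pointOfClosedPoint_comp q' _ hc, pointOfClosedPoint_apply q' _ hc _⟩)
  let TW : Over Sk := Over.mk (W.ι ≫ T.hom)
  let a' : (yon Sk).obj TW ⟶ X ⨯ (yon Sk).obj (pt k kbar) := (yon Sk).map (Over.homMk W.ι rfl : TW ⟶ T) ≫ e.hom
  have ha' : RepWith @IsOpenImmersion a' := repWith_comp
    ((repWith_yon_map_iff _ _).2 (inferInstanceAs (IsOpenImmersion W.ι))) (repWith_of_isIso _ _)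
  have hXb : IsAlgSpace (X ⨯ (yon Sk).obj (pt k kbar)) := isAlgSpace_prod hX (IsAlgSpace.yon_obj _)
  have hfib : ∀ z, Points.map (prod.fst : X ⨯ (yon Sk).obj (pt k kbar) ⟶ X) z = Points.ofPt a u →
      z ∈ Set.range (Points.ofPt a') := by
    intro z hz
    obtain ⟨w, rfl, hw⟩ := exists_lift_fst (a := a) (u := u) hz.symm
    have hwW : m.left w ∈ W := hsW _ (Finset.mem_image.2 ⟨w, hF₀.mem_toFinset.2 hw, rfl⟩)
    refine ⟨⟨m.left w, hwW⟩, ?_⟩
    rw [← hme, ofPt_comp, ofPt_comp]
    rfl
  -- the open at the level of the separable closure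
  let L := separableClosure k kbar
  let gL : pt k kbar ⟶ pt k L := ptHom (IsScalarTower.toAlgHom k L kbar)
  let ν : X ⨯ (yon Sk).obj (pt k kbar) ⟶ Xat X L := prod.map (𝟙 X) ((yon Sk).map gL)
  have : IsAffine (pt k kbar).left := inferInstanceAs (IsAffine (Spec _))
  have : IsAffine (pt k L).left := inferInstanceAs (IsAffine (Spec _))
  have : Algebra.IsAlgebraic L kbar := Algebra.IsAlgebraic.tower_top (K := k) L
  have hgL : uh gL.left :=
    ⟨⟨isIntegralHom_spec L kbar, RelPC13.Smooth.universallyInjective_spec_of_purelyInseparable L kbar⟩,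
      surjective_spec L kbar⟩
  have hν : IsHomeomorph (Points.map ν) := isHomeomorph_map_of_uh (isAlgSpace_prod hX (IsAlgSpace.yon_obj _))
    (repWith_of_isPullback (isPullback_prod_map X _) ((repWith_yon_map_iff uh gL).2 hgL))
  let V : Set (Points (Xat X L)) := Points.map ν '' Set.range (Points.ofPt a')
  haveI : IsAffine TW.left := hW
  have hVo : IsOpen V := hν.isOpenMap _ (by
    rw [← range_map_eq_ofPt]; exact (isOpenEmbedding_map' hXb ha').isOpen_range)
  have hVc : IsCompact V := by
    refine IsCompact.image ?_ (Points.continuous_map _)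
    exact isCompact_range (Points.continuous_ofPt a')
  obtain ⟨F, hF, V', hV', -, hpre⟩ := exists_finite_descent hX hVo hVc
  let gF : pt k kbar ⟶ pt k F := ptHom ((IsScalarTower.toAlgHom k L kbar).comp F.val)
  let μ : X ⨯ (yon Sk).obj (pt k kbar) ⟶ Xat X F := prod.map (𝟙 X) ((yon Sk).map gF)
  have hμ : μ = ν ≫ lev X F := by
    simp only [μ, ν, lev, prod.map_map, Category.comp_id, ← Functor.map_comp]
    congr 2
    refine Over.OverMorphism.ext ?_
    simp only [gF, gL, ptHom, ptF, Over.comp_left, Over.homMk_left, ← Spec.map_comp, ← CommRingCat.ofHom_comp]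
    rfl
  have hμpre : Points.map μ ⁻¹' V' = Set.range (Points.ofPt a') := by
    rw [hμ, show Points.map (ν ≫ lev X F) = Points.map (lev X F) ∘ Points.map ν from funext (Points.map_comp _ _),
      Set.preimage_comp, hpre, Set.preimage_image_eq _ hν.injective]
  have : IsAffine (pt k F).left := inferInstanceAs (IsAffine (Spec _))
  let _ : Algebra F kbar := ((IsScalarTower.toAlgHom k L kbar).comp F.val).toAlgebra
  haveI : Flat gF.left := flat_spec F kbar
  haveI : Surjective gF.left := surjective_spec F kbar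
  have sqμ := (isPullback_prod_map X ((yon Sk).map gF)).flip
  obtain ⟨Q, j, hQ, hj, hjr⟩ := exists_affine_open_descent (isAlgSpace_prod hX (IsAlgSpace.yon_obj _)) gF sqμ
    hV' ha' hμpre.symm
  obtain ⟨hff, hfs⟩ : RepWith finLocFree (prod.fst : Xat X F ⟶ X) ∧
      RepWith @Surjective (prod.fst : Xat X F ⟶ X) := by
    have h1 : IsFinite (toS (pt k F)).left := (IsFinite.SpecMap_iff _).2 (RingHom.finite_algebraMap.2 hF)
    have h2 : Flat (toS (pt k F)).left := flat_spec k F
    have h3' : LocallyOfFinitePresentation (toS (pt k F)).left :=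
      (HasRingHomProperty.Spec_iff (P := @LocallyOfFinitePresentation)).2
        (RingHom.finitePresentation_algebraMap.2
          (Algebra.FinitePresentation.of_finiteType.1 (inferInstance : Algebra.FiniteType k F)))
    have h4 : Surjective (toS (pt k F)).left := surjective_spec k F
    have sq := (isPullback_prod_fst (X := X) (pt k F)).flip
    exact ⟨repWith_of_isPullback sq ((repWith_yon_map_iff finLocFree _).2 ⟨h1, h2, h3'⟩),
      repWith_of_isPullback sq ((repWith_yon_map_iff @Surjective _).2 h4)⟩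
  obtain ⟨T', j', hj', hx⟩ := exists_open_subscheme_of_fibre_affine (isAlgSpace_prod hX (IsAlgSpace.yon_obj _)) hX
    hff hfs (Points.ofPt a u) j hj (by
      intro z hz
      obtain ⟨zb, rfl⟩ := surjective_map_of_repWith
        (repWith_of_isPullback (isPullback_prod_map X ((yon Sk).map gF))
          ((repWith_yon_map_iff @Surjective gF).2 ‹_›)) z
      rw [hjr]
      show zb ∈ Points.map μ ⁻¹' V'
      rw [hμpre]
      refine hfib zb ?_
      rw [← (hz : Points.map prod.fst (Points.map μ zb) = Points.ofPt a u), ← Points.map_comp]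
      simp [μ])
  exact ⟨T', j', hj', (range_map_eq_ofPt j') ▸ hx⟩

theorem isRepresentable_of_algClosure {X : Sp Sk} (hX : IsAlgSpace X)
    {p : X ⟶ (yon Sk).obj (Over.mk (𝟙 _))} (hp : LocP @LocallyOfFiniteType p)
    (kbar : Type u) [Field kbar] [Algebra k kbar] [IsAlgClosure k kbar]
    (T : Over Sk) (e : (yon Sk).obj T ≅ (X ⨯ (yon Sk).obj (pt k kbar)))
    (q : T ⟶ pt k kbar) (hq : (yon Sk).map q = e.hom ≫ Limits.prod.snd)
    (h3 : ∀ s : Finset ↥T.left,
      (∀ t ∈ s, ∃ σ : Spec (CommRingCat.of kbar) ⟶ T.left, σ ≫ q.left = 𝟙 _ ∧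
        σ (IsLocalRing.closedPoint kbar) = t) →
        ∃ W : T.left.Opens, IsAffineOpen W ∧ ∀ t ∈ s, t ∈ W) :
    X.obj.IsRepresentable := by
  refine isRepresentable_of_forall hX fun x => ?_
  obtain ⟨U, a, ha, has⟩ := hX.atlas
  obtain ⟨v, rfl⟩ := surjective_ofPt has x
  obtain ⟨-, _⟩ := Jac.lnj_of_field hp U a ha
  obtain ⟨w, hw, hwc⟩ := nonempty_inter_closedPoints (Z := closure ({v} : Set U.left))
    ⟨v, subset_closure rfl⟩ isClosed_closure.isLocallyClosed
  obtain ⟨T', j, hj, hjw⟩ := isSchPt_of_closed hX hp kbar T e q hq h3 ha hwc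
  refine ⟨T', j, hj, ?_⟩
  rw [← range_map_eq_ofPt] at hjw ⊢
  exact ((specializes_iff_mem_closure.2 hw).map (Points.continuous_ofPt a)).mem_open
    (isOpenEmbedding_map' hX hj).isOpen_range hjw

end Groth.Agent.AlgSpDM.FieldSch
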