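import Groth.Agent.GeomConn5.Count
import Groth.Agent.AlgSpLib.Points
import Groth.Agent.AlgSpDec.PointsSpectral
import Groth.Agent.FBaseLib.Components
import Mathlib.AlgebraicGeometry.Geometrically.Connected
import Mathlib.FieldTheory.IsSepClosed

/-!
# Connected components of products over fields
-/

set_option autoImplicit false
set_option backward.isDefEq.respectTransparency false
set_option backward.isDefEq.respectTransparency.types false
set_option maxHeartbeats 800000

universe u

open CategoryTheory CategoryTheory.Limits AlgebraicGeometry Topology AlgSp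
open Groth.Agent.AlgSpLib Groth.Agent.AlgSpPts Groth.Agent.AlgSpDec

namespace Groth.Agent.AlgSpDM.GeomConn

variable {S : Scheme.{u}}

theorem isPullback_prod_map (X : Sp S) {A B : Sp S} (j : A ⟶ B) :
    IsPullback (prod.snd : X ⨯ A ⟶ A) (prod.map (𝟙 X) j) j (prod.snd : X ⨯ B ⟶ B) :=
  ⟨⟨by simp⟩, ⟨PullbackCone.IsLimit.mk _ (fun s => prod.lift (s.snd ≫ prod.fst) s.fst)
    (fun s => by simp) (fun s => by apply Limits.prod.hom_ext <;> simp [s.condition])
    (fun s l h1 h2 => by
      apply Limits.prod.hom_ext
      · have := h2 =≫ prod.fst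
        simpa using this
      · simpa using h1)⟩⟩

theorem connectedSpace_of_fibres {A B : Type*} [TopologicalSpace A] [TopologicalSpace B] {f : A → B}
    (hc : Continuous f) (ho : IsOpenMap f) (hf : ∀ b, _root_.IsConnected (f ⁻¹' {b})) [ConnectedSpace B] :
    ConnectedSpace A := by
  have hs : Function.Surjective f := fun b => (hf b).nonempty
  rw [connectedSpace_iff_univ, ← Set.preimage_univ (f := f)]
  exact (ho.isQuotientMap hc hs).isCoinducing.isConnected_preimage_of_isClosed hf isClosed_univ isConnected_univ

variable {P F : Sp S} {Z Z' : Over S} {g : Z' ⟶ Z} {fst : P ⟶ F} {snd : P ⟶ (yon S).obj Z'}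
  {h : F ⟶ (yon S).obj Z} (sq : IsPullback fst snd h ((yon S).map g))

include sq in
theorem isOpenMap_fst [UniversallyOpen g.left] : IsOpenMap (Points.map fst) :=
  isOpenMap_map (repWith_of_isPullback sq.flip ((repWith_yon_map_iff _ _).2 inferInstance))

include sq in
theorem isConnected_fibre [GeometricallyConnected g.left] (x : Points F) :
    _root_.IsConnected (Points.map fst ⁻¹' {x}) := by
  obtain ⟨p, rfl⟩ := Points.mk_surjective x
  obtain ⟨h', hh'⟩ := (yon S).map_surjective (p.toHom ≫ h)
  have sqE : IsPullback (pullback.fst h' g).left (pullback.snd h' g).left h'.left g.left :=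
    (IsPullback.of_hasPullback h' g).map (Over.forget S)
  have : GeometricallyConnected (pullback.fst h' g).left :=
    MorphismProperty.of_isPullback (P := @GeometricallyConnected) sqE.flip ‹_›
  have hs : Subsingleton ↥p.pt.left := inferInstanceAs (Subsingleton (PrimeSpectrum p.K))
  have hn : Nonempty ↥p.pt.left := inferInstanceAs (Nonempty (PrimeSpectrum p.K))
  have : ConnectedSpace ↥(pullback h' g).left :=
    GeometricallyConnected.connectedSpace_of_subsingleton (f := (pullback.fst h' g).left)
  let M : (yon S).obj (pullback h' g) ⟶ P := sq.lift ((yon S).map (pullback.fst h' g) ≫ p.toHom)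
    ((yon S).map (pullback.snd h' g))
    (by rw [Category.assoc, ← hh', ← Functor.map_comp, ← Functor.map_comp, pullback.condition])
  have sqM : IsPullback ((yon S).map (pullback.fst h' g)) M p.toHom fst := by
    refine IsPullback.of_bot ?_ (sq.lift_fst _ _ _).symm sq
    rw [sq.lift_snd, ← hh']
    exact (IsPullback.of_hasPullback h' g).map (yon S)
  have hrange : Points.map fst ⁻¹' {Points.mk p} = Points.ofPt M '' Set.univ := by
    refine Set.Subset.antisymm (fun z hz => ?_) ?_
    · obtain ⟨r, -, hr⟩ := exists_point_of_isPullback sqM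
        (x := Points.ofScheme p.pt (IsLocalRing.closedPoint p.K)) (y := z)
        (by rw [show Points.map fst z = Points.mk p from hz, ← Points.ofPt_eq_map_ofScheme, Points.ofPt_toHom])
      obtain ⟨t, rfl⟩ := (Points.schemeHomeo _).surjective r
      exact ⟨t, trivial, (Points.ofPt_eq_map_ofScheme M t).trans hr⟩
    · rintro _ ⟨t, -, rfl⟩
      show Points.map fst (Points.ofPt M t) = Points.mk p
      rw [Points.map_ofPt, sq.lift_fst, ofPt_comp, ← Points.ofPt_toHom p]
  rw [hrange]
  exact isConnected_univ.image _ (Points.continuous_ofPt M).continuousOn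

include sq in
theorem components_bijective [GeometricallyConnected g.left] [UniversallyOpen g.left] :
    Function.Bijective (Points.continuous_map fst).connectedComponentsMap :=
  ((isOpenMap_fst sq).isQuotientMap (Points.continuous_map fst)
    fun x => (isConnected_fibre sq x).nonempty).isCoinducing.connectedComponentsMap_bijective (isConnected_fibre sq)

include sq in
theorem connectedSpace_of_base [GeometricallyConnected g.left] [UniversallyOpen g.left] [ConnectedSpace (Points F)] :
    ConnectedSpace (Points P) :=
  connectedSpace_of_fibres (Points.continuous_map fst) (isOpenMap_fst sq) (isConnected_fibre sq)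

variable {k : Type u} [Field k]

local notation "Sk" => Spec (CommRingCat.of k)

/-- The object `Spec K` over `Spec k`. -/
noncomputable abbrev pt (k : Type u) [Field k] (K : Type u) [Field K] [Algebra k K] : Over (Spec (CommRingCat.of k)) :=
  Over.mk (Spec.map (CommRingCat.ofHom (algebraMap k K)))

/-- The structure morphism, as a morphism to the final object. -/
noncomputable abbrev toS (T : Over Sk) : T ⟶ Over.mk (𝟙 Sk) := Over.homMk T.hom (Category.comp_id _)

theorem geometricallyConnected_of_isSepClosed [IsSepClosed k] (K : Type u) [Field K] [Algebra k K] :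
    GeometricallyConnected (Spec.map (CommRingCat.ofHom (algebraMap k K))) := by
  refine GeomConn5.geometricallyConnected_spec_field k K fun a ha => ?_
  obtain ⟨r, hr⟩ := IsSepClosed.algebraMap_surjective k (separableClosure k K) ⟨a, mem_separableClosure_iff.2 ha⟩
  exact ⟨r, congrArg Subtype.val hr⟩

theorem isPullback_prod_fst {X : Sp Sk} (T : Over Sk) :
    IsPullback (prod.fst : X ⨯ (yon Sk).obj T ⟶ X) prod.snd
      ((IsTerminal.isTerminalObj (yon Sk) _ Over.mkIdTerminal).from X) ((yon Sk).map (toS T)) := by
  rw [(IsTerminal.isTerminalObj (yon Sk) _ Over.mkIdTerminal).hom_ext ((yon Sk).map (toS T))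
    ((IsTerminal.isTerminalObj (yon Sk) _ Over.mkIdTerminal).from _)]
  exact IsPullback.of_is_product' (prodIsProd _ _) (IsTerminal.isTerminalObj (yon Sk) _ Over.mkIdTerminal)

/-- Projection of a product with a space over a field is open. -/
theorem isOpenMap_snd {X : Sp Sk} (hX : IsAlgSpace X) (Y : Sp Sk) :
    IsOpenMap (Points.map (prod.snd : X ⨯ Y ⟶ Y)) := by
  obtain ⟨U, a, ha, has⟩ := hX.atlas
  have hT := IsTerminal.isTerminalObj (yon Sk) _ (Over.mkIdTerminal (X := Sk))
  have hU : RepWith @UniversallyOpen ((yon Sk).map (toS U)) := by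
    refine (repWith_yon_map_iff _ _).2 ?_
    show UniversallyOpen U.hom
    infer_instance
  have hq : RepWith @UniversallyOpen (prod.snd : (yon Sk).obj U ⨯ Y ⟶ Y) :=
    repWith_of_isPullback (IsPullback.of_is_product' (prodIsProd _ _) hT)
      (hT.hom_ext ((yon Sk).map (toS U)) (hT.from _) ▸ hU)
  have sq : IsPullback (prod.fst : (yon Sk).obj U ⨯ Y ⟶ _) (prod.map a (𝟙 Y)) a (prod.fst : X ⨯ Y ⟶ X) :=
    IsPullback.of_prod_fst_with_id a Y
  have hs : Function.Surjective (Points.map (prod.map a (𝟙 Y))) :=
    surjective_map_of_isPullback sq (surjective_map_of_repWith has)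
  intro O hO
  have he : Points.map (prod.snd : X ⨯ Y ⟶ Y) '' O =
      Points.map (prod.snd : (yon Sk).obj U ⨯ Y ⟶ Y) '' (Points.map (prod.map a (𝟙 Y)) ⁻¹' O) := by
    conv_lhs => rw [← Set.image_preimage_eq O hs, Set.image_image]
    refine Set.image_congr fun z _ => ?_
    rw [← Points.map_comp, prod.map_snd, Category.comp_id]
  rw [he]
  exact isOpenMap_map hq _ (hO.preimage (Points.continuous_map _))

/-- All base changes to fields are connected. -/
abbrev IsGeomConn (X : Sp Sk) : Prop :=
  ∀ (K : Type u) [Field K] [Algebra k K], ConnectedSpace (Points (X ⨯ (yon Sk).obj (pt k K)))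

theorem isConnected_fibre_snd {X Y : Sp Sk} (hX : IsGeomConn X) (y : Points Y) :
    _root_.IsConnected (Points.map (prod.snd : X ⨯ Y ⟶ Y) ⁻¹' {y}) := by
  obtain ⟨p, rfl⟩ := Points.mk_surjective y
  obtain ⟨φ, hφ⟩ := Spec.map_surjective p.str
  have hconn : ConnectedSpace (Points (X ⨯ (yon Sk).obj p.pt)) := by
    letI : Algebra k p.K := φ.hom.toAlgebra
    have he : p.pt = pt k p.K := congrArg Over.mk hφ.symm
    rw [he]
    exact hX p.K
  have sqM := isPullback_prod_map X p.toHom
  have hrange : Points.map (prod.snd : X ⨯ Y ⟶ Y) ⁻¹' {Points.mk p} =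
      Points.map (prod.map (𝟙 X) p.toHom) '' Set.univ := by
    refine Set.Subset.antisymm (fun z hz => ?_) ?_
    · obtain ⟨r, -, hr⟩ := exists_point_of_isPullback sqM
        (x := Points.ofScheme p.pt (IsLocalRing.closedPoint p.K)) (y := z)
        (by rw [show Points.map prod.snd z = Points.mk p from hz, ← Points.ofPt_eq_map_ofScheme, Points.ofPt_toHom])
      exact ⟨r, trivial, hr⟩
    · rintro _ ⟨r, -, rfl⟩
      show Points.map prod.snd (Points.map _ r) = Points.mk p
      rw [← Points.map_comp, prod.map_snd, Points.map_comp]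
      obtain ⟨t, ht⟩ := (Points.schemeHomeo p.pt).surjective (Points.map prod.snd r)
      rw [← ht]
      refine (Points.ofPt_eq_map_ofScheme p.toHom t).symm.trans ?_
      have : Subsingleton ↥p.pt.left := inferInstanceAs (Subsingleton (PrimeSpectrum p.K))
      rw [← Points.ofPt_toHom p]
  rw [hrange]
  exact isConnected_univ.image _ (Points.continuous_map _).continuousOn

theorem components_bijective_snd {X Y : Sp Sk} (hX : IsAlgSpace X) (hg : IsGeomConn X) :
    Function.Bijective (Points.continuous_map (prod.snd : X ⨯ Y ⟶ Y)).connectedComponentsMap :=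
  ((isOpenMap_snd hX Y).isQuotientMap (Points.continuous_map _)
    fun y => (isConnected_fibre_snd hg y).nonempty).isCoinducing.connectedComponentsMap_bijective
      (isConnected_fibre_snd hg)

theorem gc_from [IsSepClosed k] (K : Type u) [Field K] [Algebra k K] :
    GeometricallyConnected (toS (pt k K)).left :=
  geometricallyConnected_of_isSepClosed K

theorem uo_from (T : Over Sk) : UniversallyOpen (toS T).left := by
  show UniversallyOpen T.hom
  infer_instance

theorem components_bijective_fst [IsSepClosed k] (X : Sp Sk) (K : Type u) [Field K] [Algebra k K] :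
    Function.Bijective (Points.continuous_map
      (prod.fst : X ⨯ (yon Sk).obj (pt k K) ⟶ X)).connectedComponentsMap :=
  have := gc_from (k := k) K
  have := uo_from (pt k K)
  components_bijective (isPullback_prod_fst (pt k K))

theorem isGeomConn_iff_connectedSpace [IsSepClosed k] (X : Sp Sk) :
    IsGeomConn X ↔ ConnectedSpace (Points X) := by
  refine ⟨fun h => ?_, fun h K _ _ => ?_⟩
  · have := h k
    have := gc_from (k := k) k
    have hs : Function.Surjective (Points.map (prod.fst : X ⨯ (yon Sk).obj (pt k k) ⟶ X)) := fun x =>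
      (isConnected_fibre (isPullback_prod_fst (pt k k)) x).nonempty
    exact hs.connectedSpace (Points.continuous_map _)
  · have := gc_from (k := k) K
    have := uo_from (pt k K)
    exact connectedSpace_of_base (isPullback_prod_fst (pt k K))

theorem isGeomConn_iff_sepClosure (X : Sp Sk) (kbar : Type u) [Field kbar] [Algebra k kbar]
    [IsSepClosure k kbar] : IsGeomConn X ↔ ConnectedSpace (Points (X ⨯ (yon Sk).obj (pt k kbar))) := by
  refine ⟨fun h => h kbar, fun h K _ _ => ?_⟩
  obtain ⟨M, iM, ikM, iKM, ik'M, t1, t2⟩ := Groth.Agent.FBaseLib.exists_field_compositum (k := k) K kbar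
  let j : pt k M ⟶ pt k K := Over.homMk (Spec.map (CommRingCat.ofHom (algebraMap K M))) (by
    simp only [Over.mk_hom]
    rw [← Spec.map_comp, ← CommRingCat.ofHom_comp, ← IsScalarTower.algebraMap_eq])
  let i : pt k M ⟶ pt k kbar := Over.homMk (Spec.map (CommRingCat.ofHom (algebraMap kbar M))) (by
    simp only [Over.mk_hom]
    rw [← Spec.map_comp, ← CommRingCat.ofHom_comp, ← IsScalarTower.algebraMap_eq])
  have : IsSepClosed kbar := IsSepClosure.sep_closed k
  have : GeometricallyConnected i.left := geometricallyConnected_of_isSepClosed (k := kbar) M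
  have : UniversallyOpen i.left := inferInstanceAs (UniversallyOpen (Spec.map (CommRingCat.ofHom (algebraMap kbar M))))
  have : ConnectedSpace (Points (X ⨯ (yon Sk).obj (pt k M))) :=
    connectedSpace_of_base (isPullback_prod_map X ((yon Sk).map i)).flip
  have hj : RepWith @Surjective ((yon Sk).map j) := (repWith_yon_map_iff _ _).2
    ⟨fun _ => ⟨IsLocalRing.closedPoint M, Subsingleton.elim (α := PrimeSpectrum K) _ _⟩⟩
  exact (surjective_map_of_isPullback (isPullback_prod_map X ((yon Sk).map j))
    (surjective_map_of_repWith hj)).connectedSpace (Points.continuous_map _)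

end Groth.Agent.AlgSpDM.GeomConn
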