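import Groth.Agent.AlgSpDM.SchPoints
import Groth.Agent.AlgSpDM.GeomConnected
import Groth.Agent.RelPC13.Smooth.Scheme

/-!
# Descent of representability along extensions of the base field
-/

set_option autoImplicit false
set_option backward.isDefEq.respectTransparency false
set_option backward.isDefEq.respectTransparency.types false
set_option maxHeartbeats 800000

universe u

open CategoryTheory CategoryTheory.Limits AlgebraicGeometry Opposite AlgSp Groth.Agent.AlgSpLib
  Groth.Agent.AlgSpPts Groth.Agent.AlgSpDec Groth.Agent.AlgSpDM.GeomConn Groth.Agent.AlgSpDM.SchPt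

namespace Groth.Agent.AlgSpDM.FieldSch

variable {k : Type u} [Field k]

theorem flat_spec (k K : Type u) [Field k] [Field K] [Algebra k K] :
    Flat (Spec.map (CommRingCat.ofHom (algebraMap k K))) :=
  (HasRingHomProperty.Spec_iff (P := @Flat)).2 (RingHom.flat_algebraMap_iff.2 inferInstance)

theorem surjective_spec (k K : Type u) [Field k] [Field K] [Algebra k K] :
    Surjective (Spec.map (CommRingCat.ofHom (algebraMap k K))) := by
  haveI : Subsingleton ↥(Spec (CommRingCat.of k)) := inferInstanceAs (Subsingleton (PrimeSpectrum k))
  haveI : Nonempty ↥(Spec (CommRingCat.of K)) := inferInstanceAs (Nonempty (PrimeSpectrum K))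
  exact ⟨fun x => ⟨Classical.arbitrary _, Subsingleton.elim _ _⟩⟩

theorem isIntegralHom_spec (k K : Type u) [Field k] [Field K] [Algebra k K] [Algebra.IsAlgebraic k K] :
    IsIntegralHom (Spec.map (CommRingCat.ofHom (algebraMap k K))) :=
  IsIntegralHom.SpecMap_iff.2 (fun x => (Algebra.IsAlgebraic.isAlgebraic (R := k) x).isIntegral)

/-- A space which becomes a scheme after a purely inseparable extension is a scheme. -/
theorem isRepresentable_of_purelyInseparable {X : Sp (Spec (CommRingCat.of k))} (hX : IsAlgSpace X)
    (k' : Type u) [Field k'] [Algebra k k'] [IsPurelyInseparable k k']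
    (h : (X ⨯ (yon (Spec (CommRingCat.of k))).obj (pt k k')).obj.IsRepresentable) :
    X.obj.IsRepresentable := by
  have : IsAffine (Over.mk (𝟙 (Spec (CommRingCat.of k)))).left := inferInstanceAs (IsAffine (Spec _))
  have : IsAffine (pt k k').left := inferInstanceAs (IsAffine (Spec _))
  have : Flat (toS (pt k k')).left := flat_spec k k'
  have : Surjective (toS (pt k k')).left := surjective_spec k k'
  have : IsIntegralHom (toS (pt k k')).left := isIntegralHom_spec k k'
  have : UniversallyInjective (toS (pt k k')).left :=
    RelPC13.Smooth.universallyInjective_spec_of_purelyInseparable k k'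
  exact isRepresentable_of_uh_cover hX (toS (pt k k')) (isPullback_prod_fst (X := X) (pt k k')) h

end Groth.Agent.AlgSpDM.FieldSch
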