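import Groth.Agent.AlgSpDM.FieldSchDescent
import Groth.Agent.AlgSpDec.LimScheme
import Groth.Agent.AlgSpDec.LimDescentRep

/-!
# Schemes after an extension of the field are schemes after a finitely generated one
-/

set_option autoImplicit false
set_option backward.isDefEq.respectTransparency false
set_option backward.isDefEq.respectTransparency.types false
set_option maxHeartbeats 800000

universe u

open CategoryTheory CategoryTheory.Limits AlgebraicGeometry Opposite AlgSp Groth.Agent.AlgSpLib
  Groth.Agent.AlgSpPts Groth.Agent.AlgSpDec Groth.Agent.AlgSpDM.GeomConn Groth.Agent.AlgSpDM.SchPt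

namespace Groth.Agent.AlgSpDM.FieldSch

variable {S : Scheme.{u}}

/-- The pullback of a scheme along a morphism of schemes is a scheme. -/
theorem isRepresentable_of_isPullback {F P : Sp S} {T T' : Over S} {g : T' ⟶ T} {h : F ⟶ (yon S).obj T}
    {fst : P ⟶ F} {snd : P ⟶ (yon S).obj T'} (sq : IsPullback fst snd h ((yon S).map g))
    (hF : F.obj.IsRepresentable) : P.obj.IsRepresentable := by
  obtain ⟨U, ⟨e⟩⟩ := exists_iso_of_isRepresentable hF
  obtain ⟨m, hm⟩ := (yon S).map_surjective (e.hom ≫ h)
  have h1 := ((IsPullback.of_hasPullback m g).map (yon S))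
  rw [hm] at h1
  have h2 : IsPullback ((yon S).map (pullback.fst m g) ≫ e.hom) ((yon S).map (pullback.snd m g)) h ((yon S).map g) :=
    h1.of_iso (Iso.refl _) e (Iso.refl _) (Iso.refl _) (by simp) (by simp) (by simp) (by simp)
  exact isRepresentable_of_iso (h2.isoIsPullback _ _ sq)

theorem isRepresentable_prod_of_hom {X : Sp S} {A B : Over S} (g : A ⟶ B)
    (h : (X ⨯ (yon S).obj B).obj.IsRepresentable) : (X ⨯ (yon S).obj A).obj.IsRepresentable :=
  isRepresentable_of_isPullback (isPullback_prod_map X ((yon S).map g)).flip h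

theorem isRepresentable_of_openImm {X X' : Sp S} {j : X' ⟶ X} (hj : RepWith @IsOpenImmersion j)
    (h : X.obj.IsRepresentable) : X'.obj.IsRepresentable := by
  obtain ⟨T, ⟨e⟩⟩ := exists_iso_of_isRepresentable h
  have : IsIso (hj.rep.fst e.hom) := (hj.rep.isPullback e.hom).isIso_fst_of_isIso
  exact isRepresentable_of_iso (asIso (hj.rep.fst e.hom))

/-- A product with a connected limit is a limit. -/
theorem nonempty_isLimit_prod {J : Type u} [SmallCategory J] [IsCofiltered J] (X : Sp S) {D : J ⥤ Sp S} {c : Cone D}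
    (hc : IsLimit c) : Nonempty (IsLimit ((prod.functor.obj X).mapCone c)) := by
  have hfst : ∀ (s : Cone (D ⋙ prod.functor.obj X)) (i i' : J), s.π.app i ≫ prod.fst = s.π.app i' ≫ prod.fst := by
    intro s i i'
    obtain ⟨l, p, q, -⟩ := IsCofilteredOrEmpty.cone_objs i i'
    rw [← s.w p, ← s.w q]
    simp
  obtain ⟨i₀⟩ := IsCofiltered.nonempty (C := J)
  let c' : Cone (D ⋙ prod.functor.obj X) → Cone D := fun s =>
    { pt := s.pt
      π := { app := fun i => s.π.app i ≫ prod.snd
             naturality := fun i i' f => by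
               dsimp
               rw [Category.id_comp, ← s.w f]
               simp } }
  refine ⟨{ lift := fun s => prod.lift (s.π.app i₀ ≫ prod.fst) (hc.lift (c' s))
            fac := fun s i => ?_
            uniq := fun s m hm => ?_ }⟩
  · apply Limits.prod.hom_ext
    · simpa using hfst s i₀ i
    · simp [c']
  · apply Limits.prod.hom_ext
    · simp [← hm i₀]
    · rw [prod.lift_snd]
      exact hc.hom_ext fun i => by simp [c', ← hm i]

variable (k K : Type u) [Field k] [Field K] [Algebra k K]

/-- Finitely generated subalgebras. -/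
abbrev FGSub : Type u := {R : Subalgebra k K // R.FG}

instance : Nonempty (FGSub k K) := ⟨⟨⊥, Subalgebra.fg_bot⟩⟩

instance : IsDirectedOrder (FGSub k K) :=
  ⟨fun R R' => ⟨⟨R.1 ⊔ R'.1, R.2.sup R'.2⟩, (le_sup_left : R.1 ≤ _), (le_sup_right : R'.1 ≤ _)⟩⟩

/-- The diagram of finitely generated subalgebras. -/
noncomputable def fgDiag : FGSub k K ⥤ CommRingCat.{u} where
  obj R := CommRingCat.of R.1
  map f := CommRingCat.ofHom (Subalgebra.inclusion (leOfHom f)).toRingHom
  map_id R := by ext x; rfl
  map_comp f g := by ext x; rfl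

/-- The field as a cocone on its subalgebras. -/
noncomputable def fgCocone : Cocone (fgDiag k K) where
  pt := CommRingCat.of K
  ι := { app := fun R => CommRingCat.ofHom R.1.val.toRingHom }

theorem nonempty_isColimit_fgCocone : Nonempty (IsColimit (fgCocone k K)) := by
  let gen : K → FGSub k K := fun x => ⟨Algebra.adjoin k {x}, Subalgebra.fg_adjoin_finset {x} |> fun h => by simpa using h⟩
  have hgen : ∀ x, x ∈ (gen x).1 := fun x => Algebra.self_mem_adjoin_singleton k x
  have key : ∀ (s : Cocone (fgDiag k K)) (R : FGSub k K) (x : K) (hx : x ∈ R.1),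
      s.ι.app (gen x) ⟨x, hgen x⟩ = s.ι.app R ⟨x, hx⟩ := by
    intro s R x hx
    obtain ⟨R', h1, h2⟩ := exists_ge_ge (gen x) R
    exact (congrArg (fun φ => φ.hom ⟨x, hgen x⟩) (s.w (homOfLE h1))).symm.trans
      (congrArg (fun φ => φ.hom ⟨x, hx⟩) (s.w (homOfLE h2)))
  refine ⟨{ desc := fun s => CommRingCat.ofHom
              { toFun := fun x => s.ι.app (gen x) ⟨x, hgen x⟩
                map_one' := ?_
                map_mul' := fun x y => ?_
                map_zero' := ?_
                map_add' := fun x y => ?_ }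
            fac := fun s R => ?_
            uniq := fun s m hm => ?_ }⟩
  · exact (key s (gen 1) 1 (one_mem _)).trans (map_one (s.ι.app (gen 1)).hom)
  · obtain ⟨R, h1, h2⟩ := exists_ge_ge (gen x) (gen y)
    rw [key s R x (h1 (hgen x)), key s R y (h2 (hgen y)), key s R (x * y) (mul_mem (h1 (hgen x)) (h2 (hgen y)))]
    exact map_mul (s.ι.app R).hom ⟨x, h1 (hgen x)⟩ ⟨y, h2 (hgen y)⟩
  · exact (key s (gen 0) 0 (zero_mem _)).trans (map_zero (s.ι.app (gen 0)).hom)
  · obtain ⟨R, h1, h2⟩ := exists_ge_ge (gen x) (gen y)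
    rw [key s R x (h1 (hgen x)), key s R y (h2 (hgen y)), key s R (x + y) (add_mem (h1 (hgen x)) (h2 (hgen y)))]
    exact map_add (s.ι.app R).hom ⟨x, h1 (hgen x)⟩ ⟨y, h2 (hgen y)⟩
  · ext x
    exact key s R x.1 x.2
  · ext x
    exact (congrArg (fun φ => φ.hom ⟨x, hgen x⟩) (hm (gen x)))

local notation "Sk" => Spec (CommRingCat.of k)

/-- The schemes of finitely generated subalgebras over the base. -/
noncomputable def fgSys : (FGSub k K)ᵒᵖ ⥤ Over (Spec (CommRingCat.of k)) where
  obj R := Over.mk (Spec.map (CommRingCat.ofHom (algebraMap k R.unop.1)))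
  map f := Over.homMk (Spec.map ((fgDiag k K).map f.unop)) (by
    simp only [Over.mk_hom, fgDiag]
    rw [← Spec.map_comp, ← CommRingCat.ofHom_comp, AlgHom.toRingHom_eq_coe, AlgHom.comp_algebraMap])
  map_id R := by
    refine Over.OverMorphism.ext ?_
    simp only [unop_id, CategoryTheory.Functor.map_id, Spec.map_id, Over.homMk_left]
    exact Spec.map_id _
  map_comp f g := by
    refine Over.OverMorphism.ext ?_
    simp

/-- The field as a cone on the schemes of its subalgebras. -/
noncomputable def fgCone : Cone (fgSys k K) where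
  pt := pt k K
  π :=
    { app := fun R => Over.homMk (Spec.map ((fgCocone k K).ι.app R.unop)) (by
        simp only [fgSys, Over.mk_hom, fgCocone]
        rw [← Spec.map_comp, ← CommRingCat.ofHom_comp, AlgHom.toRingHom_eq_coe, AlgHom.comp_algebraMap]
        rfl)
      naturality := fun R R' f => by
        refine Over.OverMorphism.ext ?_
        simp only [Functor.const_obj_map, Category.id_comp, fgSys, Over.comp_left, Over.homMk_left, ← Spec.map_comp]
        exact congrArg Spec.map ((fgCocone k K).w f.unop).symm }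

theorem nonempty_isLimit_fgCone : Nonempty (IsLimit (fgCone k K)) := by
  obtain ⟨hc⟩ := nonempty_isColimit_fgCocone k K
  have : PreservesLimitsOfSize.{u, u} Scheme.Spec.{u} := ΓSpec.adjunction.rightAdjoint_preservesLimits
  have h : IsLimit ((CategoryTheory.Over.forget _).mapCone (fgCone k K)) :=
    IsLimit.ofIsoLimit (isLimitOfPreserves Scheme.Spec hc.op) (Cone.ext (Iso.refl _) fun R => by
      simp [fgCone, fgSys])
  have := IsCofiltered.isConnected (FGSub k K)ᵒᵖ
  exact ⟨isLimitOfReflects (CategoryTheory.Over.forget _) h⟩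

variable {k}

theorem repWith_fst_affine {X : Sp Sk} (T : Over Sk) [IsAffine T.left] :
    RepWith @IsAffineHom (prod.fst : X ⨯ (yon Sk).obj T ⟶ X) :=
  repWith_of_isPullback (isPullback_prod_fst (X := X) T).flip
    ((repWith_yon_map_iff _ _).2 (inferInstanceAs (IsAffineHom T.hom)))

/-- A quasi-compact quasi-separated space which becomes a scheme over a field becomes a scheme over a finitely
generated subalgebra. -/
theorem exists_fg_stage {X : Sp Sk} (hX : IsAlgSpace X) (hqc : IsQuasiCompactSp X) (hqs : IsQuasiSeparatedSp X)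
    (h : (X ⨯ (yon Sk).obj (pt k K)).obj.IsRepresentable) :
    ∃ R : FGSub k K, (X ⨯ (yon Sk).obj ((fgSys k K).obj (op R))).obj.IsRepresentable := by
  obtain ⟨hc⟩ := nonempty_isLimit_fgCone k K
  obtain ⟨hD⟩ := nonempty_isLimit_prod X (isLimitOfPreserves (yon Sk) hc)
  obtain ⟨T, ⟨e⟩⟩ := exists_iso_of_isRepresentable h
  have haff : ∀ R, IsAffine ((fgSys k K).obj R).left := fun R => inferInstanceAs (IsAffine (Spec _))
  obtain ⟨R, hR⟩ := exists_isRepresentable_stage ((fgSys k K ⋙ yon Sk) ⋙ prod.functor.obj X)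
    (fun R => isAlgSpace_prod hX (IsAlgSpace.yon_obj _))
    (fun R R' f => by
      have := haff R
      have := haff R'
      refine isAffineMor_of_repWith le_rfl (repWith_of_isPullback (isPullback_prod_map X _)
        ((repWith_yon_map_iff (S := Sk) @IsAffineHom ((fgSys k K).map f)).2 ?_))
      exact (inferInstance : IsAffineHom ((fgSys k K).map f).left))
    (fun R => by
      have := haff R
      exact isQuasiCompactSp_of_affine hX _ (repWith_fst_affine _) hqc)
    (fun R => by
      have := haff R
      exact isQuasiSeparatedSp_of_affine _ (repWith_fst_affine _) hqs)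
    _ hD (T := T) e
  exact ⟨R.unop, hR⟩

/-- A quasi-compact quasi-separated space which becomes a scheme over a field becomes a scheme over a finite
extension. -/
theorem exists_finite_bc {X : Sp Sk} (hX : IsAlgSpace X) (hqc : IsQuasiCompactSp X) (hqs : IsQuasiSeparatedSp X)
    (h : (X ⨯ (yon Sk).obj (pt k K)).obj.IsRepresentable) :
    ∃ (L : Type u) (_ : Field L) (_ : Algebra k L), Module.Finite k L ∧
      (X ⨯ (yon Sk).obj (pt k L)).obj.IsRepresentable := by
  obtain ⟨R, hR⟩ := exists_fg_stage K hX hqc hqs h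
  have : Algebra.FiniteType k R.1 := R.1.fg_iff_finiteType.1 R.2
  obtain ⟨m, hm⟩ := Ideal.exists_maximal R.1
  letI := Ideal.Quotient.field m
  have : Algebra.FiniteType k (R.1 ⧸ m) :=
    Algebra.FiniteType.of_surjective (Ideal.Quotient.mkₐ k m) Ideal.Quotient.mk_surjective
  refine ⟨R.1 ⧸ m, inferInstance, inferInstance, finite_of_finite_type_of_isJacobsonRing k _, ?_⟩
  refine isRepresentable_prod_of_hom (B := (fgSys k K).obj (op R))
    (Over.homMk (Spec.map (CommRingCat.ofHom (Ideal.Quotient.mkₐ k m).toRingHom)) (by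
      simp only [fgSys, Over.mk_hom]
      rw [← Spec.map_comp, ← CommRingCat.ofHom_comp, AlgHom.toRingHom_eq_coe, AlgHom.comp_algebraMap])) hR

variable {K}

/-- The morphism of base fields given by an algebra map. -/
noncomputable def ptHom {L M : Type u} [Field L] [Field M] [Algebra k L] [Algebra k M] (σ : L →ₐ[k] M) :
    pt k M ⟶ pt k L :=
  Over.homMk (Spec.map (CommRingCat.ofHom σ.toRingHom)) (by
    simp only [Over.mk_hom]
    rw [← Spec.map_comp, ← CommRingCat.ofHom_comp, AlgHom.toRingHom_eq_coe, AlgHom.comp_algebraMap])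

theorem exists_finite_separable_bc {X : Sp Sk} (hX : IsAlgSpace X) (hqc : IsQuasiCompactSp X)
    (hqs : IsQuasiSeparatedSp X) (h : (X ⨯ (yon Sk).obj (pt k K)).obj.IsRepresentable) :
    ∃ (k' : Type u) (_ : Field k') (_ : Algebra k k'), Module.Finite k k' ∧ Algebra.IsSeparable k k' ∧
      (X ⨯ (yon Sk).obj (pt k k')).obj.IsRepresentable := by
  obtain ⟨L, _, _, _, hL⟩ := exists_finite_bc K hX hqc hqs h
  let k' := separableClosure k L
  refine ⟨k', inferInstance, inferInstance, inferInstance, inferInstance, ?_⟩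
  let g : pt k L ⟶ pt k k' := ptHom (IsScalarTower.toAlgHom k k' L)
  have : IsAffine (pt k L).left := inferInstanceAs (IsAffine (Spec _))
  have : IsAffine (pt k k').left := inferInstanceAs (IsAffine (Spec _))
  have : Flat g.left := flat_spec k' L
  have : Surjective g.left := surjective_spec k' L
  have : IsIntegralHom g.left := isIntegralHom_spec k' L
  have : UniversallyInjective g.left := RelPC13.Smooth.universallyInjective_spec_of_purelyInseparable k' L
  exact isRepresentable_of_uh_cover (isAlgSpace_prod hX (IsAlgSpace.yon_obj _)) g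
    (isPullback_prod_map X ((yon Sk).map g)).flip hL

/-- A point of a space has an open neighbourhood which is a quasi-compact quasi-separated space. -/
theorem exists_qcqs_nhd {X : Sp S} (hX : IsAlgSpace X) (hqs : IsQuasiSeparatedSp X) (x : Points X) :
    ∃ (W : Sp S) (j : W ⟶ X), IsAlgSpace W ∧ RepWith @IsOpenImmersion j ∧ x ∈ Set.range (Points.map j) ∧
      IsQuasiCompactSp W ∧ IsQuasiSeparatedSp W := by
  obtain ⟨U, a, ha, has⟩ := hX.atlas
  obtain ⟨u, rfl⟩ := surjective_ofPt has x
  obtain ⟨V, hV, huV, -⟩ := exists_isAffineOpen_mem_and_subset (U := (⊤ : U.left.Opens)) (x := u) trivial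
  obtain ⟨W, j, hW, hj, hr⟩ := exists_open_subspace hX (isOpenMap_ofPt ha _ V.isOpen)
  refine ⟨W, j, hW, hj, hr.symm ▸ ⟨u, huV, rfl⟩, ?_, ?_⟩
  · refine (isQuasiCompactSp_iff hW).2 ?_
    rw [← isCompact_univ_iff, (isOpenEmbedding_map' hX hj).isInducing.isCompact_iff, Set.image_univ, hr]
    exact hV.isCompact.image (Points.continuous_ofPt a)
  · have := mono_of_openImm hj
    rw [isQuasiSeparatedSp_iff_mor, (isTerminalYon S).hom_ext ((isTerminalYon S).from W)
      (j ≫ (isTerminalYon S).from _)]
    exact isQuasiSeparatedMor_comp (repWith_of_isIso _ _) ((isQuasiSeparatedSp_iff_mor _).1 hqs)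

theorem repWith_prod_map {A B : Sp S} {j : A ⟶ B} (Y : Sp S) (hj : RepWith @IsOpenImmersion j) :
    RepWith @IsOpenImmersion (prod.map j (𝟙 Y)) := by
  have sq : IsPullback (prod.fst : A ⨯ Y ⟶ A) (prod.map j (𝟙 Y)) j (prod.fst : B ⨯ Y ⟶ B) :=
    ⟨⟨by simp⟩, ⟨PullbackCone.IsLimit.mk _ (fun s => prod.lift s.fst (s.snd ≫ prod.snd))
      (fun s => by simp) (fun s => by apply Limits.prod.hom_ext <;> simp [s.condition])
      (fun s l h1 h2 => by
        apply Limits.prod.hom_ext
        · simpa using h1
        · simpa using h2 =≫ prod.snd)⟩⟩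
  exact repWith_of_isPullback sq hj

theorem bc_algClosure {X : Sp Sk} (hX : IsAlgSpace X) (hqs : IsQuasiSeparatedSp X)
    (h : (X ⨯ (yon Sk).obj (pt k K)).obj.IsRepresentable) (M : Type u) [Field M] [Algebra k M]
    [IsAlgClosed M] : (X ⨯ (yon Sk).obj (pt k M)).obj.IsRepresentable := by
  refine isRepresentable_of_forall (isAlgSpace_prod hX (IsAlgSpace.yon_obj _)) fun z => ?_
  obtain ⟨W, j, hW, hj, hx, hWc, hWs⟩ := exists_qcqs_nhd hX hqs (Points.map prod.fst z)
  obtain ⟨L, _, _, _, hL⟩ := exists_finite_bc K hW hWc hWs (isRepresentable_of_openImm (repWith_prod_map _ hj) h)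
  have hM : (W ⨯ (yon Sk).obj (pt k M)).obj.IsRepresentable :=
    isRepresentable_prod_of_hom (ptHom (IsAlgClosed.lift (R := k) (S := L) (M := M))) hL
  obtain ⟨w, hw⟩ : z ∈ Set.range (Points.map (prod.map j (𝟙 ((yon Sk).obj (pt k M))))) := by
    have sq : IsPullback (prod.fst : W ⨯ _ ⟶ W) (prod.map j (𝟙 ((yon Sk).obj (pt k M)))) j prod.fst :=
      ⟨⟨by simp⟩, ⟨PullbackCone.IsLimit.mk _ (fun s => prod.lift s.fst (s.snd ≫ prod.snd))
        (fun s => by simp) (fun s => by apply Limits.prod.hom_ext <;> simp [s.condition])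
        (fun s l h1 h2 => by
          apply Limits.prod.hom_ext
          · simpa using h1
          · simpa using h2 =≫ prod.snd)⟩⟩
    rw [range_map_snd_of_isPullback sq]
    exact hx
  obtain ⟨T, ⟨e⟩⟩ := exists_iso_of_isRepresentable hM
  exact hw ▸ isSchPt_of_openImm (repWith_prod_map _ hj) (isSchPt_of_iso e w)

end Groth.Agent.AlgSpDM.FieldSch
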