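import Groth.Agent.AlgSpDM.Basics
import Groth.Agent.AlgSpDec.More
import Groth.Agent.AlgSpLib.EtLocalInst

/-!
# Locally quasi-finite spaces over a field
-/

set_option backward.isDefEq.respectTransparency false
set_option backward.isDefEq.respectTransparency.types false

universe u

open CategoryTheory CategoryTheory.Limits AlgebraicGeometry Opposite AlgSp Groth.Agent.AlgSpLib Order

namespace Groth.Agent.AlgSpDM

variable {k : Type u} [Field k]

local notation "S₀" => Spec (CommRingCat.of k)

abbrev LQFT : MorphismProperty Scheme.{u} := @LocallyQuasiFinite ⊓ @LocallyOfFiniteType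

theorem discreteTopology_of_lqf {T : Scheme.{u}} (g : T ⟶ S₀) [LocallyQuasiFinite g] :
    DiscreteTopology ↥T := by
  have h := g.isDiscrete_preimage_singleton (IsLocalRing.closedPoint k)
  rw [show g ⁻¹' {IsLocalRing.closedPoint k} = Set.univ from
    Set.eq_univ_of_forall fun x => Subsingleton.elim (α := PrimeSpectrum k) _ _] at h
  exact isDiscrete_univ_iff.1 h

theorem chart_locP {X : Sp S₀} {p : X ⟶ (yon S₀).obj (Over.mk (𝟙 _))} {P : MorphismProperty Scheme.{u}}
    (hp : LocP P p) {U : Over S₀} {a : (yon S₀).obj U ⟶ X} (ha : RepWith @Etale a) : P U.hom := by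
  obtain ⟨h, hh⟩ := (yon S₀).map_surjective (a ≫ p)
  have := hp a (𝟙 _) h ha (repWith_id _ _) (by rw [Category.comp_id, hh])
  rwa [show U.hom = h.left from (Category.comp_id _).symm.trans (Over.w h).symm |>.trans (by simp)] at *

theorem dim_le_zero_of_lqf {X : Sp S₀} {p : X ⟶ (yon S₀).obj (Over.mk (𝟙 _))}
    (hp : LocP LQFT p) : AlgSp.dim X ≤ 0 := by
  refine AlgSpPts.dim_le_iff.2 fun U a ha u => ?_
  have : LocallyQuasiFinite U.hom := (chart_locP hp ha).1
  have := discreteTopology_of_lqf U.hom
  rw [show coheight u = 0 from coheight_eq_zero.2 fun v hv => by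
    rw [show v = u from (specializes_iff_eq.1 (show v ⤳ u from hv))]]
  rfl

theorem discreteTopology_chart {X : Sp S₀} {p : X ⟶ (yon S₀).obj (Over.mk (𝟙 _))}
    (hp : LocP @LocallyOfFiniteType p) (hd : AlgSp.dim X ≤ 0) {U : Over S₀}
    {a : (yon S₀).obj U ⟶ X} (ha : RepWith @Etale a) : DiscreteTopology ↥U.left := by
  have : LocallyOfFiniteType U.hom := chart_locP hp ha
  have := LocallyOfFiniteType.isLocallyNoetherian U.hom
  have := IsLocallyArtinian.of_topologicalKrullDim_le_zero (topologicalKrullDim_chart_le_zero hd ha)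
  infer_instance

theorem locP_lqf_of_dim_le_zero {X : Sp S₀} {p : X ⟶ (yon S₀).obj (Over.mk (𝟙 _))}
    (hp : LocP @LocallyOfFiniteType p) (hd : AlgSp.dim X ≤ 0) : LocP LQFT p := by
  intro U V a b h ha hb hab
  have hl : LocallyOfFiniteType h.left := hp a b h ha hb hab
  have := discreteTopology_chart hp hd ha
  exact ⟨locallyQuasiFinite_iff_isDiscrete_preimage_singleton.2 fun _ => ⟨inferInstance⟩, hl⟩

theorem isQuasiSeparatedSp_of_lqf {X : Space S₀} {p : X.obj ⟶ (yon S₀).obj (Over.mk (𝟙 _))}
    (hp : LocP LQFT p) : IsQuasiSeparatedSp X.obj := by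
  obtain ⟨U, a, ha, hs⟩ := X.property.atlas
  have : MorphismProperty.IsLocalAtTarget (@QuasiCompact : MorphismProperty Scheme.{u}) Scheme.fppfPrecoverage :=
    AlgSpPts.isLocalAtTarget_fppf _
  refine AlgSpPts.repWith_diag_of_chart @QuasiCompact X.property.diag a ha hs (ha.rep.fst' a) (ha.rep.snd a)
    (ha.rep.isPullback' a) ?_
  let l := prod.lift (ha.rep.fst' a) (ha.rep.snd a)
  let e := Over.prodLeftIsoPullback U U
  have : LocallyQuasiFinite U.hom := (chart_locP hp ha).1
  have : LocallyQuasiFinite (pullback.fst U.hom U.hom ≫ U.hom) := inferInstance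
  have := discreteTopology_of_lqf (pullback.fst U.hom U.hom ≫ U.hom)
  suffices QuasiCompact (l.left ≫ e.hom) by
    exact (MorphismProperty.cancel_right_of_respectsIso @QuasiCompact l.left e.hom).1 this
  have : Mono (l.left ≫ e.hom) := by
    have := AlgSpDec.mono_prod_lift (ha.rep.isPullback' a)
    have : Mono l.left := inferInstanceAs (Mono ((Over.forget S₀).map l))
    exact mono_comp _ _
  refine quasiCompact_iff_forall_isAffineOpen.2 fun O hO => ?_
  exact ((hO.isCompact.finite_of_discrete).preimage (l.left ≫ e.hom).injective.injOn).isCompact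

end Groth.Agent.AlgSpDM
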