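import Groth.Agent.AlgSpDec.FieldFibre
import Groth.Agent.AlgSpDec.AffineRep
import Groth.Agent.AlgSpPts.Univ
import Groth.Agent.AlgSpPts.UnivClosed
import Groth.Agent.AlgSpDM.FieldZero
import Groth.Agent.AlgSpDec.PointLocusInst
import Groth.Agent.AlgSpPts.Sep

/-!
# Finite morphisms of algebraic spaces
-/

set_option backward.isDefEq.respectTransparency false
set_option backward.isDefEq.respectTransparency.types false

universe u

open CategoryTheory CategoryTheory.Limits AlgebraicGeometry AlgSp Groth.Agent.AlgSpLib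
  Groth.Agent.AlgSpPts Groth.Agent.AlgSpDec

namespace Groth.Agent.AlgSpDM

variable {S : Scheme.{u}} {X Y : Space S}

theorem topologically_closed_left {V U : Over S} (g : V ⟶ U) (hg : IsClosedMor ((yon S).map g)) :
    topologically @IsClosedMap g.left := by
  show IsClosedMap g.left
  rw [left_eq_conj g]
  exact (Points.schemeHomeo U).symm.isClosedMap.comp (IsClosedMap.comp hg (Points.schemeHomeo V).isClosedMap)

theorem discreteTopology_points_of_lqf {K : Type u} [Field K] {str : Spec (CommRingCat.of K) ⟶ S} {P : Sp S}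
    (hP : IsAlgSpace P) {q : P ⟶ (yon S).obj (Over.mk str)}
    (hq : LocP (@LocallyQuasiFinite ⊓ @LocallyOfFiniteType) q) : DiscreteTopology (Points P) := by
  obtain ⟨U, a, ha, has⟩ := hP.atlas
  obtain ⟨h, hh⟩ := (yon S).map_surjective (a ≫ q)
  obtain ⟨hlqf, -⟩ := hq a (𝟙 _) h ha (repWith_id _ _) (by rw [Category.comp_id, hh])
  have : LocallyQuasiFinite (h.left : U.left ⟶ Spec (CommRingCat.of K)) := hlqf
  have := discreteTopology_of_lqf (h.left : U.left ⟶ Spec (CommRingCat.of K))
  refine discreteTopology_iff_isOpen_singleton.2 fun x => ?_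
  obtain ⟨u, rfl⟩ := surjective_ofPt has x
  simpa using isOpenMap_ofPt ha {u} (isOpen_discrete _)

theorem discrete_fibre_of_lqf (f : X ⟶ Y) (hf : LocP (@LocallyQuasiFinite ⊓ @LocallyOfFiniteType) f.hom)
    (k : FieldPt Y.obj) (Xk : Sp S) (fst : Xk ⟶ X.obj) (snd : Xk ⟶ (yon S).obj k.pt)
    (sq : IsPullback fst snd f.hom k.toHom) : DiscreteTopology (Points Xk) :=
  discreteTopology_points_of_lqf (isAlgSpace_of_isPullback sq X.property (IsAlgSpace.yon_obj _) Y.property)
    (locP_of_isPullback sq X.property Y.property (IsAlgSpace.yon_obj _) hf)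

theorem lqf_of_discrete_fibres (f : X ⟶ Y) (hf : LocP @LocallyOfFiniteType f.hom)
    (H : ∀ (k : FieldPt Y.obj) (Xk : Sp S) (fst : Xk ⟶ X.obj) (snd : Xk ⟶ (yon S).obj k.pt),
      IsPullback fst snd f.hom k.toHom → DiscreteTopology (Points Xk)) :
    LocP (@LocallyQuasiFinite ⊓ @LocallyOfFiniteType) f.hom := by
  rw [RelDimSp.lqf_iff X.property Y.property hf]
  intro x
  obtain ⟨k, hk⟩ : ∃ k : FieldPt Y.obj, Points.mk k = Points.map f.hom x := by
    generalize Points.map f.hom x = y
    induction y using Points.ind with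
    | h k => exact ⟨k, rfl⟩
  have sq := IsPullback.of_hasPullback f.hom k.toHom
  have := H k _ _ _ sq
  obtain ⟨z, hz, -⟩ := exists_point_of_isPullback sq (x := x)
    (y := Points.ofScheme k.pt (IsLocalRing.closedPoint k.K)) (by
      rw [← hk, ← Points.ofPt_eq_map_ofScheme, ← mk_eq_ofPt])
  have hP := isAlgSpace_of_isPullback sq X.property (IsAlgSpace.yon_obj _) Y.property
  obtain ⟨U, a, ha, has⟩ := hP.atlas
  obtain ⟨u, hu⟩ := surjective_ofPt has z
  obtain ⟨h, hh⟩ := (yon S).map_surjective (a ≫ pullback.snd f.hom k.toHom)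
  have : LocallyOfFiniteType h.left :=
    locP_of_isPullback sq X.property Y.property (IsAlgSpace.yon_obj _) hf a (𝟙 _) h ha (repWith_id _ _)
      (by rw [Category.comp_id, hh])
  rw [← hz]
  exact FieldFibre.hasAtMor_zero_of_fibre sq X.property Y.property hf z a ha h hh.symm u hu
    (FieldFibre.fibreDimAt_zero_of_discrete ha hh.symm u)

theorem isFiniteMor_of_proper_lqf (f : X ⟶ Y) (hf : IsProperMor f.hom)
    (hq : LocP (@LocallyQuasiFinite ⊓ @LocallyOfFiniteType) f.hom) : IsFiniteMor f.hom := by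
  have hr := representable_of_lqf_separated X.property Y.property f.hom hq hf.1
  have hu := repWith_universally_of_univSp (P := topologically @IsClosedMap) (Q := IsClosedMor)
    (fun V U g hg => topologically_closed_left g hg) hr hf.2.2
  refine isFiniteMor_iff_repWith.2 ⟨hr, fun U V g fst snd sq => ?_⟩
  have : UniversallyClosed snd.left := ⟨hu.property g fst snd sq⟩
  have : IsSeparated snd.left := (isSeparatedMor_yon_map_iff snd).1 (isSeparatedMor_of_isPullback sq hf.1)
  obtain ⟨_, _⟩ := locP_yon_map (locP_of_isPullback sq X.property Y.property (IsAlgSpace.yon_obj U) hq)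
  have : IsProper snd.left := { }
  exact IsFinite.of_isProper_of_locallyQuasiFinite snd.left

theorem proper_lqf_of_isFiniteMor (f : X ⟶ Y) (hf : IsFiniteMor f.hom) :
    IsProperMor f.hom ∧ LocP (@LocallyQuasiFinite ⊓ @LocallyOfFiniteType) f.hom := by
  have h := isFiniteMor_iff_repWith.1 hf
  refine ⟨⟨repWith_diagonal h fun g (_ : IsFinite g) =>
      (inferInstance : IsClosedImmersion (pullback.diagonal g)), ⟨?_, ?_⟩, ?_⟩, ?_⟩
  · exact locP_of_repWith (repWith_mono
      (fun _ _ g (_ : IsFinite g) => (inferInstance : LocallyOfFiniteType g)) _ h)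
  · exact isQuasiCompactMor_of_repWith (repWith_mono
      (fun _ _ g (_ : IsFinite g) => (inferInstance : QuasiCompact g)) _ h)
  · exact univSp_of_repWith (fun _ _ _ h => isClosedMap_map h) (repWith_mono
      (fun _ _ g (_ : IsFinite g) => (inferInstance : UniversallyClosed g)) _ h)
  · exact locP_of_repWith (repWith_mono (P := @IsFinite) (Q := @LocallyQuasiFinite ⊓ @LocallyOfFiniteType)
      (fun _ _ g (_ : IsFinite g) => ⟨(inferInstance : LocallyQuasiFinite g),
        (inferInstance : LocallyOfFiniteType g)⟩) _ h)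

theorem isProperMor_of_univClosed_lft (f : X ⟶ Y) (hc : IsUnivClosedMor f.hom)
    (hs : IsSeparatedMor f.hom) (hl : LocP @LocallyOfFiniteType f.hom) : IsProperMor f.hom :=
  ⟨hs, ⟨hl, isQuasiCompactMor_of_univClosed X.property Y.property hc⟩, hc⟩

theorem fibreDimAt_zero_iff_exists_open {A B : Scheme.{u}} (h : A ⟶ B) [LocallyOfFiniteType h] (u : A) :
    FlatMor.fibreDimAt h u = 0 ↔
      ∃ W : A.Opens, u ∈ W ∧ LocallyQuasiFinite (W.ι ≫ h) ∧ LocallyOfFiniteType (W.ι ≫ h) := by
  constructor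
  · intro hu
    let W : A.Opens := ⟨_, PointLocus.ptProp_lqf.isOpen h⟩
    refine ⟨W, hu, (lqf_iff_fibreDimAt (W.ι ≫ h)).2 fun w => ?_, inferInstance⟩
    exact (PointLocus.ptProp_lqf.precomp W.ι h w).2 w.2
  · rintro ⟨W, hW, h1, -⟩
    exact (PointLocus.ptProp_lqf.precomp W.ι h ⟨u, hW⟩).1 ((lqf_iff_fibreDimAt (W.ι ≫ h)).1 h1 ⟨u, hW⟩)

/-- The predicate used in the statements for quasi-finiteness at a point. -/
theorem qfAt_iff {F G : Sp S} {f : F ⟶ G} (hf : LocP @LocallyOfFiniteType f) (x : Points F) :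
    HasAtMor (fun U _ h u => ∃ W : U.Opens, u ∈ W ∧ LocallyQuasiFinite (W.ι ≫ h) ∧
        LocallyOfFiniteType (W.ι ≫ h)) f x ↔
      PointLocus.At (fun {_ _} h u => FlatMor.fibreDimAt h u = 0) f x := by
  constructor <;> rintro ⟨U, V, a, b, h, u, ha, hb, w, hx, hu⟩ <;>
    have := hf a b h ha hb w <;>
    refine ⟨U, V, a, b, h, u, ha, hb, w, hx, ?_⟩
  · exact (fibreDimAt_zero_iff_exists_open h.left u).2 hu
  · exact (fibreDimAt_zero_iff_exists_open h.left u).1 hu

theorem isFiniteMor_baseChange_of_qfAt (f : X ⟶ Y) (hf : IsProperMor f.hom) {V P : Space S} (j : V ⟶ Y)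
    (fst : P ⟶ X) (snd : P ⟶ V) (sq : IsPullback fst.hom snd.hom f.hom j.hom)
    (H : ∀ x : Points X.obj, Points.map f.hom x ∈ Set.range (Points.map j.hom) →
      PointLocus.At (fun {_ _} h u => FlatMor.fibreDimAt h u = 0) f.hom x) :
    IsFiniteMor snd.hom := by
  refine isFiniteMor_of_proper_lqf snd (isProperMor_of_isPullback sq X.property Y.property V.property hf) ?_
  have hl := locP_of_isPullback sq X.property Y.property V.property hf.2.1.1
  rw [PointLocus.locP_iff PointLocus.ptProp_lqf (fun h _ => PointLocus.lqf_iff_forall h) P.property V.property hl]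
  intro x'
  refine (PointLocus.at_baseChange_iff PointLocus.ptProp_lqf sq X.property Y.property V.property hf.2.1.1 x').2 (H _ ?_)
  exact ⟨Points.map snd.hom x', by rw [← Points.map_comp, ← Points.map_comp, sq.w]⟩

theorem exists_finite_nhd (f : X ⟶ Y) (y : Points Y.obj) (hf : IsProperMor f.hom)
    (hq : ∀ x : Points X.obj, Points.map f.hom x = y →
      PointLocus.At (fun {_ _} h u => FlatMor.fibreDimAt h u = 0) f.hom x) :
    ∃ (V : Space S) (j : V ⟶ Y), RepWith @IsOpenImmersion j.hom ∧ y ∈ Set.range (Points.map j.hom) ∧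
      ∀ (P : Space S) (fst : P ⟶ X) (snd : P ⟶ V), IsPullback fst.hom snd.hom f.hom j.hom →
        IsFiniteMor snd.hom := by
  have hc : IsClosedMap (Points.map f.hom) :=
    hf.2.2 Y.property (𝟙 _) (𝟙 _) f.hom (IsPullback.of_horiz_isIso ⟨by simp⟩)
  obtain ⟨V, j, hV, hj, hr⟩ := exists_open_subspace Y.property
    (hc _ (PointLocus.isOpen_at PointLocus.ptProp_lqf hf.2.1.1).isClosed_compl).isOpen_compl
  refine ⟨⟨V, hV⟩, ⟨j⟩, hj, hr.symm ▸ ?_, fun P fst snd sq =>
    isFiniteMor_baseChange_of_qfAt f hf _ fst snd sq fun x hx => ?_⟩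
  · rintro ⟨x, hx, hxy⟩
    exact hx (hq x hxy)
  · by_contra h
    change _ ∈ Set.range (Points.map j) at hx
    rw [hr] at hx
    exact hx ⟨x, h, rfl⟩

end Groth.Agent.AlgSpDM
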