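import Groth.Agent.AlgSpDM.FibreCond
import Groth.Agent.FinNhd.Basic
import Groth.Agent.AlgSpPts.OpenSub
import Groth.Agent.AlgSpPts.Sep
import Groth.Agent.AlgSpDec.AffineRep
import Groth.Agent.AlgSpDec.LqfScheme

/-!
# Finite fibres over points of codimension zero
-/

set_option autoImplicit false
set_option backward.isDefEq.respectTransparency false
set_option backward.isDefEq.respectTransparency.types false
set_option maxHeartbeats 800000

universe u

open CategoryTheory CategoryTheory.Limits AlgebraicGeometry AlgSp Groth.Agent.AlgSpLib Groth.Agent.AlgSpPts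
  Groth.Agent.AlgSpDec

namespace Groth.Agent.AlgSpDM.FiniteFibreNhd

variable {S : Scheme.{u}} {X Y : Space S} (f : X ⟶ Y)

theorem qs_of_mor {F G : Sp S} {g : F ⟶ G} (hg : IsQuasiSeparatedMor g) (hG : IsQuasiSeparatedSp G) :
    IsQuasiSeparatedSp F := by
  rw [AlgSpPts.isQuasiSeparatedSp_iff_mor] at hG ⊢
  rw [(isTerminalYon S).hom_ext ((isTerminalYon S).from F) (g ≫ (isTerminalYon S).from G)]
  exact isQuasiSeparatedMor_comp hg hG

theorem finite_fibre_of_finite {X' Y' : Space S} (i : X' ⟶ X) (j : Y' ⟶ Y) (f' : X' ⟶ Y')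
    (hj : RepWith @IsOpenImmersion j.hom) (w : f' ≫ j = i ≫ f) {y : Points Y.obj}
    (hy : y ∈ Set.range (Points.map j.hom))
    (hsub : Points.map f.hom ⁻¹' {y} ⊆ Set.range (Points.map i.hom)) (hf' : IsFiniteMor f'.hom) :
    (Points.map f.hom ⁻¹' {y}).Finite := by
  obtain ⟨y', rfl⟩ := hy
  obtain ⟨W, c, v, hW, -, rfl⟩ := exists_affine_chart_at Y'.property y'
  obtain ⟨T, g, fst, sq, -, hg⟩ := hf' hW c
  have hw : f'.hom ≫ j.hom = i.hom ≫ f.hom := congrArg InducedCategory.Hom.hom w
  refine (((g.left.finite_preimage_singleton v).image (Points.ofPt fst)).image (Points.map i.hom)).subset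
    fun x hx => ?_
  obtain ⟨z, rfl⟩ := hsub hx
  have hz : Points.map f'.hom z = Points.ofPt c v := by
    refine (isOpenEmbedding_map' Y.property hj).injective ?_
    rw [← Points.map_comp, hw, Points.map_comp]
    exact hx
  obtain ⟨p, hp₁, hp₂⟩ := exists_point_of_isPullback sq (x := z) (y := Points.ofScheme W v)
    (hz.trans (Points.ofPt_eq_map_ofScheme _ _))
  obtain ⟨t, rfl⟩ : ∃ t, Points.ofScheme T t = p := (Points.schemeHomeo T).surjective p
  refine ⟨z, ⟨t, ?_, ?_⟩, rfl⟩
  · rw [← Points.ofPt_eq_map_ofScheme, ← Category.comp_id ((yon S).map g), ofPt_comp] at hp₂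
    exact (Points.schemeHomeo W).injective hp₂
  · rw [← hp₁, Points.ofPt_eq_map_ofScheme]

/-- Finiteness of a fibre over a point of codimension zero gives finiteness over a neighbourhood. -/
theorem exists_finite_nhd [QuasiSeparatedSpace ↥S] (hqs : IsQuasiSeparatedMor f.hom)
    (hft : LocP @LocallyOfFiniteType f.hom) (hY : IsQuasiSeparatedSp Y.obj) (y : Points Y.obj)
    (hy : HasAt (fun U u => ringKrullDim ↥(U.presheaf.stalk u) = 0) Y.obj y)
    (hfin : (Points.map f.hom ⁻¹' {y}).Finite) :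
    ∃ (X' Y' : Space S) (i : X' ⟶ X) (j : Y' ⟶ Y) (f' : X' ⟶ Y'), RepWith @IsOpenImmersion i.hom ∧
      RepWith @IsOpenImmersion j.hom ∧ f' ≫ j = i ≫ f ∧ y ∈ Set.range (Points.map j.hom) ∧
      Points.map f.hom ⁻¹' {y} ⊆ Set.range (Points.map i.hom) ∧ IsFiniteMor f'.hom := by
  choose U a u hU ha hu using fun x : Points X.obj => exists_affine_chart_at X.property x
  have hopen : IsOpen (⋃ x ∈ Points.map f.hom ⁻¹' {y}, Set.range (Points.ofPt (a x))) :=
    isOpen_biUnion fun x _ => by rw [← Set.image_univ]; exact isOpenMap_ofPt (ha x) _ isOpen_univ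
  obtain ⟨O, jO, hO, hjO, hjOr⟩ := exists_open_subspace X.property hopen
  have hOqc : IsQuasiCompactSp O := by
    refine (isQuasiCompactSp_iff hO).2 ⟨?_⟩
    rw [(isOpenEmbedding_map' X.property hjO).isInducing.isCompact_iff, Set.image_univ, hjOr]
    refine hfin.isCompact_biUnion fun x _ => ?_
    have := hU x
    exact isCompact_range (Points.continuous_ofPt (a x))
  have := mono_of_openImmersion hjO
  have hjqs : IsQuasiSeparatedMor jO := isQuasiSeparatedMor_of_isSeparatedMor (isSeparatedMor_of_mono jO)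
  let X₁ : Space S := ⟨O, hO⟩
  let f₁ : X₁ ⟶ Y := ObjectProperty.homMk (jO ≫ f.hom)
  have hjOe : RepWith @Etale jO :=
    repWith_mono (fun _ _ e (_ : IsOpenImmersion e) => inferInstanceAs (Etale e)) _ hjO
  have hl₁ : LocP @LocallyOfFiniteType f₁.hom := fun U V a b h ha hb w =>
    hft (a ≫ jO) b h (repWith_comp ha hjOe) hb ((Category.assoc _ _ _).trans w)
  have hft₁ : IsFiniteTypeMor f₁.hom :=
    ⟨hl₁, isQuasiCompactMor_of_qc_qs hO Y.property hOqc hY f₁.hom⟩
  have hqs₁ : IsQuasiSeparatedMor f₁.hom := isQuasiSeparatedMor_comp hjqs hqs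
  have hdec : IsDecent O := isDecent_of_isQuasiSeparatedSp hO (qs_of_mor hqs₁ hY)
  have hinj := (isOpenEmbedding_map' X.property hjO).injective
  have hfin₁ : (Points.map f₁.hom ⁻¹' {y}).Finite :=
    (hfin.preimage hinj.injOn).subset fun z hz => by
      show Points.map f.hom (Points.map jO z) ∈ ({y} : Set _)
      rw [← Points.map_comp]; exact hz
  obtain ⟨Y', X', j, fst, snd, hj, hyj, sq, hfst⟩ := FinNhd.exists_open_nhd_finite f₁ hqs₁ hft₁ y hy
    fun x hx => FibreCond.qf_of_finite hl₁ hO Y.property (y := y) (x := x) hx hdec hfin₁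
  refine ⟨X', Y', snd ≫ ObjectProperty.homMk jO, j, fst, repWith_comp (repWith_of_isPullback sq hj) hjO, hj, ?_,
    hyj, fun x hx => ?_, hfst⟩
  · exact InducedCategory.hom_ext (sq.w.trans (Category.assoc _ _ _).symm)
  · obtain ⟨z, hz⟩ : x ∈ Set.range (Points.map jO) := by
      rw [hjOr]
      exact Set.mem_iUnion₂.2 ⟨x, hx, u x, hu x⟩
    obtain ⟨y', hy'⟩ := hyj
    obtain ⟨p, -, hp⟩ := exists_point_of_isPullback sq (x := y') (y := z) (by
      show _ = Points.map (jO ≫ f.hom) z
      rw [hy', Points.map_comp, hz]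
      exact (hx : Points.map f.hom x = y).symm)
    refine ⟨p, ?_⟩
    show Points.map (snd.hom ≫ jO) p = x
    rw [Points.map_comp, hp, hz]

end Groth.Agent.AlgSpDM.FiniteFibreNhd
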