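import Groth.Agent.AlgSpDM.FlatDimSch
import Groth.Agent.AlgSpDM.Finite
import Groth.Agent.AlgSpDec.RelDimSp
import Groth.Agent.AlgSpPts.SepDescent

/-!
# Relative dimension of a flat morphism bounded over a dense open
-/

set_option backward.isDefEq.respectTransparency false
set_option backward.isDefEq.respectTransparency.types false

universe u

open CategoryTheory CategoryTheory.Limits AlgebraicGeometry AlgSp Groth.Agent.AlgSpLib
  Groth.Agent.AlgSpPts

namespace Groth.Agent.AlgSpDM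

variable {S : Scheme.{u}}

theorem relDim_le_of_flat_over_dense {X Y V : Space S} (f : X ⟶ Y) (j : V ⟶ Y) (d : ℕ)
    (hf1 : LocP @Flat f.hom) (hf2 : LocP @LocallyOfFiniteType f.hom)
    (hj1 : RepWith @IsOpenImmersion j.hom) (hj2 : Dense (Set.range (Points.map j.hom)))
    {P : Space S} (fst : P ⟶ X) (snd : P ⟶ V) (hP : IsPullback fst.hom snd.hom f.hom j.hom)
    (hV : ∀ x, HasAtMor (fun _ _ h u => FlatMor.fibreDimAt h u ≤ (d : WithBot ℕ∞)) snd.hom x)
    (h : LocP @LocallyOfFinitePresentation f.hom ∨ IsQuasiCompactMor j.hom) (x : Points X.obj) :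
    HasAtMor (fun _ _ h u => FlatMor.fibreDimAt h u ≤ (d : WithBot ℕ∞)) f.hom x := by
  obtain ⟨U, B, a, b, m, ha, ha', hb, -, w⟩ := exists_chart X.property Y.property f.hom
  obtain ⟨u, rfl⟩ := surjective_ofPt ha' x
  refine ⟨U, B, a, b, m, u, ha, hb, w, rfl, ?_⟩
  have := hf1 a b m ha hb w
  have := hf2 a b m ha hb w
  have : IsOpenImmersion (hj1.rep.snd b).left := hj1.property_snd b
  let W : B.left.Opens := (hj1.rep.snd b).left.opensRange
  have hW : (W : Set B.left) = Points.ofPt b ⁻¹' Set.range (Points.map j.hom) :=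
    (range_preimage (hj1.rep.isPullback b)).symm
  refine fibreDimAt_le_of_dense m.left W (hW ▸ hj2.preimage (isOpenMap_ofPt hb)) d (fun z hz => ?_) ?_ u
  · have hz' : Points.map f.hom (Points.ofPt a z) ∈ Set.range (Points.map j.hom) := by
      rw [Points.map_ofPt, w, ofPt_comp]
      exact (Set.ext_iff.1 hW _).1 hz
    obtain ⟨v, hv⟩ := hz'
    obtain ⟨p, hp, -⟩ := exists_point_of_isPullback hP hv.symm
    have hd := AlgSpDec.RelDimSp.baseChange hP X.property Y.property V.property hf2 p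
      (FlatMor.fibreDimAt m.left z) ⟨U, B, a, b, m, z, ha, hb, w, hp.symm, rfl⟩
    obtain ⟨U₁, B₁, a₁, b₁, h₁, u₁, ha₁, hb₁, w₁, hx₁, hu₁⟩ := hd
    obtain ⟨U₂, B₂, a₂, b₂, h₂, u₂, ha₂, hb₂, w₂, hx₂, hu₂⟩ := hV p
    rw [← hu₁, AlgSpDec.RelDimSp.fibreDimAt_congr
      (locP_of_isPullback hP X.property Y.property V.property hf2) ha₁ hb₁ w₁ ha₂ hb₂ w₂ (hx₁.trans hx₂.symm)]
    exact hu₂
  · rcases h with h | h
    · exact Or.inl (h a b m ha hb w)
    · refine Or.inr ?_
      have : QuasiCompact (hj1.rep.snd b).left := (repWith_quasiCompact hj1.rep h).property _ _ _ (hj1.rep.isPullback b)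
      rw [show W.ι = (hj1.rep.snd b).left.isoOpensRange.inv ≫ (hj1.rep.snd b).left from
        ((hj1.rep.snd b).left.isoOpensRange_inv_comp).symm]
      infer_instance

theorem isFiniteMor_of_flat_proper {X Y V : Space S} (f : X ⟶ Y) (j : V ⟶ Y)
    (hf1 : LocP @Flat f.hom) (hf2 : IsProperMor f.hom)
    (hj1 : RepWith @IsOpenImmersion j.hom) (hj2 : Dense (Set.range (Points.map j.hom)))
    {P : Space S} (fst : P ⟶ X) (snd : P ⟶ V) (hP : IsPullback fst.hom snd.hom f.hom j.hom)
    (hV : IsFiniteMor snd.hom)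
    (h : LocP @LocallyOfFinitePresentation f.hom ∨ IsQuasiCompactMor j.hom) :
    IsFiniteMor f.hom := by
  have hl := hf2.2.1.1
  have h0 := (AlgSpDec.RelDimSp.lqf_iff P.property V.property
    (locP_of_isPullback hP X.property Y.property V.property hl)).1 (proper_lqf_of_isFiniteMor snd hV).2
  have hle := relDim_le_of_flat_over_dense f j 0 hf1 hl hj1 hj2 fst snd hP (fun x => by
    obtain ⟨U, B, a, b, m, u, ha, hb, w, hx, hu⟩ := h0 x
    exact ⟨U, B, a, b, m, u, ha, hb, w, hx, le_of_eq hu⟩) h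
  refine isFiniteMor_of_proper_lqf f hf2 ((AlgSpDec.RelDimSp.lqf_iff X.property Y.property hl).2 fun x => ?_)
  obtain ⟨U, B, a, b, m, u, ha, hb, w, hx, hu⟩ := hle x
  refine ⟨U, B, a, b, m, u, ha, hb, w, hx, le_antisymm hu ?_⟩
  have := hl a b m ha hb w
  obtain ⟨z, -, -, he, -⟩ := FibDim.exists_fibreDimAt_eq m.left u
  rw [he]
  exact_mod_cast Nat.zero_le _

end Groth.Agent.AlgSpDM
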