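import Groth.Agent.FibDim.GenerizeDim
import Groth.Agent.Triage.FibMaxFlat
import Mathlib.RingTheory.Ideal.MinimalPrime.Localization

/-!
# Fibre dimension of a flat morphism bounded over a dense open
-/

set_option autoImplicit false

universe u

open CategoryTheory CategoryTheory.Limits AlgebraicGeometry TopologicalSpace
open Groth.Agent.FibDim

namespace Groth.Agent.AlgSpDM

/-- Every point of a scheme has a generization in a dense retrocompact open. -/
theorem exists_generization_mem_of_retrocompact {V : Scheme.{u}} (W : V.Opens) [QuasiCompact W.ι]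
    (hW : Dense (W : Set V)) (v : V) : ∃ η, η ⤳ v ∧ η ∈ W := by
  obtain ⟨A0, hA0, hv, -⟩ := exists_isAffineOpen_mem_and_subset (show v ∈ (⊤ : V.Opens) from trivial)
  let j := hA0.fromSpec
  have hc : IsCompact (j ⁻¹' (W : Set V)) := by
    have h1 : IsCompact ((W : Set V) ∩ (A0 : Set V)) := by
      have h2 := (W.ι.isCompact_preimage hA0.isCompact).image W.ι.continuous
      rwa [Scheme.Hom.coe_preimage, Set.image_preimage_eq_inter_range, Scheme.Opens.range_ι, Set.inter_comm] at h2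
    have h3 : j '' (j ⁻¹' (W : Set V)) = (W : Set V) ∩ (A0 : Set V) := by
      rw [Set.image_preimage_eq_inter_range, hA0.range_fromSpec]
    exact j.isOpenEmbedding.isInducing.isCompact_iff.2 (h3 ▸ h1)
  obtain ⟨p, hp⟩ : v ∈ Set.range j := by rw [hA0.range_fromSpec]; exact hv
  obtain ⟨η, hη, hηle⟩ := Ideal.exists_minimalPrimes_le (I := ⊥) (J := (p : PrimeSpectrum _).asIdeal) bot_le
  let q : PrimeSpectrum Γ(V, A0) := ⟨η, hη.1.1⟩
  refine ⟨j q, hp ▸ ((PrimeSpectrum.le_iff_specializes q (p : PrimeSpectrum _)).1 hηle).map j.continuous, ?_⟩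
  by_contra hq
  obtain ⟨t, ht⟩ := (PrimeSpectrum.isCompact_isOpen_iff (R := Γ(V, A0))).1
    ⟨hc, W.isOpen.preimage j.continuous⟩
  have hmem : ∀ a ∈ t, a ∈ η := fun a ha => by
    by_contra hb
    refine hq ?_
    exact (ht.le : _) (show q ∈ (PrimeSpectrum.zeroLocus (t : Set Γ(V, A0)))ᶜ from fun hz => hb (hz ha))
  have hs : ∀ a ∈ t, ∃ s, s ∉ η ∧ IsNilpotent (a * s) := fun a ha => by
    by_contra hall
    push Not at hall
    have : η.IsPrime := hη.1.1
    let M : Submonoid Γ(V, A0) := η.primeCompl ⊔ Submonoid.powers a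
    have hd : Disjoint ((⊥ : Ideal Γ(V, A0)) : Set Γ(V, A0)) (M : Set Γ(V, A0)) := by
      rw [Set.disjoint_left]
      rintro x hx hxM
      rw [SetLike.mem_coe, Ideal.mem_bot] at hx
      subst hx
      obtain ⟨b, hb, c, ⟨n, rfl⟩, hbc⟩ := Submonoid.mem_sup.1 hxM
      refine hall b hb ⟨n + 1, ?_⟩
      rw [mul_pow, show a ^ (n + 1) * b ^ (n + 1) = (b * a ^ n) * (a * b ^ n) by ring, hbc, zero_mul]
    obtain ⟨P, hP, -, hPM⟩ := Ideal.exists_le_prime_disjoint _ M hd
    have hle : P ≤ η := fun x hx => by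
      by_contra hxη
      exact Set.disjoint_left.1 hPM hx (show x ∈ M from le_sup_left (α := Submonoid _) hxη)
    exact Set.disjoint_left.1 hPM (hη.2 ⟨hP, bot_le⟩ hle (hmem a ha))
      (show a ∈ M from le_sup_right (α := Submonoid _) (Submonoid.mem_powers a))
  choose s hs hn using hs
  let σ : Γ(V, A0) := ∏ a ∈ t.attach, s a.1 a.2
  have hσ : σ ∉ η := fun hσ => by
    obtain ⟨a, -, ha⟩ := (hη.1.1.prod_mem_iff).1 hσ
    exact hs _ _ ha
  obtain ⟨v', hv', hv'W⟩ := hW.inter_open_nonempty (j '' (PrimeSpectrum.basicOpen σ : Set (PrimeSpectrum Γ(V, A0))))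
    (j.isOpenEmbedding.isOpenMap _ (PrimeSpectrum.basicOpen σ).isOpen) ⟨j q, q, hσ, rfl⟩
  obtain ⟨r, hr, rfl⟩ := hv'
  have hr' : r ∈ ((PrimeSpectrum.zeroLocus (t : Set Γ(V, A0)))ᶜ : Set (PrimeSpectrum Γ(V, A0))) := ht.ge hv'W
  refine hr' fun a ha => ?_
  have h1 : a * s a ha ∈ (r : PrimeSpectrum _).asIdeal := by
    obtain ⟨n, hn⟩ := hn a ha
    exact (r : PrimeSpectrum _).isPrime.mem_of_pow_mem n (hn ▸ Ideal.zero_mem _)
  refine ((r : PrimeSpectrum _).isPrime.mem_or_mem h1).resolve_right fun h => hr ?_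
  exact Ideal.mem_of_dvd _ (Finset.dvd_prod_of_mem (fun a : {x // x ∈ t} => s a.1 a.2)
    (Finset.mem_attach t ⟨a, ha⟩)) h

variable {X Y : Scheme.{u}} (f : X ⟶ Y) [LocallyOfFiniteType f] [Flat f]

/-- For a flat morphism the fibres over generizations are at least as big. -/
theorem exists_rd_ge_of_flat (x : X) {y' : Y} (hy : y' ⤳ f x) : ∃ z, f z = y' ∧ rd f x ≤ rd f z := by
  by_cases hne : f x = y'
  · exact ⟨x, hne, le_rfl⟩
  obtain ⟨A, _, _, _, τ, pt, η, hpt, hη, hgen⟩ := exists_valuation_lift hy hne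
  obtain ⟨x', hx'p, hx'q, hx'rd⟩ := exists_rd_baseChange_eq (IsPullback.of_hasPullback f τ) x pt hpt.symm
  have : Flat (pullback.snd f τ) := inferInstance
  obtain ⟨ζ, hζ, hζη⟩ := Flat.generalizingMap (pullback.snd f τ) (show η ⤳ pullback.snd f τ x' from hgen _)
  refine ⟨pullback.fst f τ ζ, ?_, ?_⟩
  · show (pullback.fst f τ ≫ f) ζ = y'
    rw [pullback.condition, Scheme.Hom.comp_apply, hζη, hη]
  · have h1 := rd_le_of_valuationRing (pullback.snd f τ) hζ (fun t => hζη ▸ hgen t)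
    exact (hx'rd.symm.le.trans h1).trans (rd_baseChange_le (IsPullback.of_hasPullback f τ) ζ)

theorem fibreDimAt_le_of_dense (W : Y.Opens) (hW : Dense (W : Set Y)) (d : ℕ)
    (hd : ∀ x, f x ∈ W → FlatMor.fibreDimAt f x ≤ (d : WithBot ℕ∞))
    (h : LocallyOfFinitePresentation f ∨ QuasiCompact W.ι) (x : X) :
    FlatMor.fibreDimAt f x ≤ (d : WithBot ℕ∞) := by
  obtain ⟨z, -, -, hz, he⟩ := exists_fibMax_generization f x
  rw [he]
  rcases h with h | h
  · obtain ⟨U, hzU, hU⟩ := Triage.FibMaxFlat.exists_nhd_fibreDimAt_eq f hz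
    obtain ⟨_, ⟨w, hw, rfl⟩, hwW⟩ := hW.inter_open_nonempty _ (f.isOpenMap _ U.isOpen) ⟨_, z, hzU, rfl⟩
    exact (hU w hw).symm.le.trans (hd w hwW)
  · obtain ⟨η, hη, hηW⟩ := exists_generization_mem_of_retrocompact W hW (f z)
    obtain ⟨z', hz', hle⟩ := exists_rd_ge_of_flat f z hη
    exact le_trans (WithBot.coe_le_coe.2 (Nat.cast_le.2 hle))
      (le_trans (rd_le_fibreDimAt f specializes_rfl rfl) (hd z' (hz' ▸ hηW)))

end Groth.Agent.AlgSpDM
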