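import Groth.Agent.AlgSpDM.FlatMonoScheme
import Groth.Agent.AlgSpDec.LqfScheme
import Groth.Agent.AlgSpDec.MonoRep

/-!
# Flat monomorphisms of algebraic spaces are representable
-/

set_option backward.isDefEq.respectTransparency false
set_option backward.isDefEq.respectTransparency.types false

universe u

open CategoryTheory CategoryTheory.Limits AlgebraicGeometry Opposite AlgSp Groth.Agent.AlgSpLib
  Groth.Agent.AlgSpPts Groth.Agent.AlgSpDec

namespace Groth.Agent.AlgSpDM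

variable {S : Scheme.{u}}

theorem exists_open_scheme_of_flat_mono {X : Sp S} (hX : IsAlgSpace X) {T : Over S} (f : X ⟶ (yon S).obj T)
    (hflat : LocP @Flat f) [Mono f] (x : Points X) :
    ∃ (Q : Over S) (j : (yon S).obj Q ⟶ X) (q : ↥Q.left), RepWith @IsOpenImmersion j ∧ Points.ofPt j q = x := by
  obtain ⟨U, a, u, -, ha, rfl⟩ := exists_affine_chart_at hX x
  obtain ⟨ρ, hρ⟩ := (yon S).map_surjective (a ≫ f)
  obtain ⟨T₀, hT₀, hu, -⟩ := exists_isAffineOpen_mem_and_subset (U := (⊤ : T.left.Opens)) (x := ρ.left u) trivial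
  obtain ⟨R₀, hR₀, hu₀, hle⟩ := exists_isAffineOpen_mem_and_subset (U := ρ.left ⁻¹ᵁ T₀) (x := u) hu
  let T' : Over S := Over.mk (hT₀.fromSpec ≫ T.hom)
  let R : Over S := Over.mk (hR₀.fromSpec ≫ U.hom)
  let φ := ρ.left.appLE T₀ R₀ hle
  let ι : T' ⟶ T := Over.homMk hT₀.fromSpec rfl
  let ιR : R ⟶ U := Over.homMk hR₀.fromSpec rfl
  have hφ : Spec.map φ ≫ hT₀.fromSpec = hR₀.fromSpec ≫ ρ.left :=
    IsAffineOpen.SpecMap_appLE_fromSpec ρ.left hT₀ hR₀ hle
  let ρ₀ : R ⟶ T' := Over.homMk (Spec.map φ) (by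
    show Spec.map φ ≫ hT₀.fromSpec ≫ T.hom = hR₀.fromSpec ≫ U.hom
    rw [← Category.assoc, hφ, Category.assoc, Over.w ρ])
  have hρ₀ : ρ₀ ≫ ι = ιR ≫ ρ := Over.OverMorphism.ext hφ
  let a₀ := (yon S).map ιR ≫ a
  have ha₀ : RepWith @Etale a₀ :=
    repWith_comp ((repWith_yon_map_iff _ ιR).2 (inferInstanceAs (Etale hR₀.fromSpec))) ha
  have hι : RepWith @IsOpenImmersion ((yon S).map ι) :=
    (repWith_yon_map_iff _ ι).2 (inferInstanceAs (IsOpenImmersion hT₀.fromSpec))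
  obtain ⟨P, j, a', hj, ha', ha'e, ha's⟩ := exists_image_chart hX ha₀
  have : Mono j := mono_of_openImmersion hj
  have : Mono ((yon S).map ι) := mono_of_openImmersion hι
  have hw₀ : (yon S).map (ρ₀ ≫ ι) = a₀ ≫ f := by rw [hρ₀, Functor.map_comp, hρ, Category.assoc]
  obtain ⟨f₀, hf₀⟩ := exists_factor_of_cover ha'e ha's (j ≫ f) (j := (yon S).map ι)
    ⟨(yon S).map ρ₀, by rw [← Functor.map_comp, hw₀, reassoc_of% ha']⟩
  have : Mono f₀ := mono_of_mono_fac hf₀
  have hρa : (yon S).map ρ₀ = a' ≫ f₀ := (cancel_mono ((yon S).map ι)).1 (by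
    simp only [a₀] at hw₀ ha'
    rw [← Functor.map_comp, hw₀, Category.assoc, Category.assoc, hf₀, reassoc_of% ha'])
  have : Flat (Spec.map φ) := hflat a₀ ((yon S).map ι) ρ₀ ha₀
    ((repWith_yon_map_iff _ ι).2 (inferInstanceAs (Etale hT₀.fromSpec))) (by rw [← Functor.map_comp, hw₀])
  let t := ha'e.rep.fst' a'
  let s := ha'e.rep.snd a'
  have sq : IsPullback ((yon S).map t) ((yon S).map s) a' a' := ha'e.rep.isPullback' a'
  have hk : IsKernelPair ((yon S).map ρ₀) ((yon S).map t) ((yon S).map s) := by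
    rw [hρa]
    exact IsKernelPair.comp_of_mono sq
  have sq' : IsPullback t.left s.left (Spec.map φ) (Spec.map φ) := isPullback_of_yon hk
  have : Etale t.left := ha'e.property _ _ _ sq.flip
  have : Etale (pullback.fst (Spec.map φ) (Spec.map φ)) := by
    rw [← sq'.isoPullback_inv_fst]
    infer_instance
  obtain ⟨Z, D, V, π₁, π₀, d, v, w, hπ, hinv', hd, hv, hwet, hws, hsq, hu₁⟩ :=
    exists_etale_cover_of_flat φ (hR₀.primeIdealOf ⟨u, hu₀⟩)
  let Z' : Over S := Over.mk (π₀ ≫ T'.hom)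
  let D' : Over S := Over.mk (d ≫ Z'.hom)
  let V' : Over S := Over.mk (v ≫ R.hom)
  let p₁ : R ⟶ Z' := Over.homMk π₁ (by
    show π₁ ≫ π₀ ≫ T'.hom = R.hom
    rw [← Category.assoc, hπ]
    exact Over.w ρ₀)
  let p₀ : Z' ⟶ T' := Over.homMk π₀ rfl
  let dd : D' ⟶ Z' := Over.homMk d rfl
  let vv : V' ⟶ R := Over.homMk v rfl
  let ww : V' ⟶ D' := Over.homMk w (by
    show w ≫ d ≫ Z'.hom = v ≫ R.hom
    rw [← Category.assoc, ← hsq, Category.assoc, ← Over.w p₁]
    rfl)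
  have hsq' : vv ≫ p₁ = ww ≫ dd := Over.OverMorphism.ext hsq
  have hp : p₁ ≫ p₀ = ρ₀ := Over.OverMorphism.ext hπ
  have hw : t ≫ p₁ = s ≫ p₁ := Over.OverMorphism.ext (by
    show t.left ≫ π₁ = s.left ≫ π₁
    calc t.left ≫ π₁ = (sq'.isoPullback.hom ≫ pullback.fst _ _) ≫ π₁ := by rw [sq'.isoPullback_hom_fst]
      _ = (sq'.isoPullback.hom ≫ pullback.snd _ _) ≫ π₁ := by rw [Category.assoc, Category.assoc, hinv']
      _ = s.left ≫ π₁ := by rw [sq'.isoPullback_hom_snd])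
  have : Epi a' := epi_of_etale_surjective ha'e ha's
  have : EffectiveEpi a' := by
    have := IsRegularEpiCategory.regularEpiOfEpi a'
    infer_instance
  have hdesc : ∀ {W : Sp S} (g₁ g₂ : W ⟶ (yon S).obj R), g₁ ≫ a' = g₂ ≫ a' →
      g₁ ≫ (yon S).map p₁ = g₂ ≫ (yon S).map p₁ := fun g₁ g₂ h => by
    rw [← sq.lift_fst g₁ g₂ h, Category.assoc, ← Functor.map_comp, hw, Functor.map_comp, ← Category.assoc,
      sq.lift_snd]
  let g : P ⟶ (yon S).obj Z' := EffectiveEpi.desc a' ((yon S).map p₁) hdesc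
  have hg : a' ≫ g = (yon S).map p₁ := EffectiveEpi.fac a' _ _
  have hg₀ : g ≫ (yon S).map p₀ = f₀ := (cancel_epi a').1 (by
    rw [reassoc_of% hg, ← Functor.map_comp, hp, hρa])
  have : Mono g := mono_of_mono_fac hg₀
  have hwe : RepWith @Etale ((yon S).map ww) := (repWith_yon_map_iff _ ww).2 hwet
  have hwsur : RepWith @Surjective ((yon S).map ww) := (repWith_yon_map_iff _ ww).2 hws
  obtain ⟨μ, hμ⟩ := exists_factor_of_cover hwe hwsur ((yon S).map dd) (j := g)
    ⟨(yon S).map vv ≫ a', by rw [Category.assoc, hg, ← Functor.map_comp, hsq', Functor.map_comp]⟩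
  have hμsq : IsPullback μ (𝟙 _) g ((yon S).map dd) := by
    refine ⟨⟨by rw [hμ, Category.id_comp]⟩, ⟨PullbackCone.IsLimit.mk _ (fun c => c.snd)
      (fun c => (cancel_mono g).1 ?_) (fun c => Category.comp_id _) (fun c m _ hm => (Category.comp_id m).symm.trans hm)⟩⟩
    rw [Category.assoc, hμ]
    exact c.condition.symm
  have hμo : RepWith @IsOpenImmersion μ :=
    repWith_of_isPullback hμsq.flip ((repWith_yon_map_iff _ dd).2 hd)
  obtain ⟨z, hz⟩ := hu₁
  refine ⟨D', μ ≫ j, w z, repWith_comp hμo hj, ?_⟩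
  have hwμ : (yon S).map ww ≫ μ = (yon S).map vv ≫ a' := (cancel_mono g).1 (by
    rw [Category.assoc, hμ, Category.assoc, hg, ← Functor.map_comp, ← Functor.map_comp, hsq'])
  calc Points.ofPt (μ ≫ j) (ww.left z) = Points.ofPt ((yon S).map ww ≫ μ ≫ j) z := (ofPt_comp ww _ z).symm
    _ = Points.ofPt ((yon S).map vv ≫ a₀) z := by rw [← Category.assoc, hwμ, Category.assoc, ha']
    _ = Points.ofPt a (ιR.left (vv.left z)) := by rw [ofPt_comp, ofPt_comp]
    _ = Points.ofPt a u := by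
      congr 1
      show hR₀.fromSpec (v z) = u
      rw [hz]
      exact hR₀.fromSpec_primeIdealOf _

theorem representable_of_flat_mono {X Y : Sp S} (hX : IsAlgSpace X) (hY : IsAlgSpace Y) (f : X ⟶ Y)
    (hflat : LocP @Flat f) [Mono f] : Representable f := fun U g => by
  have sq := IsPullback.of_hasPullback f g
  have hP := isAlgSpace_of_isPullback sq hX (IsAlgSpace.yon_obj U) hY
  obtain ⟨Q, ⟨e⟩⟩ := exists_rep_of_points hP (exists_open_scheme_of_flat_mono hP (pullback.snd f g)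
    (locP_of_isPullback sq hX hY (IsAlgSpace.yon_obj U) hflat))
  obtain ⟨k, hk⟩ := (yon S).map_surjective (e.hom ≫ pullback.snd f g)
  exact ⟨Q, k, e.hom ≫ pullback.fst f g,
    sq.of_iso e.symm (Iso.refl _) (Iso.refl _) (Iso.refl _) (by simp) (by simp [hk]) (by simp) (by simp)⟩

end Groth.Agent.AlgSpDM
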