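import Mathlib.RingTheory.Etale.Descent
import Mathlib.RingTheory.Etale.Locus
import Mathlib.RingTheory.Localization.BaseChange
import Mathlib.RingTheory.MvPolynomial.Localization
import Mathlib.RingTheory.Flat.FaithfullyFlat.Algebra
import Mathlib.RingTheory.Ideal.GoingDown
import Mathlib.RingTheory.Spectrum.Prime.Chevalley

/-!
# Flat epimorphism-like ring maps with étale self tensor product
-/

universe u

open TensorProduct

namespace Groth.Agent.AlgSpDM

/-- A map is bijective after inverting `M`, elementwise formulation. -/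
def AlmostBij {R : Type*} [CommRing R] (M : Submonoid R) {D E : Type*} [AddCommGroup D] [Module R D]
    [AddCommGroup E] [Module R E] (h : D →ₗ[R] E) : Prop :=
  (∀ e, ∃ m ∈ M, m • e ∈ LinearMap.range h) ∧ ∀ d, h d = 0 → ∃ m ∈ M, m • d = 0

variable {A : Type u} [CommRing A] (M : Submonoid A) {D E D' E' : Type u}
  [AddCommGroup D] [Module A D] [AddCommGroup E] [Module A E]
  [AddCommGroup D'] [Module A D'] [AddCommGroup E'] [Module A E']
  {ι : D →ₗ[A] D'} {κ : E →ₗ[A] E'} [IsLocalizedModule M ι] [IsLocalizedModule M κ]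
  {h : D →ₗ[A] E} {h' : D' →ₗ[A] E'}

theorem bijective_of_almostBij (hh : AlmostBij M h) (w : h'.comp ι = κ.comp h) :
    Function.Bijective h' := by
  have w' : ∀ d, h' (ι d) = κ (h d) := fun d => LinearMap.congr_fun w d
  constructor
  · rw [← LinearMap.ker_eq_bot, LinearMap.ker_eq_bot']
    intro x hx
    obtain ⟨⟨d, s⟩, hd⟩ := IsLocalizedModule.surj M ι x
    have h0 : κ (h d) = κ 0 := by rw [← w', ← hd, map_zero, Submonoid.smul_def, map_smul, hx, smul_zero]
    obtain ⟨t, ht⟩ := (IsLocalizedModule.eq_iff_exists M κ).1 h0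
    obtain ⟨m, hm, hmd⟩ := hh.2 (t.1 • d) (by rw [map_smul]; simpa [Submonoid.smul_def] using ht)
    have hι : ι d = ι 0 := (IsLocalizedModule.eq_iff_exists M ι).2
      ⟨⟨m, hm⟩ * t, by simp [Submonoid.smul_def, mul_smul, hmd]⟩
    exact ((IsLocalizedModule.smul_inj ι s x 0).1 (by rw [smul_zero, hd, hι, map_zero]))
  · intro y
    obtain ⟨⟨e, s⟩, he⟩ := IsLocalizedModule.surj M κ y
    obtain ⟨m, hm, d, hd⟩ := hh.1 e
    refine ⟨IsLocalizedModule.mk' ι d (⟨m, hm⟩ * s), (IsLocalizedModule.smul_inj κ (⟨m, hm⟩ * s) _ _).1 ?_⟩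
    rw [Submonoid.smul_def, ← map_smul, ← Submonoid.smul_def, IsLocalizedModule.mk'_cancel', w', hd, map_smul, mul_smul,
      Submonoid.smul_def, he]

theorem AlmostBij.conj (hh : AlmostBij M h) (e₁ : D' ≃ₗ[A] D) (e₂ : E' ≃ₗ[A] E)
    (w : ∀ d, e₂ (h' d) = h (e₁ d)) : AlmostBij M h' := by
  refine ⟨fun e => ?_, fun d hd => ?_⟩
  · obtain ⟨m, hm, d, hd⟩ := hh.1 (e₂ e)
    exact ⟨m, hm, e₁.symm d, e₂.injective (by rw [w, e₁.apply_symm_apply, hd, map_smul])⟩
  · obtain ⟨m, hm, hmd⟩ := hh.2 (e₁ d) (by rw [← w, hd, map_zero])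
    exact ⟨m, hm, e₁.injective (by rw [map_smul, hmd, map_zero])⟩

section Descent

variable (B : Type u) [CommRing B] [Algebra A B]

/-- The difference of the two inclusions. -/
noncomputable def amitsurδ : B →ₗ[A] B ⊗[A] B :=
  (Algebra.TensorProduct.includeLeft (S := A) : B →ₐ[A] B ⊗[A] B).toLinearMap -
    (Algebra.TensorProduct.includeRight : B →ₐ[A] B ⊗[A] B).toLinearMap

theorem exact_amitsurδ
    (heq : ∀ b : B, b ⊗ₜ[A] (1 : B) = (1 : B) ⊗ₜ[A] b → b ∈ (algebraMap A B).range) :
    Function.Exact (Algebra.linearMap A B) (amitsurδ (A := A) B) := by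
  refine LinearMap.exact_iff.2 (le_antisymm (fun b hb => ?_) ?_)
  · obtain ⟨a, ha⟩ := heq b (by simpa [amitsurδ, sub_eq_zero] using hb)
    exact ⟨a, ha⟩
  · rintro _ ⟨a, rfl⟩
    simp [amitsurδ, sub_eq_zero, Algebra.algebraMap_eq_smul_one, TensorProduct.smul_tmul]

variable [Module.Flat A B]

theorem bijective_of_rTensor_bijective
    (hinj : Function.Injective (algebraMap A B))
    (heq : ∀ b : B, b ⊗ₜ[A] (1 : B) = (1 : B) ⊗ₜ[A] b → b ∈ (algebraMap A B).range)
    [Module.Flat A D'] [Module.Flat A E'] (φ : D' →ₗ[A] E') (hψ : Function.Bijective (φ.rTensor B)) :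
    Function.Bijective φ := by
  have inj1 : ∀ (N : Type u) [AddCommGroup N] [Module A N] [Module.Flat A N] (x y : N),
      x ⊗ₜ[A] (1 : B) = y ⊗ₜ[A] (1 : B) → x = y := fun N _ _ _ x y hxy => by
    apply (TensorProduct.rid A N).symm.injective
    apply Module.Flat.lTensor_preserves_injective_linearMap (M := N) (Algebra.linearMap A B) hinj
    simpa using hxy
  have hφi : Function.Injective φ := fun x y hxy => inj1 _ x y (hψ.1 (by simp [hxy]))
  refine ⟨hφi, fun b => ?_⟩
  obtain ⟨x, hx⟩ := hψ.2 (b ⊗ₜ[A] (1 : B))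
  have hi2 := Module.Flat.rTensor_preserves_injective_linearMap (M := B ⊗[A] B) φ hφi
  have h0 : (amitsurδ (A := A) B).lTensor D' x = 0 := hi2 (by
    rw [map_zero, ← LinearMap.comp_apply, LinearMap.rTensor_comp_lTensor,
      ← LinearMap.lTensor_comp_rTensor, LinearMap.comp_apply, hx]
    simp [amitsurδ])
  obtain ⟨y, hy⟩ := (Module.Flat.lTensor_exact D' (exact_amitsurδ B heq) x).1 h0
  refine ⟨TensorProduct.rid A D' y, inj1 _ _ _ ?_⟩
  rw [← hx, ← hy]
  rw [show y = (TensorProduct.rid A D' y) ⊗ₜ[A] (1 : A) from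
    ((TensorProduct.rid A D').symm_apply_apply y).symm]
  simp

end Descent

section Main

attribute [local instance] MvPolynomial.algebraMvPolynomial

variable {B : Type u} [CommRing B] [Algebra A B]

theorem isLocalizedModule_toAlgHom {C : Type u} [CommRing C] [Algebra A C] (f : A)
    (C' : Type u) [CommRing C'] [Algebra A C'] [Algebra C C'] [IsScalarTower A C C']
    [h : IsLocalization.Away (algebraMap A C f) C'] :
    IsLocalizedModule (Submonoid.powers f) (IsScalarTower.toAlgHom A C C').toLinearMap :=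
  isLocalizedModule_iff_isLocalization.2 (by
    rwa [show Algebra.algebraMapSubmonoid C (Submonoid.powers f) = Submonoid.powers (algebraMap A C f) from
      Submonoid.map_powers _ f])

variable [Module.Flat A B]

theorem etale_localization_prime [Algebra.Etale B (B ⊗[A] B)] (q : Ideal B) [q.IsPrime] :
    Algebra.Etale (Localization.AtPrime (q.under A))
      (Localization (Algebra.algebraMapSubmonoid B (q.under A).primeCompl)) := by
  let M := (q.under A).primeCompl
  let Ap := Localization.AtPrime (q.under A)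
  let Bp := Localization (Algebra.algebraMapSubmonoid B M)
  have : Algebra.IsPushout A B Ap Bp := Algebra.isPushout_of_isLocalization M _ _ _
  have : Algebra.IsPushout A Ap B Bp := Algebra.IsPushout.symm ‹_›
  have : Module.Flat Ap (Ap ⊗[A] B) := inferInstance
  have : Module.Flat Ap Bp := Module.Flat.of_linearEquiv (Algebra.IsPushout.equiv A Ap B Bp).symm.toLinearEquiv
  have : Module.FaithfullyFlat Ap Bp := by
    refine Module.FaithfullyFlat.of_comap_surjective fun x => ?_
    have hd : Disjoint (Algebra.algebraMapSubmonoid B M : Set B) q := by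
      rw [Set.disjoint_left]; rintro _ ⟨a, ha, rfl⟩ h; exact ha h
    let Q := q.map (algebraMap B Bp)
    have hQ : Q.IsPrime := IsLocalization.isPrime_of_isPrime_disjoint (Algebra.algebraMapSubmonoid B M) Bp q ‹_› hd
    have hQu : Q.under B = q := IsLocalization.under_map_of_isPrime_disjoint (Algebra.algebraMapSubmonoid B M) Bp ‹_› hd
    have hm : Q.under Ap = IsLocalRing.maximalIdeal Ap := by
      apply Localization.AtPrime.eq_maximalIdeal_iff_under_eq.1
      exact (Ideal.under_under _).trans ((Ideal.under_under _).symm.trans (congrArg (fun I => Ideal.under A I) hQu))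
    have : Q.LiesOver (IsLocalRing.maximalIdeal Ap) := ⟨hm.symm⟩
    obtain ⟨P, -, hP, hPo⟩ := Ideal.exists_ideal_le_liesOver_of_le (p := x.asIdeal) Q
      (IsLocalRing.le_maximalIdeal x.isPrime.ne_top)
    exact ⟨⟨P, hP⟩, PrimeSpectrum.ext hPo.over.symm⟩
  have e : Bp ⊗[Ap] (Ap ⊗[A] B) ≃ₐ[Bp] Bp ⊗[A] B := Algebra.TensorProduct.cancelBaseChange A Ap Bp Bp B
  have e' : Bp ⊗[B] (B ⊗[A] B) ≃ₐ[Bp] Bp ⊗[A] B := Algebra.TensorProduct.cancelBaseChange A B Bp Bp B
  have : Algebra.Etale Bp (Bp ⊗[Ap] (Ap ⊗[A] B)) := .of_equiv (e'.trans e.symm)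
  have : Algebra.Etale Ap (Ap ⊗[A] B) := .of_etale_tensorProduct_of_faithfullyFlat Bp
  exact .of_equiv (Algebra.IsPushout.equiv A Ap B Bp)

omit [Module.Flat A B] in
theorem exists_model (p : Ideal A) [p.IsPrime]
    [Algebra.FinitePresentation (Localization.AtPrime p) (Localization (Algebra.algebraMapSubmonoid B p.primeCompl))] :
    ∃ (C : Type u) (_ : CommRing C) (_ : Algebra A C) (φ : C →ₐ[A] B),
      Algebra.FinitePresentation A C ∧ AlmostBij p.primeCompl φ.toLinearMap := by
  let Ap := Localization.AtPrime p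
  let Bp := Localization (Algebra.algebraMapSubmonoid B p.primeCompl)
  have hloc : IsLocalizedModule p.primeCompl (IsScalarTower.toAlgHom A B Bp).toLinearMap :=
    isLocalizedModule_iff_isLocalization.2 inferInstance
  obtain ⟨n, g₀, hg₀, -⟩ := Algebra.FinitePresentation.out (R := Ap) (A := Bp)
  choose bs hbs using fun i => IsLocalizedModule.surj p.primeCompl
    (IsScalarTower.toAlgHom A B Bp).toLinearMap (g₀ (MvPolynomial.X i))
  let b : Fin n → B := fun i => (bs i).1
  let g : MvPolynomial (Fin n) Ap →ₐ[Ap] Bp := MvPolynomial.aeval fun i => algebraMap B Bp (b i)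
  have hu : ∀ s : p.primeCompl, IsUnit (algebraMap A Ap s) := fun s => IsLocalization.map_units Ap s
  have hg : Function.Surjective g := by
    rw [← AlgHom.range_eq_top, ← top_le_iff]
    rw [← (AlgHom.range_eq_top g₀).2 hg₀, ← Algebra.map_top, ← MvPolynomial.adjoin_range_X, AlgHom.map_adjoin]
    refine Algebra.adjoin_le ?_
    rintro _ ⟨_, ⟨i, rfl⟩, rfl⟩
    have h1 : algebraMap A Ap (bs i).2.1 • g₀ (MvPolynomial.X i) = g (MvPolynomial.X i) := by
      rw [algebraMap_smul]
      exact (hbs i).trans (MvPolynomial.aeval_X (fun i => algebraMap B Bp (b i)) i).symm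
    obtain ⟨v, hv⟩ := hu (bs i).2
    have h2 : g₀ (MvPolynomial.X i) = (↑v⁻¹ : Ap) • g (MvPolynomial.X i) := by
      rw [← h1, ← hv, smul_smul, Units.inv_mul, one_smul]
    rw [h2]
    exact Subalgebra.smul_mem _ ((AlgHom.mem_range _).2 ⟨_, rfl⟩) _
  obtain ⟨R₀, hR₀⟩ := Algebra.FinitePresentation.ker_fg_of_mvPolynomial g hg
  have hcomm : ∀ P : MvPolynomial (Fin n) A,
      g (algebraMap _ (MvPolynomial (Fin n) Ap) P) = algebraMap B Bp (MvPolynomial.aeval b P) := by
    intro P
    simp only [g, MvPolynomial.algebraMap_def, MvPolynomial.aeval_map_algebraMap]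
    exact MvPolynomial.aeval_algebraMap_apply Bp b P
  have hP : ∀ r ∈ R₀, ∃ (P : MvPolynomial (Fin n) A) (v : MvPolynomial (Fin n) Ap), MvPolynomial.aeval b P = 0 ∧
      r = v * algebraMap _ (MvPolynomial (Fin n) Ap) P := by
    intro r hr
    obtain ⟨⟨P, _, t, ht, rfl⟩, hPt⟩ := IsLocalization.surj (p.primeCompl.map (MvPolynomial.C (σ := Fin n))) r
    have h0 : g r = 0 := by
      have : r ∈ RingHom.ker g.toRingHom := hR₀ ▸ Ideal.subset_span hr
      exact this
    have h1 : (IsScalarTower.toAlgHom A B Bp).toLinearMap (MvPolynomial.aeval b P) =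
        (IsScalarTower.toAlgHom A B Bp).toLinearMap 0 := by
      rw [map_zero]
      show algebraMap B Bp (MvPolynomial.aeval b P) = 0
      rw [← hcomm, ← hPt, map_mul, h0, zero_mul]
    obtain ⟨⟨s, hs⟩, hs'⟩ := (IsLocalizedModule.eq_iff_exists p.primeCompl _).1 h1
    have hts : IsUnit (algebraMap A (MvPolynomial (Fin n) Ap) (s * t)) := by
      rw [IsScalarTower.algebraMap_apply A Ap]
      exact (hu ⟨s * t, mul_mem hs ht⟩).map _
    obtain ⟨v, hv⟩ := hts
    refine ⟨s • P, ↑v⁻¹, by simpa [Submonoid.smul_def] using hs', ?_⟩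
    have hPt' : r * algebraMap A (MvPolynomial (Fin n) Ap) t = algebraMap _ _ P := by
      rw [← hPt]
      congr 1
      exact IsScalarTower.algebraMap_apply A (MvPolynomial (Fin n) A) (MvPolynomial (Fin n) Ap) t
    rw [Algebra.smul_def, map_mul, ← IsScalarTower.algebraMap_apply, ← hPt', mul_left_comm (algebraMap A _ s),
      ← map_mul, ← hv]
    rw [mul_comm r, ← mul_assoc, Units.inv_mul, one_mul]
  choose P v hP0 hPv using hP
  let G : Set (MvPolynomial (Fin n) A) := Set.range fun r : R₀ => P r r.2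
  let I := Ideal.span G
  have hI : I.FG := Submodule.fg_span (Set.finite_range _)
  let φ : (MvPolynomial (Fin n) A ⧸ I) →ₐ[A] B := Ideal.Quotient.liftₐ I (MvPolynomial.aeval b) (by
    intro x hx
    exact (Ideal.span_le.2 (by rintro _ ⟨r, rfl⟩; exact hP0 r r.2) : I ≤ RingHom.ker (MvPolynomial.aeval b).toRingHom) hx)
  refine ⟨_, inferInstance, inferInstance, φ, Algebra.FinitePresentation.quotient hI, fun e => ?_, fun c hc => ?_⟩
  · obtain ⟨r, hr⟩ := hg (algebraMap B Bp e)
    obtain ⟨⟨Q, _, t, ht, rfl⟩, hQ⟩ := IsLocalization.surj (p.primeCompl.map (MvPolynomial.C (σ := Fin n))) r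
    have h1 : (IsScalarTower.toAlgHom A B Bp).toLinearMap (t • e) =
        (IsScalarTower.toAlgHom A B Bp).toLinearMap (MvPolynomial.aeval b Q) := by
      show algebraMap B Bp (t • e) = algebraMap B Bp (MvPolynomial.aeval b Q)
      rw [← hcomm Q, ← hQ, map_mul, hr, hcomm, ← map_mul]
      congr 1
      rw [Algebra.smul_def, mul_comm]
      exact congrArg (e * ·) (MvPolynomial.aeval_C b t).symm
    obtain ⟨⟨s, hs⟩, hs'⟩ := (IsLocalizedModule.eq_iff_exists p.primeCompl _).1 h1
    refine ⟨s * t, mul_mem hs ht, Ideal.Quotient.mkₐ A I (s • Q), ?_⟩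
    rw [mul_smul]
    exact (show φ (Ideal.Quotient.mkₐ A I (s • Q)) = s • MvPolynomial.aeval b Q by rw [map_smul, map_smul]; rfl).trans hs'.symm
  · obtain ⟨c, rfl⟩ := Ideal.Quotient.mkₐ_surjective A I c
    have h0 : g (algebraMap _ (MvPolynomial (Fin n) Ap) c) = 0 := by
      rw [hcomm, show MvPolynomial.aeval b c = 0 from hc, map_zero]
    have h1 : algebraMap _ (MvPolynomial (Fin n) Ap) c ∈ I.map (algebraMap _ (MvPolynomial (Fin n) Ap)) := by
      refine (Ideal.span_le.2 fun r hr => ?_ :
        Ideal.span (R₀ : Set (MvPolynomial (Fin n) Ap)) ≤ I.map _) (hR₀.symm ▸ h0)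
      rw [hPv r hr]
      exact Ideal.mul_mem_left _ _ (Ideal.mem_map_of_mem _ (Ideal.subset_span ⟨⟨r, hr⟩, rfl⟩))
    obtain ⟨_, ⟨t, ht, rfl⟩, htc⟩ := (IsLocalization.algebraMap_mem_map_algebraMap_iff
      (p.primeCompl.map (MvPolynomial.C (σ := Fin n))) _ I c).1 h1
    exact ⟨t, ht, (map_smul (Ideal.Quotient.mkₐ A I) t c).symm.trans
      (Ideal.Quotient.eq_zero_iff_mem.2 (by rwa [Algebra.smul_def]))⟩

omit [Module.Flat A B] in
theorem exists_basicOpen_subset_etaleLocus {C : Type u} [CommRing C] [Algebra A C]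
    [Algebra.FinitePresentation A C] (p : Ideal A) [p.IsPrime]
    [Algebra.FormallyEtale A (Localization (Algebra.algebraMapSubmonoid C p.primeCompl))] :
    ∃ m ∈ p.primeCompl, (PrimeSpectrum.basicOpen (algebraMap A C m) : Set (PrimeSpectrum C)) ⊆
      Algebra.etaleLocus A C := by
  obtain ⟨I, hI⟩ := (PrimeSpectrum.isClosed_iff_zeroLocus_ideal _).1
    (Algebra.isOpen_etaleLocus (R := A) (A := C)).isClosed_compl
  by_cases hd : Disjoint (I : Set C) (Algebra.algebraMapSubmonoid C p.primeCompl)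
  · exfalso
    obtain ⟨Q, hQ, hIQ, hQM⟩ := Ideal.exists_le_prime_disjoint I _ hd
    let Cp := Localization (Algebra.algebraMapSubmonoid C p.primeCompl)
    let CQ := Localization.AtPrime Q
    have hle : Algebra.algebraMapSubmonoid C p.primeCompl ≤ Q.primeCompl := fun x hx hxQ =>
      Set.disjoint_left.1 hQM hxQ hx
    let := IsLocalization.localizationAlgebraOfSubmonoidLe Cp CQ _ _ hle
    have := IsLocalization.localization_isScalarTower_of_submonoid_le Cp CQ _ _ hle
    have : IsScalarTower A Cp CQ := IsScalarTower.of_algebraMap_eq' (by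
      rw [IsScalarTower.algebraMap_eq A C Cp, ← RingHom.comp_assoc, ← IsScalarTower.algebraMap_eq C Cp CQ,
        ← IsScalarTower.algebraMap_eq A C CQ])
    have := IsLocalization.isLocalization_of_submonoid_le Cp CQ _ _ hle
    have : Algebra.FormallyEtale Cp CQ := .of_isLocalization (Q.primeCompl.map (algebraMap C Cp))
    have hQet : (⟨Q, hQ⟩ : PrimeSpectrum C) ∈ Algebra.etaleLocus A C := Algebra.FormallyEtale.comp A Cp CQ
    have : (⟨Q, hQ⟩ : PrimeSpectrum C) ∈ (Algebra.etaleLocus A C)ᶜ := by rw [hI]; exact hIQ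
    exact this hQet
  · obtain ⟨_, hcI, m, hm, rfl⟩ := Set.not_disjoint_iff.1 hd
    refine ⟨m, hm, fun x hx => by_contra fun hxe => hx ?_⟩
    have : x ∈ PrimeSpectrum.zeroLocus (I : Set C) := hI ▸ hxe
    exact this hcI

theorem almostBij_lTensor {C : Type u} [AddCommGroup C] [Module A C] {N : Type u} [AddCommGroup N] [Module A N]
    {M : Submonoid A} {h : C →ₗ[A] N} (hh : AlmostBij M h) : AlmostBij M (h.lTensor B) := by
  refine ⟨fun e => ?_, fun d hd => ?_⟩
  · induction e using TensorProduct.induction_on with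
    | zero => exact ⟨1, one_mem _, by simp⟩
    | tmul b n =>
      obtain ⟨m, hm, c, hc⟩ := hh.1 n
      exact ⟨m, hm, b ⊗ₜ c, by rw [LinearMap.lTensor_tmul, hc, TensorProduct.tmul_smul]⟩
    | add x y hx hy =>
      obtain ⟨m, hm, c, hc⟩ := hx
      obtain ⟨m', hm', c', hc'⟩ := hy
      refine ⟨m * m', mul_mem hm hm', m' • c + m • c', ?_⟩
      simp only [map_add, map_smul, hc, hc', smul_add, smul_smul, mul_comm m]
  · obtain ⟨y, rfl⟩ := (Module.Flat.lTensor_exact B (LinearMap.exact_subtype_ker_map h) d).1 hd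
    clear hd
    induction y using TensorProduct.induction_on with
    | zero => exact ⟨1, one_mem _, by simp⟩
    | tmul b c =>
      obtain ⟨m, hm, hmc⟩ := hh.2 c c.2
      exact ⟨m, hm, by rw [LinearMap.lTensor_tmul, ← TensorProduct.tmul_smul, Submodule.subtype_apply, hmc, TensorProduct.tmul_zero]⟩
    | add x y hx hy =>
      obtain ⟨m, hm, hx⟩ := hx
      obtain ⟨m', hm', hy⟩ := hy
      refine ⟨m * m', mul_mem hm hm', ?_⟩
      rw [map_add, smul_add, mul_smul m m' ((Submodule.subtype _).lTensor B y), hy, smul_zero, add_zero, mul_comm,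
        mul_smul, hx, smul_zero]

omit [Module.Flat A B] in
theorem exists_almostBij_powers {M : Submonoid A} {D E : Type u} [CommRing D] [CommRing E] [Algebra A D] [Algebra A E]
    [Algebra B D] [Algebra B E] [IsScalarTower A B D] [IsScalarTower A B E]
    [Algebra.FinitePresentation B D] [Algebra.FinitePresentation B E] (ψ : D →ₐ[B] E)
    (hψ : AlmostBij M (ψ.restrictScalars A).toLinearMap) :
    ∃ f ∈ M, AlmostBij (Submonoid.powers f) (ψ.restrictScalars A).toLinearMap := by
  classical
  obtain ⟨T, hT⟩ := (inferInstance : Algebra.FiniteType B E).out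
  choose m hm hmr using fun e => hψ.1 e
  let f₁ := ∏ e ∈ T, m e
  have hf₁ : f₁ ∈ M := prod_mem fun e _ => hm e
  have hsur : ∀ e, ∃ n, ∃ d, ψ d = algebraMap A E f₁ ^ n * e := by
    let V : Subalgebra B E :=
      { carrier := {e | ∃ n, ∃ d, ψ d = algebraMap A E f₁ ^ n * e}
        mul_mem' := by
          rintro x y ⟨n, d, hd⟩ ⟨n', d', hd'⟩
          exact ⟨n + n', d * d', by rw [map_mul, hd, hd', pow_add]; ring⟩
        add_mem' := by
          rintro x y ⟨n, d, hd⟩ ⟨n', d', hd'⟩
          exact ⟨n + n', algebraMap A D f₁ ^ n' * d + algebraMap A D f₁ ^ n * d', by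
            simp only [map_add, map_mul, map_pow, hd, hd', IsScalarTower.algebraMap_apply A B D,
              IsScalarTower.algebraMap_apply A B E, AlgHom.commutes]; ring⟩
        algebraMap_mem' := fun b => ⟨0, algebraMap B D b, by simp⟩ }
    intro e
    have : V = ⊤ := top_le_iff.1 (hT ▸ Algebra.adjoin_le (S := V) fun x hx => by
      obtain ⟨d, hd⟩ := hmr x
      refine ⟨1, algebraMap A D (∏ e ∈ T.erase x, m e) * d, ?_⟩
      change ψ d = m x • x at hd
      rw [map_mul, hd, IsScalarTower.algebraMap_apply A B D, AlgHom.commutes,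
        ← IsScalarTower.algebraMap_apply, pow_one, Algebra.smul_def, ← mul_assoc, ← map_mul,
        Finset.prod_erase_mul T _ hx])
    exact (show e ∈ V by rw [this]; exact Algebra.mem_top)
  let D₁ := Localization.Away (algebraMap A D f₁)
  let E₁ := Localization.Away (algebraMap A E f₁)
  have hu : ∀ y : Submonoid.powers (algebraMap A D f₁), IsUnit (((IsScalarTower.toAlgHom B E E₁).comp ψ) y) := by
    rintro ⟨_, n, rfl⟩
    rw [map_pow]
    refine IsUnit.pow _ ?_
    show IsUnit (algebraMap E E₁ (ψ (algebraMap A D f₁)))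
    rw [IsScalarTower.algebraMap_apply A B D, AlgHom.commutes, ← IsScalarTower.algebraMap_apply A B E]
    exact IsLocalization.Away.algebraMap_isUnit (S := E₁) _
  let ψ₁ : D₁ →ₐ[B] E₁ := IsLocalization.liftAlgHom (M := Submonoid.powers (algebraMap A D f₁))
    (f := (IsScalarTower.toAlgHom B E E₁).comp ψ) hu
  have h₁ : ∀ d, ψ₁ (algebraMap D D₁ d) = algebraMap E E₁ (ψ d) := fun d => by
    simp [ψ₁]
  have hp : ∀ n : ℕ, algebraMap E E₁ (algebraMap A E f₁ ^ n) = ψ₁ (algebraMap D D₁ (algebraMap A D f₁ ^ n)) := by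
    intro n
    rw [h₁, map_pow ψ, IsScalarTower.algebraMap_apply A B D, AlgHom.commutes, ← IsScalarTower.algebraMap_apply]
  have hsurj : Function.Surjective ψ₁ := by
    intro y
    obtain ⟨⟨e, _, n, rfl⟩, hy⟩ := IsLocalization.surj (Submonoid.powers (algebraMap A E f₁)) y
    obtain ⟨n', d, hd⟩ := hsur e
    obtain ⟨w, hw⟩ := (IsLocalization.Away.algebraMap_isUnit (S := D₁) (algebraMap A D f₁)).pow (n' + n)
    refine ⟨algebraMap D D₁ d * ↑w⁻¹, ?_⟩
    have hw' : ψ₁ w = algebraMap E E₁ (algebraMap A E f₁ ^ (n' + n)) := by rw [hw, hp, map_pow (algebraMap D D₁)]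
    have hmul : ψ₁ (algebraMap D D₁ d) = y * ψ₁ w := by
      rw [h₁, hd, hw', pow_add, map_mul, map_mul, ← hy]; ring
    rw [map_mul, hmul, mul_assoc, ← map_mul, Units.mul_inv, map_one, mul_one]
  have : Algebra.FinitePresentation D D₁ := IsLocalization.Away.finitePresentation (algebraMap A D f₁)
  have : Algebra.FinitePresentation E E₁ := IsLocalization.Away.finitePresentation (algebraMap A E f₁)
  have : Algebra.FinitePresentation B D₁ := Algebra.FinitePresentation.trans B D D₁
  have : Algebra.FinitePresentation B E₁ := Algebra.FinitePresentation.trans B E E₁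
  obtain ⟨K, hK⟩ := Algebra.FinitePresentation.ker_fG_of_surjective ψ₁ hsurj
  have hkill : ∀ k ∈ K, ∃ t ∈ M, algebraMap A D₁ t * k = 0 := by
    intro k hk
    have hk0 : ψ₁ k = 0 := (hK ▸ Ideal.subset_span hk : k ∈ RingHom.ker ψ₁.toRingHom)
    obtain ⟨⟨d, _, n, rfl⟩, hd⟩ := IsLocalization.surj (Submonoid.powers (algebraMap A D f₁)) k
    have h0 : algebraMap E E₁ (ψ d) = 0 := by rw [← h₁, ← hd, map_mul, hk0, zero_mul]
    obtain ⟨⟨_, j, rfl⟩, hj⟩ := (IsLocalization.map_eq_zero_iff (Submonoid.powers (algebraMap A E f₁)) E₁ _).1 h0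
    obtain ⟨t, ht, htd⟩ := hψ.2 ((f₁ ^ j) • d) (by
      rw [map_smul, Algebra.smul_def, map_pow]; exact hj)
    refine ⟨t * f₁ ^ j, mul_mem ht (pow_mem hf₁ j), ?_⟩
    have hun := (IsLocalization.Away.algebraMap_isUnit (S := D₁) (algebraMap A D f₁)).pow n
    refine hun.mul_left_cancel (?_ : _ = algebraMap D D₁ (algebraMap A D f₁) ^ n * 0)
    rw [mul_zero, mul_left_comm, mul_comm _ k, ← map_pow (algebraMap D D₁), hd, IsScalarTower.algebraMap_apply A D D₁,
      ← map_mul, map_mul (algebraMap A D), mul_assoc, ← Algebra.smul_def (f₁ ^ j), ← Algebra.smul_def t, htd, map_zero]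
  choose! t htM htk using hkill
  let f₂ := ∏ k ∈ K, t k
  have hker : ∀ x, ψ₁ x = 0 → algebraMap A D₁ f₂ * x = 0 := by
    intro x hx
    have : x ∈ Ideal.span (K : Set D₁) := hK.symm ▸ hx
    clear hx
    induction this using Submodule.span_induction with
    | mem k hk => rw [show f₂ = (∏ e ∈ K.erase k, t e) * t k from (Finset.prod_erase_mul K t hk).symm, map_mul, mul_assoc, htk k hk, mul_zero]
    | zero => exact mul_zero _
    | add a b _ _ ha hb => rw [mul_add, ha, hb, add_zero]
    | smul a b _ hb => rw [smul_eq_mul, mul_left_comm, hb, mul_zero]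
  refine ⟨f₁ * f₂, mul_mem hf₁ (prod_mem fun k hk => htM k hk), fun e => ?_, fun d hd => ?_⟩
  · obtain ⟨n, d, hd⟩ := hsur e
    refine ⟨_, ⟨n, rfl⟩, (f₂ ^ n) • d, ?_⟩
    show (ψ.restrictScalars A).toLinearMap ((f₂ ^ n) • d) = ((f₁ * f₂) ^ n) • e
    rw [map_smul, mul_pow, mul_comm (f₁ ^ n), mul_smul]
    congr 1
    rw [Algebra.smul_def, map_pow]
    exact hd
  · have h0 : algebraMap A D₁ f₂ * algebraMap D D₁ d = 0 :=
      hker _ (by rw [h₁, show ψ d = 0 from hd, map_zero])
    rw [IsScalarTower.algebraMap_apply A D D₁, ← map_mul, IsLocalization.map_eq_zero_iff (Submonoid.powers (algebraMap A D f₁))] at h0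
    obtain ⟨⟨_, n, rfl⟩, hn⟩ := h0
    refine ⟨_, ⟨n + 1, rfl⟩, ?_⟩
    show ((f₁ * f₂) ^ (n + 1)) • d = 0
    rw [Algebra.smul_def, map_pow, map_mul, mul_pow, pow_succ (algebraMap A D f₁), pow_succ (algebraMap A D f₂)]
    linear_combination (algebraMap A D f₁ * algebraMap A D f₂ ^ n) * hn

/-- Main statement: a flat map with étale self tensor product and trivial equaliser is Zariski locally on the
target étale. -/
theorem exists_etale_away [Algebra.Etale B (B ⊗[A] B)] (hinj : Function.Injective (algebraMap A B))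
    (heq : ∀ b : B, b ⊗ₜ[A] (1 : B) = (1 : B) ⊗ₜ[A] b → b ∈ (algebraMap A B).range)
    (q : Ideal B) [q.IsPrime] :
    ∃ f : A, algebraMap A B f ∉ q ∧ Algebra.Etale A (Localization.Away (algebraMap A B f)) ∧
      (PrimeSpectrum.basicOpen f : Set (PrimeSpectrum A)) ⊆ Set.range (PrimeSpectrum.comap (algebraMap A B)) := by
  let M := (q.under A).primeCompl
  have hEt := etale_localization_prime (A := A) q
  obtain ⟨C, _, _, φ, hC, hφ⟩ := exists_model (B := B) (q.under A)
  -- the map is an isomorphism after localizing at the prime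
  let Cp := Localization (Algebra.algebraMapSubmonoid C M)
  let Bp := Localization (Algebra.algebraMapSubmonoid B M)
  have : IsLocalizedModule M (IsScalarTower.toAlgHom A C Cp).toLinearMap :=
    isLocalizedModule_iff_isLocalization.2 inferInstance
  have : IsLocalizedModule M (IsScalarTower.toAlgHom A B Bp).toLinearMap :=
    isLocalizedModule_iff_isLocalization.2 inferInstance
  have hu : ∀ y : Algebra.algebraMapSubmonoid C M, IsUnit (((IsScalarTower.toAlgHom A B Bp).comp φ) y) := by
    rintro ⟨_, a, ha, rfl⟩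
    simp only [AlgHom.comp_apply, AlgHom.commutes]
    rw [IsScalarTower.algebraMap_apply A B Bp]
    exact IsLocalization.map_units Bp (⟨_, a, ha, rfl⟩ : Algebra.algebraMapSubmonoid B M)
  let φp : Cp →ₐ[A] Bp := IsLocalization.liftAlgHom (M := Algebra.algebraMapSubmonoid C M)
    (f := (IsScalarTower.toAlgHom A B Bp).comp φ) hu
  have hφp : Function.Bijective φp := by
    refine bijective_of_almostBij M (ι := (IsScalarTower.toAlgHom A C Cp).toLinearMap)
      (κ := (IsScalarTower.toAlgHom A B Bp).toLinearMap) (h' := φp.toLinearMap) hφ (LinearMap.ext fun c => ?_)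
    simp [φp]
  have : Algebra.FormallyEtale A Bp :=
    have : Algebra.FormallyEtale A (Localization.AtPrime (q.under A)) := .of_isLocalization M
    Algebra.FormallyEtale.comp A (Localization.AtPrime (q.under A)) Bp
  have : Algebra.FormallyEtale A Cp := .of_equiv (AlgEquiv.ofBijective φp hφp).symm
  obtain ⟨m, hm, hmet⟩ := exists_basicOpen_subset_etaleLocus (C := C) (q.under A)
  -- the base change to `B`
  let ψ : B ⊗[A] C →ₐ[B] B ⊗[A] B := Algebra.TensorProduct.map (AlgHom.id B B) φ
  have hψ : AlmostBij M (ψ.restrictScalars A).toLinearMap := by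
    rw [show (ψ.restrictScalars A).toLinearMap = φ.toLinearMap.lTensor B from TensorProduct.ext' fun b c => by simp [ψ]]
    exact almostBij_lTensor hφ
  obtain ⟨f₁, hf₁, hψ₁⟩ := exists_almostBij_powers ψ hψ
  have key : ∀ g : A, g ∈ M → ∃ e : Localization.Away (algebraMap A C (f₁ * m * g)) ≃ₐ[A]
      Localization.Away (algebraMap A B (f₁ * m * g)),
      Algebra.Etale A (Localization.Away (algebraMap A C (f₁ * m * g))) := by
    intro g _
    let f := f₁ * m * g
    let C' := Localization.Away (algebraMap A C f)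
    let B' := Localization.Away (algebraMap A B f)
    have hC' : Algebra.Etale A C' := Algebra.basicOpen_subset_etaleLocus_iff_etale.1 (by
      refine subset_trans ?_ hmet
      intro x hx hxm
      apply hx
      rw [map_mul, map_mul]
      exact Ideal.mul_mem_right _ _ (Ideal.mul_mem_left _ _ hxm))
    have hu : ∀ y : Submonoid.powers (algebraMap A C f), IsUnit (((IsScalarTower.toAlgHom A B B').comp φ) y) := by
      rintro ⟨_, n, rfl⟩
      rw [map_pow]
      refine IsUnit.pow _ ?_
      simp only [AlgHom.comp_apply, AlgHom.commutes]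
      rw [IsScalarTower.algebraMap_apply A B B']
      exact IsLocalization.Away.algebraMap_isUnit (S := B') _
    let φ' : C' →ₐ[A] B' := IsLocalization.liftAlgHom (M := Submonoid.powers (algebraMap A C f))
      (f := (IsScalarTower.toAlgHom A B B').comp φ) hu
    have := isLocalizedModule_toAlgHom (C := C) f C'
    have := isLocalizedModule_toAlgHom (C := B) f B'
    have h2 : AlmostBij (Submonoid.powers f) (φ.toLinearMap.rTensor B) := by
      have h3 : AlmostBij (Submonoid.powers f) (ψ.restrictScalars A).toLinearMap := by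
        refine ⟨fun e => ?_, fun d hd => ?_⟩
        · obtain ⟨_, ⟨n, rfl⟩, d, hd⟩ := hψ₁.1 e
          refine ⟨_, ⟨n, rfl⟩, ((m * g) ^ n) • d, ?_⟩
          show _ = (f₁ * m * g) ^ n • e
          rw [map_smul, hd, smul_smul, mul_assoc, mul_pow f₁ (m * g), mul_comm (f₁ ^ n)]
        · obtain ⟨_, ⟨n, rfl⟩, hn⟩ := hψ₁.2 d hd
          refine ⟨_, ⟨n, rfl⟩, ?_⟩
          show (f₁ * m * g) ^ n • d = 0
          rw [mul_assoc, mul_pow, mul_comm, mul_smul]
          exact (congrArg _ hn).trans (smul_zero _)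
      exact h3.conj _ (TensorProduct.comm A C B) (TensorProduct.comm A B B) fun d => by
        induction d using TensorProduct.induction_on with
        | zero => simp
        | tmul c b => simp [ψ]
        | add x y hx hy => simp only [map_add, hx, hy]
    have hb : Function.Bijective (φ'.toLinearMap.rTensor B) := by
      refine bijective_of_almostBij (Submonoid.powers f)
        (ι := AlgebraTensorModule.rTensor A B (IsScalarTower.toAlgHom A C C').toLinearMap)
        (κ := AlgebraTensorModule.rTensor A B (IsScalarTower.toAlgHom A B B').toLinearMap)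
        h2 (TensorProduct.ext' fun c b => ?_)
      simp [φ']
    have : Module.Flat A B' := Module.Flat.trans A B B'
    exact ⟨AlgEquiv.ofBijective φ' (bijective_of_rTensor_bijective B hinj heq φ'.toLinearMap hb), hC'⟩
  obtain ⟨e, hC'⟩ := key 1 (one_mem _)
  have hf : f₁ * m * 1 ∈ M := mul_mem (mul_mem hf₁ hm) (one_mem _)
  let C₁ := Localization.Away (algebraMap A C (f₁ * m * 1))
  let B₁ := Localization.Away (algebraMap A B (f₁ * m * 1))
  have hop : IsOpen (Set.range (PrimeSpectrum.comap (algebraMap A C₁))) :=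
    (PrimeSpectrum.isOpenMap_comap_of_hasGoingDown_of_finitePresentation (R := A) (S := C₁)).isOpen_range
  have hpmem : (⟨q.under A, inferInstance⟩ : PrimeSpectrum A) ∈
      Set.range (PrimeSpectrum.comap (algebraMap A C₁)) := by
    have hd : Disjoint (Submonoid.powers (algebraMap A B (f₁ * m * 1)) : Set B) q := by
      rw [Set.disjoint_left]
      rintro _ ⟨n, rfl⟩ h
      exact hf (‹q.IsPrime›.mem_of_pow_mem n h)
    let Q := q.map (algebraMap B B₁)
    have hQ : Q.IsPrime := IsLocalization.isPrime_of_isPrime_disjoint (Submonoid.powers (algebraMap A B (f₁ * m * 1))) B₁ q ‹_› hd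
    have hQu : Q.under B = q :=
      IsLocalization.under_map_of_isPrime_disjoint (Submonoid.powers (algebraMap A B (f₁ * m * 1))) B₁ ‹_› hd
    refine ⟨PrimeSpectrum.comap e.toAlgHom.toRingHom ⟨Q, hQ⟩, PrimeSpectrum.ext ?_⟩
    show Ideal.comap (algebraMap A C₁) (Ideal.comap e.toAlgHom.toRingHom Q) = q.under A
    rw [Ideal.comap_comap, show e.toAlgHom.toRingHom.comp (algebraMap A C₁) = algebraMap A B₁ from
      RingHom.ext fun a => e.commutes a, ← congrArg (fun I => Ideal.under A I) hQu, Ideal.under_under]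
  obtain ⟨_, ⟨_, ⟨g, rfl⟩, rfl⟩, hgp, hgsub⟩ :=
    PrimeSpectrum.isBasis_basic_opens.exists_subset_of_mem_open hpmem hop
  obtain ⟨e', hC''⟩ := key g hgp
  have hfg : f₁ * m * g ∈ M := mul_mem (mul_mem hf₁ hm) hgp
  refine ⟨f₁ * m * g, hfg, .of_equiv e', fun x hx => ?_⟩
  have hxg : g ∉ x.asIdeal := fun h => hx (Ideal.mul_mem_left _ _ h)
  obtain ⟨z, hz⟩ := hgsub hxg
  refine ⟨PrimeSpectrum.comap (algebraMap B B₁) (PrimeSpectrum.comap e.symm.toAlgHom.toRingHom z), ?_⟩
  rw [← hz]
  refine PrimeSpectrum.ext ?_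
  show Ideal.comap (algebraMap A B) (Ideal.comap (algebraMap B B₁) (Ideal.comap e.symm.toAlgHom.toRingHom z.asIdeal)) = _
  rw [Ideal.comap_comap, Ideal.comap_comap, ← IsScalarTower.algebraMap_eq,
    show e.symm.toAlgHom.toRingHom.comp (algebraMap A B₁) = algebraMap A C₁ from RingHom.ext fun a => e.symm.commutes a]
  rfl

end Main

end Groth.Agent.AlgSpDM
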