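import Groth.Agent.AlgSpDM.FlatMonoAlg
import Mathlib.AlgebraicGeometry.Morphisms.Etale
import Mathlib.AlgebraicGeometry.Pullbacks

/-!
# Affine flat morphisms with étale self fibre product
-/

set_option backward.isDefEq.respectTransparency false
set_option backward.isDefEq.respectTransparency.types false

universe u

open CategoryTheory CategoryTheory.Limits AlgebraicGeometry TensorProduct

namespace Groth.Agent.AlgSpDM

variable {A₀ B : Type u} [CommRing A₀] [CommRing B] [Algebra A₀ B]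

/-- The equaliser of the two maps to the self tensor product. -/
noncomputable def eqAlg (A₀ B : Type u) [CommRing A₀] [CommRing B] [Algebra A₀ B] : Subalgebra A₀ B :=
  AlgHom.equalizer (Algebra.TensorProduct.includeLeft (S := A₀) : B →ₐ[A₀] B ⊗[A₀] B)
    Algebra.TensorProduct.includeRight

theorem eqAlg_swap (a : eqAlg A₀ B) : (a : B) ⊗ₜ[A₀] (1 : B) = (1 : B) ⊗ₜ[A₀] (a : B) := a.2

/-- Multiplication. -/
noncomputable def eqAlgMul : eqAlg A₀ B ⊗[A₀] B →ₐ[eqAlg A₀ B] B :=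
  Algebra.TensorProduct.lift (Algebra.ofId _ _) (AlgHom.id A₀ B) fun _ _ => Commute.all _ _

theorem eqAlgMul_bijective [Module.Flat A₀ B] : Function.Bijective (eqAlgMul (A₀ := A₀) (B := B)) := by
  refine ⟨?_, fun b => ⟨1 ⊗ₜ b, by simp [eqAlgMul]⟩⟩
  have h : ∀ x : eqAlg A₀ B ⊗[A₀] B, (eqAlg A₀ B).val.toLinearMap.rTensor B x = (1 : B) ⊗ₜ[A₀] (eqAlgMul (A₀ := A₀) (B := B)) x := by
    intro x
    induction x using TensorProduct.induction_on with
    | zero => simp
    | tmul a b =>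
      calc ((a : B) ⊗ₜ[A₀] b) = ((a : B) ⊗ₜ[A₀] (1 : B)) * ((1 : B) ⊗ₜ b) := by simp
        _ = ((1 : B) ⊗ₜ[A₀] (a : B)) * ((1 : B) ⊗ₜ b) := by rw [eqAlg_swap]
        _ = _ := by simp [eqAlgMul]
    | add x y hx hy => rw [map_add, map_add, hx, hy, TensorProduct.tmul_add]
  intro x y hxy
  apply Module.Flat.rTensor_preserves_injective_linearMap (M := B) (eqAlg A₀ B).val.toLinearMap Subtype.val_injective
  rw [h, h, hxy]

theorem exists_basicOpen_etale_of_flat [Module.Flat A₀ B] [Algebra.Etale B (B ⊗[A₀] B)] (q : Ideal B) [q.IsPrime] :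
    ∃ f : eqAlg A₀ B, algebraMap (eqAlg A₀ B) B f ∉ q ∧
      ((algebraMap B (Localization.Away (algebraMap (eqAlg A₀ B) B f))).comp
        (algebraMap (eqAlg A₀ B) B)).Etale ∧
      (PrimeSpectrum.basicOpen f : Set (PrimeSpectrum (eqAlg A₀ B))) ⊆
        Set.range (PrimeSpectrum.comap (algebraMap (eqAlg A₀ B) B)) := by
  let A := eqAlg A₀ B
  let μ : A ⊗[A₀] B ≃ₐ[A] B := AlgEquiv.ofBijective eqAlgMul eqAlgMul_bijective
  have : Module.Flat A B := Module.Flat.of_linearEquiv μ.symm.toLinearEquiv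
  let e₁ : B ⊗[A] (A ⊗[A₀] B) ≃ₐ[B] B ⊗[A₀] B := Algebra.TensorProduct.cancelBaseChange A₀ A B B B
  let e₂ : B ⊗[A] B ≃ₐ[B] B ⊗[A₀] B := (Algebra.TensorProduct.congr (AlgEquiv.refl : B ≃ₐ[B] B) μ.symm).trans e₁
  have hμ : ∀ b : B, μ.symm b = 1 ⊗ₜ b := fun b => μ.injective (by
    rw [AlgEquiv.apply_symm_apply]; simp [μ, eqAlgMul]
    exact ((Algebra.TensorProduct.lift_tmul _ _ _ _ _).trans (by simp)).symm)
  have : Algebra.Etale B (B ⊗[A] B) := .of_equiv e₂.symm
  have heq : ∀ b : B, b ⊗ₜ[A] (1 : B) = (1 : B) ⊗ₜ[A] b → b ∈ (algebraMap A B).range := by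
    intro b hb
    have he₂ : ∀ x y : B, e₂ (x ⊗ₜ[A] y) = x ⊗ₜ[A₀] y := fun x y => by
      show e₁ (x ⊗ₜ[A] μ.symm y) = _
      rw [hμ]; simp [e₁]
    have h := congrArg e₂ hb
    rw [he₂, he₂] at h
    exact ⟨⟨b, h⟩, rfl⟩
  obtain ⟨f, h1, h2, h3⟩ : ∃ f : A, _ := exists_etale_away (A := A) (B := B) Subtype.val_injective heq q
  refine ⟨f, h1, ?_, h3⟩
  show @Algebra.Etale _ _ _ _ (RingHom.toAlgebra _)
  convert h2
  all_goals exact Algebra.algebra_ext _ _ fun a => rfl

theorem exists_etale_cover_of_flat {A₀ B : CommRingCat.{u}} (φ : A₀ ⟶ B) [Flat (Spec.map φ)]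
    [Etale (pullback.fst (Spec.map φ) (Spec.map φ))] (u : ↥(Spec B)) :
    ∃ (Z D V : Scheme.{u}) (π₁ : Spec B ⟶ Z) (π₀ : Z ⟶ Spec A₀) (d : D ⟶ Z) (v : V ⟶ Spec B) (w : V ⟶ D),
      π₁ ≫ π₀ = Spec.map φ ∧ pullback.fst (Spec.map φ) (Spec.map φ) ≫ π₁ = pullback.snd _ _ ≫ π₁ ∧
      IsOpenImmersion d ∧ IsOpenImmersion v ∧ Etale w ∧ Surjective w ∧ v ≫ π₁ = w ≫ d ∧ u ∈ Set.range v := by
  algebraize [φ.hom]
  have hφ : φ = CommRingCat.ofHom (algebraMap A₀ B) := rfl
  have : Module.Flat A₀ B := RingHom.flat_algebraMap_iff.1 ((HasRingHomProperty.Spec_iff (P := @Flat)).1 ‹Flat (Spec.map φ)›)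
  have hincl : (Algebra.TensorProduct.includeLeftRingHom : B →+* B ⊗[A₀] B).Etale := by
    refine (HasRingHomProperty.Spec_iff (P := @Etale) (φ := CommRingCat.ofHom (Algebra.TensorProduct.includeLeftRingHom : B →+* B ⊗[A₀] B))).1 ?_
    rw [← pullbackSpecIso_inv_fst A₀ B B]
    have : Etale (pullback.fst (Spec.map (CommRingCat.ofHom (algebraMap A₀ B)))
        (Spec.map (CommRingCat.ofHom (algebraMap A₀ B)))) := ‹Etale (pullback.fst (Spec.map φ) (Spec.map φ))›
    infer_instance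
  have : Algebra.Etale B (B ⊗[A₀] B) := RingHom.etale_algebraMap.1 hincl
  obtain ⟨f, hfq, hfet, hfsub⟩ := exists_basicOpen_etale_of_flat (A₀ := A₀) (B := B) u.asIdeal
  let A := eqAlg A₀ B
  let b : B := algebraMap A B f
  let π₁ : Spec B ⟶ Spec (CommRingCat.of A) := Spec.map (CommRingCat.ofHom (algebraMap A B))
  let π₀ : Spec (CommRingCat.of A) ⟶ Spec A₀ := Spec.map (CommRingCat.ofHom (algebraMap A₀ A))
  let d : Spec (CommRingCat.of (Localization.Away f)) ⟶ Spec (CommRingCat.of A) :=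
    Spec.map (CommRingCat.ofHom (algebraMap A (Localization.Away f)))
  let v : Spec (CommRingCat.of (Localization.Away b)) ⟶ Spec B :=
    Spec.map (CommRingCat.ofHom (algebraMap B (Localization.Away b)))
  let w : Spec (CommRingCat.of (Localization.Away b)) ⟶ Spec (CommRingCat.of (Localization.Away f)) :=
    Spec.map (CommRingCat.ofHom (Localization.awayMap (algebraMap A B) f))
  have hd : IsOpenImmersion d := IsOpenImmersion.of_isLocalization f
  have hv : IsOpenImmersion v := IsOpenImmersion.of_isLocalization b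
  have hsq : v ≫ π₁ = w ≫ d := by
    simp only [v, π₁, w, d, ← Spec.map_comp, ← CommRingCat.ofHom_comp]
    refine congrArg Spec.map (congrArg CommRingCat.ofHom ?_)
    ext a
    simp [Localization.awayMap, IsLocalization.Away.map, b]
  have hrange : Set.range v = (PrimeSpectrum.basicOpen b : Set (PrimeSpectrum B)) :=
    PrimeSpectrum.localization_away_comap_range _ b
  have hdrange : Set.range d = (PrimeSpectrum.basicOpen f : Set (PrimeSpectrum A)) :=
    PrimeSpectrum.localization_away_comap_range _ f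
  have hw1 : Etale (w ≫ d) := by
    rw [← hsq]
    simp only [v, π₁, ← Spec.map_comp, ← CommRingCat.ofHom_comp]
    exact (HasRingHomProperty.Spec_iff (P := @Etale)).2 hfet
  refine ⟨_, _, _, π₁, π₀, d, v, w, ?_, ?_, hd, hv, Etale.of_comp w d, ⟨fun x => ?_⟩, hsq, ?_⟩
  · simp only [π₁, π₀, ← Spec.map_comp, ← CommRingCat.ofHom_comp]
    rfl
  · have h1 := pullbackSpecIso_hom_fst A₀ B B
    have h2 := pullbackSpecIso_hom_snd A₀ B B
    show pullback.fst (Spec.map (CommRingCat.ofHom (algebraMap A₀ B))) (Spec.map (CommRingCat.ofHom (algebraMap A₀ B))) ≫ π₁ =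
      pullback.snd (Spec.map (CommRingCat.ofHom (algebraMap A₀ B))) (Spec.map (CommRingCat.ofHom (algebraMap A₀ B))) ≫ π₁
    rw [← h1, ← h2, Category.assoc, Category.assoc]
    simp only [π₁, ← Spec.map_comp, ← CommRingCat.ofHom_comp]
    congr 3
    ext a
    exact eqAlg_swap a
  · have hx : d x ∈ Set.range d := ⟨x, rfl⟩
    rw [hdrange] at hx
    obtain ⟨q, hq⟩ := hfsub hx
    obtain ⟨y, hy⟩ : q ∈ Set.range v := by
      rw [hrange]
      intro hb
      apply hx
      rw [← hq]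
      exact hb
    refine ⟨y, hd.base_open.injective ?_⟩
    show d (w y) = d x
    rw [← Scheme.Hom.comp_apply, ← hsq, Scheme.Hom.comp_apply, hy]
    exact hq
  · rw [hrange]
    exact hfq

end Groth.Agent.AlgSpDM
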