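import Groth.Agent.MorLib.SqZeroSection
import Groth.Agent.CAlgUI.DescentProj

/-!
# A square zero extension of `A ⧸ I` splits over `A` when it does so after a faithfully flat extension
-/

set_option autoImplicit false
universe u

namespace Groth.Agent.AlgSpDM

open TensorProduct Groth.Agent.MorLib

set_option maxHeartbeats 600000

variable {A : Type u} [CommRing A] {I : Ideal A} {B : Type u} [CommRing B] [Algebra A B]
  {π : B →ₐ[A] A ⧸ I} {C : Type u} [CommRing C] [Algebra (A ⧸ I) C] [Algebra A C]
  [IsScalarTower A (A ⧸ I) C]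

/-- Maps into trivial square zero extensions lift along surjections. -/
def HasExtLifts (π : B →ₐ[A] A ⧸ I) (C : Type u) [CommRing C] [Algebra (A ⧸ I) C] [Algebra A C]
    [IsScalarTower A (A ⧸ I) C] : Prop :=
  ∀ ⦃M N : Type u⦄ [AddCommGroup M] [AddCommGroup N] [Module C M] [Module C N]
    [Module Cᵐᵒᵖ M] [Module Cᵐᵒᵖ N] [IsCentralScalar C M] [IsCentralScalar C N]
    [Module A M] [Module A N] [IsScalarTower A C M] [IsScalarTower A C N]
    [IsScalarTower A Cᵐᵒᵖ M] [IsScalarTower A Cᵐᵒᵖ N] (f : M →ₗ[C] N), Function.Surjective f →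
    ∀ G : B →ₐ[A] TrivSqZeroExt C N, (∀ x, (G x).fst = algebraMap (A ⧸ I) C (π x)) →
      ∃ H : B →ₐ[A] TrivSqZeroExt C M, ∀ x, ((TrivSqZeroExt.map f).restrictScalars A) (H x) = G x

theorem exists_lift_kernel_ext (hL : HasExtLifts π C) (hK : ∀ x y, π x = 0 → π y = 0 → x * y = 0)
    {M N : Type u} [AddCommGroup M] [AddCommGroup N] [Module A M] [Module A N] [Module C M]
    [Module C N] [IsScalarTower A C M] [IsScalarTower A C N] (f : M →ₗ[C] N)
    (hf : Function.Surjective f) (g : LinearMap.ker π.toLinearMap →ₗ[A] N)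
    (hg : ∀ a ∈ I, ∀ k : LinearMap.ker π.toLinearMap, (k : B) = algebraMap A B a → g k = 0) :
    ∃ k : LinearMap.ker π.toLinearMap →ₗ[A] M, (∀ x, f (k x) = g x) ∧
      ∀ a ∈ I, ∀ x : LinearMap.ker π.toLinearMap, (x : B) = algebraMap A B a → k x = 0 := by
  let : Module Cᵐᵒᵖ M := Module.compHom M ((RingHom.id C).fromOpposite mul_comm)
  have : IsCentralScalar C M := ⟨fun _ _ => rfl⟩
  let : Module Cᵐᵒᵖ N := Module.compHom N ((RingHom.id C).fromOpposite mul_comm)
  have : IsCentralScalar C N := ⟨fun _ _ => rfl⟩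
  have : IsScalarTower A Cᵐᵒᵖ M := ⟨fun a c m => by
    change (a • c.unop) • m = a • (c.unop • m)
    exact smul_assoc a c.unop m⟩
  have : IsScalarTower A Cᵐᵒᵖ N := ⟨fun a c m => by
    change (a • c.unop) • m = a • (c.unop • m)
    exact smul_assoc a c.unop m⟩
  have hI0 : ∀ a ∈ I, algebraMap A C a = 0 := fun a ha => by
    rw [IsScalarTower.algebraMap_apply A (A ⧸ I) C, Ideal.Quotient.algebraMap_eq,
      Ideal.Quotient.eq_zero_iff_mem.mpr ha, map_zero]
  obtain ⟨G, hG⟩ := exists_algHom_extend I π hK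
    ((TrivSqZeroExt.inrHom C N).restrictScalars A ∘ₗ g)
    (fun k k' => TrivSqZeroExt.inr_mul_inr C _ _)
    (fun a ha k hk => by
      change TrivSqZeroExt.inr (g k) = _
      rw [hg a ha k hk, TrivSqZeroExt.inr_zero,
        TrivSqZeroExt.algebraMap_eq_inl', hI0 a ha, TrivSqZeroExt.inl_zero])
  have hfst : ∀ x, (G x).fst = algebraMap (A ⧸ I) C (π x) := fun x => by
    obtain ⟨a, ha⟩ := Ideal.Quotient.mk_surjective (π x)
    let k : LinearMap.ker π.toLinearMap := ⟨x - algebraMap A B a, by
      rw [LinearMap.mem_ker, AlgHom.toLinearMap_apply, map_sub, AlgHom.commutes, ← ha]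
      exact sub_self _⟩
    have := congrArg TrivSqZeroExt.fst (hG a k)
    rw [show algebraMap A B a + (k : B) = x by simp [k]] at this
    rw [this, ← ha]
    change (algebraMap A (TrivSqZeroExt C N) a + TrivSqZeroExt.inr (g k)).fst = _
    rw [TrivSqZeroExt.fst_add, TrivSqZeroExt.fst_inr, add_zero, TrivSqZeroExt.algebraMap_eq_inl',
      TrivSqZeroExt.fst_inl, IsScalarTower.algebraMap_apply A (A ⧸ I) C]
    rfl
  obtain ⟨H, hH⟩ := hL f hf G hfst
  have hF : ∀ z, ((TrivSqZeroExt.map f).restrictScalars A z).snd = f z.snd := fun z => by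
    conv_lhs => rw [← TrivSqZeroExt.inl_fst_add_inr_snd_eq z]
    simp
  refine ⟨(TrivSqZeroExt.sndHom C M).restrictScalars A ∘ₗ H.toLinearMap ∘ₗ
    (LinearMap.ker π.toLinearMap).subtype, fun x => ?_, fun a ha x hx => ?_⟩
  · change f (H (x : B)).snd = g x
    rw [← hF, hH]
    have := hG 0 x
    rw [map_zero, zero_add] at this
    rw [this]
    simp
  · change (H (x : B)).snd = 0
    rw [hx, AlgHom.commutes, TrivSqZeroExt.algebraMap_eq_inl', TrivSqZeroExt.snd_inl]

/-- A section exists if it exists after a faithfully flat extension, with lifts for trivial extensions. -/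
theorem exists_algHom_section_ff (hI : I ^ 2 = ⊥) (hK : ∀ x y, π x = 0 → π y = 0 → x * y = 0)
    {A' : Type u} [CommRing A'] [Algebra A A'] [Module.FaithfullyFlat A A'] (φ' : B →ₐ[A] A')
    [Module.FaithfullyFlat (A ⧸ I) C] (hL : HasExtLifts π C) :
    ∃ φ : B →ₐ[A] A, (Ideal.Quotient.mkₐ A I).comp φ = π := by
  let K := LinearMap.ker π.toLinearMap
  let j : I →ₗ[A] K :=
    ((Algebra.linearMap A B).comp I.subtype).codRestrict K fun a => by
      rw [LinearMap.mem_ker, AlgHom.toLinearMap_apply, LinearMap.comp_apply,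
        Algebra.linearMap_apply, AlgHom.commutes]
      exact Ideal.Quotient.eq_zero_iff_mem.mpr a.2
  have hj : Function.Injective j := by
    intro a a' ha
    have h0 : algebraMap A B (a : A) = algebraMap A B a' := congrArg Subtype.val ha
    have h1 := congrArg φ' h0
    rw [AlgHom.commutes, AlgHom.commutes] at h1
    exact Subtype.ext (FaithfulSMul.algebraMap_injective A A' h1)
  have htor : Module.IsTorsionBySet A (K ⧸ LinearMap.range j) (I : Set A) := by
    intro z a
    obtain ⟨k, rfl⟩ := Submodule.Quotient.mk_surjective _ z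
    have : (a : A) • k = 0 := Subtype.ext (by
      rw [Submodule.coe_smul, Algebra.smul_def, Submodule.coe_zero]
      exact hK _ _ ((π.commutes _).trans (Ideal.Quotient.eq_zero_iff_mem.mpr a.2)) k.2)
    rw [← Submodule.Quotient.mk_smul, this, Submodule.Quotient.mk_zero]
  let : Module (A ⧸ I) (K ⧸ LinearMap.range j) := htor.module
  have : IsScalarTower A (A ⧸ I) (K ⧸ LinearMap.range j) := htor.isScalarTower
  let Q := K ⧸ LinearMap.range j
  have : Module.Projective C (C ⊗[A ⧸ I] Q) := by
    refine Module.Projective.of_lifting_property fun {M N} _ _ _ _ f g hf => ?_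
    let : Module A M := Module.compHom M (algebraMap A C)
    have : IsScalarTower A C M := IsScalarTower.of_algebraMap_smul fun _ _ => rfl
    let : Module A N := Module.compHom N (algebraMap A C)
    have : IsScalarTower A C N := IsScalarTower.of_algebraMap_smul fun _ _ => rfl
    let : Module (A ⧸ I) M := Module.compHom M (algebraMap (A ⧸ I) C)
    have : IsScalarTower (A ⧸ I) C M := IsScalarTower.of_algebraMap_smul fun _ _ => rfl
    have hr : ∀ r : A, algebraMap A C r = algebraMap (A ⧸ I) C (Ideal.Quotient.mk I r) := fun r =>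
      IsScalarTower.algebraMap_apply A (A ⧸ I) C r
    have : IsScalarTower A (A ⧸ I) M := IsScalarTower.of_algebraMap_smul fun r m =>
      congrArg (fun c : C => c • m) (hr r).symm
    let g₀ : Q →ₗ[A] N :=
      { toFun := fun q => g (1 ⊗ₜ q)
        map_add' := fun x y => by rw [tmul_add, map_add]
        map_smul' := fun r x => by
          rw [← algebraMap_smul (A ⧸ I) r x, tmul_smul,
            ← algebraMap_smul C (algebraMap A (A ⧸ I) r), map_smul, Ideal.Quotient.algebraMap_eq,
            ← hr r]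
          rfl }
    obtain ⟨k, hk, hk0⟩ := exists_lift_kernel_ext hL hK f hf (g₀ ∘ₗ (LinearMap.range j).mkQ)
      (fun b hb x hx => by
        have : (LinearMap.range j).mkQ x = 0 :=
          (Submodule.Quotient.mk_eq_zero _).mpr ⟨⟨b, hb⟩, Subtype.ext hx.symm⟩
        rw [LinearMap.comp_apply, this, map_zero])
    let k' : Q →ₗ[A] M := Submodule.liftQ _ k (by
      rintro _ ⟨b, rfl⟩
      exact hk0 b b.2 _ rfl)
    have hk' : ∀ q, f (k' q) = g₀ q := fun q => by
      obtain ⟨x, rfl⟩ := Submodule.Quotient.mk_surjective _ q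
      exact hk x
    refine ⟨(k'.extendScalarsOfSurjective Ideal.Quotient.mk_surjective).liftBaseChange C,
      LinearMap.ext fun x => ?_⟩
    induction x using TensorProduct.induction_on with
    | zero => rw [map_zero, map_zero]
    | add x y hx hy => rw [map_add, map_add, hx, hy]
    | tmul c q =>
      rw [LinearMap.comp_apply, LinearMap.liftBaseChange_tmul, map_smul]
      change c • f (k' q) = _
      rw [hk']
      change c • g (1 ⊗ₜ q) = _
      rw [← map_smul, smul_tmul', smul_eq_mul, mul_one]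
  have : Module.Projective (A ⧸ I) Q := Groth.Agent.CAlgUI.projective_descent (S := C)
  have htorK : Module.IsTorsionBySet A K (I : Set A) := fun k a => Subtype.ext (by
    rw [Submodule.coe_smul, Algebra.smul_def, Submodule.coe_zero]
    exact hK _ _ ((π.commutes _).trans (Ideal.Quotient.eq_zero_iff_mem.mpr a.2)) k.2)
  obtain ⟨σ, hσ⟩ := exists_section_of_projective I htorK (LinearMap.range j).mkQ
    (Submodule.mkQ_surjective _)
  let q := (LinearMap.range j).mkQ
  let d : K →ₗ[A] LinearMap.range j :=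
    (LinearMap.id - σ ∘ₗ q).codRestrict _ fun k => by
      rw [← Submodule.Quotient.mk_eq_zero]
      change q (k - σ (q k)) = 0
      rw [map_sub, hσ, sub_self]
  let ψ : K →ₗ[A] A := I.subtype ∘ₗ (LinearEquiv.ofInjective j hj).symm.toLinearMap ∘ₗ d
  have hψI : ∀ k, ψ k ∈ I := fun k => ((LinearEquiv.ofInjective j hj).symm (d k)).2
  obtain ⟨φ, hφ⟩ := exists_algHom_extend I π hK ψ
    (fun k k' => by
      have := Ideal.mul_mem_mul (hψI k) (hψI k')
      rwa [← pow_two, hI, Ideal.mem_bot] at this)
    (fun a ha k hk => by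
      have hk' : k = j ⟨a, ha⟩ := Subtype.ext hk
      have h0 : q k = 0 := (Submodule.Quotient.mk_eq_zero _).mpr ⟨⟨a, ha⟩, hk'.symm⟩
      have : d k = LinearEquiv.ofInjective j hj ⟨a, ha⟩ := Subtype.ext (by
        simp [d, h0, hk'.symm])
      simp [ψ, this])
  refine ⟨φ, AlgHom.ext fun x => ?_⟩
  obtain ⟨a, ha⟩ := Ideal.Quotient.mk_surjective (π x)
  let k : K := ⟨x - algebraMap A B a, by
    rw [LinearMap.mem_ker, AlgHom.toLinearMap_apply, map_sub, AlgHom.commutes, ← ha]
    exact sub_self _⟩
  have := hφ a k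
  rw [add_sub_cancel] at this
  rw [AlgHom.comp_apply, Ideal.Quotient.mkₐ_eq_mk, this, map_add,
    Ideal.Quotient.eq_zero_iff_mem.mpr (hψI k), add_zero, ← ha]
  rfl

end Groth.Agent.AlgSpDM
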