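import Groth.Agent.AlgSpDM.UnivThickExists
import Groth.Agent.AlgSpDM.SqZeroSectionFF
import Groth.Agent.AlgSpLib.ThickScheme
import Mathlib.AlgebraicGeometry.Morphisms.Flat

/-!
# Formal smoothness of morphisms of algebraic spaces is detected on charts
-/

set_option backward.isDefEq.respectTransparency false
set_option backward.isDefEq.respectTransparency.types false

universe u

open CategoryTheory CategoryTheory.Limits AlgebraicGeometry Opposite AlgSp Groth.Agent.AlgSpLib
  Groth.Agent.AlgSpPts Groth.Agent.AlgSpDec TensorProduct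

namespace Groth.Agent.AlgSpDM

set_option maxHeartbeats 800000

variable {S : Scheme.{u}}

section OfAlg

variable {A : Type u} [CommRing A] (str : Spec (CommRingCat.of A) ⟶ S)

/-- The affine scheme over the base of an algebra. -/
noncomputable abbrev ofAlg (D : Type u) [CommRing D] [Algebra A D] : Over S :=
  Over.mk (Spec.map (CommRingCat.ofHom (algebraMap A D)) ≫ str)

/-- Its map to the spectrum of the ground ring. -/
noncomputable abbrev toBase (D : Type u) [CommRing D] [Algebra A D] : ofAlg str D ⟶ Over.mk str :=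
  Over.homMk (Spec.map (CommRingCat.ofHom (algebraMap A D))) rfl

/-- The map of affine schemes of an algebra map. -/
noncomputable abbrev ofAlgHom {D E : Type u} [CommRing D] [CommRing E] [Algebra A D] [Algebra A E] (φ : D →ₐ[A] E) :
    ofAlg str E ⟶ ofAlg str D :=
  Over.homMk (Spec.map (CommRingCat.ofHom φ.toRingHom)) (by
    show Spec.map _ ≫ Spec.map _ ≫ str = _
    rw [← Spec.map_comp_assoc, ← CommRingCat.ofHom_comp]
    exact congrArg (fun k => Spec.map (CommRingCat.ofHom k) ≫ str) φ.comp_algebraMap)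

variable {D E F : Type u} [CommRing D] [CommRing E] [CommRing F] [Algebra A D] [Algebra A E] [Algebra A F]

instance (D : Type u) [CommRing D] [Algebra A D] : IsAffine (ofAlg str D).left :=
  inferInstanceAs (IsAffine (Spec _))

theorem ofAlgHom_toBase (φ : D →ₐ[A] E) : ofAlgHom str φ ≫ toBase str D = toBase str E :=
  Over.OverMorphism.ext (by
    show Spec.map _ ≫ Spec.map _ = Spec.map _
    rw [← Spec.map_comp, ← CommRingCat.ofHom_comp]
    exact congrArg (fun k => Spec.map (CommRingCat.ofHom k)) φ.comp_algebraMap)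

theorem ofAlgHom_comp (φ : D →ₐ[A] E) (ψ : E →ₐ[A] F) :
    ofAlgHom str ψ ≫ ofAlgHom str φ = ofAlgHom str (ψ.comp φ) :=
  Over.OverMorphism.ext (by
    show Spec.map _ ≫ Spec.map _ = Spec.map _
    rw [← Spec.map_comp]
    rfl)

theorem exists_ofAlgHom (m : ofAlg str E ⟶ ofAlg str D) (hm : m ≫ toBase str D = toBase str E) :
    ∃ φ : D →ₐ[A] E, ofAlgHom str φ = m := by
  obtain ⟨r, hr⟩ := Spec.map_surjective (m.left : Spec (CommRingCat.of E) ⟶ Spec (CommRingCat.of D))
  have h : CommRingCat.ofHom (algebraMap A D) ≫ r = CommRingCat.ofHom (algebraMap A E) := by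
    apply Spec.map_injective
    rw [Spec.map_comp, hr]
    exact congrArg CommaMorphism.left hm
  exact ⟨{ r.hom with commutes' := fun a => congr($h a) }, Over.OverMorphism.ext hr⟩

theorem ofAlgHom_injective {φ ψ : D →ₐ[A] E} (h : ofAlgHom str φ = ofAlgHom str ψ) : φ = ψ := by
  have := Spec.map_injective (congrArg CommaMorphism.left h)
  exact AlgHom.ext fun x => congr($this x)

theorem isFOThickMor_ofAlgHom (φ : D →ₐ[A] E) (hφ : Function.Surjective φ)
    (h2 : RingHom.ker φ.toRingHom ^ 2 = ⊥) : IsFOThickMor ((yon S).map (ofAlgHom str φ)) :=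
  isFOThickMor_yon _ (Groth.Agent.UnivThick.isFirstOrderThickening_specMap φ.toRingHom hφ h2)

end OfAlg

/-- An etale covering of an affine scheme by a scheme has an affine refinement. -/
theorem exists_affine_refine {A : Type u} [CommRing A] (str : Spec (CommRingCat.of A) ⟶ S) {T1 : Over S}
    (e : T1 ⟶ Over.mk str) [Etale e.left] [Surjective e.left] :
    ∃ (A' : Type u) (_ : CommRing A') (_ : Algebra A A') (δ : ofAlg str A' ⟶ T1),
      δ ≫ e = toBase str A' ∧ Module.FaithfullyFlat A A' := by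
  let 𝒰 := T1.left.affineCover
  let O : 𝒰.I₀ → Set (Spec (CommRingCat.of A)) := fun i => Set.range (𝒰.f i ≫ e.left)
  have hO : ∀ i, IsOpen (O i) := fun i => (𝒰.f i ≫ e.left).isOpenMap.isOpen_range
  obtain ⟨s, hs⟩ := isCompact_univ.elim_finite_subcover O hO fun x _ => by
    obtain ⟨y, rfl⟩ := e.left.surjective x
    obtain ⟨i, z, hz⟩ := 𝒰.exists_eq y
    exact Set.mem_iUnion.2 ⟨i, z, by rw [Scheme.Hom.comp_apply, hz]⟩
  let d : (∐ fun i : s => 𝒰.X i) ⟶ T1.left := Sigma.desc fun i : s => 𝒰.f i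
  have : ∀ i : s, IsAffine (𝒰.X i) := fun i => inferInstanceAs (IsAffine (T1.left.affineCover.X _))
  have : IsAffine (∐ fun i : s => 𝒰.X i) := inferInstance
  have hde : Etale d := IsZariskiLocalAtSource.sigmaDesc (fun i => inferInstance)
  let P := ∐ fun i : s => 𝒰.X i
  let g : Spec Γ(P, ⊤) ⟶ Spec (CommRingCat.of A) := P.isoSpec.inv ≫ d ≫ e.left
  obtain ⟨η, hη⟩ := Spec.map_surjective g
  let : Algebra A Γ(P, ⊤) := η.hom.toAlgebra
  have hg : Surjective g := ⟨fun x => by
    obtain ⟨i, hi, hx⟩ : ∃ i ∈ s, x ∈ O i := by simpa using hs (Set.mem_univ x)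
    obtain ⟨z, hz⟩ := hx
    refine ⟨P.isoSpec.hom ((Sigma.ι (fun i : s => 𝒰.X i) ⟨i, hi⟩) z), ?_⟩
    rw [← Scheme.Hom.comp_apply, ← Scheme.Hom.comp_apply]
    simp only [g, Iso.hom_inv_id_assoc]
    rw [show Sigma.ι (fun i : s => 𝒰.X i) ⟨i, hi⟩ ≫ d ≫ e.left = 𝒰.f i ≫ e.left from by
      simp [d, P]]
    exact hz⟩
  have hgf : Flat g := inferInstanceAs (Flat (P.isoSpec.inv ≫ d ≫ e.left))
  have hff : η.hom.FaithfullyFlat :=
    (flat_and_surjective_SpecMap_iff η).1 ⟨hη ▸ hgf, hη ▸ hg⟩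
  refine ⟨Γ(P, ⊤), inferInstance, inferInstance, Over.homMk (P.isoSpec.inv ≫ d) ?_,
    Over.OverMorphism.ext ?_, hff⟩
  · show (P.isoSpec.inv ≫ d) ≫ T1.hom = Spec.map η ≫ str
    rw [hη, ← Over.w e]
    simp [g]
  · show (P.isoSpec.inv ≫ d) ≫ e.left = Spec.map η
    rw [hη, Category.assoc]

theorem isUnivFOThick_of_iso {Z Z' Z'' X : Sp S} (hZ' : IsAlgSpace Z') {h : Z ⟶ X} {i : Z ⟶ Z'}
    {h' : Z' ⟶ X} (HU : IsUnivFOThick h i h') (ε : Z'' ≅ Z') :
    IsUnivFOThick h (i ≫ ε.inv) (ε.hom ≫ h') := by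
  have sq : IsPullback (𝟙 Z) (i ≫ ε.inv) i ε.hom := IsPullback.of_horiz_isIso ⟨by simp⟩
  refine ⟨isFOThickMor_baseChange hZ' HU.1 sq, by simp [HU.2.1], fun T T' hT hT' j a b hj w => ?_⟩
  obtain ⟨l, ⟨l1, l2⟩, hl⟩ := HU.2.2 hT hT' j a b hj w
  refine ⟨l ≫ ε.inv, ⟨by rw [← Category.assoc, l1, Category.assoc], by simp [l2]⟩, fun y hy => ?_⟩
  rw [← hl (y ≫ ε.hom) ⟨by rw [← Category.assoc, hy.1]; simp, by rw [Category.assoc, hy.2]⟩]
  simp

variable {X Y : Sp S} {f : X ⟶ Y}

/-- The lifting problem on a piece mapping to the charts. -/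
theorem exists_lift_piece {U V : Over S} {a : (yon S).obj U ⟶ X} {b : (yon S).obj V ⟶ Y} {h : U ⟶ V}
    (ha : RepWith @Etale a) (hb : RepWith @Etale b) (w : a ≫ f = (yon S).map h ≫ b)
    (hh : MoreMor.IsFormallySmoothHom h.left) {W0 W W' : Over S} [IsAffine W'.left] (j0 : W0 ⟶ W)
    (hj0 : IsFOThickMor ((yon S).map j0)) (j : W ⟶ W') (hj : IsFOThickMor ((yon S).map j))
    (α : W0 ⟶ U) (β : W' ⟶ V) (aX : (yon S).obj W ⟶ X) (hα : α ≫ h = j0 ≫ j ≫ β)
    (h1 : (yon S).map α ≫ a = (yon S).map j0 ≫ aX) (h2 : aX ≫ f = (yon S).map j ≫ (yon S).map β ≫ b) :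
    ∃ l : (yon S).obj W' ⟶ X, (yon S).map j ≫ l = aX ∧ l ≫ f = (yon S).map β ≫ b := by
  obtain ⟨aU, ⟨u1, u2⟩, -⟩ := existsUnique_lift_of_formallyEtale ((formal_of_repWith a).2.1 ha)
    (IsAlgSpace.yon_obj W) hj0 ((yon S).map α) aX h1
  obtain ⟨aU, rfl⟩ := (yon S).map_surjective aU
  have e : aU ≫ h = j ≫ β := (yon S).map_injective <|
    (existsUnique_lift_of_formallyEtale ((formal_of_repWith b).2.1 hb) (IsAlgSpace.yon_obj W) hj0
      ((yon S).map α ≫ (yon S).map h) (aX ≫ f) (by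
        rw [Category.assoc, ← w, ← Category.assoc, h1, Category.assoc])).unique
      ⟨by rw [Functor.map_comp, ← Category.assoc, u1],
        by rw [Functor.map_comp, Category.assoc, ← w, ← Category.assoc, u2]⟩
      ⟨by rw [← Functor.map_comp, ← Functor.map_comp, hα],
        by rw [Functor.map_comp, Category.assoc, h2]⟩
  obtain ⟨l, l1, l2⟩ := Groth.Agent.MorLib.exists_lift_of_isAffine hh j.left
    (isFirstOrderThickening_of_isFOThickMor_yon_map ‹_› hj) aU.left β.left
    (congrArg CommaMorphism.left e).symm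
  let L : W' ⟶ U := Over.homMk l (by rw [← Over.w h, ← Category.assoc, l2, Over.w β])
  refine ⟨(yon S).map L ≫ a, ?_, ?_⟩
  · rw [← Functor.map_comp_assoc, show j ≫ L = aU from Over.OverMorphism.ext l1, u2]
  · rw [Category.assoc, w, ← Functor.map_comp_assoc, show L ≫ h = β from Over.OverMorphism.ext l2]

/-- An infinitesimal square lifts when its small scheme lands in a formally smooth chart. -/
theorem exists_lift_of_chart (hX : IsAlgSpace X) (hY : IsAlgSpace Y) {U V : Over S}
    {a : (yon S).obj U ⟶ X} {b : (yon S).obj V ⟶ Y} {h : U ⟶ V} (ha : RepWith @Etale a)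
    (hb : RepWith @Etale b) (w : a ≫ f = (yon S).map h ≫ b)
    (hh : MoreMor.IsFormallySmoothHom h.left) (sq : InfSq f)
    (hs : ∀ t, Points.ofPt sq.top t ∈ Set.range (Points.ofPt a)) : sq.HasLift := by
  have hjI : IsFOThickMor ((yon S).map sq.j) :=
    isFOThickMor_yon _ (Groth.Agent.MorLib.isFirstOrderThickening_quotientMk sq.A sq.I sq.sq_zero)
  -- the etale covering on which lifts exist
  let R := ha.rep.pullback sq.top
  let α : R ⟶ U := ha.rep.fst' sq.top
  let πR : R ⟶ sq.ptT := ha.rep.snd sq.top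
  have sqR : IsPullback ((yon S).map α) ((yon S).map πR) a sq.top := ha.rep.isPullback' sq.top
  obtain ⟨T1, e1, jR, he1, sq1, hjR⟩ := exists_lift_pullback (IsAlgSpace.yon_obj sq.ptT)
    (IsAlgSpace.yon_obj sq.ptT') hjI ((yon S).map πR) (repWith_of_isPullback sqR ha)
  have hπRs : Surjective πR.left := ⟨fun t => by
    obtain ⟨v, hv⟩ := hs t
    rw [Points.ofPt_eq_map_ofScheme, Points.ofPt_eq_map_ofScheme] at hv
    obtain ⟨z, -, hz⟩ := exists_point_of_isPullback sqR hv
    refine ⟨Points.toScheme R z, ?_⟩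
    rw [← Points.ofScheme_toScheme R z, Points.map_ofPt, Category.id_comp] at hz
    exact ((Points.toScheme_ofPt _ _).symm.trans (congrArg (Points.toScheme sq.ptT) hz)).trans
      (Points.toScheme_ofScheme sq.ptT t)⟩
  have he1s : RepWith @Surjective e1 := surjective_of_pullback (IsAlgSpace.yon_obj sq.ptT') hjI
    ((repWith_yon_map_iff _ πR).2 hπRs) he1.1 sq1.w
  obtain ⟨e10, rfl⟩ := (yon S).map_surjective e1
  have : Etale e10.left := (repWith_yon_map_iff _ e10).1 he1
  have : Surjective e10.left := (repWith_yon_map_iff _ e10).1 he1s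
  obtain ⟨β', ⟨b1, b2⟩, -⟩ := existsUnique_lift_of_formallyEtale ((formal_of_repWith b).2.1 hb)
    (IsAlgSpace.yon_obj T1) hjR ((yon S).map (α ≫ h)) ((yon S).map e10 ≫ sq.bot) (by
      rw [Functor.map_comp, Category.assoc, ← w, sqR.w_assoc, sq.comm, sq1.w_assoc])
  obtain ⟨β, rfl⟩ := (yon S).map_surjective β'
  obtain ⟨A', _, _, δ, hδ, hff⟩ := exists_affine_refine sq.str e10
  let C : Type u := (sq.A ⧸ sq.I) ⊗[sq.A] A'
  let iT : ofAlg sq.str C ⟶ ofAlg sq.str (sq.A ⧸ sq.I) := ofAlgHom sq.str Algebra.TensorProduct.includeLeft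
  let iT2 : ofAlg sq.str C ⟶ ofAlg sq.str A' := ofAlgHom sq.str Algebra.TensorProduct.includeRight
  have hiT2 : MoreMor.IsFirstOrderThickening iT2.left :=
    Groth.Agent.UnivThick.isFirstOrderThickening_baseChange
      (isPullback_SpecMap_of_isPushout _ _ _ _ (CommRingCat.isPushout_tensorProduct sq.A (sq.A ⧸ sq.I) A')).flip
      (Groth.Agent.MorLib.isFirstOrderThickening_quotientMk sq.A sq.I sq.sq_zero)
  let jT : ofAlg sq.str (sq.A ⧸ sq.I) ⟶ sq.ptT' := sq.j
  have hjT : jT = toBase sq.str (sq.A ⧸ sq.I) := rfl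
  have hwC : (yon S).map iT ≫ (yon S).map jT = (yon S).map (iT2 ≫ δ) ≫ (yon S).map e10 := by
    rw [← Functor.map_comp, ← Functor.map_comp, Category.assoc, hδ, ofAlgHom_toBase, hjT, ofAlgHom_toBase]
  obtain ⟨m, hm⟩ := (yon S).map_surjective (sq1.lift ((yon S).map iT) ((yon S).map (iT2 ≫ δ)) hwC)
  have hm1 : (yon S).map m ≫ (yon S).map πR = (yon S).map iT := by rw [hm]; exact sq1.lift_fst _ _ _
  have hm2 : m ≫ jR = iT2 ≫ δ := (yon S).map_injective (by rw [Functor.map_comp, hm]; exact sq1.lift_snd _ _ _)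
  let α2 : ofAlg sq.str C ⟶ U := m ≫ α
  let β2 : ofAlg sq.str A' ⟶ V := δ ≫ β
  have hα2 : α2 ≫ h = iT2 ≫ β2 := by
    have : jR ≫ β = α ≫ h := (yon S).map_injective (by rw [Functor.map_comp, b1])
    simp only [α2, β2, Category.assoc, ← this, reassoc_of% hm2]
  have htop : (yon S).map α2 ≫ a = (yon S).map iT ≫ sq.top := by
    rw [Functor.map_comp, Category.assoc, sqR.w, ← Category.assoc, hm1]
  have hbot : (yon S).map β2 ≫ b = (yon S).map (toBase sq.str A') ≫ sq.bot := by
    rw [← hδ, Functor.map_comp, Functor.map_comp, Category.assoc, b2, Category.assoc]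
  -- the universal thickening of the section
  let X' := pullback f sq.bot
  have hX' : IsAlgSpace X' := Groth.Agent.AlgSpLib.isAlgSpace_pullback hX (IsAlgSpace.yon_obj sq.ptT') hY _ _
  let σ : (yon S).obj (ofAlg sq.str (sq.A ⧸ sq.I)) ⟶ X' := pullback.lift sq.top ((yon S).map jT) sq.comm
  have hσ1 : σ ≫ pullback.fst _ _ = sq.top := pullback.lift_fst _ _ _
  have hσ2 : σ ≫ pullback.snd _ _ = (yon S).map jT := pullback.lift_snd _ _ _
  have : Mono σ := by
    have : Mono ((yon S).map jT) := mono_of_thick hjI.1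
    have : Mono (σ ≫ pullback.snd f sq.bot) := hσ2.symm ▸ this
    exact mono_of_mono σ (pullback.snd f sq.bot)
  obtain ⟨X1, hX1, i1, h1, HU1⟩ := exists_isUnivFOThick (IsAlgSpace.yon_obj _) hX' σ
    (fun s l l' _ e _ e' => (cancel_mono σ).1 (e.trans e'.symm))
  have : IsAffine (ofAlg sq.str (sq.A ⧸ sq.I)).left := inferInstanceAs (IsAffine (Spec _))
  obtain ⟨Q0, hQ0, ⟨εQ⟩⟩ := exists_affine_of_thick hX1 HU1.1.1 (T := ofAlg sq.str (sq.A ⧸ sq.I)) (Iso.refl _)
  obtain ⟨g0, hg0⟩ := (yon S).map_surjective (εQ.hom ≫ h1 ≫ pullback.snd f sq.bot)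
  obtain ⟨γ, hγ⟩ := Spec.map_surjective (Q0.left.isoSpec.inv ≫ g0.left : Spec Γ(Q0.left, ⊤) ⟶ _)
  let B : Type u := Γ(Q0.left, ⊤)
  let : Algebra sq.A B := γ.hom.toAlgebra
  have hQw : Spec.map (CommRingCat.ofHom (algebraMap sq.A B)) ≫ sq.str = Q0.left.isoSpec.inv ≫ Q0.hom := by
    show Spec.map γ ≫ sq.str = _
    rw [hγ, Category.assoc]
    exact congrArg _ (Over.w g0)
  let eQ : ofAlg sq.str B ≅ Q0 := Over.isoMk Q0.left.isoSpec.symm hQw.symm
  have HU := isUnivFOThick_of_iso hX1 HU1 ((yon S).mapIso eQ ≪≫ εQ)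
  obtain ⟨h', hh'⟩ : ∃ h'', h'' = ((yon S).mapIso eQ ≪≫ εQ).hom ≫ h1 := ⟨_, rfl⟩
  rw [← hh'] at HU
  have hg : h' ≫ pullback.snd f sq.bot = (yon S).map (toBase sq.str B) := by
    have e : eQ.hom ≫ g0 = toBase sq.str B := Over.OverMorphism.ext hγ.symm
    rw [← e, Functor.map_comp, hg0]
    simp [hh']
  obtain ⟨i0, hi0⟩ := (yon S).map_surjective (i1 ≫ ((yon S).mapIso eQ ≪≫ εQ).inv)
  rw [← hi0] at HU
  obtain ⟨π, rfl⟩ := exists_ofAlgHom sq.str i0 ((yon S).map_injective (by
    rw [Functor.map_comp, ← hg, ← Category.assoc, HU.2.1, hσ2, hjT]))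
  have hK : ∀ x y, π x = 0 → π y = 0 → x * y = 0 := by
    intro x y hx hy
    have hft := isFirstOrderThickening_of_isFOThickMor_yon_map
      (inferInstanceAs (IsAffine (Spec (CommRingCat.of B)))) HU.1
    have : IsClosedImmersion (Spec.map (CommRingCat.ofHom π.toRingHom)) := hft.1.1
    have h2 := Groth.Agent.MorLib.ker_appTop_sq_eq_bot (Spec.map (CommRingCat.ofHom π.toRingHom)) hft.2
    have hmem : ∀ z, π z = 0 → (Scheme.ΓSpecIso (CommRingCat.of B)).inv z ∈
        RingHom.ker (Spec.map (CommRingCat.ofHom π.toRingHom)).appTop.hom := fun z hz => by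
      have e := congr($(Scheme.ΓSpecIso_inv_naturality (CommRingCat.ofHom π.toRingHom)) z)
      refine RingHom.mem_ker.2 (e.symm.trans ?_)
      change (Scheme.ΓSpecIso (CommRingCat.of (sq.A ⧸ sq.I))).inv (π z) = 0
      rw [hz, map_zero]
    have h3 := Ideal.mul_mem_mul (hmem x hx) (hmem y hy)
    rw [← pow_two, h2, Ideal.mem_bot, ← map_mul] at h3
    exact (map_eq_zero_iff _ (ConcreteCategory.bijective_of_isIso (Scheme.ΓSpecIso (CommRingCat.of B)).inv).1).1 h3
  -- the retraction exists after the covering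
  obtain ⟨l0, l01, l02⟩ := exists_lift_piece ha hb w hh (W' := ofAlg sq.str A') (𝟙 _)
    (isFOThickMor_yon _ ⟨⟨inferInstanceAs (IsClosedImmersion (𝟙 (ofAlg sq.str C).left)),
      inferInstanceAs (Surjective (𝟙 (ofAlg sq.str C).left))⟩, by simp⟩)
    iT2 (isFOThickMor_yon _ hiT2) α2 β2 ((yon S).map iT ≫ sq.top)
    (by rw [hα2, Category.id_comp]) (by rw [htop, CategoryTheory.Functor.map_id, Category.id_comp])
    (by rw [Category.assoc, sq.comm, hbot, ← Functor.map_comp_assoc, ← Functor.map_comp_assoc,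
          ofAlgHom_toBase]
        exact congrArg (fun k => (yon S).map k ≫ sq.bot) (ofAlgHom_toBase sq.str _))
  obtain ⟨lφ, hlφ1, hlφ2⟩ := univ_lift HU (j := iT2) (isFOThickMor_yon _ hiT2) ((yon S).map iT)
    (pullback.lift l0 ((yon S).map (toBase sq.str A')) (l02.trans hbot)) (by
      apply pullback.hom_ext
      · rw [Category.assoc, pullback.lift_fst, l01, Category.assoc, hσ1]
      · rw [Category.assoc, pullback.lift_snd, Category.assoc, hσ2, ← Functor.map_comp, ← Functor.map_comp,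
          ofAlgHom_toBase, hjT, ofAlgHom_toBase])
  obtain ⟨mφ, rfl⟩ := (yon S).map_surjective lφ
  obtain ⟨φ', -⟩ := exists_ofAlgHom sq.str mφ ((yon S).map_injective (by
    rw [Functor.map_comp, ← hg, ← Category.assoc, hlφ2, pullback.lift_snd]))
  -- lifts into trivial extensions
  have hL : HasExtLifts π C := by
    intro M N _ _ _ _ _ _ _ _ _ _ _ _ _ _ fMN hf G hG
    let DM := TrivSqZeroExt C M
    let DN := TrivSqZeroExt C N
    let F : DM →ₐ[sq.A] DN := (TrivSqZeroExt.map fMN).restrictScalars sq.A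
    let pN : DN →ₐ[sq.A] C := TrivSqZeroExt.fstHom sq.A C N
    let pM : DM →ₐ[sq.A] C := TrivSqZeroExt.fstHom sq.A C M
    let uM : A' →ₐ[sq.A] DM := ((TrivSqZeroExt.inlAlgHom sq.A C M)).comp Algebra.TensorProduct.includeRight
    have hFfst : ∀ z, (F z).fst = z.fst := fun z => TrivSqZeroExt.fst_map fMN z
    have hF : ∀ c m, F (TrivSqZeroExt.inl c + TrivSqZeroExt.inr m) =
        TrivSqZeroExt.inl c + TrivSqZeroExt.inr (fMN m) := fun c m => by
      refine (map_add (TrivSqZeroExt.map fMN) _ _).trans ?_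
      rw [TrivSqZeroExt.map_inl, TrivSqZeroExt.map_inr]
    have hFs : Function.Surjective F := fun z => by
      obtain ⟨m, hm⟩ := hf z.snd
      exact ⟨TrivSqZeroExt.inl z.fst + TrivSqZeroExt.inr m, by
        rw [hF, hm, TrivSqZeroExt.inl_fst_add_inr_snd_eq]⟩
    have hsq : ∀ {L : Type u} [AddCommGroup L] [Module C L] [Module Cᵐᵒᵖ L] [IsCentralScalar C L]
        (J : Ideal (TrivSqZeroExt C L)), (∀ z ∈ J, z.fst = 0) → J ^ 2 = ⊥ := by
      intro L iA iC iO iS J hJ
      rw [pow_two, eq_bot_iff, Ideal.mul_le]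
      intro x hx y hy
      rw [Ideal.mem_bot]
      refine TrivSqZeroExt.ext (by simp [hJ x hx, hJ y hy]) ?_
      rw [TrivSqZeroExt.snd_mul, hJ x hx, hJ y hy, MulOpposite.op_zero, TrivSqZeroExt.snd_zero]
      exact (congrArg₂ (· + ·) (zero_smul C y.snd) (zero_smul Cᵐᵒᵖ x.snd)).trans (add_zero (0 : L))
    have hjF : IsFOThickMor ((yon S).map (ofAlgHom sq.str F)) := isFOThickMor_ofAlgHom _ F hFs
      (hsq _ fun z hz => by rw [← hFfst]; exact congrArg TrivSqZeroExt.fst (RingHom.mem_ker.1 hz))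
    have hjN : IsFOThickMor ((yon S).map (ofAlgHom sq.str pN)) := isFOThickMor_ofAlgHom _ pN
      (fun c => ⟨TrivSqZeroExt.inl c, rfl⟩) (hsq _ fun z hz => RingHom.mem_ker.1 hz)
    have hjM : IsFOThickMor ((yon S).map (ofAlgHom sq.str pM)) := isFOThickMor_ofAlgHom _ pM
      (fun c => ⟨TrivSqZeroExt.inl c, rfl⟩) (hsq _ fun z hz => RingHom.mem_ker.1 hz)
    have hpF : pN.comp F = pM := AlgHom.ext hFfst
    have hpG : pN.comp G = Algebra.TensorProduct.includeLeft.comp π := AlgHom.ext fun x => hG x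
    let GX := (yon S).map (ofAlgHom sq.str G) ≫ h'
    have hGC : (yon S).map (ofAlgHom sq.str pN) ≫ (yon S).map (ofAlgHom sq.str G) =
        (yon S).map iT ≫ (yon S).map (ofAlgHom sq.str π) := by
      rw [← Functor.map_comp, ← Functor.map_comp, ofAlgHom_comp, ofAlgHom_comp, hpG]
    have huM : ofAlgHom sq.str pN ≫ ofAlgHom sq.str F ≫ ofAlgHom sq.str uM = iT2 := by
      rw [← Category.assoc, ofAlgHom_comp, hpF, ofAlgHom_comp]
      exact congrArg (ofAlgHom sq.str) (AlgHom.ext fun x => rfl)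
    have hGsnd : GX ≫ pullback.snd f sq.bot = (yon S).map (toBase sq.str DN) := by
      rw [Category.assoc, hg, ← Functor.map_comp, ofAlgHom_toBase]
    obtain ⟨l, hl1, hl2⟩ := exists_lift_piece ha hb w hh (W' := ofAlg sq.str DM) (ofAlgHom sq.str pN) hjN
      (ofAlgHom sq.str F) hjF α2 (ofAlgHom sq.str uM ≫ β2) (GX ≫ pullback.fst f sq.bot)
      (by rw [hα2, ← huM]; simp only [Category.assoc])
      (by rw [htop, ← hσ1, ← HU.2.1]; simp only [GX, Category.assoc]; rw [reassoc_of% hGC])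
      (by rw [Category.assoc, pullback.condition, ← Category.assoc, hGsnd, Functor.map_comp, Category.assoc, hbot]
          simp only [← Functor.map_comp_assoc, Category.assoc, ofAlgHom_toBase])
    let bM : (yon S).obj (ofAlg sq.str DM) ⟶ X' := pullback.lift l ((yon S).map (toBase sq.str DM)) (by
      rw [hl2, Functor.map_comp, Category.assoc, hbot, ← Functor.map_comp_assoc, ofAlgHom_toBase])
    have hFb : (yon S).map (ofAlgHom sq.str F) ≫ bM = GX := by
      apply pullback.hom_ext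
      · rw [Category.assoc, pullback.lift_fst, hl1]
      · rw [Category.assoc, pullback.lift_snd, hGsnd, ← Functor.map_comp, ofAlgHom_toBase]
    have hfac : (yon S).map (ofAlgHom sq.str pM) =
        (yon S).map (ofAlgHom sq.str pN) ≫ (yon S).map (ofAlgHom sq.str F) := by
      rw [← Functor.map_comp, ofAlgHom_comp, hpF]
    obtain ⟨lH, hH1, hH2⟩ := univ_lift HU hjM ((yon S).map iT) bM (by
      rw [hfac, Category.assoc, hFb, ← HU.2.1]; simp only [GX]; rw [← Category.assoc, hGC, Category.assoc])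
    obtain ⟨mH, rfl⟩ := (yon S).map_surjective lH
    obtain ⟨H, rfl⟩ := exists_ofAlgHom sq.str mH ((yon S).map_injective (by
      rw [Functor.map_comp, ← hg, ← Category.assoc, hH2, pullback.lift_snd]))
    refine ⟨H, fun x => ?_⟩
    have key : (yon S).map (ofAlgHom sq.str F) ≫ (yon S).map (ofAlgHom sq.str H) = (yon S).map (ofAlgHom sq.str G) :=
      univ_hom_ext HU hjN ((yon S).map iT) (by rw [← Category.assoc, ← hfac]; exact hH1) hGC
        (by rw [Category.assoc, hH2, hFb])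
    rw [← Functor.map_comp, ofAlgHom_comp] at key
    exact congrArg (fun k => k x) (ofAlgHom_injective sq.str ((yon S).map_injective key))
  obtain ⟨φ, hφ⟩ := exists_algHom_section_ff (C := C) sq.sq_zero hK φ' hL
  let lB : sq.ptT' ⟶ ofAlg sq.str B := Over.homMk (Spec.map (CommRingCat.ofHom φ.toRingHom)) (by
    show Spec.map _ ≫ Spec.map _ ≫ sq.str = sq.str
    rw [← Spec.map_comp_assoc, ← CommRingCat.ofHom_comp, show φ.toRingHom.comp (algebraMap sq.A B) = RingHom.id sq.A from φ.comp_algebraMap]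
    exact (congrArg (· ≫ sq.str) (Spec.map_id _)).trans (Category.id_comp _))
  have hlB : jT ≫ lB = ofAlgHom sq.str π := Over.OverMorphism.ext (by
    show Spec.map _ ≫ Spec.map _ = Spec.map _
    rw [← Spec.map_comp]
    exact congrArg Spec.map (CommRingCat.hom_ext (RingHom.ext fun x => congr($hφ x))))
  have hlBg : lB ≫ toBase sq.str B = 𝟙 _ := Over.OverMorphism.ext (by
    show Spec.map _ ≫ Spec.map _ = 𝟙 (Spec (CommRingCat.of sq.A))
    rw [← Spec.map_comp, ← CommRingCat.ofHom_comp, show φ.toRingHom.comp (algebraMap sq.A B) = RingHom.id sq.A from φ.comp_algebraMap]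
    exact Spec.map_id _)
  refine ⟨(yon S).map lB ≫ h' ≫ pullback.fst f sq.bot, ?_, ?_⟩
  · show (yon S).map jT ≫ _ = _
    rw [← Functor.map_comp_assoc, hlB, ← Category.assoc, HU.2.1, hσ1]
  · rw [Category.assoc, Category.assoc, pullback.condition, ← Category.assoc h', hg, ← Functor.map_comp_assoc,
      hlBg, CategoryTheory.Functor.map_id, Category.id_comp]

/-- Formal smoothness follows from formal smoothness of one chart surjecting onto the source. -/
theorem isFormallySmoothMor_of_chart (hX : IsAlgSpace X) (hY : IsAlgSpace Y) {U V : Over S}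
    {a : (yon S).obj U ⟶ X} {b : (yon S).obj V ⟶ Y} {h : U ⟶ V} (ha : RepWith @Etale a)
    (has : RepWith @Surjective a) (hb : RepWith @Etale b) (w : a ≫ f = (yon S).map h ≫ b)
    (hh : MoreMor.IsFormallySmoothHom h.left) : IsFormallySmoothMor f := fun sq =>
  exists_lift_of_chart hX hY ha hb w hh sq fun t => Groth.Agent.AlgSpLib.surjective_ofPt has (Points.ofPt sq.top t)

end Groth.Agent.AlgSpDM

namespace Groth.Agent.AlgSpDM

variable {S : Scheme.{u}} {X Y : Sp S} {f : X ⟶ Y}

theorem isFormallySmoothHom_of_isFormallySmoothMor {U V : Over S} {h : U ⟶ V}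
    (hh : IsFormallySmoothMor ((yon S).map h)) : MoreMor.IsFormallySmoothHom h.left := by
  intro A _ I hI a b w
  obtain ⟨t, β, ht, hβ, hw⟩ := exists_infSq_yon h I hI a b w
  let sq : InfSq ((yon S).map h) :=
    { A := A, I := I, sq_zero := hI, str := b ≫ V.hom, top := (yon S).map t, bot := (yon S).map β, comm := hw }
  obtain ⟨l, hl₁, hl₂⟩ := hh sq
  obtain ⟨m, rfl⟩ := (yon S).map_surjective l
  refine ⟨m.left, ?_, ?_⟩
  · rw [← ht]
    exact congrArg CommaMorphism.left ((yon S).map_injective (((yon S).map_comp _ _).trans hl₁))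
  · rw [← hβ]
    exact congrArg CommaMorphism.left ((yon S).map_injective (((yon S).map_comp _ _).trans hl₂))

theorem locP_of_isFormallySmoothMor (hf : IsFormallySmoothMor f) : LocP @MoreMor.IsFormallySmoothHom f := by
  intro U V a b h ha hb w
  refine isFormallySmoothHom_of_isFormallySmoothMor ?_
  refine isFormallySmoothMor_of_comp ((isFormallyEtaleMor_iff b).1 ((formal_of_repWith b).2.1 hb)).2 ?_
  rw [← w]
  exact isFormallySmoothMor_comp ((isFormallyEtaleMor_iff a).1 ((formal_of_repWith a).2.1 ha)).1 hf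

theorem isFormallySmoothMor_iff_locP (hX : IsAlgSpace X) (hY : IsAlgSpace Y) :
    IsFormallySmoothMor f ↔ LocP @MoreMor.IsFormallySmoothHom f := by
  refine ⟨locP_of_isFormallySmoothMor, fun H => ?_⟩
  obtain ⟨U, V, a, b, h, ha, has, hb, -, w⟩ := exists_chart hX hY f
  exact isFormallySmoothMor_of_chart hX hY ha has hb w (H a b h ha hb w)

end Groth.Agent.AlgSpDM
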