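import Groth.Agent.AlgSpDM.FibreCond
import Groth.Agent.AlgSpDM.DenseFinite
import Groth.Agent.AlgSpDec.ResTrdeg
import Groth.Agent.AlgSpDec.FieldFibre
import Groth.Agent.AlgSpPts.Sep
import Groth.Agent.AlgSpMor.QfSplit
import Groth.Agent.AlgSpLib.AffineDescProps

/-!
# Generic finiteness of dominant morphisms of integral spaces
-/

set_option autoImplicit false
set_option backward.isDefEq.respectTransparency false
set_option backward.isDefEq.respectTransparency.types false
set_option maxHeartbeats 800000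

universe u

open CategoryTheory CategoryTheory.Limits AlgebraicGeometry AlgSp
open Groth.Agent.AlgSpLib Groth.Agent.AlgSpPts Groth.Agent.AlgSpDec Groth.Agent.AlgSpDM.DenseFin

namespace Groth.Agent.AlgSpDM.GenFinite

variable {S : Scheme.{u}} {X Y : Space S} {f : X ⟶ Y} {x : Points X.obj} {y : Points Y.obj}

/-- The generic point of a decent irreducible space is its only point of codimension zero. -/
theorem cz_iff (hX : IsDecent X.obj) (hx : IsGenericPoint x (Set.univ : Set (Points X.obj))) (z : Points X.obj) :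
    CZ X.obj z ↔ z = x := by
  have := t0Space_points X.property hX
  constructor
  · intro hz
    by_contra hne
    exact not_mem_closure_of_isDecent hX hz hne (by rw [hx.def]; exact Set.mem_univ _)
  · rintro rfl
    obtain ⟨x', hx', -, hs⟩ := exists_cz_generization X.property isOpen_univ (Set.mem_univ z)
    rwa [(hs.antisymm (hx.specializes (Set.mem_univ _))).eq] at hx'

theorem cz_finite (hX : IsDecent X.obj) (hx : IsGenericPoint x (Set.univ : Set (Points X.obj))) :
    {z | CZ X.obj z}.Finite := (Set.finite_singleton x).subset fun z hz => (cz_iff hX hx z).1 hz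

theorem map_generic (hY : IsDecent Y.obj) (hd : IsDominantMor f.hom)
    (hx : IsGenericPoint x (Set.univ : Set (Points X.obj))) (hy : IsGenericPoint y (Set.univ : Set (Points Y.obj))) :
    Points.map f.hom x = y := by
  have := t0Space_points Y.property hY
  have h : IsGenericPoint (Points.map f.hom x) (Set.univ : Set (Points Y.obj)) := by
    convert hx.image (Points.continuous_map f.hom) using 1
    rw [Set.image_univ, hd.closure_range]
  exact h.eq hy

variable (hft : LocP @LocallyOfFiniteType f.hom) (hX : IsDecent X.obj) (hY : IsDecent Y.obj)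
  (hx : IsGenericPoint x (Set.univ : Set (Points X.obj))) (hfx : Points.map f.hom x = y)

include hft hX hx hfx in
theorem qf_of_unique (h : ∀ x', Points.map f.hom x' = y → x' = x) : AlgSpMor.QfAt f.hom x :=
  FibreCond.qf_of_finite hft X.property Y.property (y := y) hfx hX ((Set.finite_singleton x).subset h)

include hft hY hx hfx in
theorem unique_of_qf (h : AlgSpMor.QfAt f.hom x) : ∀ x', Points.map f.hom x' = y → x' = x := fun x' hx' => by
  obtain ⟨-, hc⟩ := FibreCond.isolated_closed_of_qf hft X.property Y.property (y := y) hfx hY h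
  have hs : (⟨x, hfx⟩ : ↥(Points.map f.hom ⁻¹' {y})) ⤳ ⟨x', hx'⟩ :=
    (subtype_specializes_iff _ _).2 (hx.specializes (Set.mem_univ x'))
  exact congrArg Subtype.val (show (⟨x', hx'⟩ : ↥(Points.map f.hom ⁻¹' {y})) ∈ ({⟨x, hfx⟩} : Set _) from
    hs.mem_closed hc (Set.mem_singleton _))

include hft hX hY hx hfx in
theorem qf_iff_unique : AlgSpMor.QfAt f.hom x ↔ ∀ x', Points.map f.hom x' = y → x' = x :=
  ⟨unique_of_qf hft hY hx hfx, qf_of_unique hft hX hx hfx⟩

include hft hX hx in
theorem trdeg_zero_iff_qf :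
    HasAtMor (fun _ _ h u => Dual3.resTrdeg h u = 0) f.hom x ↔ AlgSpMor.QfAt f.hom x := by
  obtain ⟨U, V, a, b, h, ha, has, hb, -, w⟩ := exists_chart X.property Y.property f.hom
  obtain ⟨u, hu⟩ := surjective_ofPt has x
  have : LocallyOfFiniteType h.left := hft a b h ha hb w
  have h0 : Order.coheight u = 0 :=
    (CodimQf.hasAt_codim_zero_iff ha u).1 (by rw [hu]; exact (cz_iff hX hx x).2 rfl)
  rw [← hu, ResTrdeg.hasAtMor_iff ha hb w u 0]
  refine Iff.trans ?_ (CodimQf.hasAtMor_qf_iff hft ha hb w u).symm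
  rw [FieldFibre.fibreDimAt_eq_zero_iff_rd]
  constructor
  · intro hd z hz _
    rw [eq_of_specializes_of_coheight h0 hz]
    have h1 : (FibDim.rd h.left u : Cardinal.{u}) = (0 : ℕ) := by
      rw [FibDim.rd_eq_rdeg]; exact_mod_cast hd
    exact_mod_cast h1
  · intro hd
    rw [← FibDim.rd_eq_rdeg, hd u specializes_rfl rfl]
    exact Nat.cast_zero

include hft hX hY hx hfx in
/-- With a single point over the generic point, a separated or quasi-compact morphism is finite over a nonempty
affine open. -/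
theorem exists_affine_finite (hy : IsGenericPoint y (Set.univ : Set (Points Y.obj)))
    (huniq : ∀ x', Points.map f.hom x' = y → x' = x)
    (hsq : IsSeparatedMor f.hom ∨ IsQuasiCompactMor f.hom) :
    ∃ (V : Over S) (b : (yon S).obj V ⟶ Y.obj) (U : Over S) (g : U ⟶ V) (a : (yon S).obj U ⟶ X.obj),
      IsAffine V.left ∧ y ∈ Set.range (Points.ofPt b) ∧ RepWith @IsOpenImmersion b ∧
        IsPullback a ((yon S).map g) f.hom b ∧ IsAffine U.left ∧ IsFinite g.left := by
  obtain ⟨V₁, X₁, j, fst, snd, hj, hdense, sq, hfin⟩ := exists_dense_open_finite f hft hY (cz_finite hX hx)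
    (cz_finite hY hy) (fun z => by
      rw [cz_iff hX hx, cz_iff hY hy]
      exact ⟨fun e => e ▸ hfx, huniq z⟩) hsq.symm
  have hopen : IsOpen (Set.range (Points.map j.hom)) := (isOpenEmbedding_map' Y.property hj).isOpen_range
  obtain ⟨_, htr⟩ : ∃ t, t ∈ Set.range (Points.map j.hom) := by
    obtain ⟨t, -, ht⟩ := hdense.inter_open_nonempty _ isOpen_univ ⟨y, trivial⟩
    exact ⟨t, ht⟩
  have hyj : y ∈ Set.range (Points.map j.hom) := (hy.specializes (Set.mem_univ _)).mem_open hopen htr
  obtain ⟨V₀, c, hV₀, hc, hcr⟩ := exists_affine_dense (Y := Y) hY (cz_finite hY hy)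
  obtain ⟨v₀, hv₀⟩ := hcr y ((cz_iff hY hy y).2 rfl)
  obtain ⟨W, hW, hvW, hWsub⟩ := exists_isAffineOpen_mem_and_subset
    (U := (⟨_, hopen.preimage (Points.continuous_ofPt c)⟩ : V₀.left.Opens)) (x := v₀)
    (show Points.ofPt c v₀ ∈ Set.range (Points.map j.hom) from hv₀.symm ▸ hyj)
  let V : Over S := openOver V₀ W
  let b : (yon S).obj V ⟶ Y.obj := (yon S).map (openOverι V₀ W) ≫ c
  have hb : RepWith @IsOpenImmersion b :=
    repWith_comp ((repWith_yon_map_iff _ _).2 (inferInstanceAs (IsOpenImmersion W.ι))) hc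
  obtain ⟨b', hb'⟩ := AlgSpDec.exists_factor_open hj b fun w => by
    rw [ofPt_comp]
    exact hWsub w.2
  have : IsAffine V.left := hW
  obtain ⟨U, g, a, sqU, hU, hg⟩ := hfin ‹_› b'
  refine ⟨V, b, U, g, a ≫ snd.hom, hW, ⟨⟨v₀, hvW⟩, ?_⟩, hb, ?_, hU, hg⟩
  · rw [ofPt_comp]; exact hv₀
  · rw [← hb']
    exact sqU.paste_horiz sq.flip

/-- A finite chart through a point makes the morphism quasi-finite there. -/
theorem qfAt_of_finite_chart {U V : Over S} {a : (yon S).obj U ⟶ X.obj} {b : (yon S).obj V ⟶ Y.obj} {g : U ⟶ V}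
    (ha : RepWith @IsOpenImmersion a) (hb : RepWith @IsOpenImmersion b) (w : a ≫ f.hom = (yon S).map g ≫ b)
    [IsFinite g.left] (u : ↥U.left) : AlgSpMor.QfAt f.hom (Points.ofPt a u) :=
  ⟨U, V, a, b, g, u, repWith_mono (fun _ _ i (_ : IsOpenImmersion i) => (inferInstance : Etale i)) _ ha,
    repWith_mono (fun _ _ i (_ : IsOpenImmersion i) => (inferInstance : Etale i)) _ hb, w, rfl,
    ⊤, trivial, inferInstance, inferInstance⟩

theorem isOpenEmbedding_ofPt {U : Over S} {a : (yon S).obj U ⟶ X.obj} (ha : RepWith @IsOpenImmersion a) :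
    Topology.IsOpenEmbedding (Points.ofPt a) := by
  have : Points.ofPt a = Points.map a ∘ Points.schemeHomeo U :=
    funext fun t => Points.ofPt_eq_map_ofScheme a t
  rw [this]
  exact (isOpenEmbedding_map' X.property ha).comp (Points.schemeHomeo U).isOpenEmbedding

theorem mem_open_chart {U : Over S} {a : (yon S).obj U ⟶ X.obj} (ha : RepWith @IsOpenImmersion a)
    (hne : Nonempty ↥U.left) (hx : IsGenericPoint x (Set.univ : Set (Points X.obj))) :
    x ∈ Set.range (Points.ofPt a) :=
  (hx.specializes (Set.mem_univ (Points.ofPt a hne.some))).mem_open (isOpenEmbedding_ofPt ha).isOpen_range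
    (Set.mem_range_self _)

theorem generic_open_chart {U : Over S} {a : (yon S).obj U ⟶ X.obj} (ha : RepWith @IsOpenImmersion a) {u : ↥U.left}
    (hu : Points.ofPt a u = x) (hx : IsGenericPoint x (Set.univ : Set (Points X.obj))) :
    IsGenericPoint (Points.schemeHomeo U u) (Set.univ : Set (Points ((yon S).obj U))) := by
  have he := isOpenEmbedding_ofPt ha
  have h1 : IsGenericPoint u (Set.univ : Set ↥U.left) := by
    refine isGenericPoint_iff_specializes.2 fun t => ⟨fun _ => trivial, fun _ => ?_⟩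
    exact he.isInducing.specializes_iff.1 (hu ▸ hx.specializes (Set.mem_univ _))
  have h2 := h1.image (Points.schemeHomeo U).continuous
  rwa [Set.image_univ, (Points.schemeHomeo U).surjective.range_eq, closure_univ] at h2

include hft hX hY hx hfx in
/-- With a single point over the generic point, some affine opens are mapped finitely to each other. -/
theorem exists_opens_finite (hy : IsGenericPoint y (Set.univ : Set (Points Y.obj)))
    (huniq : ∀ x', Points.map f.hom x' = y → x' = x) :
    ∃ (U V : Over S) (a : (yon S).obj U ⟶ X.obj) (b : (yon S).obj V ⟶ Y.obj) (g : U ⟶ V),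
      IsAffine U.left ∧ IsAffine V.left ∧ Nonempty ↥U.left ∧ RepWith @IsOpenImmersion a ∧
        RepWith @IsOpenImmersion b ∧ a ≫ f.hom = (yon S).map g ≫ b ∧ IsFinite g.left := by
  obtain ⟨U₀, c, hU₀, hc, hcr⟩ := exists_affine_dense (Y := X) hX (cz_finite hX hx)
  obtain ⟨u₀, hu₀⟩ := hcr x ((cz_iff hX hx x).2 rfl)
  obtain ⟨V, d, hV, hd, hdr⟩ := exists_affine_dense (Y := Y) hY (cz_finite hY hy)
  obtain ⟨v, hv⟩ := hdr y ((cz_iff hY hy y).2 rfl)
  obtain ⟨W, hW, huW, hWsub⟩ := exists_isAffineOpen_mem_and_subset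
    (U := (⟨_, (isOpenEmbedding_ofPt hd).isOpen_range.preimage (Points.continuous_ofPt (c ≫ f.hom))⟩ :
      U₀.left.Opens)) (x := u₀)
    (show Points.ofPt (c ≫ f.hom) u₀ ∈ Set.range (Points.ofPt d) from
      ⟨v, by rw [← Points.map_ofPt, hu₀, hfx, hv]⟩)
  let U : Over S := openOver U₀ W
  let a : (yon S).obj U ⟶ X.obj := (yon S).map (openOverι U₀ W) ≫ c
  have ha : RepWith @IsOpenImmersion a :=
    repWith_comp ((repWith_yon_map_iff _ _).2 (inferInstanceAs (IsOpenImmersion W.ι))) hc
  obtain ⟨b', hb'⟩ := AlgSpDec.exists_factor_open hd (a ≫ f.hom) fun w => by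
    obtain ⟨t, ht⟩ := hWsub w.2
    refine ⟨Points.schemeHomeo V t, ?_⟩
    rw [Category.assoc, ofPt_comp]
    exact (Points.ofPt_eq_map_ofScheme d t).symm.trans ht
  obtain ⟨g, rfl⟩ := (yon S).map_surjective b'
  have : IsAffine U.left := hW
  have hua : Points.ofPt a (⟨u₀, huW⟩ : ↥U.left) = x := (ofPt_comp _ c _).trans hu₀
  let X₁ : Space S := ⟨(yon S).obj U, IsAlgSpace.yon_obj U⟩
  let Y₁ : Space S := ⟨(yon S).obj V, IsAlgSpace.yon_obj V⟩
  let g₁ : X₁ ⟶ Y₁ := InducedCategory.homMk ((yon S).map g)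
  have hlft : LocallyOfFiniteType g.left :=
    hft a d g (repWith_mono (fun _ _ i (_ : IsOpenImmersion i) => (inferInstance : Etale i)) _ ha)
      (repWith_mono (fun _ _ i (_ : IsOpenImmersion i) => (inferInstance : Etale i)) _ hd) hb'.symm
  have hgen := generic_open_chart ha hua hx
  have hmap : Points.map ((yon S).map g) (Points.schemeHomeo U ⟨u₀, huW⟩) = Points.schemeHomeo V v := by
    apply (isOpenEmbedding_map' Y.property hd).injective
    rw [← Points.map_comp, hb', Points.map_comp]
    exact (congrArg (Points.map f.hom) ((Points.ofPt_eq_map_ofScheme a _).symm.trans hua)).trans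
      (hfx.trans (hv.symm.trans (Points.ofPt_eq_map_ofScheme d v)))
  obtain ⟨V', b, U', g', a', hV', hyV, hb, sq, hU', hg'⟩ := exists_affine_finite (X := X₁) (Y := Y₁) (f := g₁)
    (locP_of_chart (a := 𝟙 _) (b := 𝟙 _) (h := g) (repWith_id _ _) (repWith_id _ _) (repWith_id _ _) (Category.id_comp _ |>.trans (Category.comp_id _).symm) hlft) (isDecent_yon U) (isDecent_yon V) hgen hmap (generic_open_chart hd hv hy)
    (fun t ht => by
      apply (isOpenEmbedding_map' X.property ha).injective
      refine (huniq _ ?_).trans (hua.symm.trans (Points.ofPt_eq_map_ofScheme a _))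
      rw [← Points.map_comp, ← hb', Points.map_comp, show Points.map ((yon S).map g) t = _ from ht]
      exact (Points.ofPt_eq_map_ofScheme d v).symm.trans hv)
    (Or.inl (isSeparatedMor_of_repWith ((repWith_yon_map_iff _ _).2
      (by have := hlft; exact inferInstance : IsSeparated g.left))))
  refine ⟨U', V', a' ≫ a, b ≫ d, g', hU', hV', ?_, repWith_comp (repWith_of_isPullback sq.flip hb) ha,
    repWith_comp hb hd, ?_, hg'⟩
  · obtain ⟨w, hw⟩ := hyV
    obtain ⟨r, -⟩ := exists_point_of_isPullback sq (x := Points.schemeHomeo U ⟨u₀, huW⟩)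
      (y := Points.schemeHomeo V' w) (hmap.trans (hw.symm.trans (Points.ofPt_eq_map_ofScheme b w)))
    exact ⟨Points.toScheme U' r⟩
  · rw [Category.assoc, ← hb', ← Category.assoc, show a' ≫ (yon S).map g = (yon S).map g' ≫ b from sq.w,
      Category.assoc]

include hft hX hY hx hfx in
theorem unique_of_finite_chart {U V : Over S} {a : (yon S).obj U ⟶ X.obj} {b : (yon S).obj V ⟶ Y.obj} {g : U ⟶ V}
    (ha : RepWith @IsOpenImmersion a) (hb : RepWith @IsOpenImmersion b) (w : a ≫ f.hom = (yon S).map g ≫ b)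
    (hne : Nonempty ↥U.left) [IsFinite g.left] : ∀ x', Points.map f.hom x' = y → x' = x := by
  obtain ⟨u, rfl⟩ := mem_open_chart ha hne hx
  exact unique_of_qf hft hY hx hfx (qfAt_of_finite_chart ha hb w u)

/-- An open subspace containing the generic point contains an affine open around it. -/
theorem exists_affine_in_open (hY : IsDecent Y.obj) (hy : IsGenericPoint y (Set.univ : Set (Points Y.obj)))
    {V : Sp S} {j : V ⟶ Y.obj} (hj : RepWith @IsOpenImmersion j) (hne : Nonempty (Points V)) :
    ∃ (W : Over S) (b : (yon S).obj W ⟶ V), IsAffine W.left ∧ RepWith @IsOpenImmersion (b ≫ j) ∧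
      y ∈ Set.range (Points.ofPt (b ≫ j)) := by
  have hopen : IsOpen (Set.range (Points.map j)) := (isOpenEmbedding_map' Y.property hj).isOpen_range
  have hyj : y ∈ Set.range (Points.map j) :=
    (hy.specializes (Set.mem_univ (Points.map j hne.some))).mem_open hopen (Set.mem_range_self _)
  obtain ⟨V₀, c, hV₀, hc, hcr⟩ := exists_affine_dense (Y := Y) hY (cz_finite hY hy)
  obtain ⟨v₀, hv₀⟩ := hcr y ((cz_iff hY hy y).2 rfl)
  obtain ⟨W, hW, hvW, hWsub⟩ := exists_isAffineOpen_mem_and_subset
    (U := (⟨_, hopen.preimage (Points.continuous_ofPt c)⟩ : V₀.left.Opens)) (x := v₀)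
    (show Points.ofPt c v₀ ∈ Set.range (Points.map j) from hv₀.symm ▸ hyj)
  obtain ⟨b', hb'⟩ := AlgSpDec.exists_factor_open hj ((yon S).map (openOverι V₀ W) ≫ c) fun w => by
    rw [ofPt_comp]
    exact hWsub w.2
  refine ⟨openOver V₀ W, b', hW, hb' ▸ repWith_comp ((repWith_yon_map_iff _ _).2
    (inferInstanceAs (IsOpenImmersion W.ι))) hc, hb' ▸ ⟨⟨v₀, hvW⟩, ?_⟩⟩
  exact (ofPt_comp _ c _).trans hv₀

end Groth.Agent.AlgSpDM.GenFinite
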