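import Groth.Agent.AlgSpDM.GenFinite
import Groth.Agent.AlgSpDec.AffineRep

/-!
# Equivalent forms of generic finiteness
-/

set_option autoImplicit false
set_option backward.isDefEq.respectTransparency false
set_option backward.isDefEq.respectTransparency.types false
set_option maxHeartbeats 800000

universe u

open CategoryTheory CategoryTheory.Limits AlgebraicGeometry AlgSp
open Groth.Agent.AlgSpLib Groth.Agent.AlgSpPts Groth.Agent.AlgSpDec

namespace Groth.Agent.AlgSpDM.GenFinite

variable {S : Scheme.{u}} {X Y : Space S} {f : X ⟶ Y} {x : Points X.obj} {y : Points Y.obj}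
  (hft : LocP @LocallyOfFiniteType f.hom) (hX : IsDecent X.obj) (hY : IsDecent Y.obj)
  (hx : IsGenericPoint x (Set.univ : Set (Points X.obj))) (hy : IsGenericPoint y (Set.univ : Set (Points Y.obj)))
  (hfx : Points.map f.hom x = y)

include hft hX hY hx hy hfx in
theorem exists_opens_finite_iff :
    (∃ (U V : Over S) (a : (yon S).obj U ⟶ X.obj) (b : (yon S).obj V ⟶ Y.obj) (g : U ⟶ V),
      IsAffine U.left ∧ IsAffine V.left ∧ Nonempty ↥U.left ∧ RepWith @IsOpenImmersion a ∧
        RepWith @IsOpenImmersion b ∧ a ≫ f.hom = (yon S).map g ≫ b ∧ IsFinite g.left) ↔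
      ∀ x', Points.map f.hom x' = y → x' = x := by
  refine ⟨?_, exists_opens_finite hft hX hY hx hfx hy⟩
  rintro ⟨U, V, a, b, g, -, -, hne, ha, hb, w, hg⟩
  exact unique_of_finite_chart hft hX hY hx hfx ha hb w hne

include hft hX hY hx hy hfx in
theorem exists_affine_finite_iff (hsq : IsSeparatedMor f.hom ∨ IsQuasiCompactMor f.hom) :
    (∀ x', Points.map f.hom x' = y → x' = x) ↔
      ∃ (V : Over S) (b : (yon S).obj V ⟶ Y.obj) (U : Over S) (g : U ⟶ V) (a : (yon S).obj U ⟶ X.obj),
        IsAffine V.left ∧ Nonempty ↥V.left ∧ RepWith @IsOpenImmersion b ∧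
          IsPullback a ((yon S).map g) f.hom b ∧ IsAffine U.left ∧ IsFinite g.left := by
  constructor
  · intro h
    obtain ⟨V, b, U, g, a, hV, ⟨v, -⟩, hb, sq, hU, hg⟩ := exists_affine_finite hft hX hY hx hfx hy h hsq
    exact ⟨V, b, U, g, a, hV, ⟨v⟩, hb, sq, hU, hg⟩
  · rintro ⟨V, b, U, g, a, -, hne, hb, sq, -, hg⟩
    obtain ⟨v, hv⟩ := mem_open_chart hb hne hy
    obtain ⟨r, -⟩ := exists_point_of_isPullback sq (x := x) (y := Points.schemeHomeo V v)
      (hfx.trans (hv.symm.trans (Points.ofPt_eq_map_ofScheme b v)))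
    exact unique_of_finite_chart hft hX hY hx hfx (repWith_of_isPullback sq.flip hb) hb sq.w
      ⟨Points.toScheme U r⟩

include hft hX hY hx hy hfx in
theorem exists_open_finite_iff (hsq : IsSeparatedMor f.hom ∨ IsQuasiCompactMor f.hom) :
    (∃ (V : Space S) (j : V ⟶ Y), RepWith @IsOpenImmersion j.hom ∧ Nonempty (Points V.obj) ∧
      ∀ (P : Space S) (fst : P ⟶ V) (snd : P ⟶ X), IsPullback fst.hom snd.hom j.hom f.hom →
        IsFiniteMor fst.hom) ↔ (∀ x', Points.map f.hom x' = y → x' = x) := by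
  constructor
  · rintro ⟨V, j, hj, hne, hfin⟩
    let P : Space S := ⟨pullback j.hom f.hom, isAlgSpace_pullback V.property X.property Y.property _ _⟩
    have hP : IsFiniteMor (pullback.fst j.hom f.hom) :=
      hfin P (InducedCategory.homMk (pullback.fst _ _)) (InducedCategory.homMk (pullback.snd _ _))
        (IsPullback.of_hasPullback _ _)
    obtain ⟨W, b, hW, hb, v, hv⟩ := exists_affine_in_open hY hy hj hne
    obtain ⟨U, g, a, sq, -, hg⟩ := hP hW b
    have sq' := sq.paste_horiz (IsPullback.of_hasPullback j.hom f.hom).flip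
    obtain ⟨r, -⟩ := exists_point_of_isPullback sq' (x := x) (y := Points.schemeHomeo W v)
      (hfx.trans (hv.symm.trans (Points.ofPt_eq_map_ofScheme _ v)))
    exact unique_of_finite_chart hft hX hY hx hfx (repWith_of_isPullback sq'.flip hb) hb sq'.w
      ⟨Points.toScheme U r⟩
  · intro h
    obtain ⟨V, b, U, g, a, -, ⟨v, -⟩, hb, sq, -, hg⟩ := exists_affine_finite hft hX hY hx hfx hy h hsq
    refine ⟨⟨(yon S).obj V, IsAlgSpace.yon_obj V⟩, InducedCategory.homMk b, hb, ⟨Points.schemeHomeo V v⟩,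
      fun P fst snd sqP => isFiniteMor_iff_repWith.2 ?_⟩
    rw [← sqP.isoIsPullback_hom_fst _ _ sq.flip]
    exact ((RepWith (S := S) @IsFinite).cancel_left_of_respectsIso _ _).2 ((repWith_yon_map_iff _ _).2 hg)

end Groth.Agent.AlgSpDM.GenFinite
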