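import Groth.Agent.AlgSpDM.GaloisDescent
import Groth.Agent.AlgSpDec.MonoRep

/-!
# Geometric connectedness is detected by finite separable extensions
-/

set_option autoImplicit false
set_option backward.isDefEq.respectTransparency false
set_option backward.isDefEq.respectTransparency.types false
set_option maxHeartbeats 800000

universe u

open CategoryTheory CategoryTheory.Limits AlgebraicGeometry Topology AlgSp
open Groth.Agent.AlgSpLib Groth.Agent.AlgSpPts Groth.Agent.AlgSpDec

namespace Groth.Agent.AlgSpDM.GalDesc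

open GeomConn

variable {k : Type u} [Field k] {X : Sp (Spec (CommRingCat.of k))} (hX : IsAlgSpace X)
  {K : Type u} [Field K] [Algebra k K]

attribute [local instance] overInst

include hX in
theorem surjective_fst : Function.Surjective (Points.map (prod.fst : Xat X K ⟶ X)) := fun x => by
  obtain ⟨U, a, ha, has⟩ := hX.atlas
  obtain ⟨u, rfl⟩ := surjective_ofPt has x
  obtain ⟨w, rfl⟩ := GeomField.surjective_bcFst (k := k) (X := U.left) K u
  exact ⟨_, map_fst_ofPt a w⟩

include hX in
theorem surjective_lev (F : IntermediateField k K) : Function.Surjective (Points.map (lev X F)) := fun y => by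
  obtain ⟨U, a, ha, has⟩ := hX.atlas
  obtain ⟨t, rfl⟩ := surjective_φ has y
  obtain ⟨w, rfl⟩ := (FBaseLib.bcMap U.hom F K).surjective t
  exact ⟨_, map_lev_ofPt a F w⟩

include hX in
/-- A clopen set of the base change is stable under the automorphisms fixing some finite subextension, if the space
is connected. -/
theorem exists_stable_of_isClopen [IsGalois k K] [ConnectedSpace (Points X)] {T : Set (Points (Xat X K))}
    (hT : IsClopen T) : ∃ F : IntermediateField k K, FiniteDimensional k F ∧
      ∀ σ : K ≃ₐ[k] K, (∀ r : F, σ r = r) → ∀ w ∈ T, Points.map (act X σ) w ∈ T := by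
  let p := Points.map (prod.fst : Xat X K ⟶ X)
  obtain ⟨U, a, u, hU, ha, hu⟩ := exists_affine_chart_at hX (Nonempty.some (inferInstance : Nonempty (Points X)))
  have hW : p ⁻¹' Set.range (Points.ofPt a) = Points.ofPt (φ K a) '' Set.univ := by
    ext z
    constructor
    · rintro ⟨v, hv⟩
      obtain ⟨w, hw, -⟩ := exists_lift_fst (a := a) (u := v) hv
      exact ⟨w, trivial, hw⟩
    · rintro ⟨w, -, rfl⟩
      exact ⟨_, (map_fst_ofPt a w).symm⟩
  have hcomp : CompactSpace ↥(bcOver U K).left := by
    have : QuasiCompact (Spec.map (CommRingCat.ofHom (algebraMap k K))) := inferInstance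
    have : QuasiCompact (Curv2.bcFst k U.left K) := MorphismProperty.pullback_fst _ _ this
    exact QuasiCompact.compactSpace_of_compactSpace (Curv2.bcFst k U.left K)
  have hWc : IsCompact (p ⁻¹' Set.range (Points.ofPt a)) :=
    hW ▸ isCompact_univ.image (Points.continuous_ofPt _)
  obtain ⟨F, hF, hst⟩ := exists_finite_stable hX
    (hT.2.inter ((isOpenMap_ofPt ha).isOpen_range.preimage (Points.continuous_map _))) (hWc.inter_left hT.1)
  refine ⟨F, hF, fun σ hσ w hw => ?_⟩
  by_contra hn
  let B := T ∩ Points.map (act X σ) ⁻¹' Tᶜ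
  have hB : IsClopen B := hT.inter (hT.compl.preimage (Points.continuous_map _))
  have himg : p '' B = Set.univ := IsClopen.eq_univ ⟨isClosedMap_fst hX B hB.1, isOpenMap_fst' hX B hB.2⟩
    (Set.Nonempty.image p ⟨w, hw, hn⟩)
  obtain ⟨z, ⟨hzT, hzT'⟩, hz⟩ := himg.ge (Set.mem_univ (Points.ofPt a u))
  exact hzT' ((hst σ hσ).le (Set.mem_image_of_mem _ ⟨hzT, ⟨u, hz.symm⟩⟩)).1

include hX in
theorem isGeomConn_of_finite_separable
    (h : ∀ (k' : Type u) [Field k'] [Algebra k k'], Module.Finite k k' → Algebra.IsSeparable k k' →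
      ConnectedSpace (Points (Xat X k'))) : IsGeomConn X := by
  have := h k inferInstance inferInstance
  have : ConnectedSpace (Points X) := (surjective_fst hX (K := k)).connectedSpace (Points.continuous_map _)
  refine (isGeomConn_iff_sepClosure X (SeparableClosure k)).2 (connectedSpace_iff_clopen.2 ⟨?_, fun T hT => ?_⟩)
  · obtain ⟨z, -⟩ := surjective_fst hX (K := SeparableClosure k) (Nonempty.some (inferInstance : Nonempty (Points X)))
    exact ⟨z⟩
  · by_contra! hne
    obtain ⟨F, hF, hs⟩ := exists_stable_of_isClopen hX hT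
    have hconn : ConnectedSpace (Points (Xat X F)) :=
      h F hF (Algebra.isSeparable_tower_bot_of_isSeparable k F (SeparableClosure k))
    obtain ⟨u, hu⟩ := hne.1
    obtain ⟨v, hv⟩ := Set.nonempty_compl.2 hne.2
    have hdisj : Disjoint (Points.map (lev X F) '' T) (Points.map (lev X F) '' Tᶜ) := by
      rw [Set.disjoint_left]
      rintro _ ⟨z, hz, rfl⟩ ⟨z', hz', he⟩
      obtain ⟨σ, hσ, rfl⟩ := exists_act_eq_over hX F he.symm
      exact hz' (hs σ hσ z hz)
    obtain ⟨q, -, hq1, hq2⟩ := isPreconnected_univ (α := Points (Xat X F)) _ _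
      (isOpenMap_lev hX F T hT.2) (isOpenMap_lev hX F Tᶜ hT.compl.2) (fun q _ => by
        obtain ⟨z, rfl⟩ := surjective_lev hX (K := SeparableClosure k) F q
        by_cases hz : z ∈ T
        · exact Or.inl ⟨z, hz, rfl⟩
        · exact Or.inr ⟨z, hz, rfl⟩)
      ⟨_, trivial, ⟨u, hu, rfl⟩⟩ ⟨_, trivial, ⟨v, hv, rfl⟩⟩
    exact Set.disjoint_left.1 hdisj hq1 hq2

end Groth.Agent.AlgSpDM.GalDesc
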