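import Groth.Agent.AlgSpDM.GaloisDescent
import Groth.Agent.AlgSpDec.ReducedStalk
import Groth.Agent.AlgSpDec.DecentMor
import Groth.Prelude.Def_FDesc
import Groth.Prelude.Def_AlgSpDec

/-!
# Geometrically integral spaces
-/

set_option autoImplicit false
set_option backward.isDefEq.respectTransparency false
set_option backward.isDefEq.respectTransparency.types false
set_option maxHeartbeats 800000

universe u

open CategoryTheory CategoryTheory.Limits AlgebraicGeometry Topology AlgSp
open Groth.Agent.AlgSpLib Groth.Agent.AlgSpPts Groth.Agent.AlgSpDec Groth.Agent.AlgSpDM.GalDesc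

namespace Groth.Agent.AlgSpDM.GeomInt

open GeomConn

variable {k : Type u} [Field k] {X : Sp (Spec (CommRingCat.of k))} (hX : IsAlgSpace X)

attribute [local instance] overInst

include hX in
theorem isDecent_Xat (hd : IsDecent X) (K : Type u) [Field K] [Algebra k K] : IsDecent (Xat X K) :=
  have hrep : RepWith @UniversallyOpen (prod.fst : Xat X K ⟶ X) :=
    repWith_of_isPullback (isPullback_prod_fst (X := X) (pt k K)).flip ((repWith_yon_map_iff _ _).2 (uo_from _))
  isDecent_of_isDecentMor (isAlgSpace_of_representable _ hrep.rep hX) _ (isDecentMor_of_representable hX _ hrep.rep) hd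

include hX in
theorem geomReduced_iff :
    (∀ x : Points X, ∃ (U : Over (Spec (CommRingCat.of k))) (a : (yon _).obj U ⟶ X) (u : ↥U.left),
      RepWith @Etale a ∧ Points.ofPt a u = x ∧ FBase.IsGeomReducedAt U.hom u) ↔
    ∀ (K : Type u) [Field K] [Algebra k K], EtaleLocally (fun U => IsReduced U) (Xat X K) := by
  constructor
  · intro h K _ _
    obtain ⟨U, a, ha, has⟩ := hX.atlas
    refine ⟨bcOver U K, φ K a, repWith_of_isPullback (isPullback_φ K a) ha,
      repWith_of_isPullback (isPullback_φ K a) has, ?_⟩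
    have : ∀ t : ↥(bcOver U K).left, _root_.IsReduced ((bcOver U K).left.presheaf.stalk t) := fun t => by
      obtain ⟨U', a', u', ha', hu', hr⟩ := h (Points.ofPt a (Curv2.bcFst k U.left K t))
      obtain ⟨t', ht', hfst⟩ := exists_lift_fst (a := a') (u := u') (z := Points.ofPt (φ K a) t)
        (by rw [map_fst_ofPt, hu'])
      exact isReduced_stalk_of_charts (repWith_of_isPullback (isPullback_φ K a') ha')
        (repWith_of_isPullback (isPullback_φ K a) ha) ht' (hr K t' hfst)
    exact isReduced_of_isReduced_stalk _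
  · intro h x
    obtain ⟨U, a, ha, has⟩ := hX.atlas
    obtain ⟨u, hu⟩ := surjective_ofPt has x
    refine ⟨U, a, u, ha, hu, fun K _ _ t ht => ?_⟩
    obtain ⟨V, b, hb, hbs, hV⟩ := h K
    obtain ⟨v, hv⟩ := surjective_ofPt hbs (Points.ofPt (φ K a) t)
    haveI : _root_.AlgebraicGeometry.IsReduced V.left := hV
    exact isReduced_stalk_of_charts hb (repWith_of_isPullback (isPullback_φ K a) ha) hv inferInstance

include hX in
theorem isIntegralSp_iff (hd : IsDecent X) :
    (∀ (K : Type u) [Field K] [Algebra k K], IsIntegralSp (Xat X K)) ↔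
      (∀ x : Points X, ∃ (U : Over (Spec (CommRingCat.of k))) (a : (yon _).obj U ⟶ X) (u : ↥U.left),
        RepWith @Etale a ∧ Points.ofPt a u = x ∧ FBase.IsGeomReducedAt U.hom u) ∧
      ∀ (K : Type u) [Field K] [Algebra k K], IrreducibleSpace (Points (Xat X K)) := by
  rw [geomReduced_iff hX]
  exact ⟨fun h => ⟨fun K _ _ => (h K).1, fun K _ _ => (h K).2.2⟩,
    fun h K _ _ => ⟨h.1 K, isDecent_Xat hX hd K, h.2 K⟩⟩

end Groth.Agent.AlgSpDM.GeomInt
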