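import Groth.Agent.AlgSpDM.NormalSections
import Groth.Agent.AlgSpDM.BiratNormal
import Groth.Agent.AlgSpDec.ReducedStalk
import Groth.Prelude.Def_AlgSpOX
import Groth.Prelude.Def_AlgSpDec

/-!
# Global functions on integral spaces
-/

set_option autoImplicit false
set_option backward.isDefEq.respectTransparency false
set_option backward.isDefEq.respectTransparency.types false
set_option maxHeartbeats 800000

universe u

open CategoryTheory CategoryTheory.Limits Opposite AlgebraicGeometry AlgSp Groth.Agent.AlgSpLib Groth.Agent.AlgSpPts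

namespace Groth.Agent.AlgSpDM.Gsect

variable {S : Scheme.{u}} {X : Sp S}

/-- Evaluation of a global function on an etale scheme over the space. -/
noncomputable def ev (E : EtOver X) : ↥(gsectEt (OEt X)) →+* Γ(E.obj.left.left, ⊤) :=
  (ULift.ringEquiv : ULift.{u + 1} Γ(E.obj.left.left, ⊤) ≃+* _).toRingHom.comp (limit.π (OEt X).obj (op E)).hom

theorem ev_map {E E' : EtOver X} (g : E ⟶ E') (z : ↥(gsectEt (OEt X))) :
    g.hom.left.left.appTop (ev E' z) = ev E z :=
  congrArg ULift.down (congrArg (fun f => f z) (limit.w (OEt X).obj g.op))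

theorem ext_of_ev {z z' : ↥(gsectEt (OEt X))} (h : ∀ E, ev E z = ev E z') : z = z' := by
  haveI : PreservesLimitsOfShape (EtOver X)ᵒᵖ (CategoryTheory.forget CommRingCat.{u + 1}) := inferInstance
  exact Concrete.limit_ext (OEt X).obj _ _ fun ⟨E⟩ => ULift.ext _ _ (h E)

theorem exists_of_family (c : ∀ E : EtOver X, Γ(E.obj.left.left, ⊤))
    (hc : ∀ {E E' : EtOver X} (g : E ⟶ E'), g.hom.left.left.appTop (c E') = c E) :
    ∃ z, ∀ E, ev E z = c E := by
  haveI : PreservesLimitsOfShape (EtOver X)ᵒᵖ (CategoryTheory.forget CommRingCat.{u + 1}) := inferInstance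
  have hl := isLimitOfPreserves (CategoryTheory.forget CommRingCat.{u + 1}) (limit.isLimit (OEt X).obj)
  let s : ((OEt X).obj ⋙ CategoryTheory.forget CommRingCat.{u + 1}).sections :=
    ⟨fun E => (ULift.up (c E.unop) : ULift.{u + 1} Γ(E.unop.obj.left.left, ⊤)),
      fun g => ULift.ext _ _ (hc g.unop)⟩
  exact ⟨(Types.isLimitEquivSections hl).symm s, fun E =>
    congrArg ULift.down (Types.isLimitEquivSections_symm_apply hl s (op E))⟩

/-- The non-vanishing locus of a global function is defined on the space. -/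
theorem mem_basicOpen_of_eq (z : ↥(gsectEt (OEt X))) {E E' : EtOver X} {x : ↥E.obj.left.left}
    {x' : ↥E'.obj.left.left} (h : Points.ofPt E.obj.hom x = Points.ofPt E'.obj.hom x')
    (hx' : x' ∈ E'.obj.left.left.basicOpen (ev E' z)) : x ∈ E.obj.left.left.basicOpen (ev E z) := by
  have hE : RepWith @Etale E.obj.hom := E.property
  have sq := hE.rep.isPullback' E'.obj.hom
  obtain ⟨r, hr, hr'⟩ := exists_lift sq (x := Points.ofScheme E.obj.left x) (t := x')
    (by rw [← Points.ofPt_eq_map_ofScheme]; exact h)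
  let R : EtOver X := EtOver.mk ((yon S).map (hE.rep.snd E'.obj.hom) ≫ E'.obj.hom)
    (repWith_comp ((repWith_yon_map_iff _ _).2 (hE.property_snd E'.obj.hom)) E'.property)
  let p : R ⟶ E := EtOver.homMk (hE.rep.fst' E'.obj.hom) sq.w
  let p' : R ⟶ E' := EtOver.homMk (hE.rep.snd E'.obj.hom) rfl
  have hrx : (hE.rep.fst' E'.obj.hom).left r = x := (Points.schemeEquiv E.obj.left).injective (by
    show Points.ofScheme _ ((hE.rep.fst' E'.obj.hom).left r) = Points.ofScheme _ x
    rw [← hr, ← Category.comp_id ((yon S).map (hE.rep.fst' E'.obj.hom)), ofPt_comp])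
  have h1 : r ∈ R.obj.left.left.basicOpen (ev R z) := by
    rw [← ev_map p', ← Scheme.preimage_basicOpen_top]
    exact show (hE.rep.snd E'.obj.hom).left r ∈ _ by rw [hr']; exact hx'
  rw [← ev_map p, ← Scheme.preimage_basicOpen_top] at h1
  exact hrx ▸ h1

theorem isReduced_left (hr : EtaleLocally (fun U => IsReduced U) X) (E : EtOver X) : IsReduced E.obj.left.left := by
  obtain ⟨U, a, ha, has, hU⟩ := hr
  haveI : ∀ x : ↥E.obj.left.left, _root_.IsReduced (E.obj.left.left.presheaf.stalk x) := fun x => by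
    obtain ⟨v, hv⟩ := surjective_ofPt has (Points.ofPt E.obj.hom x)
    exact Groth.Agent.AlgSpDec.isReduced_stalk_of_charts ha E.property hv inferInstance
  exact isReduced_of_isReduced_stalk _

variable (hX : IsIntegralSp X)

include hX in
theorem exists_nonempty_basicOpen {z : ↥(gsectEt (OEt X))} (hz : z ≠ 0) :
    ∃ (E : EtOver X) (x : ↥E.obj.left.left), x ∈ E.obj.left.left.basicOpen (ev E z) := by
  by_contra h
  refine hz (ext_of_ev fun E => ?_)
  haveI := isReduced_left hX.1 E
  rw [map_zero]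
  exact (basicOpen_eq_bot_iff (X := E.obj.left.left) _).1
    (eq_bot_iff.2 fun x hx => (h ⟨E, x, hx⟩).elim)

include hX in
/-- A non-zero global function is non-zero somewhere in every nonempty open of every etale chart. -/
theorem exists_mem_basicOpen {z : ↥(gsectEt (OEt X))} (hz : z ≠ 0) (E : EtOver X) {W : E.obj.left.left.Opens}
    (hW : (W : Set ↥E.obj.left.left).Nonempty) : ∃ x ∈ W, x ∈ E.obj.left.left.basicOpen (ev E z) := by
  obtain ⟨E', x', hx'⟩ := exists_nonempty_basicOpen hX hz
  have := hX.2.2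
  obtain ⟨q, ⟨x, hx, hxq⟩, y, hy, hyq⟩ := nonempty_preirreducible_inter
    (isOpenMap_ofPt E.property _ W.2) (isOpenMap_ofPt E'.property _ (E'.obj.left.left.basicOpen (ev E' z)).2)
    (hW.image _) ⟨_, Set.mem_image_of_mem _ hx'⟩
  exact ⟨x, hx, mem_basicOpen_of_eq z (hxq.trans hyq.symm) hy⟩

include hX in
/-- The global functions on an integral space form a domain. -/
theorem isDomain_gsect : IsDomain ↥(gsectEt (OEt X)) := by
  have hne : Nonempty (Points X) := hX.2.2.toNonempty
  haveI : Nontrivial ↥(gsectEt (OEt X)) := by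
    obtain ⟨U, a, ha, has, -⟩ := hX.1
    obtain ⟨u, -⟩ := surjective_ofPt has hne.some
    haveI : Nonempty ↥(EtOver.mk a ha).obj.left.left := ⟨u⟩
    haveI : Nonempty ↥(⊤ : (EtOver.mk a ha).obj.left.left.Opens) := ⟨⟨u, trivial⟩⟩
    exact RingHom.domain_nontrivial (ev (EtOver.mk a ha))
  haveI : NoZeroDivisors ↥(gsectEt (OEt X)) := ⟨fun {z w} h => by
    by_contra! hn
    obtain ⟨E, x, hx⟩ := exists_nonempty_basicOpen hX hn.1
    obtain ⟨y, hy, hy'⟩ := exists_mem_basicOpen hX hn.2 E (W := E.obj.left.left.basicOpen (ev E z)) ⟨x, hx⟩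
    have : y ∈ E.obj.left.left.basicOpen (ev E z * ev E w) := by
      rw [Scheme.basicOpen_mul]; exact ⟨hy, hy'⟩
    rw [← map_mul, h, map_zero, Scheme.basicOpen_zero] at this
    exact this.elim⟩
  exact NoZeroDivisors.to_isDomain _

include hX in
theorem germ_ne_zero {z : ↥(gsectEt (OEt X))} (hz : z ≠ 0) (E : EtOver X) (x : ↥E.obj.left.left) :
    E.obj.left.left.presheaf.germ ⊤ x trivial (ev E z) ≠ 0 := fun h0 => by
  obtain ⟨W, hxW, i, i', e⟩ := E.obj.left.left.presheaf.germ_eq (U := ⊤) (V := ⊤) x trivial trivial (ev E z) 0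
    (h0.trans (map_zero _).symm)
  rw [map_zero] at e
  obtain ⟨y, hy, hy'⟩ := exists_mem_basicOpen hX hz E (W := W) ⟨x, hxW⟩
  have := (Scheme.mem_basicOpen_top _ _ _).1 hy'
  rw [← E.obj.left.left.presheaf.germ_res_apply i y hy, e, map_zero] at this
  have := E.obj.left.left.presheaf.stalk y
  exact not_isUnit_zero ‹IsUnit _›

include hX in
/-- The global functions on a normal integral space form a normal domain. -/
theorem isIntegrallyClosed_gsect
    (hn : EtaleLocally (fun U => ∀ u : ↥U, IsDomain ↥(U.presheaf.stalk u) ∧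
      IsIntegrallyClosed ↥(U.presheaf.stalk u)) X) : IsIntegrallyClosed ↥(gsectEt (OEt X)) := by
  have := isDomain_gsect hX
  refine (isIntegrallyClosed_iff (FractionRing ↥(gsectEt (OEt X)))).2 fun {t} ht => ?_
  obtain ⟨a, b, hb, rfl⟩ := IsFractionRing.div_surjective (A := ↥(gsectEt (OEt X))) t
  have hb0 : b ≠ 0 := nonZeroDivisors.ne_zero hb
  have hd : ∀ (E : EtOver X) (x : ↥E.obj.left.left), IsDomain ↥(E.obj.left.left.presheaf.stalk x) := fun E x =>
    (Birat.normal_chart hn E.property x).1
  have hu : ∀ E : EtOver X, ∃! c, c * ev E b = ev E a := fun E => by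
    refine NormalSec.exists_div_global (hd E) _ _ (fun x => germ_ne_zero hX hb0 E x) fun x => ?_
    have := hd E x
    have := (Birat.normal_chart hn E.property x).2
    exact NormalSec.exists_div_of_integral ((E.obj.left.left.presheaf.germ ⊤ x trivial).hom.comp (ev E))
      ((injective_iff_map_eq_zero _).2 fun z hz => by_contra fun hz' => germ_ne_zero hX hz' E x hz) hb0 ht
  choose c hc hcu using hu
  obtain ⟨z, hz⟩ := exists_of_family c fun {E E'} g => hcu E _ (by
    have := congrArg g.hom.left.left.appTop (hc E')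
    rwa [map_mul, ev_map, ev_map] at this)
  refine ⟨z, ?_⟩
  have hzb : z * b = a := ext_of_ev fun E => by rw [map_mul, hz]; exact hc E
  rw [eq_div_iff (fun e => hb0 (IsFractionRing.injective ↥(gsectEt (OEt X)) (FractionRing ↥(gsectEt (OEt X)))
    (e.trans (map_zero (algebraMap ↥(gsectEt (OEt X)) (FractionRing ↥(gsectEt (OEt X))))).symm))),
    ← map_mul, hzb]

end Groth.Agent.AlgSpDM.Gsect
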