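import Groth.Agent.Hensel.Pair
import Groth.Agent.BrnchEt.Scheme
import Groth.Prelude.Def_Hensel

/-!
# Henselizations and local maps of etale morphisms with trivial residue extension
-/

universe u

open CategoryTheory AlgebraicGeometry IsLocalRing

set_option backward.isDefEq.respectTransparency false
set_option backward.isDefEq.respectTransparency.types false

namespace Groth.Agent.AlgSpDM

set_option maxHeartbeats 600000

section Ring

variable {A B Ap Bq : Type u} [CommRing A] [CommRing B] [Algebra A B] [Algebra.Etale A B]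
  [CommRing Ap] [IsLocalRing Ap] [Algebra A Ap] [CommRing Bq] [IsLocalRing Bq] [Algebra B Bq]
  (p : Submonoid A) [IsLocalization p Ap] (q : Submonoid B) [IsLocalization q Bq]
  (φ : Ap →+* Bq) [IsLocalHom φ]

include p q in
theorem map_maximalIdeal_of_etale_local
    (hφ : φ.comp (algebraMap A Ap) = (algebraMap B Bq).comp (algebraMap A B)) :
    (maximalIdeal Ap).map φ = maximalIdeal Bq := by
  letI : Algebra A Bq := ((algebraMap B Bq).comp (algebraMap A B)).toAlgebra
  haveI : IsScalarTower A B Bq := .of_algebraMap_eq fun _ => rfl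
  letI : Algebra Ap Bq := φ.toAlgebra
  haveI : IsScalarTower A Ap Bq := .of_algebraMap_eq fun x => (RingHom.congr_fun hφ x).symm
  haveI : IsLocalHom (algebraMap Ap Bq) := ‹IsLocalHom φ›
  haveI := Algebra.FormallyUnramified.of_isLocalization (Rₘ := Bq) q
  haveI := Algebra.FormallyUnramified.comp A B Bq
  haveI : Algebra.FormallyUnramified Ap Bq := Algebra.FormallyUnramified.of_restrictScalars A Ap Bq
  haveI := Algebra.EssFiniteType.of_isLocalization Bq q
  haveI := Algebra.EssFiniteType.comp A B Bq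
  haveI : Algebra.EssFiniteType Ap Bq := Algebra.EssFiniteType.of_comp A Ap Bq
  exact Algebra.FormallyUnramified.map_maximalIdeal

include p q in
/-- Local maps to henselian rings extend uniquely along an etale local map with trivial residue extension. -/
theorem existsUnique_lift_of_etale_local
    (hφ : φ.comp (algebraMap A Ap) = (algebraMap B Bq).comp (algebraMap A B))
    (hb : Function.Bijective (ResidueField.map φ))
    (T : Type u) [CommRing T] [HenselianLocalRing T] (f : Ap →+* T) [IsLocalHom f] :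
    ∃! g : Bq →+* T, g.comp φ = f := by
  let e := RingEquiv.ofBijective _ hb
  let α : ResidueField Bq →+* ResidueField T := (ResidueField.map f).comp e.symm.toRingHom
  have hα : ∀ a, α (residue Bq (φ a)) = residue T (f a) := fun a => by
    show ResidueField.map f (e.symm (ResidueField.map φ (residue Ap a))) = _
    rw [show ResidueField.map φ (residue Ap a) = e (residue Ap a) from rfl, e.symm_apply_apply,
      ResidueField.map_residue]
  letI : Algebra A T := (f.comp (algebraMap A Ap)).toAlgebra
  let σ : B →ₐ[A] T ⧸ maximalIdeal T :=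
    AlgHom.mk (α.comp ((residue Bq).comp (algebraMap B Bq))) fun a => by
      show α (residue Bq (algebraMap B Bq (algebraMap A B a))) = residue T (f (algebraMap A Ap a))
      rw [← RingHom.comp_apply (algebraMap B Bq), ← hφ]
      exact hα _
  obtain ⟨τ, hτ, huniq⟩ := Hensel.existsUnique_etale_lift_of_algebra (maximalIdeal T) σ
  have hτ' : ∀ b, residue T (τ b) = α (residue Bq (algebraMap B Bq b)) := fun b => congr($hτ b)
  have hunit : ∀ y : q, IsUnit (τ.toRingHom y) := fun y => by
    by_contra hu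
    have h0 := (residue_eq_zero_iff (τ y)).mpr hu
    rw [hτ', map_eq_zero, residue_eq_zero_iff] at h0
    exact h0 (IsLocalization.map_units Bq y)
  let g : Bq →+* T := IsLocalization.lift hunit
  have hgb : ∀ b, g (algebraMap B Bq b) = τ b := fun b => IsLocalization.lift_eq _ b
  have hgf : g.comp φ = f := IsLocalization.ringHom_ext p (RingHom.ext fun a => by
    rw [RingHom.comp_apply, RingHom.comp_apply, ← RingHom.comp_apply φ, hφ, RingHom.comp_apply, hgb,
      AlgHom.commutes]
    rfl)
  refine ⟨g, hgf, fun g' hg' => ?_⟩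
  have hloc : (maximalIdeal Bq).map g' ≤ maximalIdeal T := by
    rw [← map_maximalIdeal_of_etale_local p q φ hφ, Ideal.map_map, hg']
    exact Ideal.map_le_iff_le_comap.mpr fun a ha => map_nonunit f a ha
  have hres : ∀ x, residue T (g' x) = α (residue Bq x) := fun x => by
    obtain ⟨r, hr⟩ := hb.2 (residue Bq x)
    obtain ⟨a, rfl⟩ := residue_surjective r
    rw [ResidueField.map_residue] at hr
    have hm : x - φ a ∈ maximalIdeal Bq := by rw [← residue_eq_zero_iff, map_sub, hr, sub_self]
    have h2 := hloc (Ideal.mem_map_of_mem g' hm)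
    rw [← residue_eq_zero_iff, map_sub, map_sub, sub_eq_zero, ← RingHom.comp_apply g', hg'] at h2
    rw [h2, ← hα, ← hr]
  let τ' : B →ₐ[A] T := AlgHom.mk (g'.comp (algebraMap B Bq)) fun a => by
    show g' (algebraMap B Bq (algebraMap A B a)) = f (algebraMap A Ap a)
    rw [← RingHom.comp_apply (algebraMap B Bq), ← hφ, ← RingHom.comp_apply g', ← RingHom.comp_assoc, hg']
    rfl
  have e2 : τ' = τ := huniq τ' (AlgHom.ext fun b => hres (algebraMap B Bq b))
  refine IsLocalization.ringHom_ext q (RingHom.ext fun b => ?_)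
  rw [RingHom.comp_apply, RingHom.comp_apply, hgb, ← e2]
  rfl

end Ring

/-- A henselization of the source of a map with the lifting property is one of its target. -/
theorem isHenselization_comp {A A' R : Type u} [CommRing A] [IsLocalRing A] [CommRing A'] [IsLocalRing A']
    [CommRing R] [IsLocalRing R] [Algebra A R] [IsLocalHom (algebraMap A R)]
    [Algebra A' R] [IsLocalHom (algebraMap A' R)] [Hensel.IsHenselization A' R] (φ : A →+* A')
    (hm : (maximalIdeal A).map φ = maximalIdeal A') (hAR : algebraMap A R = (algebraMap A' R).comp φ)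
    (hu : ∀ (T : Type u) [CommRing T] [HenselianLocalRing T] (f : A →+* T), IsLocalHom f →
      ∃! g : A' →+* T, g.comp φ = f) :
    Hensel.IsHenselization A R where
  henselian := Hensel.IsHenselization.henselian A'
  universal T _ _ f hf := by
    obtain ⟨g, hg, hguniq⟩ := hu T f hf
    have hgloc : IsLocalHom g := ((local_hom_TFAE g).out 0 2).mpr (by
      rw [← hm, Ideal.map_map, hg]
      exact Ideal.map_le_iff_le_comap.mpr fun a ha => map_nonunit f a ha)
    obtain ⟨G, hG, hGuniq⟩ := Hensel.IsHenselization.universal (R := A') (S := R) T g hgloc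
    refine ⟨G, ?_, fun G' hG' => hGuniq G' (hguniq _ ?_)⟩
    · show G.comp (algebraMap A R) = f
      rw [hAR, ← RingHom.comp_assoc, hG, hg]
    · show (G'.comp (algebraMap A' R)).comp φ = f
      rw [RingHom.comp_assoc, ← hAR]
      exact hG'

theorem encard_minimalPrimes_atPrime {B : Type u} [CommRing B] (Q : Ideal B) [Q.IsPrime] (L : Type u) [CommRing L]
    [Algebra B L] [IsLocalization.AtPrime L Q] :
    (minimalPrimes L).encard = {P | P ∈ minimalPrimes B ∧ P ≤ Q}.encard := by
  have key : ∀ P : Ideal B, P.IsPrime → P ≤ Q → (P.map (algebraMap B L)).IsPrime ∧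
      (P.map (algebraMap B L)).comap (algebraMap B L) = P := fun P hP hPQ => by
    have hd : Disjoint (Q.primeCompl : Set B) P := Set.disjoint_left.2 fun _ h1 h2 => h1 (hPQ h2)
    exact ⟨IsLocalization.isPrime_of_isPrime_disjoint Q.primeCompl L P hP hd,
      IsLocalization.comap_map_of_isPrime_disjoint Q.primeCompl L hP hd⟩
  have hle : ∀ P' : Ideal L, P'.IsPrime → P'.comap (algebraMap B L) ≤ Q := fun P' hP' b hb => by
    by_contra hbQ
    exact hP'.ne_top (Ideal.eq_top_of_isUnit_mem _ hb (IsLocalization.map_units L (⟨b, hbQ⟩ : Q.primeCompl)))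
  have himg : {P | P ∈ minimalPrimes B ∧ P ≤ Q} = Ideal.comap (algebraMap B L) '' minimalPrimes L := by
    ext P
    constructor
    · rintro ⟨hP, hPQ⟩
      have := key P hP.1.1 hPQ
      refine ⟨P.map (algebraMap B L), ⟨⟨this.1, bot_le⟩, fun Q' ⟨hQ', _⟩ hle' => ?_⟩, this.2⟩
      have : P ≤ Q'.comap (algebraMap B L) :=
        hP.2 ⟨Ideal.IsPrime.comap _, bot_le⟩ ((Ideal.comap_mono hle').trans this.2.le)
      exact Ideal.map_le_iff_le_comap.2 this
    · rintro ⟨P', hP', rfl⟩
      have := hP'.1.1
      refine ⟨⟨⟨Ideal.IsPrime.comap _, bot_le⟩, fun P ⟨hP, _⟩ hle' => ?_⟩, hle P' this⟩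
      have hk := key P hP (hle'.trans (hle P' ‹_›))
      have h1 : P' ≤ P.map (algebraMap B L) := hP'.2 ⟨hk.1, bot_le⟩ (Ideal.map_le_iff_le_comap.2 hle')
      exact (Ideal.comap_mono h1).trans hk.2.le
  rw [himg, Set.InjOn.encard_image]
  exact fun P _ P' _ h => by
    rw [← IsLocalization.map_comap Q.primeCompl L P, ← IsLocalization.map_comap Q.primeCompl L P']
    exact congrArg (Ideal.map (algebraMap B L)) h

/-- The minimal primes of a stalk correspond to the components through the point. -/
theorem encard_minimalPrimes_stalk {X : Scheme.{u}} (x : X) :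
    (minimalPrimes (X.presheaf.stalk x)).encard = BrnchEt.compsAt x := by
  obtain ⟨U, hU, hx, -⟩ := exists_isAffineOpen_mem_and_subset (U := (⊤ : X.Opens)) (x := x) trivial
  letI : Algebra Γ(X, U) (X.presheaf.stalk x) := (X.presheaf.germ U x hx).hom.toAlgebra
  haveI := hU.isLocalization_stalk ⟨x, hx⟩
  rw [show BrnchEt.compsAt x = _ from BrnchEt.encard_components_affine hU x hx,
    encard_minimalPrimes_atPrime (hU.primeIdealOf ⟨x, hx⟩).asIdeal]

/-- A henselization of the local ring upstairs is a henselization downstairs. -/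
theorem isHenselization_stalkMap {U V : Scheme.{u}} (g : U ⟶ V) [Etale g] (u : U)
    (hb : Function.Bijective (g.residueFieldMap u)) (R : Type u) [CommRing R] [IsLocalRing R]
    [Algebra ↥(U.presheaf.stalk u) R] [IsLocalHom (algebraMap ↥(U.presheaf.stalk u) R)]
    [Hensel.IsHenselization ↥(U.presheaf.stalk u) R] :
    letI : Algebra ↥(V.presheaf.stalk (g u)) R :=
      ((algebraMap ↥(U.presheaf.stalk u) R).comp (g.stalkMap u).hom).toAlgebra
    ∃ (_ : IsLocalHom (algebraMap ↥(V.presheaf.stalk (g u)) R)),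
      Hensel.IsHenselization ↥(V.presheaf.stalk (g u)) R := by
  letI : Algebra ↥(V.presheaf.stalk (g u)) R :=
      ((algebraMap ↥(U.presheaf.stalk u) R).comp (g.stalkMap u).hom).toAlgebra
  haveI hloc : IsLocalHom (algebraMap ↥(V.presheaf.stalk (g u)) R) :=
    inferInstanceAs (IsLocalHom ((algebraMap ↥(U.presheaf.stalk u) R).comp (g.stalkMap u).hom))
  refine ⟨hloc, ?_⟩
  obtain ⟨V₀, hV₀, hu₀, -⟩ := exists_isAffineOpen_mem_and_subset (U := (⊤ : V.Opens)) (x := g u) trivial
  obtain ⟨U₀, hU₀, hu₁, hUV⟩ := exists_isAffineOpen_mem_and_subset (U := g ⁻¹ᵁ V₀) (x := u) hu₀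
  letI : Algebra Γ(V, V₀) (V.presheaf.stalk (g u)) := (V.presheaf.germ V₀ (g u) hu₀).hom.toAlgebra
  haveI := hV₀.isLocalization_stalk ⟨g u, hu₀⟩
  letI : Algebra Γ(U, U₀) (U.presheaf.stalk u) := (U.presheaf.germ U₀ u hu₁).hom.toAlgebra
  haveI := hU₀.isLocalization_stalk ⟨u, hu₁⟩
  algebraize [(g.appLE V₀ U₀ hUV).hom]
  haveI : Algebra.Etale Γ(V, V₀) Γ(U, U₀) := RingHom.etale_algebraMap.1 (g.etale_appLE hV₀ hU₀ hUV)
  have hφ : (g.stalkMap u).hom.comp (algebraMap Γ(V, V₀) (V.presheaf.stalk (g u))) =
      (algebraMap Γ(U, U₀) (U.presheaf.stalk u)).comp (algebraMap Γ(V, V₀) Γ(U, U₀)) := by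
    show (V.presheaf.germ V₀ (g u) hu₀ ≫ g.stalkMap u).hom = (g.appLE V₀ U₀ hUV ≫ U.presheaf.germ U₀ u hu₁).hom
    rw [Scheme.Hom.germ_stalkMap, Scheme.Hom.appLE, Category.assoc, U.presheaf.germ_res]
  refine isHenselization_comp (A' := ↥(U.presheaf.stalk u)) (g.stalkMap u).hom
    (map_maximalIdeal_of_etale_local (hV₀.primeIdealOf ⟨g u, hu₀⟩).asIdeal.primeCompl
      (hU₀.primeIdealOf ⟨u, hu₁⟩).asIdeal.primeCompl _ hφ) rfl fun T _ _ f hf => ?_
  exact existsUnique_lift_of_etale_local (hV₀.primeIdealOf ⟨g u, hu₀⟩).asIdeal.primeCompl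
    (hU₀.primeIdealOf ⟨u, hu₁⟩).asIdeal.primeCompl _ hφ hb T f

end Groth.Agent.AlgSpDM
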