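import Groth.Agent.AlgSpDM.HenzEtaleLocal
import Groth.Agent.AlgSpDM.ElemNbhd
import Groth.Agent.AlgSpPts.Misc

/-!
# Henselian local rings and branches on elementary etale neighbourhoods
-/

universe u

open CategoryTheory CategoryTheory.Limits AlgebraicGeometry AlgSp Groth.Agent.AlgSpLib Groth.Agent.AlgSpPts
  Groth.Agent.AlgSpDec

set_option backward.isDefEq.respectTransparency false
set_option backward.isDefEq.respectTransparency.types false

namespace Groth.Agent.AlgSpDM

set_option maxHeartbeats 600000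

variable {S : Scheme.{u}} {X : Sp S}

/-- A morphism over `X` between schemes etale over `X` is etale. -/
theorem etale_left_of_over (hX : IsAlgSpace X) {U U' : Over S} {a : (yon S).obj U ⟶ X} {a' : (yon S).obj U' ⟶ X} (g : U' ⟶ U)
    (hg : (yon S).map g ≫ a = a') (ha : RepWith @Etale a) (ha' : RepWith @Etale a') : Etale g.left := by
  have h : RepWith @Etale ((yon S).map g) := repWith_of_locP (IsAlgSpace.yon_obj U)
    ((IsAlgSpace.yon_obj U).representable_from_yon _)
    (locP_of_comp' (Q := @Etale) (fun b c hbc hc => by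
      have : Etale c := hc
      have : Etale (b ≫ c) := hbc
      exact Etale.of_comp b c) hX (g := a) (hg ▸ locP_of_repWith ha') (locP_of_repWith ha))
  exact (repWith_yon_map_iff _ g).1 h

/-- The map of residue field points. -/
noncomputable def ptMap {U U' : Over S} (a : (yon S).obj U ⟶ X) (a' : (yon S).obj U' ⟶ X) (g : U' ⟶ U)
    (u' : ↥U'.left) : (FieldPt.ofPt a' u').pt ⟶ (FieldPt.ofPt a (g.left u')).pt :=
  Over.homMk (Spec.map (g.left.residueFieldMap u')) (by
    change Spec.map _ ≫ U.left.fromSpecResidueField _ ≫ U.hom = U'.left.fromSpecResidueField u' ≫ U'.hom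
    rw [← Category.assoc, g.left.SpecMap_residueFieldMap_fromSpecResidueField, Category.assoc, Over.w g])

theorem ptMap_toHom {U U' : Over S} (a : (yon S).obj U ⟶ X) (a' : (yon S).obj U' ⟶ X) (g : U' ⟶ U)
    (hg : (yon S).map g ≫ a = a') (u' : ↥U'.left) :
    (yon S).map (ptMap a a' g u') ≫ (FieldPt.ofPt a (g.left u')).toHom = (FieldPt.ofPt a' u').toHom := by
  subst hg
  rw [FieldPt.toHom_ofPt, FieldPt.toHom_ofPt, ← Category.assoc, ← Functor.map_comp, ← Category.assoc,
    ← Functor.map_comp]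
  congr 2
  exact Over.OverMorphism.ext (g.left.SpecMap_residueFieldMap_fromSpecResidueField u')

/-- A morphism of elementary neighbourhoods is an etale neighbourhood of schemes. -/
theorem isEtaleNbhd_of_elem (hX : IsAlgSpace X) {U U' : Over S} {a : (yon S).obj U ⟶ X}
    {a' : (yon S).obj U' ⟶ X} (g : U' ⟶ U) (hg : (yon S).map g ≫ a = a') {u' : ↥U'.left} {u : ↥U.left}
    (hu : g.left u' = u) (ha : RepWith @Etale a) {x : Points X} (ha' : IsElemEtaleNbhd a' u' x) :
    Hens2.IsEtaleNbhd g.left u' u := by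
  subst hu
  refine ⟨etale_left_of_over hX g hg ha ha'.etale, rfl, ?_⟩
  have := ha'.mono
  have : Mono ((yon S).map (ptMap a a' g u') ≫ (FieldPt.ofPt a (g.left u')).toHom) := by
    rw [ptMap_toHom a a' g hg u']; infer_instance
  have : Mono ((yon S).map (ptMap a a' g u')) := mono_of_mono _ (FieldPt.ofPt a (g.left u')).toHom
  have : IsIso ((yon S).map (ptMap a a' g u')) := isIso_of_mono_field (IsAlgSpace.yon_obj _) _
    (Points.ofScheme _ (IsLocalRing.closedPoint (U'.left.residueField u')))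
  have : IsIso (ptMap a a' g u') := isIso_of_fully_faithful (yon S) _
  have : IsIso (Spec.map (g.left.residueFieldMap u')) :=
    inferInstanceAs (IsIso ((Over.forget S).map (ptMap a a' g u')))
  have : IsIso ((Scheme.Spec).map (g.left.residueFieldMap u').op) := this
  have : IsIso (g.left.residueFieldMap u').op := isIso_of_fully_faithful Scheme.Spec _
  have : IsIso (g.left.residueFieldMap u') := isIso_of_op _
  exact ConcreteCategory.bijective_of_isIso (g.left.residueFieldMap u')

/-- An etale neighbourhood of the point of an elementary neighbourhood is elementary. -/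
theorem isElem_of_isEtaleNbhd {U : Over S} {a : (yon S).obj U ⟶ X} {u : ↥U.left} {x : Points X}
    (ha : IsElemEtaleNbhd a u x) {W : Scheme.{u}} (g : W ⟶ U.left) (w : W) (hw : Hens2.IsEtaleNbhd g w u) :
    IsElemEtaleNbhd ((yon S).map (Over.homMk g rfl : Over.mk (g ≫ U.hom) ⟶ U) ≫ a) w x := by
  obtain ⟨he, rfl, hb⟩ := hw
  let g' : Over.mk (g ≫ U.hom) ⟶ U := Over.homMk g rfl
  refine ⟨repWith_comp ((repWith_yon_map_iff _ g').2 he) ha.etale, ?_, ?_⟩
  · rw [ofPt_comp]; exact ha.ofPt_eq
  have hr : IsIso (g'.left.residueFieldMap w) := (ConcreteCategory.isIso_iff_bijective _).2 hb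
  have : IsIso (ptMap a ((yon S).map g' ≫ a) g' w) := by
    have : IsIso ((Over.forget S).map (ptMap a ((yon S).map g' ≫ a) g' w)) :=
      inferInstanceAs (IsIso (Spec.map (g'.left.residueFieldMap w)))
    exact isIso_of_reflects_iso _ (Over.forget S)
  have : Mono (FieldPt.ofPt a (g'.left w)).toHom := ha.mono
  rw [← ptMap_toHom a ((yon S).map g' ≫ a) g' rfl w]
  infer_instance

theorem numBranchesAt_eq_of_isHenselization {U U' : Scheme.{u}} (g : U' ⟶ U) (u' : U') (u : U)
    (h : Hens2.IsEtaleNbhd g u' u) : Brnch.numBranchesAt U u = Brnch.numBranchesAt U' u' := by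
  obtain ⟨he, rfl, hb⟩ := h
  let R := Groth.Agent.Hensel.LocalHenz ↥(U'.presheaf.stalk u')
  letI : Algebra ↥(U.presheaf.stalk (g.base u')) R :=
      ((algebraMap ↥(U'.presheaf.stalk u') R).comp (g.stalkMap u').hom).toAlgebra
  obtain ⟨_, _⟩ := isHenselization_stalkMap g u' hb R
  unfold Brnch.numBranchesAt
  rw [← BrnchLib.card_minimalPrimes_henselization (↥(U.presheaf.stalk (g.base u'))) R,
    ← BrnchLib.card_minimalPrimes_henselization (↥(U'.presheaf.stalk u')) R]

/-- The number of branches is the same at all elementary neighbourhoods. -/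
theorem numBranchesAt_eq_of_elem (hX : IsAlgSpace X) {x : Points X} {U₁ U₂ : Over S} {a₁ : (yon S).obj U₁ ⟶ X}
    {a₂ : (yon S).obj U₂ ⟶ X} {u₁ : ↥U₁.left} {u₂ : ↥U₂.left} (h₁ : IsElemEtaleNbhd a₁ u₁ x)
    (h₂ : IsElemEtaleNbhd a₂ u₂ x) :
    Brnch.numBranchesAt U₁.left u₁ = Brnch.numBranchesAt U₂.left u₂ := by
  obtain ⟨U, a, v, p₁, p₂, h, e₁, e₂, hv₁, hv₂⟩ := exists_elem_dominating hX h₁ h₂
  rw [numBranchesAt_eq_of_isHenselization _ _ _ (isEtaleNbhd_of_elem hX p₁ e₁ hv₁ h₁.etale h),
    numBranchesAt_eq_of_isHenselization _ _ _ (isEtaleNbhd_of_elem hX p₂ e₂ hv₂ h₂.etale h)]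

theorem compsAt_le_numBranchesAt (U : Scheme.{u}) (u : U) : BrnchEt.compsAt u ≤ Brnch.numBranchesAt U u := by
  rw [BrnchEt.numBranchesAt_eq_iSup U u]
  exact le_iSup_of_le U (le_iSup_of_le (𝟙 U) (le_iSup_of_le u (le_iSup_of_le (BrnchEt.isEtaleNbhd_id U u) le_rfl)))

/-- The branch number is bounded by a bound on components over all elementary neighbourhoods. -/
theorem numBranchesAt_le_of_elem {x : Points X} {U : Over S} {a : (yon S).obj U ⟶ X} {u : ↥U.left}
    (h : IsElemEtaleNbhd a u x) {n : ℕ∞}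
    (hn : ∀ (W : Over S) (b : (yon S).obj W ⟶ X) (w : ↥W.left), IsElemEtaleNbhd b w x → BrnchEt.compsAt w ≤ n) :
    Brnch.numBranchesAt U.left u ≤ n := by
  rw [BrnchEt.numBranchesAt_eq_iSup U.left u]
  exact iSup_le fun W => iSup_le fun g => iSup_le fun w => iSup_le fun hw =>
    hn (Over.mk (g ≫ U.hom)) _ w (isElem_of_isEtaleNbhd h g w hw)

/-- A finite branch number is attained by some elementary neighbourhood. -/
theorem exists_elem_compsAt_eq {x : Points X} {U : Over S} {a : (yon S).obj U ⟶ X} {u : ↥U.left}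
    (h : IsElemEtaleNbhd a u x) (n : ℕ) (hn : Brnch.numBranchesAt U.left u = n) :
    ∃ (W : Over S) (b : (yon S).obj W ⟶ X) (w : ↥W.left), IsElemEtaleNbhd b w x ∧ BrnchEt.compsAt w = n := by
  by_contra hc
  push_neg at hc
  rcases Nat.eq_zero_or_pos n with rfl | hpos
  · exact hc U a u h (le_antisymm ((compsAt_le_numBranchesAt _ u).trans_eq hn) zero_le)
  · have hlt : ∀ (W : Scheme.{u}) (g : W ⟶ U.left) (w : W), Hens2.IsEtaleNbhd g w u →
        BrnchEt.compsAt w ≤ ((n - 1 : ℕ) : ℕ∞) := fun W g w hw => by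
      have h1 : BrnchEt.compsAt w ≠ n := hc (Over.mk (g ≫ U.hom)) _ w (isElem_of_isEtaleNbhd h g w hw)
      have h2 : BrnchEt.compsAt w ≤ n := by
        rw [← hn, BrnchEt.numBranchesAt_eq_iSup U.left u]
        exact le_iSup_of_le W (le_iSup_of_le g (le_iSup_of_le w (le_iSup_of_le hw le_rfl)))
      generalize BrnchEt.compsAt w = m at h1 h2
      induction m using ENat.recTopCoe with
      | top => exact absurd h2 (not_le.2 (ENat.coe_lt_top n))
      | coe m => rw [Nat.cast_le] at h2 ⊢; rw [Ne, Nat.cast_inj] at h1; omega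
    have : (n : ℕ∞) ≤ ((n - 1 : ℕ) : ℕ∞) := by
      rw [← hn, BrnchEt.numBranchesAt_eq_iSup U.left u]
      exact iSup_le fun W => iSup_le fun g => iSup_le fun w => iSup_le fun hw => hlt W g w hw
    rw [Nat.cast_le] at this
    omega

end Groth.Agent.AlgSpDM
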