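import Groth.Agent.AlgSpDM.UnivThickExists
import Groth.Agent.S3861

/-!
# The first order infinitesimal neighbourhood is a universal thickening
-/

set_option backward.isDefEq.respectTransparency false
set_option backward.isDefEq.respectTransparency.types false

universe u

open CategoryTheory CategoryTheory.Limits AlgebraicGeometry Opposite AlgSp Groth.Agent.AlgSpLib
  Groth.Agent.AlgSpPts Groth.Agent.AlgSpDec

namespace Groth.Agent.AlgSpDM

set_option maxHeartbeats 600000

variable {S : Scheme.{u}}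

/-- Near every point a map to a space factors, after an affine flat base change, through an affine chart. -/
theorem exists_affine_piece {U : Sp S} (hU : IsAlgSpace U) {V : Over S} (g : (yon S).obj V ⟶ U) (v : V.left) :
    ∃ (B C : Over S) (q : B ⟶ V) (β : B ⟶ C) (ci : (yon S).obj C ⟶ U),
      IsAffine B.left ∧ IsAffine C.left ∧ Flat q.left ∧ RepWith @Etale ci ∧
      (yon S).map β ≫ ci = (yon S).map q ≫ g ∧ ∃ b, q.left b = v := by
  obtain ⟨U0, p, hp, hps⟩ := hU.atlas
  let R := hp.rep.pullback g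
  let r : R ⟶ U0 := hp.rep.fst' g
  let π : R ⟶ V := hp.rep.snd g
  have sq : IsPullback ((yon S).map r) ((yon S).map π) p g := hp.rep.isPullback' g
  have : Etale π.left := hp.property _ _ _ sq
  have : Surjective π.left := hps.property _ _ _ sq
  obtain ⟨x, rfl⟩ := π.left.surjective v
  obtain ⟨C0, hC0, hxC, -⟩ := exists_isAffineOpen_mem_and_subset (U := (⊤ : U0.left.Opens)) (x := r.left x) trivial
  obtain ⟨B0, hB0, hxB, hBC⟩ := exists_isAffineOpen_mem_and_subset (U := r.left ⁻¹ᵁ C0) (x := x) hxC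
  let C : Over S := Over.mk (C0.ι ≫ U0.hom)
  let B : Over S := Over.mk (B0.ι ≫ R.hom)
  let ιB : B ⟶ R := Over.homMk B0.ι rfl
  let ιC : C ⟶ U0 := Over.homMk C0.ι rfl
  obtain ⟨β, hβ⟩ := EtLift.exists_factor_open C0 (ιB ≫ r) fun w => by
    rw [Over.comp_left, Scheme.Hom.comp_apply]
    exact hBC w.2
  refine ⟨B, C, ιB ≫ π, β, (yon S).map ιC ≫ p, hB0, hC0, ?_, ?_, ?_, ⟨x, hxB⟩, ?_⟩
  · exact inferInstanceAs (Flat (B0.ι ≫ π.left))
  · exact repWith_comp ((repWith_yon_map_iff _ _).2 (inferInstanceAs (Etale C0.ι))) hp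
  · rw [← Functor.map_comp_assoc, show β ≫ ιC = ιB ≫ r from hβ, Functor.map_comp_assoc, sq.w,
      ← Category.assoc, ← Functor.map_comp]
  · rw [Over.comp_left, Scheme.Hom.comp_apply]
    rfl

/-- A closed immersion into an affine scheme has square zero kernel if it does after a flat covering. -/
theorem sqZero_of_flat_pieces {W V : Scheme.{u}} (s : W ⟶ V) [IsClosedImmersion s] [IsAffine V]
    (H : ∀ v : V, ∃ (B WB : Scheme.{u}) (q : B ⟶ V) (w : WB ⟶ W) (sB : WB ⟶ B) (b : B),
      IsAffine B ∧ Flat q ∧ q b = v ∧ w ≫ s = sB ≫ q ∧ QuasiCompact sB ∧ sB.ker * sB.ker = ⊥) :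
    sqZero s := by
  refine Groth.Agent.MorLib.ker_mul_ker_eq_bot_of_isAffine _ ?_
  rw [pow_two, eq_bot_iff, Ideal.mul_le]
  intro x hx y hy
  rw [Ideal.mem_bot]
  refine eq_zero_of_flat_cover (x * y) fun v => ?_
  obtain ⟨B, WB, q, w, sB, b, hB, hq, hb, hw, hqc, hsB⟩ := H v
  have hk : ∀ z ∈ RingHom.ker s.appTop.hom, q.appTop z ∈ RingHom.ker sB.appTop.hom := fun z hz => by
    have e := congrArg (fun f : WB ⟶ V => f.appTop z) hw
    simp only [Scheme.Hom.comp_appTop, CommRingCat.comp_apply] at e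
    rw [RingHom.mem_ker.1 hz, map_zero] at e
    exact RingHom.mem_ker.2 e.symm
  refine ⟨B, q, b, hq, hb, ?_⟩
  have h2 := Groth.Agent.MorLib.ker_appTop_sq_eq_bot sB hsB
  have h3 : q.appTop x * q.appTop y ∈ RingHom.ker sB.appTop.hom ^ 2 :=
    pow_two (RingHom.ker sB.appTop.hom) ▸ Ideal.mul_mem_mul (hk x hx) (hk y hy)
  rw [h2, Ideal.mem_bot] at h3
  exact (map_mul _ _ _).trans h3

/-- A closed immersion into an affine scheme with local flat sections is an isomorphism. -/
theorem isIso_of_flat_pieces {W V : Scheme.{u}} (s : W ⟶ V) [IsClosedImmersion s] [IsAffine V]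
    (H : ∀ v : V, ∃ (B : Scheme.{u}) (q : B ⟶ V) (l : B ⟶ W) (b : B), Flat q ∧ q b = v ∧ l ≫ s = q) :
    IsIso s := by
  refine isIso_of_closedImmersion_of_ker_eq_bot s (Scheme.IdealSheafData.ext_of_isAffine ?_)
  simp only [Scheme.Hom.ker_apply, Scheme.IdealSheafData.ideal_bot, Pi.bot_apply]
  rw [eq_bot_iff]
  intro z hz
  rw [Ideal.mem_bot]
  refine eq_zero_of_flat_cover z fun v => ?_
  obtain ⟨B, q, l, b, hq, hb, hl⟩ := H v
  refine ⟨B, q, b, hq, hb, ?_⟩
  rw [← hl, Scheme.Hom.comp_appTop, CommRingCat.comp_apply]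
  exact (congrArg _ (RingHom.mem_ker.1 hz)).trans (map_zero _)

variable {Z U Z₁ : Sp S} {c : Z ⟶ U} {j : Z ⟶ Z₁} {k : Z₁ ⟶ U}

/-- Factoring through the first order neighbourhood, on a chart. -/
theorem factor_iff_sqZero (hN : IsInfNbhd 1 c j k) {B C WB : Over S} [IsAffine C.left] (β : B ⟶ C)
    {ci : (yon S).obj C ⟶ U} (hci : RepWith @Etale ci) {fstB : (yon S).obj WB ⟶ Z} {sndB : WB ⟶ B}
    (hP : IsPullback fstB ((yon S).map sndB) c ((yon S).map β ≫ ci)) :
    (∃ l : (yon S).obj B ⟶ Z₁, l ≫ k = (yon S).map β ≫ ci) ↔ sqZero sndB.left := by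
  let c0 := hN.2.1.rep.snd ci
  let k1 := hN.2.2.1.rep.snd ci
  have sq0 : IsPullback (hN.2.1.rep.fst ci) ((yon S).map c0) c ci := hN.2.1.rep.isPullback ci
  have sq1 : IsPullback (hN.2.2.1.rep.fst ci) ((yon S).map k1) k ci := hN.2.2.1.rep.isPullback ci
  have key : k1.left.ker = c0.left.ker ^ 2 := hN.2.2.2 ci _ _ _ _ ‹_› hci sq0 sq1
  have : IsClosedImmersion c0.left := hN.2.1.property_snd ci
  have : IsClosedImmersion k1.left := hN.2.2.1.property_snd ci
  obtain ⟨m, hm⟩ := (yon S).map_surjective (sq0.lift fstB ((yon S).map sndB ≫ (yon S).map β)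
    (by rw [hP.w, Category.assoc]))
  have sqm : IsPullback ((yon S).map m) ((yon S).map sndB) ((yon S).map c0) ((yon S).map β) :=
    IsPullback.of_right (by rw [hm, sq0.lift_fst]; exact hP) (by rw [hm, sq0.lift_snd]) sq0
  have sqS := (IsPullback.of_map (yon S) ((yon S).map_injective (by
    rw [Functor.map_comp, Functor.map_comp, sqm.w])) sqm).map (Over.forget S)
  have hker : sndB.left.ker = c0.left.ker.comap β.left := by
    rw [← Scheme.IdealSheafData.ker_fst_of_isClosedImmersion, show sndB.left =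
      sqS.flip.isoPullback.hom ≫ pullback.fst β.left c0.left from sqS.flip.isoPullback_hom_fst.symm,
      Scheme.Hom.ker_comp_of_isIso]
  have hk1 : k1.left.ker.comap β.left = sndB.left.ker * sndB.left.ker := by
    rw [key, pow_two, Groth.Agent.S3861.result, ← hker]
  change _ ↔ sndB.left.ker * sndB.left.ker = ⊥
  rw [← hk1, ← le_bot_iff, ← Scheme.IdealSheafData.le_map_iff_comap_le, Scheme.IdealSheafData.map_bot]
  constructor
  · rintro ⟨l, hl⟩
    obtain ⟨r, hr⟩ := (yon S).map_surjective (sq1.lift l ((yon S).map β) hl)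
    have : r ≫ k1 = β := (yon S).map_injective (by rw [Functor.map_comp, hr, sq1.lift_snd])
    rw [← this, Over.comp_left]
    exact Scheme.Hom.le_ker_comp _ _
  · intro h
    let r : B ⟶ hN.2.2.1.rep.pullback ci := Over.homMk (IsClosedImmersion.lift k1.left β.left h)
      (by rw [← Over.w k1, ← Category.assoc, IsClosedImmersion.lift_fac, Over.w])
    have hr : r ≫ k1 = β := Over.OverMorphism.ext (IsClosedImmersion.lift_fac _ _ _)
    refine ⟨(yon S).map r ≫ hN.2.2.1.rep.fst ci, ?_⟩
    rw [Category.assoc, sq1.w, ← Functor.map_comp_assoc, hr]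

theorem mono_closed {F G : Sp S} {f : F ⟶ G} (hf : RepWith @IsClosedImmersion f) : Mono f :=
  AlgSpPts.mono_of_repWith (repWith_mono (fun _ _ h hh => by
    have : IsClosedImmersion h := hh
    exact inferInstanceAs (Mono h)) _ hf)

theorem isUnivFOThick_infNbhd (hU : IsAlgSpace U) (hN : IsInfNbhd 1 c j k) : IsUnivFOThick c j k := by
  have := mono_closed hN.2.1
  have := mono_closed hN.2.2.1
  have sqj : IsPullback (𝟙 Z) j c k :=
    ⟨⟨by rw [hN.1, Category.id_comp]⟩, ⟨PullbackCone.IsLimit.mk _ (fun s => s.fst)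
      (fun s => Category.comp_id _)
      (fun s => (cancel_mono k).1 (by rw [Category.assoc, hN.1]; exact s.condition))
      (fun s m h1 _ => (Category.comp_id m).symm.trans h1)⟩⟩
  have hjc : RepWith @IsClosedImmersion j := repWith_of_isPullback sqj hN.2.1
  -- pieces of a pullback of `j`
  have piece : ∀ {V W : Over S} (g : (yon S).obj V ⟶ Z₁) (fst : (yon S).obj W ⟶ Z) (snd : W ⟶ V),
      IsPullback fst ((yon S).map snd) j g → ∀ v : V.left,
      ∃ (B WB : Over S) (q : B ⟶ V) (w : WB ⟶ W) (sB : WB ⟶ B) (b : B.left),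
        IsAffine B.left ∧ Flat q.left ∧ q.left b = v ∧ w.left ≫ snd.left = sB.left ≫ q.left ∧
          IsClosedImmersion sB.left ∧ sB.left.ker * sB.left.ker = ⊥ := by
    intro V W g fst snd hP v
    obtain ⟨B, C, q, β, ci, hB, hC, hq, hci, hβ, b, hb⟩ := exists_affine_piece hU (g ≫ k) v
    have hPc : IsPullback fst ((yon S).map snd) c (g ≫ k) := by
      have := hP.paste_horiz sqj
      rwa [Category.comp_id] at this
    let sB := hN.2.1.rep.snd ((yon S).map β ≫ ci)
    have sqB : IsPullback (hN.2.1.rep.fst ((yon S).map β ≫ ci)) ((yon S).map sB) c ((yon S).map β ≫ ci) :=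
      hN.2.1.rep.isPullback _
    obtain ⟨w, hw⟩ := (yon S).map_surjective (hPc.lift (hN.2.1.rep.fst ((yon S).map β ≫ ci))
      ((yon S).map sB ≫ (yon S).map q) (sqB.w.trans ((congrArg ((yon S).map sB ≫ ·) hβ).trans (Category.assoc _ _ _).symm)))
    refine ⟨B, _, q, w, sB, b, hB, hq, hb, ?_, hN.2.1.property_snd _,
      (factor_iff_sqZero hN β hci sqB).1 ⟨(yon S).map q ≫ g, by rw [Category.assoc, hβ]⟩⟩
    rw [← Over.comp_left, ← Over.comp_left]
    exact congrArg CommaMorphism.left ((yon S).map_injective (by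
      rw [Functor.map_comp, Functor.map_comp, hw, hPc.lift_snd]) : w ≫ snd = sB ≫ q)
  have hjs : RepWith @Surjective j := ⟨hjc.1, fun V W g fst snd hP => ⟨fun v => by
    obtain ⟨B, WB, q, w, sB, b, -, -, hb, hw, hsc, hsB⟩ := piece g fst snd hP v
    have hrange : Set.range sB.left = Set.univ := by
      rw [← sB.left.isClosedEmbedding.isClosed_range.closure_eq, ← Scheme.Hom.support_ker]
      have := congrArg Scheme.IdealSheafData.support hsB
      rw [Scheme.IdealSheafData.support_mul, sup_idem, Scheme.IdealSheafData.support_bot] at this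
      rw [this]
      rfl
    obtain ⟨wb, rfl⟩ := Set.range_eq_univ.1 hrange b
    exact ⟨w.left wb, ((Scheme.Hom.comp_apply w.left snd.left wb).symm.trans (congrArg (fun f => f wb) hw)).trans
      ((Scheme.Hom.comp_apply sB.left q.left wb).trans hb)⟩⟩⟩
  have hj : IsFOThickMor j := by
    refine ⟨⟨hjc.1, fun V W g fst snd hP => ⟨hjc.2 g fst snd hP, hjs.2 g fst snd hP⟩⟩, ?_⟩
    intro V W g fst snd hV _ hP
    have : IsClosedImmersion snd.left := hjc.2 g fst snd hP
    refine sqZero_of_flat_pieces snd.left fun v => ?_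
    obtain ⟨B, WB, q, w, sB, b, hB, hq, hb, hw, hsc, hsB⟩ := piece g fst snd hP v
    exact ⟨B.left, WB.left, q.left, w.left, sB.left, b, hB, hq, hb, hw, inferInstance, hsB⟩
  refine (isUnivFOThick_iff c j k hj hN.1).2 fun T T' t hT' ht a b w => ?_
  let s := hN.2.2.1.rep.snd b
  have sq1 : IsPullback (hN.2.2.1.rep.fst b) ((yon S).map s) k b := hN.2.2.1.rep.isPullback b
  have : IsClosedImmersion s.left := hN.2.2.1.property_snd b
  have : IsIso s.left := by
    refine isIso_of_flat_pieces s.left fun v => ?_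
    obtain ⟨B, C, q, β, ci, hB, hC, hq, hci, hβ, b', hb'⟩ := exists_affine_piece hU b v
    let sB := hN.2.1.rep.snd ((yon S).map β ≫ ci)
    have sqB : IsPullback (hN.2.1.rep.fst ((yon S).map β ≫ ci)) ((yon S).map sB) c ((yon S).map β ≫ ci) :=
      hN.2.1.rep.isPullback _
    have : IsClosedImmersion sB.left := hN.2.1.property_snd _
    let P := pullback t q
    let tB : P ⟶ B := pullback.snd t q
    have sqP : IsPullback ((yon S).map (pullback.fst t q)) ((yon S).map tB) ((yon S).map t) ((yon S).map q) :=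
      (IsPullback.of_hasPullback t q).map (yon S)
    have htB := isFirstOrderThickening_of_isFOThickMor_yon_map hB
      (isFOThickMor_baseChange (IsAlgSpace.yon_obj T') ht sqP)
    obtain ⟨l0, hl0⟩ := (yon S).map_surjective (sqB.lift ((yon S).map (pullback.fst t q) ≫ a) ((yon S).map tB)
      (by rw [Category.assoc, ← w, sqP.w_assoc, ← hβ]))
    have hl0' : l0 ≫ sB = tB := (yon S).map_injective (by rw [Functor.map_comp, hl0, sqB.lift_snd])
    have hle : sB.left.ker ≤ tB.left.ker := by
      rw [← hl0', Over.comp_left]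
      exact Scheme.Hom.le_ker_comp _ _
    have hsz : sqZero sB.left := le_bot_iff.1 ((mul_le_mul' hle hle).trans htB.2.le)
    obtain ⟨l, hl⟩ := (factor_iff_sqZero hN β hci sqB).2 hsz
    obtain ⟨r, hr⟩ := (yon S).map_surjective (sq1.lift l ((yon S).map q) (by rw [hl, hβ]))
    refine ⟨B.left, q.left, r.left, b', hq, hb', ?_⟩
    rw [← Over.comp_left]
    exact congrArg CommaMorphism.left ((yon S).map_injective (by
      rw [Functor.map_comp, hr, sq1.lift_snd]) : r ≫ s = q)
  have : IsIso ((Over.forget S).map s) := ‹IsIso s.left›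
  have : IsIso s := isIso_of_reflects_iso s (Over.forget S)
  have hl : ((yon S).map (inv s) ≫ hN.2.2.1.rep.fst b) ≫ k = b := by
    rw [Category.assoc, sq1.w, ← Functor.map_comp_assoc, IsIso.inv_hom_id, CategoryTheory.Functor.map_id,
      Category.id_comp]
  refine ⟨(yon S).map (inv s) ≫ hN.2.2.1.rep.fst b, ⟨?_, hl⟩, fun y hy => ?_⟩
  · rw [← cancel_mono k, Category.assoc, hl, Category.assoc, hN.1, w]
  · rw [← cancel_mono k, hy.2, hl]

end Groth.Agent.AlgSpDM
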