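import Groth.Agent.AlgSpDM.AffChart
import Groth.Agent.AlgSpDec.Glue
import Groth.Agent.AlgSpPts.Misc
import Groth.Agent.Pi1X.UnivInj
import Mathlib.RingTheory.Flat.Basic
import Mathlib.Algebra.TrivSqZeroExt.Basic

/-!
# Quasi-compact monomorphisms with universally injective functions are isomorphisms
-/

set_option backward.isDefEq.respectTransparency false
set_option backward.isDefEq.respectTransparency.types false

universe u

open CategoryTheory CategoryTheory.Limits AlgebraicGeometry Opposite AlgSp Groth.Agent.AlgSpLib TensorProduct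

namespace Groth.Agent.AlgSpDM

/-- Universal injectivity is tested on algebras. -/
theorem univInjective_of_algebras {A B : Type u} [CommRing A] [CommRing B] [Algebra A B]
    (h : ∀ (A' : Type u) [CommRing A'] [Algebra A A'], ∀ s : A', s ⊗ₜ[A] (1 : B) = 0 → s = 0) :
    Pi1.UnivInjective A B := by
  intro M _ _
  letI : Module Aᵐᵒᵖ M := Module.compHom M ((RingHom.id A).fromOpposite mul_comm)
  haveI : IsCentralScalar A M := ⟨fun _ _ => rfl⟩
  rw [injective_iff_map_eq_zero]
  intro z hz
  obtain ⟨m, rfl⟩ : ∃ m : M, m ⊗ₜ[A] (1 : A) = z :=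
    ⟨TensorProduct.rid A M z, (TensorProduct.rid A M).injective (by simp)⟩
  simp only [LinearMap.lTensor_tmul, Algebra.linearMap_apply, map_one] at hz
  have h1 := congrArg (LinearMap.rTensor B (TrivSqZeroExt.inrHom A M)) hz
  rw [LinearMap.rTensor_tmul, map_zero] at h1
  have h2 := h (TrivSqZeroExt A M) _ h1
  rw [TrivSqZeroExt.inr_injective (h2.trans (TrivSqZeroExt.inr_zero A).symm), zero_tmul]

/-- A map of affine schemes with etale self product and universally injective functions is fppf. -/
theorem fppf_specMap {A B : Type u} [CommRing A] [CommRing B] [Algebra A B]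
    (he : Etale (pullback.fst (Spec.map (CommRingCat.ofHom (algebraMap A B)))
      (Spec.map (CommRingCat.ofHom (algebraMap A B)))))
    (h : ∀ (A' : Type u) [CommRing A'] [Algebra A A'], ∀ s : A', s ⊗ₜ[A] (1 : B) = 0 → s = 0) :
    fppf (Spec.map (CommRingCat.ofHom (algebraMap A B))) := by
  have hU := univInjective_of_algebras h
  have hBB : Algebra.Etale B (B ⊗[A] B) := by
    have := (MorphismProperty.cancel_left_of_respectsIso @Etale (pullbackSpecIso A B B).inv _).2 he
    rw [pullbackSpecIso_inv_fst, HasRingHomProperty.Spec_iff (P := @Etale)] at this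
    exact RingHom.etale_algebraMap.1 this
  have := Pi1X.etale_descends hU B
  have hET : Etale (Spec.map (CommRingCat.ofHom (algebraMap A B))) :=
    (HasRingHomProperty.Spec_iff (P := @Etale)).2 (RingHom.etale_algebraMap.2 this)
  have hS : Surjective (Spec.map (CommRingCat.ofHom (algebraMap A B))) := by
    refine ⟨fun q => ?_⟩
    have hn : Nontrivial (q.asIdeal.ResidueField ⊗[A] B) :=
      ⟨⟨_, 0, fun e => one_ne_zero (h q.asIdeal.ResidueField 1 e)⟩⟩
    exact (PrimeSpectrum.nontrivial_iff_mem_rangeComap (R := A) (S := B) q).1 hn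
  exact fppf_of _

variable {S : Scheme.{u}} {F G : Sp S}

theorem exists_fppf_lift_spec {A : Type u} [CommRing A] {str : Spec (CommRingCat.of A) ⟶ S} {f : F ⟶ G} [Mono f]
    (hqc : IsQuasiCompactMor f)
    (hinj : ∀ (T : Over S) (g : (yon S).obj T ⟶ G) (P : Sp S) (fst : P ⟶ F)
      (snd : P ⟶ (yon S).obj T), IsPullback fst snd f g → ∀ s : Γ(T.left, ⊤),
        (∀ (W : Over S) (a : (yon S).obj W ⟶ P) (c : W ⟶ T),
          a ≫ snd = (yon S).map c → c.left.appTop s = 0) → s = 0)
    (g : (yon S).obj (Over.mk str) ⟶ G) :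
    ∃ (T' : Over S) (φ : T' ⟶ Over.mk str) (l : (yon S).obj T' ⟶ F), fppf φ.left ∧ l ≫ f = (yon S).map φ ≫ g := by
  let T : Over S := Over.mk str
  let sT : pullback f g ⟶ (yon S).obj T := pullback.snd f g
  have : IsAffine T.left := inferInstanceAs (IsAffine (Spec _))
  obtain ⟨U₀, p₀, hU₀, he₀, hs₀⟩ := exists_affine_chart
    (hqc (IsAlgSpace.yon_obj T) ((AlgSpPts.isQuasiCompactSp_yon_iff T).2 inferInstance) g _ _
      (IsPullback.of_hasPullback f g))
  obtain ⟨π₀, hπ₀⟩ := (yon S).map_surjective (p₀ ≫ sT)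
  -- normalise the chart to a spectrum over `A`
  let φ : CommRingCat.of A ⟶ Γ(U₀.left, ⊤) := Spec.preimage (U₀.left.isoSpec.inv ≫ π₀.left)
  letI : Algebra A Γ(U₀.left, ⊤) := φ.hom.toAlgebra
  let U : Over S := Over.mk (Spec.map (CommRingCat.ofHom (algebraMap A Γ(U₀.left, ⊤))) ≫ str)
  let π : U ⟶ T := Over.homMk (Spec.map (CommRingCat.ofHom (algebraMap A Γ(U₀.left, ⊤)))) rfl
  have hπl : π.left = U₀.left.isoSpec.inv ≫ π₀.left := Spec.map_preimage _
  let i : U ⟶ U₀ := Over.homMk U₀.left.isoSpec.inv (by
    show U₀.left.isoSpec.inv ≫ U₀.hom = π.left ≫ T.hom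
    rw [hπl, Category.assoc, Over.w π₀])
  have : IsIso i := by
    have : IsIso ((Over.forget S).map i) := inferInstanceAs (IsIso U₀.left.isoSpec.inv)
    exact isIso_of_reflects_iso i (Over.forget S)
  let p : (yon S).obj U ⟶ pullback f g := (yon S).map i ≫ p₀
  have he : RepWith @Etale p := MorphismProperty.RespectsIso.precomp _ _ _ he₀
  have hs : RepWith @Surjective p := MorphismProperty.RespectsIso.precomp _ _ _ hs₀
  have hpπ : p ≫ sT = (yon S).map π := by
    rw [Category.assoc, ← hπ₀, ← Functor.map_comp]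
    exact congrArg _ (Over.OverMorphism.ext hπl.symm)
  refine ⟨U, π, p ≫ pullback.fst f g, ?_, by rw [Category.assoc, pullback.condition, ← Category.assoc, hpπ]⟩
  apply fppf_specMap
  · -- the two projections of the self product are etale
    let Q : Over S := Over.mk (pullback.fst π.left π.left ≫ U.hom)
    let q₁ : Q ⟶ U := Over.homMk (pullback.fst π.left π.left) rfl
    let q₂ : Q ⟶ U := Over.homMk (pullback.snd π.left π.left) (by
      show _ = pullback.fst π.left π.left ≫ U.hom
      rw [← Over.w π, ← Category.assoc, ← Category.assoc, pullback.condition])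
    have sq : IsPullback q₁ q₂ π π :=
      IsPullback.of_map (Over.forget S) (Over.OverMorphism.ext pullback.condition)
        (IsPullback.of_hasPullback π.left π.left)
    have sq' := sq.map (yon S)
    rw [← hpπ] at sq'
    have sq'' : IsPullback ((yon S).map q₁) ((yon S).map q₂) p p :=
      ⟨⟨(cancel_mono sT).1 (by simpa only [Category.assoc] using sq'.w)⟩,
        ⟨PullbackCone.IsLimit.mk _ (fun s => sq'.lift s.fst s.snd (by rw [reassoc_of% s.condition]))
          (fun s => sq'.lift_fst _ _ _) (fun s => sq'.lift_snd _ _ _)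
          fun s m h1 h2 => sq'.hom_ext (by rw [sq'.lift_fst]; exact h1) (by rw [sq'.lift_snd]; exact h2)⟩⟩
    exact he.property p _ q₁ sq''.flip
  · intro A' _ _ s hs0
    let T' : Over S := Over.mk (Spec.map (CommRingCat.ofHom (algebraMap A A')) ≫ str)
    let τ : T' ⟶ T := Over.homMk (Spec.map (CommRingCat.ofHom (algebraMap A A'))) rfl
    let B := Γ(U₀.left, ⊤)
    let U' : Over S :=
      Over.mk (Spec.map (CommRingCat.ofHom (Algebra.TensorProduct.includeLeftRingHom : A' →+* A' ⊗[A] B)) ≫ T'.hom)
    let u₁ : U' ⟶ T' := Over.homMk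
      (Spec.map (CommRingCat.ofHom (Algebra.TensorProduct.includeLeftRingHom : A' →+* A' ⊗[A] B))) rfl
    have hpo : IsPullback u₁.left
        (Spec.map (CommRingCat.ofHom ((Algebra.TensorProduct.includeRight : B →ₐ[A] A' ⊗[A] B).toRingHom)))
        τ.left π.left := isPullback_SpecMap_of_isPushout _ _ _ _ (CommRingCat.isPushout_tensorProduct A A' B)
    let u₂ : U' ⟶ U := Over.homMk
      (Spec.map (CommRingCat.ofHom ((Algebra.TensorProduct.includeRight : B →ₐ[A] A' ⊗[A] B).toRingHom))) (by
      show _ ≫ U.hom = u₁.left ≫ T'.hom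
      rw [← Over.w π, ← Category.assoc, ← hpo.w, Category.assoc, Over.w τ])
    have sqU : IsPullback u₂ u₁ π τ :=
      IsPullback.of_map (Over.forget S) (Over.OverMorphism.ext hpo.w.symm) hpo.flip
    let P' := pullback sT ((yon S).map τ)
    have sqP := IsPullback.of_hasPullback sT ((yon S).map τ)
    let a' : (yon S).obj U' ⟶ P' := pullback.lift ((yon S).map u₂ ≫ p) ((yon S).map u₁) (by
      rw [Category.assoc, hpπ, ← Functor.map_comp, ← Functor.map_comp, sqU.w])
    have sqa : IsPullback ((yon S).map u₂) a' p (pullback.fst sT ((yon S).map τ)) := by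
      refine IsPullback.of_bot ?_ (pullback.lift_fst _ _ _).symm sqP
      rw [pullback.lift_snd, hpπ]
      exact sqU.map (yon S)
    have ha'e : RepWith @Etale a' := repWith_of_isPullback sqa he
    have ha's : RepWith @Surjective a' := repWith_of_isPullback sqa hs
    have h0 := hinj T' ((yon S).map τ ≫ g) P' _ _ (sqP.paste_horiz (IsPullback.of_hasPullback f g))
      ((Scheme.ΓSpecIso (CommRingCat.of A')).inv.hom s) fun W a c hc => ?_
    · simpa using congrArg (Scheme.ΓSpecIso (CommRingCat.of A')).hom.hom h0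
    · have sqW := ha'e.rep.isPullback' a
      let v : _ ⟶ W := ha'e.rep.snd a
      have : Etale v.left := ha'e.property_snd a
      have : Surjective v.left := ha's.property _ _ _ (ha'e.rep.isPullback a)
      have hv : v ≫ c = ha'e.rep.fst' a ≫ u₁ := (yon S).map_injective (by
        rw [Functor.map_comp, Functor.map_comp, ← hc, ← show a' ≫ pullback.snd sT ((yon S).map τ) = (yon S).map u₁ from pullback.lift_snd _ _ _,
          ← Category.assoc, ← Category.assoc, sqW.w])
      refine appTop_injective v.left ?_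
      rw [map_zero]
      have hu : u₁.left.appTop.hom ((Scheme.ΓSpecIso (CommRingCat.of A')).inv.hom s) = 0 := by
        have := congrArg (fun k => k.hom s) (Scheme.ΓSpecIso_inv_naturality
          (CommRingCat.ofHom (Algebra.TensorProduct.includeLeftRingHom : A' →+* A' ⊗[A] B)))
        refine this.symm.trans ?_
        show (Scheme.ΓSpecIso (CommRingCat.of (A' ⊗[A] B))).inv.hom (s ⊗ₜ[A] (1 : B)) = 0
        rw [hs0, map_zero]
      have hvc := congrArg (fun k : _ ⟶ T' => k.left.appTop.hom ((Scheme.ΓSpecIso (CommRingCat.of A')).inv.hom s)) hv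
      simp only [Over.comp_left, Scheme.Hom.comp_appTop, CommRingCat.hom_comp, RingHom.comp_apply] at hvc
      rw [hu, map_zero] at hvc
      exact hvc

/-- A quasi-compact monomorphism along which functions stay injective after every base change is an isomorphism. -/
theorem isIso_of_qc_mono_of_injective {f : F ⟶ G} [Mono f] (hqc : IsQuasiCompactMor f)
    (hinj : ∀ (T : Over S) (g : (yon S).obj T ⟶ G) (P : Sp S) (fst : P ⟶ F)
      (snd : P ⟶ (yon S).obj T), IsPullback fst snd f g → ∀ s : Γ(T.left, ⊤),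
        (∀ (W : Over S) (a : (yon S).obj W ⟶ P) (c : W ⟶ T),
          a ≫ snd = (yon S).map c → c.left.appTop s = 0) → s = 0) : IsIso f := by
  have : Sheaf.IsLocallySurjective f := by
    refine ⟨fun {T} s => ?_⟩
    let g : (yon S).obj T ⟶ G := (J S).uliftYonedaEquiv.symm s
    let 𝒰 := T.left.affineCover
    refine (J S).transitive (AlgSpDec.mem_J_of_openCover 𝒰 (Sieve.ofArrows _
      fun i => CategoryTheory.Over.homMk (U := Over.mk (𝒰.f i ≫ T.hom)) (𝒰.f i) rfl)
      fun i => Sieve.ofArrows_mk _ _ i) _ fun T₁ ψ hψ => ?_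
    obtain ⟨i, k, rfl⟩ := (Sieve.mem_ofArrows_iff _ _ ψ).1 hψ
    rw [Sieve.pullback_comp]
    refine (J S).pullback_stable k ?_
    obtain ⟨T', φ, l, hφ, hl⟩ := exists_fppf_lift_spec hqc hinj
      (str := 𝒰.f i ≫ T.hom) ((yon S).map (CategoryTheory.Over.homMk (𝒰.f i) rfl) ≫ g)
    refine mem_J_of_fppf φ hφ _ ⟨(J S).uliftYonedaEquiv l, ?_⟩
    have h1 := uliftYonedaEquiv_precomp (φ ≫ CategoryTheory.Over.homMk (V := T) (𝒰.f i) rfl) g
    rw [Equiv.apply_symm_apply, Functor.map_comp, Category.assoc, ← hl,
      GrothendieckTopology.uliftYonedaEquiv_comp] at h1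
    exact h1.symm
  exact isIso_of_mono_of_locallySurjective f

end Groth.Agent.AlgSpDM
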