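import Groth.Agent.AlgSpLib.EtLocalInst
import Mathlib.AlgebraicGeometry.Morphisms.LocalFlatDescent
import Mathlib.AlgebraicGeometry.Morphisms.QuasiFinite
import Mathlib.AlgebraicGeometry.Morphisms.Etale
import Mathlib.RingTheory.Artinian.Ring

/-!
# Schemes with étale self fibre product over an Artinian base
-/

set_option backward.isDefEq.respectTransparency false
set_option backward.isDefEq.respectTransparency.types false

universe u

open CategoryTheory CategoryTheory.Limits AlgebraicGeometry TensorProduct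

namespace Groth.Agent.AlgSpDM

theorem finite_of_finite_residueField_tensor {A B : Type u} [CommRing A] [IsArtinianRing A] [IsLocalRing A]
    [CommRing B] [Algebra A B]
    [Module.Finite (IsLocalRing.ResidueField A) (IsLocalRing.ResidueField A ⊗[A] B)] : Module.Finite A B := by
  let I := IsLocalRing.maximalIdeal A
  have : Module.Finite A (IsLocalRing.ResidueField A ⊗[A] B) := Module.Finite.trans (IsLocalRing.ResidueField A) _
  have : Module.Finite A ((A ⧸ I) ⊗[A] B) := this
  have : Module.Finite A (B ⧸ (I • ⊤ : Submodule A B)) :=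
    Module.Finite.equiv (TensorProduct.quotTensorEquivQuotSMul B I)
  obtain ⟨n, f, hf⟩ := Module.Finite.exists_fin' A (B ⧸ (I • ⊤ : Submodule A B))
  choose b hb using fun i => Submodule.mkQ_surjective (I • ⊤ : Submodule A B) (f (Pi.single i 1))
  let N := Submodule.span A (Set.range b)
  have h1 : (⊤ : Submodule A B) ≤ N ⊔ I • ⊤ := by
    intro x _
    obtain ⟨c, hc⟩ := hf (Submodule.mkQ _ x)
    have hfc : f c = Submodule.mkQ _ (∑ i, c i • b i) := by
      conv_lhs => rw [pi_eq_sum_univ' c]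
      simp only [map_sum, map_smul, hb]
    have : x - ∑ i, c i • b i ∈ (I • ⊤ : Submodule A B) := by
      rw [← Submodule.Quotient.mk_eq_zero, Submodule.Quotient.mk_sub, sub_eq_zero]
      exact hc.symm.trans hfc
    exact Submodule.mem_sup.2 ⟨_, Submodule.sum_mem _ fun i _ =>
      N.smul_mem _ (Submodule.subset_span ⟨i, rfl⟩), _, this, add_sub_cancel _ _⟩
  have h2 : ∀ m : ℕ, (⊤ : Submodule A B) ≤ N ⊔ I ^ m • ⊤ := by
    intro m
    induction m with
    | zero => rw [pow_zero, Ideal.one_eq_top, Submodule.top_smul]; exact le_sup_right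
    | succ m ih =>
      refine ih.trans (sup_le le_sup_left ?_)
      refine (Submodule.smul_mono le_rfl h1).trans ?_
      rw [Submodule.smul_sup, ← Submodule.smul_assoc, pow_succ]
      exact sup_le_sup Submodule.smul_le_right le_rfl
  obtain ⟨m, hm⟩ : IsNilpotent I := by
    have := IsArtinianRing.isNilpotent_jacobson_bot (R := A)
    rwa [IsLocalRing.jacobson_eq_maximalIdeal ⊥ bot_ne_top] at this
  have := h2 m
  rw [hm, Submodule.zero_eq_bot, Submodule.bot_smul, sup_bot_eq] at this
  exact ⟨⟨(Set.finite_range b).toFinset, by rw [Set.Finite.coe_toFinset]; exact top_le_iff.1 this⟩⟩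

theorem etale_of_etale_pullback_field {K : Type u} [Field K] {P : Scheme.{u}} [IsAffine P]
    (φ : P ⟶ Spec (CommRingCat.of K)) [Etale (pullback.fst φ φ)] : Etale φ := by
  rcases isEmpty_or_nonempty ↥P with hP | hP
  · infer_instance
  · have : Surjective φ := ⟨fun y => ⟨hP.some, Subsingleton.elim (α := PrimeSpectrum K) _ _⟩⟩
    have : IsIntegral (Spec (CommRingCat.of K)) := inferInstance
    refine MorphismProperty.of_pullback_fst_of_descendsAlong (P := @Etale)
      (Q := @Surjective ⊓ @Flat ⊓ @QuasiCompact) (f := φ) (g := φ) ⟨⟨‹_›, ?_⟩, inferInstance⟩ ‹_›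
    exact inferInstance

theorem isFinite_of_etale_pullback_local {A B : CommRingCat.{u}} [IsArtinianRing A] [IsLocalRing A]
    (φ : A ⟶ B) [Etale (pullback.fst (Spec.map φ) (Spec.map φ))] : IsFinite (Spec.map φ) := by
  let κ := IsLocalRing.ResidueField A
  algebraize [φ.hom]
  let ι₀ : Spec (CommRingCat.of κ) ⟶ Spec A := Spec.map (CommRingCat.ofHom (algebraMap A κ))
  let φ₀ := pullback.fst ι₀ (Spec.map φ)
  let q := pullback.snd ι₀ (Spec.map φ)
  have : Mono ι₀ := by
    have : IsClosedImmersion ι₀ := IsClosedImmersion.spec_of_surjective _ Ideal.Quotient.mk_surjective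
    infer_instance
  have sq : IsPullback q φ₀ (Spec.map φ) ι₀ := (IsPullback.of_hasPullback _ _).flip
  have hw : q ≫ Spec.map φ = φ₀ ≫ ι₀ := sq.w
  have outer := (IsPullback.of_hasPullback φ₀ φ₀).flip.paste_horiz sq
  let m : pullback φ₀ φ₀ ⟶ pullback (Spec.map φ) (Spec.map φ) :=
    pullback.lift (pullback.fst φ₀ φ₀ ≫ q) (pullback.snd φ₀ φ₀ ≫ q)
      (by rw [Category.assoc, Category.assoc, hw, ← Category.assoc, pullback.condition, Category.assoc])
  have left : IsPullback m (pullback.fst φ₀ φ₀) (pullback.fst (Spec.map φ) (Spec.map φ)) q := by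
    refine IsPullback.of_right ?_ (pullback.lift_fst _ _ _) (IsPullback.of_hasPullback _ _).flip
    rw [pullback.lift_snd, hw]
    exact outer
  have : Etale (pullback.fst φ₀ φ₀) := MorphismProperty.of_isPullback left ‹_›
  have : IsAffine (pullback ι₀ (Spec.map φ)) := isAffine_of_isAffineHom φ₀
  have : Etale φ₀ := etale_of_etale_pullback_field φ₀
  have : LocallyQuasiFinite φ₀ := inferInstance
  have hfin : IsFinite φ₀ := IsFinite.of_locallyQuasiFinite φ₀
  have h2 : IsFinite (Spec.map (CommRingCat.ofHom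
      (Algebra.TensorProduct.includeLeftRingHom : κ →+* κ ⊗[A] B))) := by
    rw [← pullbackSpecIso_inv_fst A κ B]
    have : IsFinite (pullback.fst (Spec.map (CommRingCat.ofHom (algebraMap A κ)))
        (Spec.map (CommRingCat.ofHom (algebraMap A B)))) := hfin
    infer_instance
  rw [IsFinite.SpecMap_iff] at h2 ⊢
  have : Module.Finite κ (κ ⊗[A] B) := RingHom.finite_algebraMap.1 h2
  have := finite_of_finite_residueField_tensor (A := A) (B := B)
  exact RingHom.finite_algebraMap.2 this

theorem isLocalRing_of_unique_point {X : Scheme.{u}} {V : X.Opens} (hV : IsAffineOpen V) {x : ↥X}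
    (hx : (V : Set ↥X) = {x}) : IsLocalRing ↥Γ(X, V) := by
  have : Subsingleton ↥V := ⟨fun a b => Subtype.ext (by
    have ha := (Set.ext_iff.1 hx a.1).1 a.2; have hb := (Set.ext_iff.1 hx b.1).1 b.2
    simp_all)⟩
  have : Subsingleton ↥V.toScheme := ‹Subsingleton ↥V›
  have hP : Subsingleton (PrimeSpectrum ↥Γ(X, V)) :=
    Function.Injective.subsingleton (f := (hV.isoSpec.inv : _ → ↥V.toScheme)) hV.isoSpec.inv.homeomorph.injective
  have : Nontrivial ↥Γ(X, V) :=
    (PrimeSpectrum.nonempty_iff_nontrivial).1 ⟨hV.primeIdealOf ⟨x, (Set.ext_iff.1 hx x).2 rfl⟩⟩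
  obtain ⟨M, hM⟩ := Ideal.exists_maximal ↥Γ(X, V)
  exact IsLocalRing.of_unique_max_ideal ⟨M, hM, fun N hN => congrArg PrimeSpectrum.asIdeal
    (Subsingleton.elim (⟨N, hN.isPrime⟩ : PrimeSpectrum ↥Γ(X, V)) ⟨M, hM.isPrime⟩)⟩

theorem lqft_of_etale_pullback {U W : Scheme.{u}} (φ : U ⟶ W) [IsLocallyArtinian W]
    [Etale (pullback.fst φ φ)] : LocallyQuasiFinite φ ∧ LocallyOfFiniteType φ := by
  have key : ∀ u : ↥U, ∃ V : U.Opens, u ∈ V ∧ LocallyQuasiFinite (V.ι ≫ φ) ∧ LocallyOfFiniteType (V.ι ≫ φ) := by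
    intro u
    obtain ⟨W', hW', hwW, hle⟩ := exists_isAffineOpen_mem_and_subset (U := (⟨{φ u}, isOpen_discrete _⟩ : W.Opens))
      (x := φ u) rfl
    have hW1 : (W' : Set ↥W) = {φ u} := le_antisymm hle (Set.singleton_subset_iff.2 hwW)
    obtain ⟨V, hV, huV, hVle⟩ := exists_isAffineOpen_mem_and_subset (U := φ ⁻¹ᵁ W') (x := u) hwW
    refine ⟨V, huV, ?_⟩
    have := isLocalRing_of_unique_point hW' hW1
    have : IsArtinianRing ↥Γ(W, W') := IsLocallyArtinian.isArtinianRing_presheaf_obj ⟨W', hW'⟩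
    let ψ := φ.appLE W' V hVle
    have hψ : Spec.map ψ ≫ hW'.fromSpec = hV.fromSpec ≫ φ := IsAffineOpen.SpecMap_appLE_fromSpec φ hW' hV hVle
    let μ := pullback.map (Spec.map ψ) (Spec.map ψ) φ φ hV.fromSpec hV.fromSpec hW'.fromSpec hψ hψ
    have hμ : μ ≫ pullback.fst φ φ = pullback.fst (Spec.map ψ) (Spec.map ψ) ≫ hV.fromSpec :=
      pullback.lift_fst _ _ _
    have : Etale (pullback.fst (Spec.map ψ) (Spec.map ψ) ≫ hV.fromSpec) := hμ ▸ inferInstance
    have : Etale (pullback.fst (Spec.map ψ) (Spec.map ψ)) := .of_comp _ hV.fromSpec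
    have := isFinite_of_etale_pullback_local ψ
    have he : V.ι ≫ φ = hV.isoSpec.hom ≫ Spec.map ψ ≫ hW'.fromSpec := by
      rw [hψ, IsAffineOpen.fromSpec, Category.assoc, Iso.hom_inv_id_assoc]
    rw [he]
    exact ⟨inferInstance, inferInstance⟩
  choose V hV hV1 hV2 using key
  have hc : iSup V = ⊤ := top_le_iff.1 fun u _ => TopologicalSpace.Opens.mem_iSup.2 ⟨u, hV u⟩
  exact ⟨(IsZariskiLocalAtSource.iff_of_iSup_eq_top (P := @LocallyQuasiFinite) V hc).2 hV1,
    (IsZariskiLocalAtSource.iff_of_iSup_eq_top (P := @LocallyOfFiniteType) V hc).2 hV2⟩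

end Groth.Agent.AlgSpDM
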