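import Groth.Agent.AlgSpDM.NormIsoLocal
import Groth.Agent.AlgSpDM.FibreCond
import Groth.Agent.AlgSpDec.EtCompact
import Groth.Agent.AlgSpDec.LimQuasiFinite
import Groth.Agent.AlgSpLib.OpenMor
import Groth.Agent.AlgSpLib.EtaleSmoothLocal
import Groth.Agent.AlgSpPts.OpenSub

/-!
# The open subspace of the normalization over the quasi-finite locus
-/

set_option autoImplicit false
set_option backward.isDefEq.respectTransparency false
set_option backward.isDefEq.respectTransparency.types false
set_option maxHeartbeats 800000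

universe u

open CategoryTheory CategoryTheory.Limits AlgebraicGeometry AlgSp
open Groth.Agent.AlgSpLib Groth.Agent.AlgSpPts Groth.Agent.AlgSpDec Groth.Agent.RelNorm

namespace Groth.Agent.AlgSpDM.NormIso

/-- An etale morphism followed by an integral one is locally quasi-finite when it is locally of finite type. -/
theorem lqf_etale_comp_integral {U N V : Scheme.{u}} (l : U ⟶ N) (ν : N ⟶ V) [Etale l] [IsIntegralHom ν]
    [LocallyOfFiniteType (l ≫ ν)] : LocallyQuasiFinite (l ≫ ν) := by
  have key : ∀ (v : ↥V) (a b : ↥((l ≫ ν).fiber v)), a ⤳ b → a = b := fun v a b h => by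
    apply ((l ≫ ν).fiberι v).isEmbedding.injective
    have h1 := h.map ((l ≫ ν).fiberι v).continuous
    have h2 : ν (l ((l ≫ ν).fiberι v a)) = ν (l ((l ≫ ν).fiberι v b)) := by
      rw [← Scheme.Hom.comp_apply, ← Scheme.Hom.comp_apply l ν, FibreCond.map_fiberι, FibreCond.map_fiberι]
    exact eq_of_specializes_of_etale l (eq_of_specializes_of_isIntegralHom ν (h1.map l.continuous) h2).symm h1
  refine locallyQuasiFinite_iff_isDiscrete_preimage_singleton.2 fun v => ?_
  obtain ⟨_, _⟩ := FibreCond.fiber_lnj (l ≫ ν) v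
  have : DiscreteTopology ↥((l ≫ ν).fiber v) := discreteTopology_iff_isOpen_singleton.2 fun z =>
    FieldDim.isOpen_singleton_of_closed
      (isClosed_of_closure_subset fun z' hz' => (key v z z' (specializes_iff_mem_closure.2 hz')).symm)
      fun t ht => key v t z ht
  rw [← Scheme.Hom.range_fiberι (l ≫ ν) v, ← Set.image_univ]
  exact (isDiscrete_univ_iff.mpr ‹_›).image ((l ≫ ν).fiberι v).isEmbedding.toIsInducing

variable {S : Scheme.{u}}

/-- A factorization through an etale morphism to an integral space is quasi-finite at every point. -/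
theorem qfAt_of_iso {X Y Y' U' P : Sp S} (hY' : IsAlgSpace Y')
    {f : X ⟶ Y} (hft : LocP @LocallyOfFiniteType f) {ν : Y' ⟶ Y} (hν : IsIntegralMor ν) {f' : X ⟶ Y'}
    (hc : f' ≫ ν = f) {j : U' ⟶ Y'} (hj : RepWith @IsOpenImmersion j) (hU' : IsAlgSpace U') {fst : P ⟶ X}
    {snd : P ⟶ U'} (sq : IsPullback fst snd f' j) [IsIso snd] (hY : IsAlgSpace Y) (z : Points P) :
    AlgSpMor.QfAt f (Points.map fst z) := by
  obtain ⟨W₀, a₀, t, -, ha₀, ht⟩ := exists_affine_chart_at hU' (Points.map snd z)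
  have hfst : RepWith @IsOpenImmersion fst := repWith_of_isPullback sq.flip hj
  let a : (yon S).obj W₀ ⟶ X := a₀ ≫ inv snd ≫ fst
  have het : ∀ {A B : Scheme.{u}} (e : A ⟶ B), IsOpenImmersion e → Etale e := fun e _ => inferInstanceAs (Etale e)
  have ha : RepWith @Etale a :=
    repWith_comp ha₀ (repWith_comp (repWith_of_isIso _ _) (repWith_mono (fun _ _ e h => het e h) _ hfst))
  have hat : Points.ofPt a t = Points.map fst z := by
    rw [← Points.map_ofPt, ht, ← Points.map_comp, IsIso.hom_inv_id_assoc]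
  obtain ⟨V, b, v, hV, hb, hv⟩ := exists_affine_chart_at hY (Points.map f (Points.ofPt a t))
  -- refine the chart over `b`
  obtain ⟨O, o, s, -, ho, hs⟩ : ∃ (O : Over S) (o : (yon S).obj O ⟶ pullback (a ≫ f) b) (s : ↥O.left),
      IsAffine O.left ∧ RepWith @Etale o ∧ Points.map (pullback.fst (a ≫ f) b) (Points.ofPt o s) =
        Points.ofScheme W₀ t := by
    obtain ⟨p, hp, -⟩ := exists_point_of_isPullback (IsPullback.of_hasPullback (a ≫ f) b)
      (x := Points.ofScheme W₀ t) (y := Points.ofScheme V v) (by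
        rw [← Points.ofPt_eq_map_ofScheme, ← Points.ofPt_eq_map_ofScheme, hv, Points.map_ofPt])
    obtain ⟨O, o, s, hO, ho, hs⟩ := exists_affine_chart_at
      (isAlgSpace_pullback (IsAlgSpace.yon_obj W₀) (IsAlgSpace.yon_obj V) hY (a ≫ f) b) p
    exact ⟨O, o, s, hO, ho, by rw [hs, hp]⟩
  obtain ⟨k, hk⟩ := (yon S).map_surjective (o ≫ pullback.fst (a ≫ f) b)
  obtain ⟨h, hh⟩ := (yon S).map_surjective (o ≫ pullback.snd (a ≫ f) b)
  have hke : Etale k.left := (repWith_yon_map_iff _ _).1 (hk ▸ repWith_comp ho (repWith_fst (a ≫ f) hb))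
  have hk' : RepWith @Etale ((yon S).map k) := (repWith_yon_map_iff _ _).2 hke
  have hw : ((yon S).map k ≫ a) ≫ f = (yon S).map h ≫ b := by
    rw [Category.assoc, hk, hh, Category.assoc]; refine Eq.trans ?_ (Category.assoc _ _ _).symm
    exact congrArg (o ≫ ·) pullback.condition
  have ha' : RepWith @Etale ((yon S).map k ≫ a) := repWith_comp hk' ha
  have := hft _ b h ha' hb hw
  have hνr := (isIntegralMor_iff_repWith.1 hν)
  let N := hνr.rep.pullback b
  have sqN := hνr.rep.isPullback b
  have e2 : inv snd ≫ fst ≫ f' = j := by rw [sq.w, IsIso.inv_hom_id_assoc]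
  let c : (yon S).obj O ⟶ Y' := ((yon S).map k ≫ a₀) ≫ j
  have hce : RepWith @Etale c :=
    repWith_comp (repWith_comp hk' ha₀) (repWith_mono (fun _ _ e h => het e h) _ hj)
  have hcν : c ≫ ν = (yon S).map h ≫ b := by
    rw [← hw]
    simp only [c, a, Category.assoc, ← hc, ← e2]
  obtain ⟨l, hl⟩ := (yon S).map_surjective (sqN.lift c ((yon S).map h) hcν)
  have hlν : l ≫ hνr.rep.snd b = h := (yon S).map_injective (by rw [Functor.map_comp, hl, sqN.lift_snd])
  have hle : Etale l.left := by
    refine (repWith_yon_map_iff _ _).1 (repWith_etale_of_comp _ (hνr.rep.fst b) ?_ (repWith_of_isPullback sqN.flip hb))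
    rw [hl, sqN.lift_fst]; exact hce
  have : IsIntegralHom (hνr.rep.snd b).left := hνr.property_snd b
  have : LocallyOfFiniteType (l.left ≫ (hνr.rep.snd b).left) := by rw [← Over.comp_left, hlν]; assumption
  have hq : LocallyQuasiFinite h.left := by
    rw [← hlν, Over.comp_left]; exact lqf_etale_comp_integral _ _
  refine ⟨O, V, (yon S).map k ≫ a, b, h, s, ha', hb, hw, ?_, ⊤, trivial,
    inferInstanceAs (LocallyQuasiFinite (Scheme.Opens.ι ⊤ ≫ h.left)),
    inferInstanceAs (LocallyOfFiniteType (Scheme.Opens.ι ⊤ ≫ h.left))⟩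
  rw [hk, Category.assoc, ← Points.map_ofPt, Points.map_comp, hs, ← Points.ofPt_eq_map_ofScheme, hat]

/-- The normalization map is an isomorphism over an open subspace whose inverse image is the quasi-finite
locus. -/
theorem exists_open_iso {X Y Y' : Sp S} (hX : IsAlgSpace X) (hY : IsAlgSpace Y) {f : X ⟶ Y}
    (hqc : IsQuasiCompactMor f) (hft : LocP @LocallyOfFiniteType f) (hsep : IsSeparatedMor f)
    {ν : Y' ⟶ Y} {f' : X ⟶ Y'} (hn : IsRelNormalization f ν f') :
    ∃ (U' : Sp S) (j : U' ⟶ Y'), IsAlgSpace U' ∧ RepWith @IsOpenImmersion j ∧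
      ∀ (P : Sp S) (fst : P ⟶ X) (snd : P ⟶ U'), IsPullback fst snd f' j →
        IsIso snd ∧ Set.range (Points.map fst) = {x | AlgSpMor.QfAt f x} := by
  have hY' := isAlgSpace_of_integral hn.2.1 hY
  choose A c hA hc hiso hxA using fun x : {x // AlgSpMor.QfAt f x} =>
    exists_etale_iso_nhd hX hY hqc hsep hn x.2
  have hO : IsOpen (⋃ x, Set.range (Points.map (c x))) := isOpen_iUnion fun x =>
    (isOpenMap_map_of_fppf (hA x) hY' (c x)
      (fun U V a b h ha hb hw =>
        have : Etale h.left := locP_etale_of_isEtaleMor (hc x) a b h ha hb hw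
        inferInstanceAs (Flat h.left))
      (fun U V a b h ha hb hw =>
        have : Etale h.left := locP_etale_of_isEtaleMor (hc x) a b h ha hb hw
        inferInstanceAs (LocallyOfFinitePresentation h.left))).isOpen_range
  obtain ⟨U', j, hU', hj, hjr⟩ := exists_open_subspace hY' hO
  refine ⟨U', j, hU', hj, fun P fst snd sq => ?_⟩
  let C : ∀ T : Over S, ((yon S).obj T ⟶ U') → Prop := fun T θ =>
    RepWith @Etale θ ∧ ∃ (x : {x // AlgSpMor.QfAt f x}) (m : (yon S).obj T ⟶ A x), m ≫ c x = θ ≫ j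
  have hC : Covers C := ⟨fun _ _ h => h.1, fun y => by
    have hy : Points.map j y ∈ ⋃ x, Set.range (Points.map (c x)) := hjr ▸ ⟨y, rfl⟩
    obtain ⟨x, α, hα⟩ := Set.mem_iUnion.1 hy
    obtain ⟨z, -, hz⟩ := exists_point_of_isPullback (IsPullback.of_hasPullback (c x) j) hα
    obtain ⟨T, o, t, -, ho, hot⟩ := exists_affine_chart_at (isAlgSpace_pullback (hA x) hU' hY' (c x) j) z
    refine ⟨T, o ≫ pullback.snd (c x) j, ⟨?_, x, o ≫ pullback.fst (c x) j, ?_⟩, t, ?_⟩
    · exact (isEtaleMor_of_isPullback (IsPullback.of_hasPullback (c x) j) (hA x) hY' hU' (hc x)) o ho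
    · rw [Category.assoc, Category.assoc, pullback.condition]
    · rw [← Points.map_ofPt, hot, hz]⟩
  have hsnd : IsIso snd := CoverGlue.isIso_of_covers hC snd fun T θ ⟨_, x, m, hm⟩ => by
    have : IsIso (pullback.snd f' (c x)) := hiso x
    have sq1 : IsPullback (pullback.fst snd θ ≫ fst) (pullback.snd snd θ) f' (θ ≫ j) :=
      (IsPullback.of_hasPullback snd θ).paste_horiz sq
    let k : pullback snd θ ⟶ pullback f' (c x) := pullback.lift (pullback.fst snd θ ≫ fst)
      (pullback.snd snd θ ≫ m) (by rw [Category.assoc _ m, hm]; exact sq1.w)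
    have sq2 : IsPullback k (pullback.snd snd θ) (pullback.snd f' (c x)) m := by
      refine IsPullback.of_right ?_ (pullback.lift_snd _ _ _) (IsPullback.of_hasPullback f' (c x))
      rw [pullback.lift_fst, hm]
      exact sq1
    exact sq2.isIso_snd_of_isIso
  refine ⟨hsnd, Set.Subset.antisymm ?_ fun x hx => ?_⟩
  · rintro _ ⟨z, rfl⟩
    exact qfAt_of_iso hY' hft hn.2.1 hn.1 hj hU' sq hY z
  · obtain ⟨p, hp⟩ := hxA ⟨x, hx⟩
    obtain ⟨y, hy⟩ : Points.map f' x ∈ Set.range (Points.map j) := by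
      rw [hjr, Set.mem_iUnion]
      refine ⟨⟨x, hx⟩, Points.map (pullback.snd f' (c ⟨x, hx⟩)) p, ?_⟩
      rw [← Points.map_comp, ← pullback.condition, Points.map_comp, hp]
    obtain ⟨z, hz, -⟩ := exists_point_of_isPullback sq hy.symm
    exact ⟨z, hz⟩

end Groth.Agent.AlgSpDM.NormIso
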