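import Groth.Agent.RelNorm.Main
import Groth.Agent.AlgSpDM.CoverGlue
import Groth.Agent.AlgSpMor.QfSplit
import Groth.Agent.AlgSpDec.LimDescentRep
import Groth.Agent.SGA1Q.SigmaFinite
import Groth.Agent.AlgSpPts.ProperSubspace

/-!
# The normalization map is a local isomorphism at quasi-finite points
-/

set_option autoImplicit false
set_option backward.isDefEq.respectTransparency false
set_option backward.isDefEq.respectTransparency.types false
set_option maxHeartbeats 800000

universe u

open CategoryTheory CategoryTheory.Limits AlgebraicGeometry AlgSp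
open Groth.Agent.AlgSpLib Groth.Agent.AlgSpPts Groth.Agent.AlgSpDec Groth.Agent.RelNorm

namespace Groth.Agent.AlgSpDM.NormIso

variable {S : Scheme.{u}}

/-- Etale localisation at a quasi-finite point over an affine chart. -/
theorem exists_split_chart {X Y : Sp S} (hX : IsAlgSpace X) (hY : IsAlgSpace Y) {f : X ⟶ Y}
    (hsep : IsSeparatedMor f) {x : Points X} (hx : AlgSpMor.QfAt f x) :
    ∃ (U : Over S) (a : (yon S).obj U ⟶ Y) (W : Over S) (jq : (yon S).obj W ⟶ pullback f a) (q : W ⟶ U),
      RepWith @Etale a ∧ RepWith @IsOpenImmersion jq ∧ IsClosed (Set.range (Points.map jq)) ∧ IsFinite q.left ∧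
        jq ≫ pullback.snd f a = (yon S).map q ∧ x ∈ Set.range (Points.map (jq ≫ pullback.fst f a)) := by
  obtain ⟨U, a, u, ha, -, hsplit⟩ := AlgSpMor.exists_etale_split_point hX hY x hsep hx
  have hP := isAlgSpace_pullback hX U.property hY f a
  obtain ⟨W, jW, ho, hc, hfin, w, hw1, hw2⟩ := hsplit ⟨pullback f a, hP⟩ (pullback.fst f a) (pullback.snd f a)
    (IsPullback.of_hasPullback f a)
  obtain ⟨U₀, θ, t₀, -, hθ, ht₀⟩ := exists_affine_chart_at U.property u
  let a₀ := θ ≫ a
  let k : pullback f a₀ ⟶ pullback f a := pullback.lift (pullback.fst f a₀) (pullback.snd f a₀ ≫ θ)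
    (by rw [Category.assoc]; exact pullback.condition)
  have sqk : IsPullback k (pullback.snd f a₀) (pullback.snd f a) θ := by
    refine IsPullback.of_right ?_ (pullback.lift_snd _ _ _) (IsPullback.of_hasPullback f a)
    rw [pullback.lift_fst]
    exact IsPullback.of_hasPullback f a₀
  let j₀ : pullback jW.hom k ⟶ pullback f a₀ := pullback.snd jW.hom k
  have sqW : IsPullback (pullback.fst jW.hom k) (j₀ ≫ pullback.snd f a₀) (jW.hom ≫ pullback.snd f a) θ :=
    (IsPullback.of_hasPullback jW.hom k).paste_vert sqk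
  have hfin₀ : RepWith @IsFinite (j₀ ≫ pullback.snd f a₀) :=
    repWith_of_isPullback sqW (isFiniteMor_iff_repWith.1 hfin)
  let E := hfin₀.rep.fst (𝟙 _)
  have sqE := hfin₀.rep.isPullback (𝟙 ((yon S).obj U₀))
  have : IsIso E := sqE.isIso_fst_of_isIso
  let q := hfin₀.rep.snd (𝟙 _)
  let jq : (yon S).obj (hfin₀.rep.pullback (𝟙 _)) ⟶ pullback f a₀ := E ≫ j₀
  have hjq : RepWith @IsOpenImmersion jq :=
    repWith_comp (repWith_of_isIso _ _) (repWith_snd k ho)
  have hjc : RepWith @IsClosedImmersion jq :=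
    repWith_comp (repWith_of_isIso _ _) (repWith_snd k hc)
  refine ⟨U₀, a₀, _, jq, q, ha θ hθ, hjq, ?_, hfin₀.property_snd _, ?_, ?_⟩
  · exact ProperSub.isClosed_range_of_univClosed (isAlgSpace_pullback hX (IsAlgSpace.yon_obj U₀) hY f a₀)
      (isUnivClosedMor_of_repWith_universallyClosed
        (repWith_mono (fun _ _ e (_ : IsClosedImmersion e) => inferInstanceAs (UniversallyClosed e)) _ hjc))
  · show (E ≫ j₀) ≫ pullback.snd f a₀ = _
    rw [Category.assoc]
    exact sqE.w.trans (Category.comp_id _)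
  · obtain ⟨z, hz, -⟩ := exists_point_of_isPullback sqW (x := w) (y := Points.ofScheme U₀ t₀)
      (by rw [← Points.ofPt_eq_map_ofScheme, ht₀]; exact hw2)
    refine ⟨Points.map (inv E) z, ?_⟩
    rw [← Points.map_comp, show inv E ≫ jq ≫ pullback.fst f a₀ =
      pullback.fst jW.hom k ≫ jW.hom ≫ pullback.fst f a from ?_, Points.map_comp, hz]
    · exact hw1
    · simp only [jq, Category.assoc, IsIso.inv_hom_id_assoc, j₀, pullback.condition_assoc, k, pullback.lift_fst]

/-- Near a quasi-finite point the map to the normalization is an isomorphism over an etale neighbourhood. -/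
theorem exists_etale_iso_nhd {X Y Y' : Sp S} (hX : IsAlgSpace X) (hY : IsAlgSpace Y) {f : X ⟶ Y}
    (hqc : IsQuasiCompactMor f) (hsep : IsSeparatedMor f) {ν : Y' ⟶ Y} {f' : X ⟶ Y'}
    (hn : IsRelNormalization f ν f') {x : Points X} (hx : AlgSpMor.QfAt f x) :
    ∃ (A : Sp S) (c : A ⟶ Y'), IsAlgSpace A ∧ IsEtaleMor c ∧ IsIso (pullback.snd f' c) ∧
      x ∈ Set.range (Points.map (pullback.fst f' c)) := by
  have hY' := isAlgSpace_of_integral hn.2.1 hY
  obtain ⟨U, a, W, jq, q, ha, hjq, hjc, hq, hjqs, hxq⟩ := exists_split_chart hX hY hsep hx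
  have hW := IsAlgSpace.yon_obj (S := S) W
  have hU := IsAlgSpace.yon_obj (S := S) U
  have hP := isAlgSpace_pullback hX hU hY f a
  have hN := isAlgSpace_pullback hY' hU hY ν a
  have hn₀ := (normAt_of_isRelNormalization hX hY hqc (isQuasiSeparatedMor_of_isSeparatedMor hsep) hn hU
    (isEtaleMor_of_repWith ha)).isRelNormalization hn.1
  let g : pullback f a ⟶ pullback ν a := gBC hn.1 a
  have hgμ : g ≫ pullback.snd ν a = pullback.snd f a := pullback.lift_snd _ _ _
  have sqN : IsPullback (pullback.fst f a) g f' (pullback.fst ν a) := by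
    refine IsPullback.of_bot ?_ (pullback.lift_fst _ _ _).symm (IsPullback.of_hasPullback ν a)
    rw [hgμ, hn.1]
    exact IsPullback.of_hasPullback f a
  obtain ⟨R, jR, hR, hjR, hjRr⟩ := exists_open_subspace hP hjc.isOpen_compl
  have hcovP : ∀ z, z ∈ Set.range (Points.map jq) ∨ z ∈ Set.range (Points.map jR) := fun z => by
    rw [hjRr]; exact em _
  have hdP : Disjoint (Set.range (Points.map jq)) (Set.range (Points.map jR)) := by
    rw [hjRr]; exact disjoint_compl_right
  let Y2 : ULift.{u} Bool → Over S := fun b => bif b.down then W else U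
  let Z := sigmaOver Y2
  let ιW : W ⟶ Z := sigmaι Y2 ⟨true⟩
  let ιU : U ⟶ Z := sigmaι Y2 ⟨false⟩
  let dmap : ∀ b, (Y2 b).left ⟶ U.left := fun b => match b with
    | ⟨true⟩ => q.left
    | ⟨false⟩ => 𝟙 U.left
  have hdmap : ∀ b, IsIntegralHom (dmap b) := fun b => match b with
    | ⟨true⟩ => inferInstanceAs (IsIntegralHom q.left)
    | ⟨false⟩ => inferInstanceAs (IsIntegralHom (𝟙 U.left))
  let π : Z ⟶ U := Over.homMk (Sigma.desc dmap) (by
    apply Sigma.hom_ext
    intro b
    change Sigma.ι _ b ≫ Sigma.desc _ ≫ U.hom = Sigma.ι _ b ≫ Sigma.desc _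
    rw [Sigma.ι_desc_assoc, Sigma.ι_desc]
    rcases b with ⟨_ | _⟩
    · exact Category.id_comp _
    · exact Over.w q)
  have hπW : ιW ≫ π = q := Over.OverMorphism.ext (Sigma.ι_desc dmap ⟨true⟩)
  have hπU : ιU ≫ π = 𝟙 U := Over.OverMorphism.ext (Sigma.ι_desc dmap ⟨false⟩)
  have hπi : IsIntegralMor ((yon S).map π) :=
    isIntegralMor_iff_repWith.2 ((repWith_yon_map_iff @IsIntegralHom π).2 (SGA1Q.isIntegralHom_sigmaDesc _ hdmap))
  have hoW : RepWith @IsOpenImmersion ((yon S).map ιW) :=
    (repWith_yon_map_iff _ _).2 (inferInstanceAs (IsOpenImmersion (sigmaι Y2 ⟨true⟩).left))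
  have hoU : RepWith @IsOpenImmersion ((yon S).map ιU) :=
    (repWith_yon_map_iff _ _).2 (inferInstanceAs (IsOpenImmersion (sigmaι Y2 ⟨false⟩).left))
  have hcovZ : ∀ z, z ∈ Set.range (Points.map ((yon S).map ιW)) ∨ z ∈ Set.range (Points.map ((yon S).map ιU)) :=
    fun z => by
      obtain ⟨z, rfl⟩ := (Points.schemeHomeo Z).surjective z
      obtain ⟨⟨_ | _⟩, v, rfl⟩ := exists_sigmaι Y2 z
      · exact .inr ⟨Points.ofScheme U v, Points.map_yon_map_apply ιU v⟩
      · exact .inl ⟨Points.ofScheme W v, Points.map_yon_map_apply ιW v⟩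
  have hdZ : Disjoint (Set.range (Points.map ((yon S).map ιW))) (Set.range (Points.map ((yon S).map ιU))) :=
    Set.disjoint_left.2 fun z hz hz' => by
      obtain ⟨w, rfl⟩ := hz
      obtain ⟨v, hv⟩ := hz'
      obtain ⟨w, rfl⟩ := (Points.schemeHomeo W).surjective w
      obtain ⟨v, rfl⟩ := (Points.schemeHomeo U).surjective v
      have h1 := (Points.schemeHomeo Z).injective
        ((Points.map_yon_map_apply ιU v).symm.trans (hv.trans (Points.map_yon_map_apply ιW w)))
      exact Bool.noConfusion (congrArg ULift.down (sigmaι_injective Y2 (i := ⟨false⟩) (j := ⟨true⟩) h1))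
  obtain ⟨γ, hγW, hγR⟩ := CoverGlue.exists_glue_disjoint hW hR hjq hjR hcovP hdP ((yon S).map ιW)
    (jR ≫ pullback.snd f a ≫ (yon S).map ιU)
  have hγπ : γ ≫ (yon S).map π = pullback.snd f a := CoverGlue.hom_ext_disjoint hW hR hjq hjR hcovP
    (by rw [reassoc_of% hγW, ← Functor.map_comp, hπW, hjqs])
    (by rw [reassoc_of% hγR, ← Functor.map_comp, hπU, CategoryTheory.Functor.map_id, Category.comp_id])
  obtain ⟨h, ⟨hgh, hhπ⟩, -⟩ := hn₀.2.2 (IsAlgSpace.yon_obj Z) ((yon S).map π) γ hπi hγπ
  let A := pullback h ((yon S).map ιW)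
  let B := pullback h ((yon S).map ιU)
  let iA : A ⟶ pullback ν a := pullback.fst _ _
  let qA : A ⟶ (yon S).obj W := pullback.snd _ _
  let iB : B ⟶ pullback ν a := pullback.fst _ _
  have hA : IsAlgSpace A := isAlgSpace_pullback hN hW (IsAlgSpace.yon_obj Z) _ _
  have hB : IsAlgSpace B := isAlgSpace_pullback hN hU (IsAlgSpace.yon_obj Z) _ _
  have hiA : RepWith @IsOpenImmersion iA := repWith_fst h hoW
  have hiB : RepWith @IsOpenImmersion iB := repWith_fst h hoU
  have := mono_of_openImmersion hiA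
  have hcovN : ∀ z, z ∈ Set.range (Points.map iA) ∨ z ∈ Set.range (Points.map iB) := fun z => by
    rcases hcovZ (Points.map h z) with ⟨w, hw⟩ | ⟨w, hw⟩
    · obtain ⟨p, hp, -⟩ := exists_point_of_isPullback (IsPullback.of_hasPullback h ((yon S).map ιW)) hw.symm
      exact .inl ⟨p, hp⟩
    · obtain ⟨p, hp, -⟩ := exists_point_of_isPullback (IsPullback.of_hasPullback h ((yon S).map ιU)) hw.symm
      exact .inr ⟨p, hp⟩
  have hdN : Disjoint (Set.range (Points.map iA)) (Set.range (Points.map iB)) :=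
    Set.disjoint_left.2 fun z hz hz' => hdZ.notMem_of_mem_left
      (show Points.map h z ∈ Set.range (Points.map ((yon S).map ιW)) by
        obtain ⟨p, rfl⟩ := hz; exact ⟨Points.map qA p, by rw [← Points.map_comp, ← pullback.condition, Points.map_comp]⟩)
      (by obtain ⟨p, rfl⟩ := hz'
          exact ⟨Points.map (pullback.snd _ _) p, by rw [← Points.map_comp, ← pullback.condition, Points.map_comp]⟩)
  let d : (yon S).obj W ⟶ A := pullback.lift (jq ≫ g) (𝟙 _) (by rw [Category.assoc, hgh, hγW, Category.id_comp])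
  have hdA : d ≫ iA = jq ≫ g := pullback.lift_fst _ _ _
  have hdq : d ≫ qA = 𝟙 _ := pullback.lift_snd _ _ _
  obtain ⟨e, heA, heB⟩ := CoverGlue.exists_glue_disjoint hA hB hiA hiB hcovN hdN (qA ≫ d ≫ iA) iB
  have heμ : e ≫ pullback.snd ν a = pullback.snd ν a := CoverGlue.hom_ext_disjoint hA hB hiA hiB hcovN
    (by rw [reassoc_of% heA, reassoc_of% hdA, hgμ, hjqs, ← hπW, Functor.map_comp, ← hhπ]
        exact (pullback.condition_assoc _).symm)
    (by rw [reassoc_of% heB])
  have hge : g ≫ e = g := CoverGlue.hom_ext_disjoint hW hR hjq hjR hcovP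
    (by rw [← Category.assoc, ← hdA, Category.assoc, heA, ← Category.assoc d, hdq, Category.id_comp])
    (by
      have hl : pullback.lift (jR ≫ g) (jR ≫ pullback.snd f a) (by rw [Category.assoc, hgh, hγR, Category.assoc]) ≫ iB =
          jR ≫ g := pullback.lift_fst _ _ _
      rw [← Category.assoc, ← hl, Category.assoc, heB])
  have he1 : e = 𝟙 _ := RelNorm.hom_ext hn₀ hU hn₀.2.1 (𝟙 _)
    (hge.trans (Category.comp_id g).symm) (heμ.trans (Category.comp_id _).symm)
    (by rw [Category.id_comp, Category.comp_id])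
  have : IsIso d := ⟨qA, hdq, by
    rw [← cancel_mono iA, Category.assoc, ← heA, he1, Category.comp_id, Category.id_comp]⟩
  -- the inverse image of the piece
  have := mono_of_openImmersion hoW
  have := mono_of_openImmersion hjq
  let C := pullback γ ((yon S).map ιW)
  have hC : IsAlgSpace C := isAlgSpace_pullback hP hW (IsAlgSpace.yon_obj Z) _ _
  obtain ⟨l, hl⟩ := exists_lift_openImmersion hC hW hP hjq (pullback.fst γ ((yon S).map ιW)) (by
    rintro _ ⟨z, rfl⟩
    refine (hcovP _).resolve_right fun ⟨r, hr⟩ => hdZ.notMem_of_mem_left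
      (show Points.map γ (Points.map (pullback.fst γ ((yon S).map ιW)) z) ∈ _ from
        ⟨Points.map (pullback.snd _ _) z, by rw [← Points.map_comp, ← pullback.condition, Points.map_comp]⟩)
      ⟨Points.map (jR ≫ pullback.snd f a) r, by
        rw [← hr, ← Points.map_comp jR, hγR, ← Category.assoc, Points.map_comp _ ((yon S).map ιU)]⟩)
  have hls : l = pullback.snd γ ((yon S).map ιW) := by
    rw [← cancel_mono ((yon S).map ιW), ← pullback.condition, ← hl, Category.assoc, hγW]
  let kC : (yon S).obj W ≅ C :=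
    { hom := pullback.lift jq (𝟙 _) (by rw [hγW, Category.id_comp])
      inv := pullback.snd _ _
      hom_inv_id := pullback.lift_snd _ _ _
      inv_hom_id := by
        apply pullback.hom_ext
        · rw [Category.assoc, pullback.lift_fst, Category.id_comp, ← hls, hl]
        · rw [Category.assoc, pullback.lift_snd, Category.comp_id, Category.id_comp] }
  have sqγ : IsPullback jq (𝟙 _) γ ((yon S).map ιW) := (IsPullback.of_hasPullback γ ((yon S).map ιW)).of_iso
    kC.symm (Iso.refl _) (Iso.refl _) (Iso.refl _) (by simp [kC, ← hls, hl]) (by simp [kC]) (by simp) (by simp)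
  have sqd : IsPullback jq d g iA := by
    refine IsPullback.of_bot ?_ hdA.symm (IsPullback.of_hasPullback h ((yon S).map ιW))
    rw [hdq, hgh]
    exact sqγ
  have sq := sqd.paste_horiz sqN
  refine ⟨A, iA ≫ pullback.fst ν a, hA, isEtaleMor_comp hA hN hY' (isEtaleMor_of_repWith_isOpenImmersion hiA)
    (isEtaleMor_of_isPullback (IsPullback.of_hasPullback ν a).flip hU hY hY' (isEtaleMor_of_repWith ha)), ?_, ?_⟩
  · rw [show pullback.snd f' (iA ≫ pullback.fst ν a) = sq.isoPullback.inv ≫ d by
      rw [Iso.eq_inv_comp, sq.isoPullback_hom_snd]]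
    infer_instance
  · obtain ⟨p, hp⟩ := hxq
    exact ⟨Points.map sq.isoPullback.hom p, by rw [← Points.map_comp, sq.isoPullback_hom_fst, hp]⟩

end Groth.Agent.AlgSpDM.NormIso
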