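import Groth.Agent.RelNorm.Main

/-!
# Relative normalization commutes with smooth base change
-/

set_option autoImplicit false
set_option backward.isDefEq.respectTransparency false
set_option backward.isDefEq.respectTransparency.types false
set_option maxHeartbeats 800000

universe u

open CategoryTheory CategoryTheory.Limits AlgebraicGeometry AlgSp
open Groth.Agent.AlgSpLib Groth.Agent.AlgSpPts Groth.Agent.AlgSpDec Groth.Agent.RelNorm

namespace Groth.Agent.AlgSpDM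

variable {S : Scheme.{u}}

/-- A normalization restricted to an affine chart commutes with smooth affine base change. -/
theorem normAt_smooth_affine {F G X' : Sp S} (hF : IsAlgSpace F) (hG : IsAlgSpace G) {f : F ⟶ G}
    (hqc : IsQuasiCompactMor f) (hqs : IsQuasiSeparatedMor f) {ν : X' ⟶ G} {f' : F ⟶ X'}
    (hn : IsRelNormalization f ν f') {T : Over S} [IsAffine T.left] {c : (yon S).obj T ⟶ G}
    (hc : RepWith @Etale c) {V : Over S} [IsAffine V.left] (k : V ⟶ T) [Smooth k.left] :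
    NormAt f ν f' ((yon S).map k ≫ c) := by
  have sqf := IsPullback.of_hasPullback f c
  have hn1 := (normAt_of_isRelNormalization hF hG hqc hqs hn (IsAlgSpace.yon_obj T)
    (isEtaleMor_of_repWith hc)).isRelNormalization hn.1
  obtain ⟨N, ν', f'', -, hfν, hsm⟩ := exists_smoothNorm_affine
    (isAlgSpace_pullback hF (IsAlgSpace.yon_obj T) hG f c) (pullback.snd f c)
    (RelNorm.isQuasiCompactMor_of_isPullback sqf hqc) (isQuasiSeparatedMor_of_isPullback sqf hqs)
  have hn2 : IsRelNormalization (pullback.snd f c) ((yon S).map ν') f'' := by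
    have h0 := hsm (𝟙 T) ‹_› (inferInstanceAs (Smooth (𝟙 T.left)))
    rw [CategoryTheory.Functor.map_id] at h0
    exact isRelNormalization_of_normAt_id hfν h0
  obtain ⟨e, he1, he2⟩ := exists_iso (IsAlgSpace.yon_obj T) hn1 hn2
  have hN : NormAt (pullback.snd f c) (pullback.snd ν c) (gBC hn.1 c) ((yon S).map k) := by
    intro P M a p b μ g sq sq' h1 h2
    exact hsm k ‹_› ‹_› a p (b ≫ e.hom) μ g sq (sq'.of_iso (Iso.refl _) e (Iso.refl _) (Iso.refl _)
      (by simp) (by simp) (by simp [he2]) (by simp)) h1 (by rw [reassoc_of% h2, he1])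
  exact NormAt.ofBaseChange sqf (IsPullback.of_hasPullback ν c) (pullback.lift_snd _ _ _)
    (pullback.lift_fst _ _ _) hN

/-- Normalization commutes with smooth base change. -/
theorem isRelNormalization_smooth_bc {X₁ X₂ Y₁ Y₂ X₁' P : Sp S} (hX₁ : IsAlgSpace X₁) (hX₂ : IsAlgSpace X₂)
    (hY₁ : IsAlgSpace Y₁) {f₁ : Y₁ ⟶ X₁} {φ : X₂ ⟶ X₁} {f₂ : Y₂ ⟶ X₂} {ψ : Y₂ ⟶ Y₁}
    (hsq : IsPullback ψ f₂ f₁ φ) (hqc : IsQuasiCompactMor f₁) (hqs : IsQuasiSeparatedMor f₁)
    (hφ : LocP @Smooth φ) {ν₁ : X₁' ⟶ X₁} {f₁' : Y₁ ⟶ X₁'} (hn : IsRelNormalization f₁ ν₁ f₁')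
    {ν₂ : P ⟶ X₂} {ρ : P ⟶ X₁'} (hP : IsPullback ρ ν₂ ν₁ φ)
    {f₂' : Y₂ ⟶ P} (w₁ : f₂' ≫ ν₂ = f₂) (w₂ : f₂' ≫ ρ = ψ ≫ f₁') :
    IsRelNormalization f₂ ν₂ f₂' := by
  refine StabNorm.isRelNormalization
    ⟨w₁, isIntegralMor_of_isPullback hP hn.2.1, fun T c h => h.1, fun x => ?_⟩
  obtain ⟨T₁, c₁, t₁, hT₁, hc₁, ht₁⟩ := exists_affine_chart_at hX₁ (Points.map φ x)
  rw [Points.ofPt_eq_map_ofScheme] at ht₁
  have sqc := IsPullback.of_hasPullback c₁ φ
  have hR : IsAlgSpace (pullback c₁ φ) := isAlgSpace_pullback (IsAlgSpace.yon_obj T₁) hX₂ hX₁ c₁ φ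
  obtain ⟨z, -, hz2⟩ := exists_point_of_isPullback sqc (x := Points.ofScheme T₁ t₁) (y := x) ht₁
  obtain ⟨O, o, t₀, hO, ho, hot⟩ := exists_affine_chart_at hR z
  obtain ⟨k, hk⟩ := (yon S).map_surjective (o ≫ pullback.fst c₁ φ)
  have hc : RepWith @Etale (o ≫ pullback.snd c₁ φ) := repWith_comp ho (repWith_snd φ hc₁)
  have : Smooth k.left := hφ _ c₁ k hc hc₁ (by rw [hk, Category.assoc, Category.assoc, pullback.condition])
  refine ⟨O, o ≫ pullback.snd c₁ φ, ⟨hc, hO, fun V π hV hπ => ?_⟩, t₀, ?_⟩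
  · refine NormAt.baseChange hsq hP w₂ ?_
    rw [Category.assoc, Category.assoc, ← pullback.condition, ← reassoc_of% hk, ← Functor.map_comp_assoc]
    have : Smooth (π ≫ k).left := inferInstanceAs (Smooth (π.left ≫ k.left))
    exact normAt_smooth_affine hY₁ hX₁ hqc hqs hn hc₁ (π ≫ k)
  · rw [← Points.map_ofPt, hot, hz2]

end Groth.Agent.AlgSpDM
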