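import Groth.Agent.AlgSpDM.NormalSections
import Groth.Agent.AlgSpDM.BiratNormal
import Groth.Prelude.Def_AlgSpDec

/-!
# Normal integral charts of normal integral spaces
-/

set_option autoImplicit false
set_option backward.isDefEq.respectTransparency false
set_option backward.isDefEq.respectTransparency.types false
set_option maxHeartbeats 800000

universe u

open CategoryTheory CategoryTheory.Limits AlgebraicGeometry TopologicalSpace AlgSp
open Groth.Agent.AlgSpLib Groth.Agent.AlgSpPts Groth.Agent.AlgSpDec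

namespace Groth.Agent.AlgSpDM.NormalChart

theorem isIntegrallyClosed_top (Y : Scheme.{u}) [IsIntegral Y]
    (hY : ∀ y : Y, IsIntegrallyClosed (Y.presheaf.stalk y)) : IsIntegrallyClosed Γ(Y, ⊤) := by
  have hd : ∀ y : Y, IsDomain (Y.presheaf.stalk y) := fun y => inferInstance
  have hinj : ∀ y : Y, Function.Injective (Y.presheaf.germ ⊤ y trivial) := fun y =>
    germ_injective_of_isIntegral (U := ⊤) _ y trivial
  refine (isIntegrallyClosed_iff (FractionRing Γ(Y, ⊤))).2 fun {t} ht => ?_
  obtain ⟨a, b, hb, rfl⟩ := IsFractionRing.div_surjective (A := Γ(Y, ⊤)) t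
  have hb0 : b ≠ 0 := nonZeroDivisors.ne_zero hb
  obtain ⟨c, hc, -⟩ := NormalSec.exists_div_global hd a b
    (fun y e => hb0 (hinj y (e.trans (map_zero _).symm)))
    fun y => have := hY y; NormalSec.exists_div_of_integral (Y.presheaf.germ ⊤ y trivial).hom (hinj y) hb0 ht
  refine ⟨c, ?_⟩
  rw [eq_div_iff (fun e => hb0 (IsFractionRing.injective Γ(Y, ⊤) (FractionRing Γ(Y, ⊤))
    (e.trans (map_zero (algebraMap Γ(Y, ⊤) (FractionRing Γ(Y, ⊤)))).symm))), ← map_mul, hc]

/-- A point with domain as local ring has an irreducible neighbourhood, if there are finitely many components. -/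
theorem exists_irreducible_nhd {Y : Scheme.{u}} (hf : (genericPoints ↥Y).Finite) (y : Y)
    (hy : IsDomain (Y.presheaf.stalk y)) :
    ∃ W : Y.Opens, y ∈ W ∧ IsAffineOpen W ∧ IrreducibleSpace ↥W := by
  obtain ⟨η, hη, hηy⟩ : ∃ η ∈ genericPoints ↥Y, η ⤳ y := by
    obtain ⟨η, h1, h0⟩ := CodimQf.exists_coheight_zero_specializes y
    exact ⟨η, (Birat.scheme_gen_iff η).2 h0, h1⟩
  let C : Set ↥Y := ⋃ ζ ∈ genericPoints ↥Y \ {η}, closure {ζ}
  have hC : IsClosed C := hf.sdiff.isClosed_biUnion fun _ _ => isClosed_closure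
  have hyC : y ∈ Cᶜ := fun h => by
    simp only [C, Set.mem_iUnion] at h
    obtain ⟨ζ, ⟨hζ, hne⟩, hζy⟩ := h
    exact hne (BiratSch.generic_unique hy hζ hη (specializes_iff_mem_closure.2 hζy) hηy)
  obtain ⟨W, hW, hyW, hWC⟩ := exists_isAffineOpen_mem_and_subset (U := (⟨Cᶜ, hC.isOpen_compl⟩ : Y.Opens))
    (x := y) hyC
  refine ⟨W, hyW, hW, ?_⟩
  have hg : IsGenericPoint (⟨η, hηy.mem_open W.2 hyW⟩ : ↥W) (Set.univ : Set ↥W) := by
    refine isGenericPoint_iff_specializes.2 fun t => ⟨fun _ => trivial, fun _ => ?_⟩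
    obtain ⟨ζ, h1, h0⟩ := CodimQf.exists_coheight_zero_specializes (X := Y) t.1
    rw [subtype_specializes_iff]
    by_cases he : ζ = η
    · exact he ▸ h1
    · exact ((hWC t.2) (Set.mem_biUnion ⟨(Birat.scheme_gen_iff ζ).2 h0, he⟩ h1.mem_closure)).elim
  exact { toNonempty := ⟨⟨y, hyW⟩⟩, isPreirreducible_univ := hg.isIrreducible.2 }

/-- Each point of a normal integral space lies in the image of a normal integral affine etale chart. -/
theorem exists_normal_integral_chart {S : Scheme.{u}} (X : Space S) (hXi : IsIntegralSp X.obj)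
    (hXn : EtaleLocally (fun U => ∀ u : ↥U, IsDomain ↥(U.presheaf.stalk u) ∧
      IsIntegrallyClosed ↥(U.presheaf.stalk u)) X.obj) (x : Points X.obj) :
    ∃ (U : Over S) (a : (yon S).obj U ⟶ X.obj), RepWith @Etale a ∧ IsAffine U.left ∧ IsIntegral U.left ∧
      IsIntegrallyClosed ↥Γ(U.left, ⊤) ∧ x ∈ Set.range (Points.ofPt a) := by
  have hX := hXi.2.1
  obtain ⟨U, a, u, hU, ha, rfl⟩ := exists_affine_chart_at X.property x
  have hfin : (genericPoints ↥U.left).Finite := by
    have := hXi.2.2
    have := t0Space_points X.property hX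
    have := quasiSober_points X.property hX
    have h1 : ∀ z ∈ genericPoints (Points X.obj), z = genericPoint (Points X.obj) := fun z hz =>
      (Birat.eq_of_specializes_generic hz (genericPoint_specializes z)).symm
    refine (Set.Finite.preimage' (f := Points.ofPt a) (s := {genericPoint (Points X.obj)}) (Set.finite_singleton _)
      fun z _ => ?_).subset fun v hv => h1 _ ((Birat.gen_ofPt_iff hX ha v).2 hv)
    obtain ⟨p, hp, -, hq⟩ := hX z
    rw [← hp]
    exact finite_fibre_of_repWith ha p hq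
  obtain ⟨W, huW, hW, hirr⟩ := exists_irreducible_nhd hfin u (Birat.normal_chart hXn ha u).1
  let V : Over S := openOver U W
  let b : (yon S).obj V ⟶ X.obj := (yon S).map (openOverι U W) ≫ a
  have hb : RepWith @Etale b := repWith_comp ((repWith_yon_map_iff _ _).2 (inferInstanceAs (Etale W.ι))) ha
  have : IsReduced V.left := BiratSch.isReduced_of_isDomain_stalk _ fun v => (Birat.normal_chart hXn hb v).1
  have : IrreducibleSpace ↥V.left := hirr
  have : IsIntegral V.left := isIntegral_of_irreducibleSpace_of_isReduced _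
  exact ⟨V, b, hb, hW, this, isIntegrallyClosed_top _ fun v => (Birat.normal_chart hXn hb v).2,
    ⟨⟨u, huW⟩, ofPt_comp _ a _⟩⟩

end Groth.Agent.AlgSpDM.NormalChart
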