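import Mathlib.AlgebraicGeometry.FunctionField
import Mathlib.RingTheory.IntegralClosure.IntegrallyClosed

/-!
# Integral elements of fraction fields and normal schemes
-/

set_option autoImplicit false
set_option backward.isDefEq.respectTransparency false
set_option backward.isDefEq.respectTransparency.types false
set_option maxHeartbeats 800000

universe u v

open CategoryTheory AlgebraicGeometry TopologicalSpace Opposite

namespace Groth.Agent.AlgSpDM.NormalSec

/-- An integral fraction becomes an element of every integrally closed domain receiving the ring injectively. -/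
theorem exists_div_of_integral {R : Type v} [CommRing R] [IsDomain R] {A : Type u} [CommRing A] [IsDomain A]
    [IsIntegrallyClosed A] (φ : R →+* A) (hφ : Function.Injective φ) {a b : R} (hb : b ≠ 0)
    (hx : IsIntegral R (algebraMap R (FractionRing R) a / algebraMap R (FractionRing R) b)) :
    ∃ c : A, c * φ b = φ a := by
  have hinj : Function.Injective ((algebraMap A (FractionRing A)).comp φ) :=
    (IsFractionRing.injective A (FractionRing A)).comp hφ
  let ψ : FractionRing R →+* FractionRing A := IsFractionRing.lift hinj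
  have hψ : ∀ r, ψ (algebraMap R (FractionRing R) r) = algebraMap A (FractionRing A) (φ r) := fun r =>
    IsFractionRing.lift_algebraMap hinj r
  have h := IsIntegral.map_of_comp_eq φ ψ (RingHom.ext fun r => (hψ r).symm) hx
  obtain ⟨c, hc⟩ := (isIntegrallyClosed_iff (FractionRing A)).1 ‹_› h
  refine ⟨c, IsFractionRing.injective A (FractionRing A) ?_⟩
  rw [map_div₀, hψ, hψ] at hc
  have hb' : algebraMap A (FractionRing A) (φ b) ≠ 0 :=
    fun e => hb (hinj (show algebraMap A (FractionRing A) (φ b) = algebraMap A (FractionRing A) (φ 0) by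
      rw [e, map_zero, map_zero]))
  rw [map_mul, hc, div_mul_cancel₀ _ hb']

theorem eq_zero_of_mul {Y : Scheme.{u}} (hY : ∀ y : Y, IsDomain (Y.presheaf.stalk y)) (b : Γ(Y, ⊤))
    (hb : ∀ y, Y.presheaf.germ ⊤ y trivial b ≠ 0) {W : Y.Opens} (x : Γ(Y, W))
    (h : x * Y.presheaf.map (homOfLE le_top : W ⟶ ⊤).op b = 0) : x = 0 := by
  refine TopCat.Presheaf.section_ext Y.sheaf W x 0 fun y hy => ?_
  have := congrArg (Y.presheaf.germ W y hy) h
  rw [map_mul, Y.presheaf.germ_res_apply, map_zero] at this
  have := hY y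
  exact ((mul_eq_zero.1 ‹_›).resolve_right (hb y)).trans (map_zero _).symm

/-- A quotient of global functions which lies in every local ring is a global function. -/
theorem exists_div_global {Y : Scheme.{u}} (hY : ∀ y : Y, IsDomain (Y.presheaf.stalk y)) (a b : Γ(Y, ⊤))
    (hb : ∀ y, Y.presheaf.germ ⊤ y trivial b ≠ 0)
    (h : ∀ y, ∃ c, c * Y.presheaf.germ ⊤ y trivial b = Y.presheaf.germ ⊤ y trivial a) :
    ∃! c : Γ(Y, ⊤), c * b = a := by
  have huniq : ∀ c c' : Γ(Y, ⊤), c * b = a → c' * b = a → c = c' := fun c c' e e' =>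
    sub_eq_zero.1 (eq_zero_of_mul hY b hb (c - c') (by simp [sub_mul, e, e']))
  suffices hex : ∃ c : Γ(Y, ⊤), c * b = a by
    obtain ⟨c, hc⟩ := hex
    exact ⟨c, hc, fun c' hc' => huniq c' c hc' hc⟩
  have hloc : ∀ y : Y, ∃ (W : Y.Opens) (_ : y ∈ W) (s : Γ(Y, W)),
      s * Y.presheaf.map (homOfLE le_top : W ⟶ ⊤).op b = Y.presheaf.map (homOfLE le_top : W ⟶ ⊤).op a := by
    intro y
    obtain ⟨c, hc⟩ := h y
    obtain ⟨W, hy, s, rfl⟩ := Y.presheaf.exists_germ_eq c
    obtain ⟨W', hy', i, i', e⟩ := Y.presheaf.germ_eq y hy hy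
      (s * Y.presheaf.map (homOfLE le_top : W ⟶ ⊤).op b) (Y.presheaf.map (homOfLE le_top : W ⟶ ⊤).op a)
      (by rw [map_mul, Y.presheaf.germ_res_apply, Y.presheaf.germ_res_apply]; exact hc)
    refine ⟨W', hy', Y.presheaf.map i.op s, ?_⟩
    rw [map_mul, ← ConcreteCategory.comp_apply, ← ConcreteCategory.comp_apply, ← Functor.map_comp,
      ← Functor.map_comp] at e
    exact e
  choose W hW s hs using hloc
  have hcompat : TopCat.Presheaf.IsCompatible Y.presheaf W s := by
    intro y y'
    refine sub_eq_zero.1 (eq_zero_of_mul hY b hb _ ?_)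
    have e1 := congrArg (Y.presheaf.map (Opens.infLELeft (W y) (W y')).op) (hs y)
    have e2 := congrArg (Y.presheaf.map (Opens.infLERight (W y) (W y')).op) (hs y')
    rw [map_mul, ← ConcreteCategory.comp_apply, ← ConcreteCategory.comp_apply, ← Functor.map_comp] at e1 e2
    rw [sub_mul]
    exact sub_eq_zero.2 (e1.trans e2.symm)
  obtain ⟨c, hc, -⟩ := Y.sheaf.existsUnique_gluing' W ⊤ (fun y => homOfLE le_top)
    (fun y _ => Opens.mem_iSup.2 ⟨y, hW y⟩) s hcompat
  refine ⟨c, TopCat.Presheaf.section_ext Y.sheaf ⊤ _ _ fun y _ => ?_⟩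
  have := congrArg (Y.presheaf.germ (W y) y (hW y)) (hs y)
  rw [← hc y] at this
  rw [map_mul, Y.presheaf.germ_res_apply, Y.presheaf.germ_res_apply] at this
  erw [Y.presheaf.germ_res_apply] at this
  rw [map_mul]
  exact this

end Groth.Agent.AlgSpDM.NormalSec
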