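import Groth.Agent.AlgSpDec.Fibres
import Groth.Agent.AlgSpDec.Basic
import Groth.Agent.AlgSpDec.MonoRep
import Groth.Agent.S3433
import Mathlib.Topology.Spectral.Basic

/-!
# Punctured generizations of a point of a decent locally Noetherian space
-/

set_option autoImplicit false
set_option backward.isDefEq.respectTransparency false
set_option backward.isDefEq.respectTransparency.types false
set_option maxHeartbeats 800000

universe u

open CategoryTheory CategoryTheory.Limits AlgebraicGeometry AlgSp Groth.Agent.AlgSpLib Groth.Agent.AlgSpPts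
  Groth.Agent.AlgSpDec TopologicalSpace Topology

namespace Groth.Agent.AlgSpDM.Punctured

theorem quasiSober_of_stableUnderGeneralization {T : Type*} [TopologicalSpace T] [QuasiSober T] {W : Set T}
    (hW : StableUnderGeneralization W) : QuasiSober W where
  sober {C} hC hC' := by
    have hirr : IsIrreducible (closure (Subtype.val '' C)) :=
      (hC.image _ continuous_subtype_val.continuousOn).closure
    obtain ⟨η, hη⟩ := QuasiSober.sober hirr isClosed_closure
    obtain ⟨c, hc⟩ := hC.nonempty
    have hηW : η ∈ W := hW (hη.specializes (subset_closure ⟨c, hc, rfl⟩)) c.2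
    refine ⟨⟨η, hηW⟩, ?_⟩
    ext z
    rw [closure_subtype, Set.image_singleton, hη.def, ← closure_subtype, hC'.closure_eq]

variable {S : Scheme.{u}} {X : Space S}

theorem properties (hd : IsDecent X.obj) (hN : IsLocNoethSp X.obj) (x : Points X.obj) :
    NoetherianSpace {x' : Points X.obj // x' ⤳ x ∧ x' ≠ x} ∧
      SpectralSpace {x' : Points X.obj // x' ⤳ x ∧ x' ≠ x} ∧
      QuasiSober {x' : Points X.obj // x' ⤳ x ∧ x' ≠ x} ∧
      JacobsonSpace {x' : Points X.obj // x' ⤳ x ∧ x' ≠ x} := by
  obtain ⟨U, a, u, -, ha, rfl⟩ := exists_affine_chart_at X.property x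
  have := isLocallyNoetherian_chart ha hN
  have := quasiSober_points X.property hd
  have := t0Space_points X.property hd
  let A := U.left.presheaf.stalk u
  let P : Set (PrimeSpectrum A) := {IsLocalRing.closedPoint A}ᶜ
  have hJ : JacobsonSpace ↥P := (Groth.Agent.S3433.result A).1
  let e : PrimeSpectrum A → Points X.obj := fun t => Points.ofPt a (U.left.fromSpecStalk u t)
  have he : Continuous e := (Points.continuous_ofPt a).comp (U.left.fromSpecStalk u).continuous
  have hspec : ∀ t, U.left.fromSpecStalk u t ⤳ u := fun t =>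
    (Scheme.range_fromSpecStalk.subset (Set.mem_range_self t) :)
  have hmem : ∀ t ∈ P, e t ⤳ Points.ofPt a u ∧ e t ≠ Points.ofPt a u := fun t ht =>
    ⟨(hspec t).map (Points.continuous_ofPt a), fun h => ht ((U.left.fromSpecStalk u).isEmbedding.injective
      ((eq_of_specializes_of_isDecent hd ha h.symm (hspec t)).symm.trans Scheme.fromSpecStalk_closedPoint.symm))⟩
  let W := {x' : Points X.obj // x' ⤳ Points.ofPt a u ∧ x' ≠ Points.ofPt a u}
  let π : P → W := fun t => ⟨e t, hmem t t.2⟩
  have hπ : Continuous π := (he.comp continuous_subtype_val).subtype_mk _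
  have hlift : ∀ (y z : W) (v : P), y.1 ⤳ z.1 → π v = z → ∃ w : P, w ⤳ v ∧ π w = y := fun y z v hyz hv => by
    subst hv
    obtain ⟨w, hw, hwy⟩ := exists_specializes_lift_of_isDecent hd ha (show y.1 ⤳ Points.ofPt a _ from hyz)
    obtain ⟨t, rfl⟩ : w ∈ Set.range (U.left.fromSpecStalk u) :=
      Scheme.range_fromSpecStalk.symm.subset (hw.trans (hspec v.1))
    have ht : t ∈ P := fun h => y.2.2 (by
      rw [← hwy, (h : t = IsLocalRing.closedPoint A), Scheme.fromSpecStalk_closedPoint])
    refine ⟨⟨t, ht⟩, (subtype_specializes_iff _ _).2 ((U.left.fromSpecStalk u).isEmbedding.specializes_iff.1 hw),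
      Subtype.ext hwy⟩
  have hsurj : Function.Surjective π := fun y => by
    obtain ⟨w, hw, hwy⟩ := exists_specializes_lift_of_isDecent hd ha y.2.1
    obtain ⟨t, rfl⟩ : w ∈ Set.range (U.left.fromSpecStalk u) := Scheme.range_fromSpecStalk.symm.subset hw
    exact ⟨⟨t, fun h => y.2.2 (by
      rw [← hwy, (h : t = IsLocalRing.closedPoint A), Scheme.fromSpecStalk_closedPoint])⟩, Subtype.ext hwy⟩
  have hNW : NoetherianSpace W := noetherianSpace_of_surjective π hπ hsurj
  have hgen : StableUnderGeneralization {x' : Points X.obj | x' ⤳ Points.ofPt a u ∧ x' ≠ Points.ofPt a u} :=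
    fun p q hqp hp => ⟨hqp.trans hp.1, fun e => hp.2 ((hp.1.antisymm (e ▸ hqp)).eq)⟩
  have hqs : QuasiSober W := quasiSober_of_stableUnderGeneralization hgen
  have hT0 : T0Space W := inferInstanceAs (T0Space {x' : Points X.obj // _})
  refine ⟨hNW, { }, hqs, jacobsonSpace_iff_locallyClosed.2 fun Z hZne hZ => ?_⟩
  obtain ⟨O, C, hO, hC, rfl⟩ := hZ
  have : Nonempty ↥(O ∩ C) := hZne.to_subtype
  obtain ⟨⟨q, hqO, hqC⟩, -, hq⟩ := (isClosed_univ (X := ↥(O ∩ C))).exists_closed_singleton Set.univ_nonempty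
  refine ⟨q, ⟨hqO, hqC⟩, isClosed_of_closure_subset fun y hy => ?_⟩
  have hqy : q ⤳ y := specializes_iff_mem_closure.2 hy
  obtain ⟨v, hv⟩ := hsurj y
  obtain ⟨w, hwv, hw⟩ := hlift q y v (hqy.map continuous_subtype_val) hv
  have hmax : ∀ t : P, π t ∈ O → w ⤳ t → t = w := fun t ht hwt => by
    have h1 : q ⤳ π t := hw ▸ hwt.map hπ
    have h2 : (⟨π t, ht, h1.mem_closed hC hqC⟩ : ↥(O ∩ C)) ∈ ({⟨q, hqO, hqC⟩} : Set ↥(O ∩ C)) :=
      ((subtype_specializes_iff ⟨q, hqO, hqC⟩ _).2 h1).mem_closed hq rfl
    have h3 : π t = q := congrArg Subtype.val (Set.eq_of_mem_singleton h2)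
    have h4 : w.1 ⤳ t.1 := hwt.map continuous_subtype_val
    exact Subtype.ext ((U.left.fromSpecStalk u).isEmbedding.injective (eq_of_specializes_of_isDecent hd ha
      (congrArg Subtype.val (h3.trans hw.symm)) (h4.map (U.left.fromSpecStalk u).continuous)))
  have hwc : IsClosed ({w} : Set P) := isClosed_singleton_of_isLocallyClosed_singleton
    ⟨π ⁻¹' O, closure {w}, hO.preimage hπ, isClosed_closure, Set.Subset.antisymm
      (fun t ht => by rw [(ht : t = w)]; exact ⟨(show π w ∈ O from hw.symm ▸ hqO), subset_closure rfl⟩)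
      fun t ht => hmax t ht.1 (specializes_iff_mem_closure.2 ht.2)⟩
  have : v = w := hwv.mem_closed hwc rfl
  rw [← hv, this, hw]
  rfl

end Groth.Agent.AlgSpDM.Punctured
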