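import Groth.Agent.AlgSpDM.FieldSchStage
import Groth.Agent.AlgSpDM.FinLocFreeClass
import Groth.Agent.AlgSpDM.ConjAvoid

/-!
# Descent of representability along purely transcendental extensions
-/

set_option autoImplicit false
set_option backward.isDefEq.respectTransparency false
set_option backward.isDefEq.respectTransparency.types false
set_option maxHeartbeats 800000

universe u

open CategoryTheory CategoryTheory.Limits AlgebraicGeometry Opposite AlgSp Groth.Agent.AlgSpLib
  Groth.Agent.AlgSpPts Groth.Agent.AlgSpDec Groth.Agent.AlgSpDM.GeomConn Groth.Agent.AlgSpDM.SchPt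

namespace Groth.Agent.AlgSpDM.FieldSch

variable {k : Type u} [Field k]

local notation "Sk" => Spec (CommRingCat.of k)

/-- The scheme of an algebra over the base field. -/
noncomputable abbrev ptA (k : Type u) [Field k] (A : Type u) [CommRing A] [Algebra k A] :
    Over (Spec (CommRingCat.of k)) :=
  Over.mk (Spec.map (CommRingCat.ofHom (algebraMap k A)))

/-- The morphism of schemes of an algebra map. -/
noncomputable def ptAHom {A B : Type u} [CommRing A] [CommRing B] [Algebra k A] [Algebra k B] (φ : A →ₐ[k] B) :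
    ptA k B ⟶ ptA k A :=
  Over.homMk (Spec.map (CommRingCat.ofHom φ.toRingHom)) (by
    simp only [Over.mk_hom]
    rw [← Spec.map_comp, ← CommRingCat.ofHom_comp, AlgHom.toRingHom_eq_coe, AlgHom.comp_algebraMap])

theorem isPullback_prod_map_left {S : Scheme.{u}} {A B : Sp S} (j : A ⟶ B) (Y : Sp S) :
    IsPullback (prod.fst : A ⨯ Y ⟶ A) (prod.map j (𝟙 Y)) j (prod.fst : B ⨯ Y ⟶ B) :=
  ⟨⟨by simp⟩, ⟨PullbackCone.IsLimit.mk _ (fun s => prod.lift s.fst (s.snd ≫ prod.snd))
    (fun s => by simp) (fun s => by apply Limits.prod.hom_ext <;> simp [s.condition])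
    (fun s l h1 h2 => by
      apply Limits.prod.hom_ext
      · simpa using h1
      · simpa using h2 =≫ prod.snd)⟩⟩

theorem exists_algebra_of_fg_fraction {ι : Type u} (R : FGSub k (FractionRing (MvPolynomial ι k))) :
    ∃ f : MvPolynomial ι k, f ≠ 0 ∧ Nonempty (R.1 →ₐ[k] Localization.Away f) := by
  classical
  obtain ⟨s, hs⟩ := R.2
  choose a b hb hab using fun x : FractionRing (MvPolynomial ι k) =>
    IsFractionRing.div_surjective (A := MvPolynomial ι k) x
  have hb0 : ∀ x, b x ≠ 0 := fun x => nonZeroDivisors.ne_zero (hb x)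
  let f : MvPolynomial ι k := ∏ x ∈ s, b x
  have hf : f ≠ 0 := Finset.prod_ne_zero_iff.2 fun x _ => hb0 x
  have hu : ∀ y : Submonoid.powers f,
      IsUnit (IsScalarTower.toAlgHom k (MvPolynomial ι k) (FractionRing (MvPolynomial ι k)) (y : MvPolynomial ι k)) := by
    rintro ⟨_, n, rfl⟩
    exact isUnit_iff_ne_zero.2 (by simp [hf])
  let ψ : Localization.Away f →ₐ[k] FractionRing (MvPolynomial ι k) :=
    IsLocalization.liftAlgHom (M := Submonoid.powers f) hu
  have hψ : Function.Injective ψ := by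
    refine (IsLocalization.lift_injective_iff (M := Submonoid.powers f) (S := Localization.Away f) hu).2
      fun x y => ?_
    rw [(IsLocalization.injective (Localization.Away f)
      (powers_le_nonZeroDivisors_of_noZeroDivisors hf)).eq_iff]
    exact ⟨fun h => h ▸ rfl, fun h => IsFractionRing.injective _ _ h⟩
  have hle : R.1 ≤ ψ.range := by
    rw [← hs, Algebra.adjoin_le_iff]
    intro x hx
    obtain ⟨c, hc⟩ : b x ∣ f := Finset.dvd_prod_of_mem _ hx
    refine ⟨IsLocalization.mk' (Localization.Away f) (a x * c) (⟨f, Submonoid.mem_powers f⟩ : Submonoid.powers f), ?_⟩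
    show IsLocalization.lift hu _ = x
    rw [IsLocalization.lift_mk'_spec]
    show algebraMap _ _ (a x * c) = algebraMap _ _ f * x
    have : algebraMap (MvPolynomial ι k) (FractionRing (MvPolynomial ι k)) (b x) ≠ 0 :=
      (map_ne_zero_iff _ (IsFractionRing.injective _ _)).2 (hb0 x)
    rw [hc, map_mul, map_mul, (div_eq_iff this).1 (hab x)]
    ring
  exact ⟨f, hf, ⟨((AlgEquiv.ofInjective ψ hψ).symm.toAlgHom).comp (Subalgebra.inclusion hle)⟩⟩

theorem repWith_finLocFree_fst {X : Sp Sk} (k' : Type u) [Field k'] [Algebra k k'] [Module.Finite k k'] :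
    RepWith finLocFree (prod.fst : X ⨯ (yon Sk).obj (pt k k') ⟶ X) ∧
      RepWith @Surjective (prod.fst : X ⨯ (yon Sk).obj (pt k k') ⟶ X) := by
  have h1 : IsFinite (toS (pt k k')).left :=
    (IsFinite.SpecMap_iff _).2 (RingHom.finite_algebraMap.2 ‹_›)
  have h2 : Flat (toS (pt k k')).left := flat_spec k k'
  have h3 : LocallyOfFinitePresentation (toS (pt k k')).left :=
    (HasRingHomProperty.Spec_iff (P := @LocallyOfFinitePresentation)).2
      (RingHom.finitePresentation_algebraMap.2
        (Algebra.FinitePresentation.of_finiteType.1 (inferInstance : Algebra.FiniteType k k')))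
  have h4 : Surjective (toS (pt k k')).left := surjective_spec k k'
  have sq := (isPullback_prod_fst (X := X) (pt k k')).flip
  exact ⟨repWith_of_isPullback sq ((repWith_yon_map_iff finLocFree _).2 ⟨h1, h2, h3⟩),
    repWith_of_isPullback sq ((repWith_yon_map_iff @Surjective _).2 h4)⟩

theorem isSchPt_of_purelyTranscendental {X : Sp Sk} (hX : IsAlgSpace X) (hqc : IsQuasiCompactSp X)
    (hqs : IsQuasiSeparatedSp X) (ι : Type u)
    (h : (X ⨯ (yon Sk).obj (pt k (FractionRing (MvPolynomial ι k)))).obj.IsRepresentable) (x : Points X) :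
    IsSchPt X x := by
  classical
  obtain ⟨R, hR⟩ := exists_fg_stage _ hX hqc hqs h
  obtain ⟨f, hf, ⟨φR⟩⟩ := exists_algebra_of_fg_fraction R
  let B := Localization.Away f
  let TB := ptA k B
  have hB : (X ⨯ (yon Sk).obj TB).obj.IsRepresentable :=
    isRepresentable_prod_of_hom (ptAHom φR : TB ⟶ (fgSys k _).obj (op R)) hR
  -- a chart of the fibre over the point
  obtain ⟨p, rfl⟩ := Points.mk_surjective x
  let κ := p.K
  let _ : Algebra k κ := (Spec.preimage p.str).hom.toAlgebra
  have hstr : Spec.map (CommRingCat.ofHom (algebraMap k κ)) = p.str := Spec.map_preimage p.str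
  let fκ : MvPolynomial ι κ := MvPolynomial.map (algebraMap k κ) f
  have hfκ : fκ ≠ 0 := (map_ne_zero_iff _ (MvPolynomial.map_injective _ (algebraMap k κ).injective)).2 hf
  let C := Localization.Away fκ
  have : IsDomain C := IsLocalization.isDomain_localization (powers_le_nonZeroDivisors_of_noZeroDivisors hfκ)
  let pol : MvPolynomial ι k →ₐ[k] C :=
    (IsScalarTower.toAlgHom k (MvPolynomial ι κ) C).comp
      (MvPolynomial.aeval (R := k) fun j => (MvPolynomial.X j : MvPolynomial ι κ))
  have hpol : ∀ P, pol P = algebraMap (MvPolynomial ι κ) C (MvPolynomial.map (algebraMap k κ) P) := by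
    intro P
    change algebraMap _ C (MvPolynomial.aeval (fun j => (MvPolynomial.X j : MvPolynomial ι κ)) P) = _
    congr 1
    induction P using MvPolynomial.induction_on with
    | C a => simp
    | add P Q hP hQ => simp [hP, hQ]
    | mul_X P j hP => simp [hP]
  let φC : B →ₐ[k] C := IsLocalization.liftAlgHom (M := Submonoid.powers f) (f := pol) (by
    rintro ⟨_, n, rfl⟩
    rw [map_pow, hpol]
    exact (IsLocalization.map_units C (⟨fκ, Submonoid.mem_powers fκ⟩ : Submonoid.powers fκ)).pow n)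
  let πκ : ptA k C ⟶ p.pt := Over.homMk (Spec.map (CommRingCat.ofHom (algebraMap κ C))) (by
    show Spec.map _ ≫ p.str = Spec.map _
    rw [← hstr, ← Spec.map_comp, ← CommRingCat.ofHom_comp, ← IsScalarTower.algebraMap_eq])
  let Ψ : (yon Sk).obj (ptA k C) ⟶ X ⨯ (yon Sk).obj TB :=
    prod.lift ((yon Sk).map πκ ≫ p.toHom) ((yon Sk).map (ptAHom φC))
  let η : ↥(ptA k C).left := (⟨⊥, Ideal.isPrime_bot⟩ : PrimeSpectrum C)
  obtain ⟨V, a, hV, ha, hz⟩ := exists_affine_of_isRepresentable hB (Points.ofPt Ψ η)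
  have hY : IsAlgSpace (X ⨯ (yon Sk).obj TB) := isAlgSpace_prod hX (IsAlgSpace.yon_obj _)
  have hop : IsOpen (Points.ofPt Ψ ⁻¹' Set.range (Points.ofPt a)) := by
    rw [← range_map_eq_ofPt]
    exact (isOpenEmbedding_map' hY ha).isOpen_range.preimage (Points.continuous_ofPt Ψ)
  obtain ⟨_, ⟨g, rfl⟩, hgη, hg⟩ :=
    PrimeSpectrum.isTopologicalBasis_basic_opens.exists_subset_of_mem_open (show η ∈ _ from hz) hop
  have hg0 : g ≠ 0 := fun h0 => hgη (show g ∈ (⊥ : Ideal C) by rw [h0]; exact zero_mem _)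
  obtain ⟨⟨G, u⟩, hG⟩ := IsLocalization.surj (Submonoid.powers fκ) g
  have hG0 : G ≠ 0 := fun h0 => by
    rw [h0, map_zero, mul_eq_zero] at hG
    exact hG.elim hg0 (IsLocalization.map_units C u).ne_zero
  obtain ⟨n, e, he, P, hP⟩ := MvPolynomial.exists_fin_rename (G * fκ)
  have hP0 : P ≠ 0 := fun h0 => mul_ne_zero hG0 hfκ (by rw [hP, h0, map_zero])
  obtain ⟨k', _, _, t₀, hk', ht⟩ := exists_avoid (k := k) hP0
  let t : ι → k' := Function.extend e t₀ 0
  have hte : t ∘ e = t₀ := funext fun j => he.extend_apply _ _ _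
  have key : ∀ (Ω : Type u) [Field Ω] (i : κ →+* Ω) (σ : k' →+* Ω),
      i.comp (algebraMap k κ) = σ.comp (algebraMap k k') →
        MvPolynomial.eval₂ i (σ ∘ t) G ≠ 0 ∧ MvPolynomial.eval₂ i (σ ∘ t) fκ ≠ 0 := by
    intro Ω _ i σ hσ
    have h1 := ht Ω i σ hσ
    rw [← hte, ← Function.comp_assoc, ← MvPolynomial.eval₂_rename, ← hP, MvPolynomial.eval₂_mul] at h1
    exact ⟨left_ne_zero_of_mul h1, right_ne_zero_of_mul h1⟩
  -- the evaluation at the tuple
  have hevf : ∀ (Ω : Type u) [Field Ω] (i : κ →+* Ω) (σ : k' →+* Ω),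
      i.comp (algebraMap k κ) = σ.comp (algebraMap k k') → ∀ Q : MvPolynomial ι k,
        σ (MvPolynomial.aeval t Q) = MvPolynomial.eval₂ i (σ ∘ t) (MvPolynomial.map (algebraMap k κ) Q) := by
    intro Ω _ i σ hσ Q
    rw [MvPolynomial.eval₂_map, hσ, MvPolynomial.aeval_def, MvPolynomial.eval₂_comp_left]
  obtain ⟨m, hm⟩ := Ideal.exists_maximal (TensorProduct k κ k')
  have hft : MvPolynomial.aeval t f ≠ 0 := by
    letI := Ideal.Quotient.field m
    intro h0
    have hσ : ((Ideal.Quotient.mkₐ k m).comp Algebra.TensorProduct.includeLeft).toRingHom.comp (algebraMap k κ) =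
        ((Ideal.Quotient.mkₐ k m).comp Algebra.TensorProduct.includeRight).toRingHom.comp (algebraMap k k') := by
      rw [AlgHom.toRingHom_eq_coe, AlgHom.toRingHom_eq_coe, AlgHom.comp_algebraMap, AlgHom.comp_algebraMap]
    have := (key _ _ _ hσ).2
    rw [← hevf _ _ _ hσ, h0, map_zero] at this
    exact this rfl
  let φt : B →ₐ[k] k' := IsLocalization.liftAlgHom (M := Submonoid.powers f) (f := MvPolynomial.aeval t) (by
    rintro ⟨_, n, rfl⟩
    exact isUnit_iff_ne_zero.2 (by simp [hft]))
  -- the affine open containing the fibre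
  let gt : pt k k' ⟶ TB := ptAHom φt
  let μ : X ⨯ (yon Sk).obj (pt k k') ⟶ X ⨯ (yon Sk).obj TB := prod.map (𝟙 X) ((yon Sk).map gt)
  have : IsAffine (pt k k').left := inferInstanceAs (IsAffine (Spec _))
  have : IsAffine TB.left := inferInstanceAs (IsAffine (Spec _))
  have hμ : RepWith @IsAffineHom μ := repWith_of_isPullback (isPullback_prod_map X _)
    ((repWith_yon_map_iff _ _).2 (inferInstanceAs (IsAffineHom gt.left)))
  let V' := hμ.rep.pullback a
  let a' : (yon Sk).obj V' ⟶ X ⨯ (yon Sk).obj (pt k k') := hμ.rep.fst a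
  have sqV : IsPullback a' ((yon Sk).map (hμ.rep.snd a)) μ a := hμ.rep.isPullback a
  have : IsAffineHom (hμ.rep.snd a).left := hμ.property_snd a
  have : IsAffine V.left := hV
  have : IsAffine V'.left := isAffine_of_isAffineHom (hμ.rep.snd a).left
  have ha' : RepWith @IsOpenImmersion a' := repWith_of_isPullback sqV.flip ha
  have hXk' : IsAlgSpace (X ⨯ (yon Sk).obj (pt k k')) := isAlgSpace_prod hX (IsAlgSpace.yon_obj _)
  obtain ⟨hff, hfs⟩ := repWith_finLocFree_fst (X := X) k'
  obtain ⟨T, j, hj, hx⟩ := exists_open_subscheme_of_fibre_affine hXk' hX hff hfs (Points.mk p) a' ha' (by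
    intro q hq
    -- lift the point of the fibre
    let a0 : Limits.pullback (toS p.pt) (toS (pt k k')) ⟶ p.pt := Limits.pullback.fst _ _
    let b0 : Limits.pullback (toS p.pt) (toS (pt k k')) ⟶ pt k k' := Limits.pullback.snd _ _
    let M : (yon Sk).obj (Limits.pullback (toS p.pt) (toS (pt k k'))) ⟶ X ⨯ (yon Sk).obj (pt k k') :=
      prod.lift ((yon Sk).map a0 ≫ p.toHom) ((yon Sk).map b0)
    have sqM : IsPullback ((yon Sk).map a0) M p.toHom prod.fst := by
      have h2 := (IsPullback.of_hasPullback (toS p.pt) (toS (pt k k'))).map (yon Sk)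
      have e : (yon Sk).map (toS p.pt) =
          p.toHom ≫ (IsTerminal.isTerminalObj (yon Sk) _ Over.mkIdTerminal).from X :=
        (IsTerminal.isTerminalObj (yon Sk) _ Over.mkIdTerminal).hom_ext _ _
      rw [e] at h2
      refine (IsPullback.of_right ?_ (prod.lift_fst _ _) (isPullback_prod_fst (X := X) (pt k k')).flip).flip
      rw [prod.lift_snd]
      exact h2.flip
    obtain ⟨r, -, hr⟩ := exists_point_of_isPullback sqM
      (x := Points.ofScheme p.pt (IsLocalRing.closedPoint p.K)) (y := q)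
      (by rw [show Points.map prod.fst q = Points.mk p from hq, ← Points.ofPt_eq_map_ofScheme, Points.ofPt_toHom])
    obtain ⟨w, rfl⟩ := (Points.schemeHomeo _).surjective r
    let Q := Limits.pullback (toS p.pt) (toS (pt k k'))
    let Ω := Q.left.residueField w
    let δ : Spec Ω ⟶ Q.left := Q.left.fromSpecResidueField w
    let i : κ →+* Ω := (Spec.preimage (δ ≫ a0.left)).hom
    let σ : k' →+* Ω := (Spec.preimage (δ ≫ b0.left)).hom
    have hσ : i.comp (algebraMap k κ) = σ.comp (algebraMap k k') := by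
      have : CommRingCat.ofHom (algebraMap k κ) ≫ Spec.preimage (δ ≫ a0.left) =
          CommRingCat.ofHom (algebraMap k k') ≫ Spec.preimage (δ ≫ b0.left) := by
        refine Spec.map_injective ?_
        rw [Spec.map_comp, Spec.map_comp, Spec.map_preimage, Spec.map_preimage, hstr, Category.assoc,
          Category.assoc]
        exact congrArg (δ ≫ ·) ((Over.w a0).trans (Over.w b0).symm)
      exact congrArg (fun φ => φ.hom) this
    obtain ⟨hGΩ, hfΩ⟩ := key _ i σ hσ
    let ev : C →+* Ω := IsLocalization.lift (M := Submonoid.powers fκ) (g := MvPolynomial.eval₂Hom i (σ ∘ t))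
      (by rintro ⟨_, n, rfl⟩; exact isUnit_iff_ne_zero.2 (by simp [hfΩ]))
    have hev : ∀ Q, ev (algebraMap _ C Q) = MvPolynomial.eval₂ i (σ ∘ t) Q := fun Q => IsLocalization.lift_eq _ Q
    have hevC : ev.comp (algebraMap κ C) = i := RingHom.ext fun c => by
      show ev (algebraMap κ C c) = i c
      rw [IsScalarTower.algebraMap_apply κ (MvPolynomial ι κ) C, hev]
      simp
    have hevB : ev.comp φC.toRingHom = σ.comp φt.toRingHom := IsLocalization.ringHom_ext (Submonoid.powers f)
      (RingHom.ext fun Q => by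
        show ev (φC (algebraMap _ B Q)) = σ (φt (algebraMap _ B Q))
        have e1 : φC (algebraMap _ B Q) = pol Q := IsLocalization.lift_eq _ Q
        have e2 : φt (algebraMap _ B Q) = MvPolynomial.aeval t Q := IsLocalization.lift_eq _ Q
        rw [e1, e2, hpol, hev, hevf _ i σ hσ])
    let P' : Over Sk := Over.mk (δ ≫ Q.hom)
    let dQ : P' ⟶ Q := Over.homMk δ rfl
    let dC : P' ⟶ ptA k C := Over.homMk (Spec.map (CommRingCat.ofHom ev)) (by
      show Spec.map (CommRingCat.ofHom ev) ≫ Spec.map _ = δ ≫ Q.hom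
      rw [← Over.w a0, ← Spec.map_comp, ← CommRingCat.ofHom_comp, IsScalarTower.algebraMap_eq k κ C,
        ← RingHom.comp_assoc, hevC, CommRingCat.ofHom_comp, Spec.map_comp, hstr]
      show _ = δ ≫ a0.left ≫ p.str
      exact (congrArg (· ≫ _) (Spec.map_preimage (δ ≫ a0.left))).trans (Category.assoc _ _ _))
    have h1 : dC ≫ πκ = dQ ≫ a0 := Over.OverMorphism.ext (by
      show Spec.map _ ≫ Spec.map _ = δ ≫ a0.left
      rw [← Spec.map_comp, ← CommRingCat.ofHom_comp, hevC]
      exact Spec.map_preimage _)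
    have h2 : dC ≫ ptAHom φC = dQ ≫ b0 ≫ gt := Over.OverMorphism.ext (by
      show Spec.map _ ≫ Spec.map _ = δ ≫ b0.left ≫ Spec.map _
      rw [← Spec.map_comp, ← CommRingCat.ofHom_comp, hevB, CommRingCat.ofHom_comp, Spec.map_comp,
        ← Category.assoc]
      exact congrArg (· ≫ _) (Spec.map_preimage _))
    have hΨ : (yon Sk).map dC ≫ Ψ = (yon Sk).map dQ ≫ M ≫ μ := by
      apply Limits.prod.hom_ext
      · simp only [Ψ, M, μ, Category.assoc, prod.map_fst, prod.lift_fst, prod.lift_fst_assoc, Category.comp_id]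
        rw [← Category.assoc, ← Category.assoc, ← Functor.map_comp, ← Functor.map_comp, h1]
      · simp only [Ψ, M, μ, Category.assoc, prod.map_snd, prod.lift_snd, prod.lift_snd_assoc]
        rw [← Functor.map_comp, ← Functor.map_comp, ← Functor.map_comp, h2]
    let w₀ : ↥P'.left := IsLocalRing.closedPoint Ω
    have hmem : dC.left w₀ ∈ (PrimeSpectrum.basicOpen g : Set (PrimeSpectrum C)) := by
      intro hgw
      have : ev g = 0 := (Submodule.mem_bot Ω).1 (by
        have hb : (IsLocalRing.closedPoint Ω).asIdeal = (⊥ : Ideal Ω) := IsLocalRing.maximalIdeal_eq_bot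
        rw [← hb]
        exact hgw)
      have h0 := congrArg ev hG
      rw [map_mul, this, zero_mul, hev] at h0
      exact hGΩ h0.symm
    have e1 : Points.ofPt Ψ (dC.left w₀) = Points.map μ q := by
      rw [← ofPt_comp, hΨ, ofPt_comp, ← Points.map_ofPt, ← hr]
      congr 1
      rw [show dQ.left w₀ = w from Scheme.fromSpecResidueField_apply _ _]
      exact Points.ofPt_eq_map_ofScheme M w
    have hqV : Points.map μ q ∈ Set.range (Points.ofPt a) := e1 ▸ hg hmem
    rw [← range_map_eq_ofPt] at hqV ⊢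
    rw [range_map_snd_of_isPullback sqV.flip]
    exact hqV)
  exact ⟨T, j, hj, (range_map_eq_ofPt j) ▸ hx⟩

theorem isRepresentable_of_purelyTranscendental {X : Sp Sk} (hX : IsAlgSpace X) (hqs : IsQuasiSeparatedSp X)
    (ι : Type u) (h : (X ⨯ (yon Sk).obj (pt k (FractionRing (MvPolynomial ι k)))).obj.IsRepresentable) :
    X.obj.IsRepresentable := by
  refine isRepresentable_of_forall hX fun x => ?_
  obtain ⟨W, j, hW, hj, ⟨w, rfl⟩, hWc, hWs⟩ := exists_qcqs_nhd hX hqs x
  exact isSchPt_of_openImm hj (isSchPt_of_purelyTranscendental hW hWc hWs ι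
    (isRepresentable_of_openImm (repWith_prod_map _ hj) h) w)

end Groth.Agent.AlgSpDM.FieldSch
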