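import Groth.Agent.AlgSpPts.OpenSub
import Groth.Agent.AlgSpPts.FppfTarget
import Groth.Agent.AlgSpDec.LqfScheme
import Groth.Agent.AlgSpDec.ZarCover
import Groth.Agent.AlgSpDec.PointsSpectral
import Groth.Agent.AlgSpDec.AffineRep

/-!
# Quasi-compact etale charts of open subspaces
-/

set_option autoImplicit false
set_option backward.isDefEq.respectTransparency false
set_option backward.isDefEq.respectTransparency.types false
set_option maxHeartbeats 800000

universe u

open CategoryTheory CategoryTheory.Limits AlgebraicGeometry AlgSp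
open Groth.Agent.AlgSpLib Groth.Agent.AlgSpPts Groth.Agent.AlgSpDec

namespace Groth.Agent.AlgSpDM.QcCharts

variable {S : Scheme.{u}}

theorem quasiCompact_of_isPullback {A B : Sp S} {j : A ⟶ B} [Mono j] {U : Over S} {a : (yon S).obj U ⟶ A}
    (ha : RepWith @QuasiCompact a) {R : Over S} {s t : R ⟶ U}
    (sq : IsPullback ((yon S).map t) ((yon S).map s) (a ≫ j) (a ≫ j)) :
    QuasiCompact s.left ∧ QuasiCompact t.left := by
  have sq' : IsPullback ((yon S).map t) ((yon S).map s) a a :=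
    ⟨⟨(cancel_mono j).1 (by simpa using sq.w)⟩, ⟨PullbackCone.IsLimit.mk _
      (fun c => sq.lift c.fst c.snd (by rw [reassoc_of% c.condition]))
      (fun c => sq.lift_fst _ _ _) (fun c => sq.lift_snd _ _ _)
      (fun c m h1 h2 => sq.hom_ext (by rw [h1, sq.lift_fst]) (by rw [h2, sq.lift_snd]))⟩⟩
  exact ⟨ha.property _ _ _ sq', ha.property _ _ _ sq'.flip⟩

/-- A chart with quasi-compact projections is quasi-compact onto its image. -/
theorem exists_image {X : Sp S} (hX : IsAlgSpace X) {U : Over S} {φ : (yon S).obj U ⟶ X} (hφ : RepWith @Etale φ)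
    (h : ∀ (R : Over S) (s t : R ⟶ U), IsPullback ((yon S).map t) ((yon S).map s) φ φ →
      QuasiCompact s.left ∧ QuasiCompact t.left) :
    ∃ (A : Sp S) (j : A ⟶ X) (a : (yon S).obj U ⟶ A), IsAlgSpace A ∧ RepWith @IsOpenImmersion j ∧ a ≫ j = φ ∧
      Set.range (Points.map j) = Set.range (Points.ofPt φ) ∧
      RepWith @Etale a ∧ RepWith @Surjective a ∧ RepWith @QuasiCompact a := by
  obtain ⟨A, j, hA, hj, hjr⟩ := exists_open_subspace hX (isOpenMap_ofPt hφ).isOpen_range
  obtain ⟨a, ha⟩ := AlgSpDec.exists_factor_open hj φ fun u => hjr.symm ▸ ⟨u, rfl⟩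
  have := mono_of_openImmersion hj
  have hae : RepWith @Etale a := repWith_etale_of_comp a j (ha.symm ▸ hφ)
    (repWith_mono (fun _ _ e (_ : IsOpenImmersion e) => inferInstanceAs (Etale e)) _ hj)
  have has : RepWith @Surjective a := repWith_surjective_of_surjective hae.rep fun x => by
    obtain ⟨u, hu⟩ : Points.map j x ∈ Set.range (Points.ofPt φ) := hjr ▸ ⟨x, rfl⟩
    refine ⟨Points.ofScheme U u, (isOpenEmbedding_map' hX hj).injective ?_⟩
    rw [← Points.ofPt_eq_map_ofScheme, Points.map_ofPt, ha, hu]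
  have := isLocallySurjective_of_etale_surjective hae has
  have := isLocalAtTarget_fppf (@QuasiCompact : MorphismProperty Scheme.{u})
  have sqR := hae.rep.isPullback' a
  have sqφ : IsPullback ((yon S).map (hae.rep.fst' a)) ((yon S).map (hae.rep.snd a)) φ φ := by
    rw [← ha]
    exact ⟨⟨by rw [reassoc_of% sqR.w]⟩, ⟨PullbackCone.IsLimit.mk _
      (fun c => sqR.lift c.fst c.snd ((cancel_mono j).1 (by simpa using c.condition)))
      (fun c => sqR.lift_fst _ _ _) (fun c => sqR.lift_snd _ _ _)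
      (fun c m h1 h2 => sqR.hom_ext (by rw [h1, sqR.lift_fst]) (by rw [h2, sqR.lift_snd]))⟩⟩
  exact ⟨A, j, a, hA, hj, ha, hjr, hae, has, repWith_of_locallySurjective hae.rep a sqR @QuasiCompact
    ((repWith_yon_map_iff _ _).2 (h _ _ _ sqφ).1)⟩

/-- The two formulations of the very reasonable condition. -/
theorem conditions_iff (X : Space S) :
    (∃ (ι : Type u) (Xi : ι → Space S) (j : ∀ i, Xi i ⟶ X) (U : ι → Over S)
        (a : ∀ i, (yon S).obj (U i) ⟶ (Xi i).obj),
        IsZarCover (fun i => (Xi i).obj) (fun i => (j i).hom) ∧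
          ∀ i, RepWith @Etale (a i) ∧ RepWith @Surjective (a i) ∧ RepWith @QuasiCompact (a i)) ↔
      ∃ (ι : Type u) (U : ι → Over S) (φ : ∀ i, (yon S).obj (U i) ⟶ X.obj),
        (∀ i, RepWith @Etale (φ i)) ∧
          (∀ x : Points X.obj, ∃ (i : ι) (v : ↥(U i).left), Points.ofPt (φ i) v = x) ∧
          ∀ (i : ι) (R : Over S) (s t : R ⟶ U i), IsPullback ((yon S).map t) ((yon S).map s) (φ i) (φ i) →
            QuasiCompact s.left ∧ QuasiCompact t.left := by
  constructor
  · rintro ⟨ι, Xi, j, U, a, hj, ha⟩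
    refine ⟨ι, U, fun i => a i ≫ (j i).hom, fun i => repWith_comp (ha i).1
      (repWith_mono (fun _ _ e (_ : IsOpenImmersion e) => inferInstanceAs (Etale e)) _ (hj.1 i)), fun x => ?_,
      fun i R s t sq => ?_⟩
    · obtain ⟨i, y, rfl⟩ := hj.2 x
      obtain ⟨v, rfl⟩ := surjective_ofPt (ha i).2.1 y
      exact ⟨i, v, (Points.map_ofPt _ _ _).symm⟩
    · have := mono_of_openImmersion (hj.1 i)
      exact quasiCompact_of_isPullback (ha i).2.2 sq
  · rintro ⟨ι, U, φ, hφ, hc, hq⟩
    choose A j a hA hj ha hjr hae has haq using fun i => exists_image X.property (hφ i) (hq i)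
    refine ⟨ι, fun i => ⟨A i, hA i⟩, fun i => ObjectProperty.homMk (j i), U, a, ⟨hj, fun x => ?_⟩,
      fun i => ⟨hae i, has i, haq i⟩⟩
    obtain ⟨i, v, hv⟩ := hc x
    obtain ⟨y, hy⟩ : x ∈ Set.range (Points.map (j i)) := hjr i ▸ ⟨v, hv⟩
    exact ⟨i, y, hy⟩

end Groth.Agent.AlgSpDM.QcCharts
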