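import Groth.Agent.AlgSpDec.FinDeg
import Groth.Agent.AlgSpDec.MonoPoint
import Groth.Agent.MorLib.ElemEtaleFinite
import Groth.Agent.EtFound.Descent
import Groth.Prelude.Def_Mor2

/-!
# The degree of the fibres of a flat separated quasi-finite morphism

The degree is lower semicontinuous, and where it is constant the morphism is finite locally free.
-/

set_option backward.isDefEq.respectTransparency false
set_option backward.isDefEq.respectTransparency.types false
set_option maxHeartbeats 800000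

universe u

open CategoryTheory CategoryTheory.Limits AlgebraicGeometry Groth.Agent.AlgSpDec

namespace Groth.Agent.AlgSpDM.QfDeg

variable {P T : Scheme.{u}}

/-- All fibres over fields are finite of degree at most `n`. -/
def FibLE (n : ℕ) (f : P ⟶ T) : Prop :=
  ∀ (K : Type u) [Field K] (Q : Scheme.{u}) (a : Q ⟶ P) (c : Q ⟶ Spec (CommRingCat.of K))
    (z : Spec (CommRingCat.of K) ⟶ T), IsPullback a c f z → DegLE n c

/-- The degree of the fibre over a point. -/
noncomputable def deg (f : P ⟶ T) (t : T) : ℕ :=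
  (pullback.snd f (T.fromSpecResidueField t)).finrank (IsLocalRing.closedPoint (T.residueField t))

theorem specField_eq {K : Type u} [Field K] (s : ↥(Spec (CommRingCat.of K))) : s = IsLocalRing.closedPoint K := by
  have : Subsingleton ↥(Spec (CommRingCat.of K)) := inferInstanceAs (Subsingleton (PrimeSpectrum K))
  exact Subsingleton.elim _ _

theorem FibLE.of_isPullback {n : ℕ} {f : P ⟶ T} (hb : FibLE n f) {P' T' : Scheme.{u}} {g' : P' ⟶ P}
    {f' : P' ⟶ T'} {g : T' ⟶ T} (sq : IsPullback g' f' f g) : FibLE n f' :=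
  fun K _ Q a c z h => hb K Q (a ≫ g') c (z ≫ g) (h.paste_horiz sq)

variable {n : ℕ}

theorem deg_eq {f : P ⟶ T} (hb : FibLE n f) {K : Type u} [Field K] {Q : Scheme.{u}} {a : Q ⟶ P}
    {c : Q ⟶ Spec (CommRingCat.of K)} {z : Spec (CommRingCat.of K) ⟶ T} {t : T}
    (ht : z (IsLocalRing.closedPoint K) = t) (sq : IsPullback a c f z) (s : ↥(Spec (CommRingCat.of K))) :
    c.finrank s = deg f t := by
  obtain ⟨l, hl⟩ := exists_factor_residueField z t fun s => by rw [specField_eq s, ht]
  let F := pullback.snd f (T.fromSpecResidueField t)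
  have : IsFinite F := (hb (T.residueField t) _ _ _ _ (IsPullback.of_hasPullback _ _)).1
  have : Flat F := flat_toField F
  have sq' : IsPullback (pullback.lift a (c ≫ l) (by rw [Category.assoc, hl, sq.w])) c F l := by
    refine IsPullback.of_right ?_ (pullback.lift_snd _ _ _) (IsPullback.of_hasPullback f (T.fromSpecResidueField t))
    rw [pullback.lift_fst, hl]; exact sq
  rw [Scheme.Hom.finrank_of_isPullback _ _ _ _ sq' s, deg]
  exact congrArg F.finrank (specField_eq (K := T.residueField t) (l s))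

theorem deg_of_isPullback {f : P ⟶ T} (hb : FibLE n f) {P' T' : Scheme.{u}} {g' : P' ⟶ P} {f' : P' ⟶ T'}
    {g : T' ⟶ T} (sq : IsPullback g' f' f g) (t' : T') : deg f' t' = deg f (g t') :=
  (deg_eq hb (K := T'.residueField t') (z := T'.fromSpecResidueField t' ≫ g) (t := g t')
    (by rw [Scheme.Hom.comp_apply]; exact congrArg g (Scheme.fromSpecResidueField_apply _ _))
    ((IsPullback.of_hasPullback f' (T'.fromSpecResidueField t')).paste_horiz sq) _)

theorem deg_le {f : P ⟶ T} (hb : FibLE n f) (t : T) : deg f t ≤ n :=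
  (hb (T.residueField t) _ _ _ _ (IsPullback.of_hasPullback f (T.fromSpecResidueField t))).2 _

/-- A proper open and closed piece of a finite scheme over a field has smaller degree. -/
theorem finrank_open_le {K : Type u} [Field K] {G : Scheme.{u}} (c : G ⟶ Spec (CommRingCat.of K)) [IsFinite c]
    (A : G.Opens) (hA : IsClosed (A : Set G)) (s : ↥(Spec (CommRingCat.of K))) :
    (A.ι ≫ c).finrank s ≤ c.finrank s ∧ ((A.ι ≫ c).finrank s = c.finrank s → A = ⊤) := by
  have : IsAffine G := isAffine_of_isAffineHom c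
  obtain ⟨B, _, _, e, he⟩ := AlgSpDec.exists_spec c
  have : IsClosedImmersion A.ι :=
    IsClosedImmersion.of_isPreimmersion _ (by rw [Scheme.Opens.range_ι]; exact hA)
  have : IsClosedImmersion (A.ι ≫ e.hom) := inferInstance
  obtain ⟨I, e', he'⟩ := IsClosedImmersion.Spec_iff.1 this
  have hA' : A.ι ≫ c = e'.hom ≫ Spec.map (CommRingCat.ofHom (algebraMap K (B ⧸ I))) := by
    rw [← he, ← Category.assoc, he', Category.assoc, ← Spec.map_comp]
    rfl
  have hfin : Module.Finite K B := by
    have h : IsFinite (Spec.map (CommRingCat.ofHom (algebraMap K B))) :=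
      (MorphismProperty.cancel_left_of_respectsIso @IsFinite e.hom _).1 (he ▸ ‹IsFinite c›)
    exact RingHom.finite_algebraMap.1 ((IsFinite.SpecMap_iff _).1 h)
  have : Flat (Spec.map (CommRingCat.ofHom (algebraMap K B))) := flat_toField _
  have : Flat (Spec.map (CommRingCat.ofHom (algebraMap K (B ⧸ I)))) := flat_toField _
  have : IsFinite (Spec.map (CommRingCat.ofHom (algebraMap K B))) :=
    (IsFinite.SpecMap_iff _).2 (RingHom.finite_algebraMap.2 hfin)
  have : IsFinite (Spec.map (CommRingCat.ofHom (algebraMap K (B ⧸ I)))) :=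
    (IsFinite.SpecMap_iff _).2 (RingHom.finite_algebraMap.2 inferInstance)
  have h1 : c.finrank s = Module.finrank K B := by
    rw [← he, Scheme.Hom.finrank_comp_left_of_isIso, Scheme.Hom.finrank_SpecMap_algebraMap,
      Module.rankAtStalk_eq_finrank_of_free]; rfl
  have h2 : (A.ι ≫ c).finrank s = Module.finrank K (B ⧸ I) := by
    rw [hA', Scheme.Hom.finrank_comp_left_of_isIso, Scheme.Hom.finrank_SpecMap_algebraMap,
      Module.rankAtStalk_eq_finrank_of_free]; rfl
  have h3 : Module.finrank K (B ⧸ I) + Module.finrank K (I.restrictScalars K) = Module.finrank K B :=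
    Submodule.finrank_quotient_add_finrank (I.restrictScalars K)
  refine ⟨by omega, fun h => ?_⟩
  have h0 : Module.finrank K (I.restrictScalars K) = 0 := by omega
  rw [Submodule.finrank_eq_zero, Submodule.restrictScalars_eq_bot_iff] at h0
  subst h0
  have : IsIso (CommRingCat.ofHom (Ideal.Quotient.mk (⊥ : Ideal B))) := by
    rw [ConcreteCategory.isIso_iff_bijective]
    exact ⟨(RingHom.injective_iff_ker_eq_bot _).2 (Ideal.mk_ker), Ideal.Quotient.mk_surjective⟩
  have : IsIso (A.ι ≫ e.hom) := by rw [he']; infer_instance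
  have : IsIso A.ι := IsIso.of_isIso_comp_right A.ι e.hom
  refine top_le_iff.1 fun x _ => ?_
  obtain ⟨y, rfl⟩ := A.ι.surjective x
  exact y.2

section

variable {Q U : Scheme.{u}}

theorem isClosed_piece (c : Q ⟶ U) [IsSeparated c] (F : Q.Opens) [IsFinite (F.ι ≫ c)] :
    IsClosed (F : Set Q) := by
  have : IsFinite F.ι := IsFinite.of_comp F.ι c
  rw [← Scheme.Opens.range_ι]
  exact F.ι.isClosedMap.isClosed_range

/-- A finite open piece has degree at most that of the fibre, with equality only if it fills the fibre. -/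
theorem finrank_piece_le (c : Q ⟶ U) [Flat c] [IsSeparated c] (F : Q.Opens) [IsFinite (F.ι ≫ c)] (u : U) (hfib : IsFinite (pullback.snd c (U.fromSpecResidueField u))) :
    (F.ι ≫ c).finrank u ≤ deg c u ∧ ((F.ι ≫ c).finrank u = deg c u → ∀ w, c w = u → w ∈ F) := by
  let q := pullback.fst c (U.fromSpecResidueField u)
  let c' := pullback.snd c (U.fromSpecResidueField u)
  have sq := IsPullback.of_hasPullback c (U.fromSpecResidueField u)
  have : IsFinite c' := hfib
  have sqF : IsPullback (q ∣_ F) ((q ⁻¹ᵁ F).ι ≫ c') (F.ι ≫ c) (U.fromSpecResidueField u) :=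
    (isPullback_morphismRestrict q F).paste_vert sq
  obtain ⟨h1, h2⟩ := finrank_open_le c' (q ⁻¹ᵁ F) ((isClosed_piece c F).preimage q.continuous)
    (IsLocalRing.closedPoint (U.residueField u))
  have e : ((q ⁻¹ᵁ F).ι ≫ c').finrank (IsLocalRing.closedPoint (U.residueField u)) = (F.ι ≫ c).finrank u := by
    rw [Scheme.Hom.finrank_of_isPullback _ _ _ _ sqF, Scheme.fromSpecResidueField_apply]
  rw [e] at h1 h2
  refine ⟨h1, fun h w hw => ?_⟩
  obtain ⟨z, hz, -⟩ := Scheme.Pullback.exists_preimage_pullback w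
    (IsLocalRing.closedPoint (U.residueField u) : ↥(Spec (U.residueField u)))
    (hw.trans (Scheme.fromSpecResidueField_apply u _).symm)
  have : z ∈ q ⁻¹ᵁ F := by rw [h2 h]; trivial
  rw [← hz]; exact this

/-- A finite open piece containing the whole fibre has the degree of the fibre. -/
theorem finrank_piece_eq (c : Q ⟶ U) [Flat c] [IsSeparated c] (F : Q.Opens) [IsFinite (F.ι ≫ c)] (u : U)
    (hfib : IsFinite (pullback.snd c (U.fromSpecResidueField u))) (h : ∀ w, c w = u → w ∈ F) :
    (F.ι ≫ c).finrank u = deg c u := by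
  let q := pullback.fst c (U.fromSpecResidueField u)
  let c' := pullback.snd c (U.fromSpecResidueField u)
  have sq := IsPullback.of_hasPullback c (U.fromSpecResidueField u)
  have : IsFinite c' := hfib
  have : Flat c' := flat_toField c'
  have sqF : IsPullback (q ∣_ F) ((q ⁻¹ᵁ F).ι ≫ c') (F.ι ≫ c) (U.fromSpecResidueField u) :=
    (isPullback_morphismRestrict q F).paste_vert sq
  have htop : q ⁻¹ᵁ F = ⊤ := by
    refine top_le_iff.1 fun z _ => h (q z) ?_
    rw [← Scheme.Hom.comp_apply, pullback.condition, Scheme.Hom.comp_apply]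
    exact Scheme.fromSpecResidueField_apply u _
  have e : ((q ⁻¹ᵁ F).ι ≫ c').finrank (IsLocalRing.closedPoint (U.residueField u)) = (F.ι ≫ c).finrank u := by
    rw [Scheme.Hom.finrank_of_isPullback _ _ _ _ sqF, Scheme.fromSpecResidueField_apply]
  rw [← e, htop, deg]
  have : IsIso (⊤ : (pullback c (U.fromSpecResidueField u)).Opens).ι :=
    (Scheme.topIso _).isIso_hom
  exact congrFun (Scheme.Hom.finrank_comp_left_of_isIso _ c') _

end

theorem finrank_sub_le {G U : Scheme.{u}} (c : G ⟶ U) [Flat c] [IsFinite c] (A : G.Opens) (u : U)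
    (hA : IsClosed (A : Set G)) :
    (A.ι ≫ c).finrank u ≤ c.finrank u ∧ ((A.ι ≫ c).finrank u = c.finrank u → ∀ w, c w = u → w ∈ A) := by
  have : IsClosedImmersion A.ι :=
    IsClosedImmersion.of_isPreimmersion _ (by rw [Scheme.Opens.range_ι]; exact hA)
  have e : deg c u = c.finrank u := by
    rw [deg, Scheme.Hom.finrank_pullback_snd, Scheme.fromSpecResidueField_apply]
  rw [← e]
  exact finrank_piece_le c A u inferInstance

variable (f : P ⟶ T) [Flat f] [LocallyOfFinitePresentation f] [IsSeparated f] [LocallyQuasiFinite f]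
  (hb : FibLE n f)

/-- Etale data at a point: a finite open piece of the pulled back morphism of degree at least `k`, or full. -/
structure Data (t : T) (k : ℕ) : Type (u + 1) where
  U : Scheme.{u}
  g : U ⟶ T
  [etale : Etale g]
  u : U
  hu : g u = t
  Q : Scheme.{u}
  a : Q ⟶ P
  c : Q ⟶ U
  sq : IsPullback a c f g
  F : Q.Opens
  [finite : IsFinite (F.ι ≫ c)]
  rank : k ≤ (F.ι ≫ c).finrank u ∨ ∀ w, c w = u → w ∈ F

attribute [instance] Data.etale Data.finite

include hb in
theorem nonempty_data (t : T) (k : ℕ) : Nonempty (Data f t k) := by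
  induction k with
  | zero =>
    have : IsFinite ((⊥ : P.Opens).ι ≫ f) := by
      have : IsEmpty ↥((⊥ : P.Opens).toScheme) := ⟨fun x => x.2⟩
      infer_instance
    exact ⟨{ U := T, g := 𝟙 T, u := t, hu := rfl, Q := P, a := 𝟙 P, c := f,
             sq := IsPullback.of_horiz_isIso ⟨by simp⟩, F := ⊥, rank := Or.inl (Nat.zero_le _) }⟩
  | succ k ih =>
    obtain ⟨D⟩ := ih
    by_cases hfull : ∀ w, D.c w = D.u → w ∈ D.F
    · exact ⟨{ D with rank := Or.inr hfull }⟩
    push_neg at hfull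
    obtain ⟨w, hwu, hwF⟩ := hfull
    have hk : k ≤ (D.F.ι ≫ D.c).finrank D.u := D.rank.resolve_right fun h => hwF (h w hwu)
    have hbc : FibLE n D.c := hb.of_isPullback D.sq
    have : Flat D.c := MorphismProperty.of_isPullback (P := @Flat) D.sq ‹_›
    have : IsSeparated D.c := MorphismProperty.of_isPullback (P := @IsSeparated) D.sq ‹_›
    have : LocallyQuasiFinite D.c := MorphismProperty.of_isPullback (P := @LocallyQuasiFinite) D.sq ‹_›
    have : LocallyOfFinitePresentation D.c :=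
      MorphismProperty.of_isPullback (P := @LocallyOfFinitePresentation) D.sq ‹_›
    obtain ⟨U₁, g₁, u₁, hg₁, V, v, hvV, _, hvu, -, hvw, -⟩ :=
      MorLib.EEF.exists_elem_nbhd D.c w (D.c.quasiFiniteAt w)
    have := hg₁.etale
    let p := pullback.fst D.c g₁
    let c₁ := pullback.snd D.c g₁
    have sq₁ : IsPullback p c₁ D.c g₁ := IsPullback.of_hasPullback _ _
    have hg₁u : g₁ u₁ = D.u := hg₁.base_eq.trans hwu
    -- the old piece, pulled back
    have sqF : IsPullback (p ∣_ D.F) ((p ⁻¹ᵁ D.F).ι ≫ c₁) (D.F.ι ≫ D.c) g₁ :=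
      (isPullback_morphismRestrict p D.F).paste_vert sq₁
    have hFfin : IsFinite ((p ⁻¹ᵁ D.F).ι ≫ c₁) := MorphismProperty.of_isPullback (P := @IsFinite) sqF inferInstance
    have hcl : IsClosed ((p ⁻¹ᵁ D.F : (pullback D.c g₁).Opens) : Set ↥(pullback D.c g₁)) :=
      (isClosed_piece D.c D.F).preimage p.continuous
    let F' : (pullback D.c g₁).Opens := p ⁻¹ᵁ D.F ⊔ V
    let j₁ := (pullback D.c g₁).homOfLE (le_sup_left : p ⁻¹ᵁ D.F ≤ F')
    let j₂ := (pullback D.c g₁).homOfLE (le_sup_right : V ≤ F')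
    have hj₁ : j₁ ≫ F'.ι = (p ⁻¹ᵁ D.F).ι := Scheme.homOfLE_ι _ _
    have hj₂ : j₂ ≫ F'.ι = V.ι := Scheme.homOfLE_ι _ _
    have hdesc : coprod.desc j₁ j₂ ≫ F'.ι ≫ c₁ =
        coprod.desc ((p ⁻¹ᵁ D.F).ι ≫ c₁) (V.ι ≫ c₁) := by
      apply coprod.hom_ext
      · rw [coprod.inl_desc_assoc, coprod.inl_desc, reassoc_of% hj₁]
      · rw [coprod.inr_desc_assoc, coprod.inr_desc, reassoc_of% hj₂]
    have : Surjective (coprod.desc j₁ j₂) := ⟨fun x => by
      rcases (show x.1 ∈ p ⁻¹ᵁ D.F ∨ x.1 ∈ V from x.2) with h | h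
      · exact ⟨coprod.inl (C := Scheme.{u}) ⟨x.1, h⟩, by
          rw [← Scheme.Hom.comp_apply, coprod.inl_desc]
          exact F'.ι.isOpenEmbedding.injective (by rw [← Scheme.Hom.comp_apply, hj₁]; rfl)⟩
      · exact ⟨coprod.inr (C := Scheme.{u}) ⟨x.1, h⟩, by
          rw [← Scheme.Hom.comp_apply, coprod.inr_desc]
          exact F'.ι.isOpenEmbedding.injective (by rw [← Scheme.Hom.comp_apply, hj₂]; rfl)⟩⟩
    have : IsFinite (coprod.desc j₁ j₂ ≫ F'.ι ≫ c₁) := by rw [hdesc]; infer_instance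
    have : UniversallyClosed (F'.ι ≫ c₁) := UniversallyClosed.of_comp_surjective (coprod.desc j₁ j₂) _
    have : QuasiCompact (F'.ι ≫ c₁) := inferInstance
    have : IsProper (F'.ι ≫ c₁) := {}
    have hF'fin : IsFinite (F'.ι ≫ c₁) := IsFinite.of_isProper_of_locallyQuasiFinite _
    refine ⟨{ U := U₁, g := g₁ ≫ D.g, u := u₁, hu := by rw [Scheme.Hom.comp_apply, hg₁u, D.hu],
              Q := pullback D.c g₁, a := p ≫ D.a, c := c₁, sq := sq₁.paste_horiz D.sq, F := F',
              rank := Or.inl ?_ }⟩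
    -- the degree grows
    have hbc₁ : FibLE n c₁ := hbc.of_isPullback sq₁
    have e : ((p ⁻¹ᵁ D.F).ι ≫ c₁).finrank u₁ = (D.F.ι ≫ D.c).finrank D.u := by
      rw [Scheme.Hom.finrank_of_isPullback _ _ _ _ sqF, hg₁u]
    let A : F'.toScheme.Opens := F'.ι ⁻¹ᵁ (p ⁻¹ᵁ D.F)
    have hA : j₁.opensRange = A := by
      refine TopologicalSpace.Opens.ext (Set.ext fun x => ⟨?_, fun hx => ⟨⟨x.1, hx⟩, ?_⟩⟩)
      · rintro ⟨y, rfl⟩
        show F'.ι (j₁ y) ∈ p ⁻¹ᵁ D.F
        rw [← Scheme.Hom.comp_apply, hj₁]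
        exact y.2
      · exact F'.ι.isOpenEmbedding.injective (by rw [← Scheme.Hom.comp_apply, hj₁]; rfl)
    have hAι : (p ⁻¹ᵁ D.F).ι ≫ c₁ = (j₁.isoOpensRange.hom) ≫ j₁.opensRange.ι ≫ F'.ι ≫ c₁ := by
      rw [Scheme.Hom.isoOpensRange_hom_ι_assoc, reassoc_of% hj₁]
    have hAfin : IsFinite (j₁.opensRange.ι ≫ F'.ι ≫ c₁) :=
      (MorphismProperty.cancel_left_of_respectsIso @IsFinite _ _).1 (hAι ▸ hFfin)
    have hAflat : Flat (j₁.opensRange.ι ≫ F'.ι ≫ c₁) := inferInstance
    have e₂ : (j₁.opensRange.ι ≫ F'.ι ≫ c₁).finrank u₁ = (D.F.ι ≫ D.c).finrank D.u := by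
      rw [← e, hAι]
      exact (congrFun (Scheme.Hom.finrank_comp_left_of_isIso j₁.isoOpensRange.hom _) u₁).symm
    obtain ⟨h1, h2⟩ := finrank_sub_le (F'.ι ≫ c₁) j₁.opensRange u₁
      (by rw [hA]; exact hcl.preimage F'.ι.continuous)
    rw [e₂] at h1 h2
    refine Nat.succ_le_of_lt (lt_of_le_of_lt hk (lt_of_le_of_ne h1 fun h => ?_))
    have := h2 h ⟨v, Or.inr hvV⟩ hvu
    rw [hA] at this
    exact hwF (by rw [← hvw]; exact this)


include hb in
/-- At every point there is etale data filling the whole fibre. -/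
theorem exists_full_data (t : T) :
    ∃ D : Data f t (n + 1), (∀ w, D.c w = D.u → w ∈ D.F) ∧ (D.F.ι ≫ D.c).finrank D.u = deg f t ∧
      ∀ᶠ u' in nhds D.u, (D.F.ι ≫ D.c).finrank u' = deg f t := by
  obtain ⟨D⟩ := nonempty_data f hb t (n + 1)
  have hbc : FibLE n D.c := hb.of_isPullback D.sq
  have : Flat D.c := MorphismProperty.of_isPullback (P := @Flat) D.sq ‹_›
  have : IsSeparated D.c := MorphismProperty.of_isPullback (P := @IsSeparated) D.sq ‹_›
  have : LocallyOfFinitePresentation D.c :=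
    MorphismProperty.of_isPullback (P := @LocallyOfFinitePresentation) D.sq ‹_›
  have hfin := (hbc (D.U.residueField D.u) _ _ _ _
    (IsPullback.of_hasPullback D.c (D.U.fromSpecResidueField D.u))).1
  have hfull : ∀ w, D.c w = D.u → w ∈ D.F := by
    refine D.rank.resolve_left fun h => ?_
    have h1 := (finrank_piece_le D.c D.F D.u hfin).1
    have h2 := deg_le hbc D.u
    omega
  have heq : (D.F.ι ≫ D.c).finrank D.u = deg f t := by
    rw [finrank_piece_eq D.c D.F D.u hfin hfull, deg_of_isPullback hb D.sq, D.hu]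
  refine ⟨D, hfull, heq, ?_⟩
  exact Filter.eventually_of_mem
    (((D.F.ι ≫ D.c).isLocallyConstant_finrank.isOpen_fiber _).mem_nhds heq) fun u' hu' => hu'

include hb in
/-- The degree is lower semicontinuous. -/
theorem isOpen_le_deg (r : ℕ) : IsOpen {t | r ≤ deg f t} := by
  refine isOpen_iff_mem_nhds.2 fun t ht => ?_
  obtain ⟨D, -, -, hev⟩ := exists_full_data f hb t
  have hbc : FibLE n D.c := hb.of_isPullback D.sq
  have : Flat D.c := MorphismProperty.of_isPullback (P := @Flat) D.sq ‹_›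
  have : IsSeparated D.c := MorphismProperty.of_isPullback (P := @IsSeparated) D.sq ‹_›
  rw [← D.hu]
  refine Filter.mem_of_superset (D.g.isOpenMap.image_mem_nhds hev) ?_
  rintro _ ⟨u', hu', rfl⟩
  show r ≤ deg f (D.g u')
  rw [← deg_of_isPullback hb D.sq]
  have h1 := (finrank_piece_le D.c D.F u' (hbc (D.U.residueField u') _ _ _ _
    (IsPullback.of_hasPullback D.c (D.U.fromSpecResidueField u'))).1).1
  have hu'' : (D.F.ι ≫ D.c).finrank u' = deg f t := hu'
  have ht' : r ≤ deg f t := ht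
  omega

include hb in
/-- Where the degree is constant, the morphism is finite locally free of that degree. -/
theorem isFinLocFreeOfDeg_of_deg_eq (r : ℕ) (hr : ∀ t, deg f t = r) : Mor2.IsFinLocFreeOfDeg r f := by
  have hfin : IsFinite f := by
    refine IsZariskiLocalAtTarget.of_forall_exists_morphismRestrict fun t => ?_
    obtain ⟨D, -, -, hev⟩ := exists_full_data f hb t
    have hbc : FibLE n D.c := hb.of_isPullback D.sq
    have : Flat D.c := MorphismProperty.of_isPullback (P := @Flat) D.sq ‹_›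
    have : IsSeparated D.c := MorphismProperty.of_isPullback (P := @IsSeparated) D.sq ‹_›
    obtain ⟨W₀, hW₀, hW₀o, huW₀⟩ := eventually_nhds_iff.1 hev
    obtain ⟨V, hV, htV, -⟩ := exists_isAffineOpen_mem_and_subset (U := (⊤ : T.Opens)) (x := t) trivial
    obtain ⟨W, hW, huW, hWle⟩ := exists_isAffineOpen_mem_and_subset
      (U := (⟨W₀, hW₀o⟩ : D.U.Opens) ⊓ D.g ⁻¹ᵁ V) (x := D.u) ⟨huW₀, by show D.g D.u ∈ V; rwa [D.hu]⟩
    have hle : D.c ⁻¹ᵁ W ≤ D.F := fun w hw => by
      refine (finrank_piece_le D.c D.F (D.c w) (hbc (D.U.residueField (D.c w)) _ _ _ _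
        (IsPullback.of_hasPullback D.c (D.U.fromSpecResidueField (D.c w)))).1).2 ?_ w rfl
      rw [hW₀ _ (hWle hw).1, deg_of_isPullback hb D.sq, hr, hr]
    -- finite over `W`
    let j := D.Q.homOfLE hle
    have hj : j ≫ D.F.ι = (D.c ⁻¹ᵁ W).ι := Scheme.homOfLE_ι _ _
    have sq₀ : IsPullback j (𝟙 _) D.F.ι (D.c ⁻¹ᵁ W).ι :=
      ⟨⟨by rw [hj, Category.id_comp]⟩, ⟨PullbackCone.IsLimit.mk _ (fun s => s.snd)
        (fun s => by rw [← cancel_mono D.F.ι, Category.assoc, hj, s.condition])
        (fun s => Category.comp_id _) (fun s m _ h => by rw [← h, Category.comp_id])⟩⟩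
    have sq₁ : IsPullback j (D.c ∣_ W) (D.F.ι ≫ D.c) W.ι := by
      simpa using sq₀.paste_vert (isPullback_morphismRestrict D.c W).flip
    have hcW : IsFinite (D.c ∣_ W) := MorphismProperty.of_isPullback (P := @IsFinite) sq₁ inferInstance
    -- descend
    have hgW : IsOpen (Set.range (W.ι ≫ D.g)) := (W.ι ≫ D.g).isOpenMap.isOpen_range
    let O : T.Opens := ⟨_, hgW⟩
    refine ⟨O, ⟨⟨D.u, huW⟩, by show (W.ι ≫ D.g) _ = t; rw [Scheme.Hom.comp_apply]; exact D.hu⟩, ?_⟩
    have hrange : Set.range (W.ι ≫ D.g) ⊆ Set.range O.ι := by rw [Scheme.Opens.range_ι]; rfl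
    let h := IsOpenImmersion.lift O.ι (W.ι ≫ D.g) hrange
    have hh : h ≫ O.ι = W.ι ≫ D.g := IsOpenImmersion.lift_fac _ _ _
    have : Surjective h := ⟨fun x => by
      obtain ⟨y, hy⟩ := x.2
      exact ⟨y, O.ι.isOpenEmbedding.injective (by rw [← Scheme.Hom.comp_apply, hh]; exact hy)⟩⟩
    have : Flat (h ≫ O.ι) := by rw [hh]; infer_instance
    have : Flat h := MorphismProperty.of_postcomp (W := @Flat) (W' := @IsOpenImmersion) h O.ι inferInstance this
    have : IsAffine W.toScheme := hW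
    have : IsAffine V.toScheme := hV
    have hOV : O ≤ V := by
      rintro _ ⟨y, rfl⟩
      show (W.ι ≫ D.g) y ∈ V
      rw [Scheme.Hom.comp_apply]
      exact (hWle y.2).2
    have : IsSeparated (T.homOfLE hOV) := inferInstance
    have : O.toScheme.IsSeparated := ⟨by rw [← terminal.comp_from (T.homOfLE hOV)]; infer_instance⟩
    have : QuasiCompact h := inferInstance
    have sq₂ : IsPullback ((D.c ⁻¹ᵁ W).ι ≫ D.a) (D.c ∣_ W) f (W.ι ≫ D.g) :=
      (isPullback_morphismRestrict D.c W).flip.paste_horiz D.sq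
    have hl : ((D.c ⁻¹ᵁ W).ι ≫ D.a) ≫ f = ((D.c ∣_ W) ≫ h) ≫ O.ι := by
      rw [sq₂.w, Category.assoc, hh]
    let l := (isPullback_morphismRestrict f O).flip.lift _ _ hl
    have sq₃ : IsPullback l (D.c ∣_ W) (f ∣_ O) h := by
      refine IsPullback.of_right ?_ ((isPullback_morphismRestrict f O).flip.lift_snd _ _ hl)
        (isPullback_morphismRestrict f O).flip
      rw [(isPullback_morphismRestrict f O).flip.lift_fst, hh]
      exact sq₂
    have := EtFound.fpqc_isFinite.{u}
    exact MorphismProperty.of_isPullback_of_descendsAlong (P := @IsFinite)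
      (Q := @Surjective ⊓ @Flat ⊓ @QuasiCompact) sq₃.flip ⟨⟨‹_›, ‹_›⟩, ‹_›⟩ hcW
  refine ⟨⟨hfin, ‹_›, ‹_›⟩, fun t => ?_⟩
  rw [← hr t, deg, Scheme.Hom.finrank_pullback_snd, Scheme.fromSpecResidueField_apply]

end Groth.Agent.AlgSpDM.QfDeg
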