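import Groth.Agent.AlgSpDec.MonoRep
import Groth.Agent.AlgSpDec.MonoPoint
import Groth.Agent.AlgSpDec.Fibres

/-!
# Fibres of the relation of an etale chart and monomorphic points
-/

set_option backward.isDefEq.respectTransparency false
set_option backward.isDefEq.respectTransparency.types false

universe u

open CategoryTheory CategoryTheory.Limits AlgebraicGeometry AlgSp Groth.Agent.AlgSpLib
  Groth.Agent.AlgSpPts Groth.Agent.AlgSpDec

namespace Groth.Agent.AlgSpDM

/-- Over a pair of points a base change of a locally quasi-finite morphism has finitely many points. -/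
theorem finite_pullback_points {A B C P : Scheme.{u}} {fst : P ⟶ A} {snd : P ⟶ C} {h : A ⟶ B} {k : C ⟶ B}
    (sq : IsPullback fst snd h k) [LocallyQuasiFinite k] (a : A) (c : C) :
    {z : P | fst z = a ∧ snd z = c}.Finite := by
  suffices {z : ↥(pullback h k) | pullback.fst h k z = a ∧ pullback.snd h k z = c}.Finite by
    refine Set.Finite.subset (this.image sq.isoPullback.inv) ?_
    rintro z ⟨h1, h2⟩
    refine ⟨sq.isoPullback.hom z, ⟨?_, ?_⟩, ?_⟩
    · rw [← Scheme.Hom.comp_apply, sq.isoPullback_hom_fst, h1]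
    · rw [← Scheme.Hom.comp_apply, sq.isoPullback_hom_snd, h2]
    · rw [← Scheme.Hom.comp_apply, Iso.hom_inv_id]; rfl
  rcases Set.eq_empty_or_nonempty {z : ↥(pullback h k) | pullback.fst h k z = a ∧ pullback.snd h k z = c} with
    he | ⟨z₀, h₀a, h₀c⟩
  · rw [he]; exact Set.finite_empty
  have hac : h a = k c := by
    rw [← h₀a, ← h₀c, ← Scheme.Hom.comp_apply, pullback.condition]; rfl
  obtain ⟨B0, hB, haB, -⟩ := exists_isAffineOpen_mem_and_subset (show h a ∈ (⊤ : B.Opens) from trivial)
  obtain ⟨A0, hA, haA, hAB⟩ := exists_isAffineOpen_mem_and_subset (x := a) (U := h ⁻¹ᵁ B0) haB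
  obtain ⟨C0, hC, hcC, hCB⟩ := exists_isAffineOpen_mem_and_subset (x := c) (U := k ⁻¹ᵁ B0)
    (show k c ∈ B0 from hac ▸ haB)
  have : IsAffine A0.toScheme := hA
  have : IsAffine B0.toScheme := hB
  have : IsAffine C0.toScheme := hC
  let i : pullback (h.resLE B0 A0 hAB) (k.resLE B0 C0 hCB) ⟶ pullback h k :=
    pullback.map _ _ _ _ A0.ι C0.ι B0.ι (by simp) (by simp)
  have : LocallyQuasiFinite (k.resLE B0 C0 hCB) := by
    have : LocallyQuasiFinite (k.resLE B0 C0 hCB ≫ B0.ι) := by rw [Scheme.Hom.resLE_comp_ι]; infer_instance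
    exact LocallyQuasiFinite.of_comp _ B0.ι
  have : LocallyQuasiFinite (pullback.fst (h.resLE B0 A0 hAB) (k.resLE B0 C0 hCB)) := inferInstance
  have hfin := (pullback.fst (h.resLE B0 A0 hAB) (k.resLE B0 C0 hCB)).finite_preimage_singleton ⟨a, haA⟩
  refine Set.Finite.subset (hfin.image i) ?_
  rintro z ⟨h1, h2⟩
  obtain ⟨w, rfl⟩ : z ∈ Set.range i := by
    rw [Scheme.Pullback.range_map]
    exact ⟨by rw [Set.mem_preimage, Scheme.Opens.range_ι, h1]; exact haA,
      by rw [Set.mem_preimage, Scheme.Opens.range_ι, h2]; exact hcC⟩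
  refine ⟨w, Subtype.ext ?_, rfl⟩
  show A0.ι (pullback.fst (h.resLE B0 A0 hAB) (k.resLE B0 C0 hCB) w) = a
  rw [← Scheme.Hom.comp_apply, ← h1, ← Scheme.Hom.comp_apply, pullback.lift_fst]

variable {S : Scheme.{u}} {X : Sp S}

theorem subsingleton_pt (p : FieldPt X) : Subsingleton ↥p.pt.left :=
  inferInstanceAs (Subsingleton (PrimeSpectrum p.K))

/-- A monomorphic point has finite fibres of the relation of a chart. -/
theorem finite_relation_of_mono (hX : IsAlgSpace X) {p : FieldPt X} [Mono p.toHom] {U : Over S}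
    {φ : (yon S).obj U ⟶ X} (hφ : RepWith @Etale φ) {u u' : ↥U.left}
    (hu : Points.ofPt φ u = Points.mk p) (hu' : Points.ofPt φ u' = Points.mk p)
    {R : Over S} {s t : R ⟶ U} (sq : IsPullback ((yon S).map t) ((yon S).map s) φ φ) :
    {r : ↥R.left | s.left r = u ∧ t.left r = u'}.Finite := by
  let q := FieldPt.ofPt φ u
  let ψ : q.pt ⟶ U := Over.homMk (U.left.fromSpecResidueField u) rfl
  have hq : q.toHom = (yon S).map ψ ≫ φ := FieldPt.toHom_ofPt φ u
  have sqP := IsPullback.of_hasPullback p.toHom q.toHom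
  obtain ⟨z, -, -⟩ := exists_point_of_isPullback sqP
    (x := Points.ofScheme p.pt (IsLocalRing.closedPoint p.K))
    (y := Points.ofScheme q.pt (IsLocalRing.closedPoint q.K))
    (by rw [← Points.ofPt_eq_map_ofScheme, ← Points.ofPt_eq_map_ofScheme, ← mk_eq_ofPt, ← mk_eq_ofPt]
        exact hu.symm)
  have := isIso_of_mono_field (isAlgSpace_pullback (IsAlgSpace.yon_obj _) (IsAlgSpace.yon_obj _) hX p.toHom q.toHom)
    (pullback.snd p.toHom q.toHom) z
  obtain ⟨c, hc⟩ := (yon S).map_surjective (inv (pullback.snd p.toHom q.toHom) ≫ pullback.fst p.toHom q.toHom)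
  have hcq : (yon S).map c ≫ p.toHom = q.toHom := by
    rw [hc, Category.assoc, pullback.condition, IsIso.inv_hom_id_assoc]
  let T := hφ.rep.pullback p.toHom
  let vU : T ⟶ U := hφ.rep.fst' p.toHom
  let vp : T ⟶ p.pt := hφ.rep.snd p.toHom
  have sqT : IsPullback ((yon S).map vU) ((yon S).map vp) φ p.toHom := hφ.rep.isPullback' p.toHom
  have : Etale vp.left := hφ.property_snd p.toHom
  have : LocallyQuasiFinite vp.left := inferInstance
  let e1 : pullback c vp ⟶ q.pt := pullback.fst c vp
  let e2 : pullback c vp ⟶ T := pullback.snd c vp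
  have sqR' : IsPullback ((yon S).map e1) ((yon S).map e2) ((yon S).map c) ((yon S).map vp) :=
    (IsPullback.of_hasPullback c vp).map (yon S)
  have sqR'U : IsPullback ((yon S).map e2 ≫ (yon S).map vU) ((yon S).map e1) φ q.toHom := by
    rw [← hcq]
    exact sqR'.flip.paste_horiz sqT
  obtain ⟨m, hm⟩ := (yon S).map_surjective (sq.lift ((yon S).map e2 ≫ (yon S).map vU) ((yon S).map (e1 ≫ ψ))
    (by rw [sqR'U.w, hq, Functor.map_comp, Category.assoc]))
  have hmt : m ≫ t = e2 ≫ vU := (yon S).map_injective (by rw [Functor.map_comp, hm, sq.lift_fst, Functor.map_comp])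
  have hms : m ≫ s = e1 ≫ ψ := (yon S).map_injective (by rw [Functor.map_comp, hm, sq.lift_snd])
  have : Mono vU := (yon S).mono_of_mono_map (PullbackCone.mono_fst_of_is_pullback_of_mono sqT.isLimit)
  have : Mono vU.left := inferInstanceAs (Mono ((Over.forget S).map vU))
  have : UniversallyInjective vU.left := inferInstance
  have hinj : Function.Injective vU.left := vU.left.injective
  have sqR'l : IsPullback e1.left e2.left c.left vp.left := (IsPullback.of_hasPullback c vp).map (Over.forget S)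
  -- the square exhibiting the base change of `s` along the point `u`
  have sqm : IsPullback ((yon S).map e1) ((yon S).map m) ((yon S).map ψ) ((yon S).map s) := by
    refine (IsPullback.of_right ?_ (by rw [← Functor.map_comp, hms, Functor.map_comp]) sq).flip
    rw [← Functor.map_comp, hmt, ← hq, Functor.map_comp]
    exact sqR'U
  have sql : IsPullback e1.left m.left ψ.left s.left := isPullback_of_yon sqm
  rcases Set.eq_empty_or_nonempty {r : ↥R.left | s.left r = u ∧ t.left r = u'} with he | ⟨r₀, hr₀s, hr₀t⟩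
  · rw [he]; exact Set.finite_empty
  have lift : ∀ r : ↥R.left, s.left r = u → ∃ z, m.left z = r := fun r hr => by
    obtain ⟨z, -, hz⟩ := Scheme.Pullback.exists_preimage_pullback (f := ψ.left) (g := s.left)
      (IsLocalRing.closedPoint (U.left.residueField u)) r
      ((U.left.fromSpecResidueField_apply u _).trans hr.symm)
    exact ⟨sql.isoPullback.inv z, by rw [← Scheme.Hom.comp_apply, sql.isoPullback_inv_snd, hz]⟩
  obtain ⟨z₀, hz₀⟩ := lift r₀ hr₀s
  have hmt' : ∀ z, t.left (m.left z) = vU.left (e2.left z) := fun z => by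
    rw [← Scheme.Hom.comp_apply, ← Over.comp_left, hmt]; rfl
  have := finite_pullback_points sqR'l (e1.left z₀) (e2.left z₀)
  refine (this.image m.left).subset ?_
  rintro r ⟨hrs, hrt⟩
  obtain ⟨z, hz⟩ := lift r hrs
  refine ⟨z, ⟨(subsingleton_pt q).elim _ _, hinj ?_⟩, hz⟩
  rw [← hmt', ← hmt', hz, hz₀, hrt, hr₀t]

/-- Finiteness of the fibre of the relation over `(u, u')` passes to `(u, u)`. -/
theorem finite_diag_of_finite {U R : Over S} {φ : (yon S).obj U ⟶ X} (hφ : RepWith @Etale φ) {u u' : ↥U.left}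
    (he : Points.ofPt φ u = Points.ofPt φ u') {s t : R ⟶ U}
    (sq : IsPullback ((yon S).map t) ((yon S).map s) φ φ)
    (hfin : {r : ↥R.left | s.left r = u ∧ t.left r = u'}.Finite) :
    {r : ↥R.left | s.left r = u ∧ t.left r = u}.Finite := by
  obtain ⟨r₁, hr₁t, hr₁s⟩ := exists_ofPt_of_eq sq he.symm
  have : Etale t.left := hφ.property _ _ _ sq.flip
  have : LocallyQuasiFinite t.left := inferInstance
  let q₁ : pullback t t ⟶ R := pullback.fst t t
  let q₂ : pullback t t ⟶ R := pullback.snd t t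
  have hw := (pullback.condition (f := t) (g := t))
  have hφt : (yon S).map t ≫ φ = (yon S).map s ≫ φ := sq.w
  obtain ⟨μ, hμ⟩ := (yon S).map_surjective (sq.lift ((yon S).map (q₂ ≫ s)) ((yon S).map (q₁ ≫ s)) (by
    rw [Functor.map_comp, Functor.map_comp, Category.assoc, Category.assoc, ← hφt, ← Category.assoc,
      ← Functor.map_comp, ← hw, Functor.map_comp, Category.assoc]))
  have hμt : μ ≫ t = q₂ ≫ s := (yon S).map_injective (by rw [Functor.map_comp, hμ, sq.lift_fst])
  have hμs : μ ≫ s = q₁ ≫ s := (yon S).map_injective (by rw [Functor.map_comp, hμ, sq.lift_snd])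
  have sqQ : IsPullback q₁.left q₂.left t.left t.left := (IsPullback.of_hasPullback t t).map (Over.forget S)
  let F := {r : ↥R.left | s.left r = u ∧ t.left r = u'}
  have hQ : (⋃ a ∈ F, ⋃ c ∈ F, {z | q₁.left z = a ∧ q₂.left z = c}).Finite :=
    hfin.biUnion fun a _ => hfin.biUnion fun c _ => finite_pullback_points sqQ a c
  refine (hQ.image μ.left).subset ?_
  rintro r ⟨hrs, hrt⟩
  -- a point over `r` and the given point of the fibre over `(u, u')`
  let π₁ : pullback s s ⟶ R := pullback.fst s s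
  let π₂ : pullback s s ⟶ R := pullback.snd s s
  have sqP : IsPullback π₁.left π₂.left s.left s.left := (IsPullback.of_hasPullback s s).map (Over.forget S)
  obtain ⟨y, hy₁, hy₂⟩ := Scheme.Pullback.exists_preimage_pullback (f := s.left) (g := s.left) r r₁
    (hrs.trans hr₁s.symm)
  let z' := sqP.isoPullback.inv y
  have hz₁ : π₁.left z' = r := by rw [← Scheme.Hom.comp_apply, sqP.isoPullback_inv_fst, hy₁]
  have hz₂ : π₂.left z' = r₁ := by rw [← Scheme.Hom.comp_apply, sqP.isoPullback_inv_snd, hy₂]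
  obtain ⟨b, hb⟩ := (yon S).map_surjective (sq.lift ((yon S).map (π₂ ≫ t)) ((yon S).map (π₁ ≫ t)) (by
    rw [Functor.map_comp, Functor.map_comp, Category.assoc, Category.assoc, hφt, ← Category.assoc,
      ← Functor.map_comp, ← (pullback.condition (f := s) (g := s)), Functor.map_comp, Category.assoc]))
  have hbt : b ≫ t = π₂ ≫ t := (yon S).map_injective (by rw [Functor.map_comp, hb, sq.lift_fst])
  have hbs : b ≫ s = π₁ ≫ t := (yon S).map_injective (by rw [Functor.map_comp, hb, sq.lift_snd])
  let θ : pullback s s ⟶ pullback t t := pullback.lift π₂ b hbt.symm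
  have hθ₁ : θ ≫ q₁ = π₂ := pullback.lift_fst _ _ _
  have hθ₂ : θ ≫ q₂ = b := pullback.lift_snd _ _ _
  have hθμ : θ ≫ μ = π₁ := (yon S).map_injective (sq.hom_ext
    (by rw [← Functor.map_comp, Category.assoc, hμt, ← Category.assoc, hθ₂, hbs, Functor.map_comp])
    (by rw [← Functor.map_comp, Category.assoc, hμs, ← Category.assoc, hθ₁,
      ← pullback.condition (f := s) (g := s), Functor.map_comp]))
  refine ⟨θ.left z', Set.mem_biUnion (x := π₂.left z') ?_ (Set.mem_biUnion (x := b.left z') ?_ ⟨?_, ?_⟩), ?_⟩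
  · rw [hz₂]; exact ⟨hr₁s, hr₁t⟩
  · refine ⟨?_, ?_⟩
    · rw [← Scheme.Hom.comp_apply, ← Over.comp_left, hbs, Over.comp_left, Scheme.Hom.comp_apply, hz₁, hrt]
    · rw [← Scheme.Hom.comp_apply, ← Over.comp_left, hbt, Over.comp_left, Scheme.Hom.comp_apply, hz₂, hr₁t]
  · rw [← Scheme.Hom.comp_apply, ← Over.comp_left, hθ₁]
  · rw [← Scheme.Hom.comp_apply, ← Over.comp_left, hθ₂]
  · rw [← Scheme.Hom.comp_apply, ← Over.comp_left, hθμ, hz₁]

/-- A point with finite self fibre product is monomorphic. -/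
theorem exists_mono_of_finite_rel (hX : IsAlgSpace X) (q : FieldPt X) {G : Over S} {g₁ g₂ : G ⟶ q.pt}
    (sqG : IsPullback ((yon S).map g₁) ((yon S).map g₂) q.toHom q.toHom) [IsFinite g₂.left] :
    ∃ p : FieldPt X, Points.mk p = Points.mk q ∧ Mono p.toHom := by
  have : IsAffine q.pt.left := inferInstanceAs (IsAffine (Spec (CommRingCat.of q.K)))
  have : IsAffine G.left := isAffine_of_isAffineHom g₂.left
  let e : Over.mk (G.left.isoSpec.inv ≫ G.hom) ≅ G := Over.isoMk G.left.isoSpec.symm rfl
  have hfin : IsFinite (e.hom ≫ g₂).left := by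
    change IsFinite (G.left.isoSpec.inv ≫ g₂.left)
    infer_instance
  obtain ⟨p, i, hi, -, hm⟩ := exists_mono_of_isPullback q.toHom hX (a₁ := e.hom ≫ g₁) (a₂ := e.hom ≫ g₂)
    (by
      rw [Functor.map_comp, Functor.map_comp]
      exact IsPullback.of_iso sqG ((yon S).mapIso e).symm (Iso.refl _) (Iso.refl _) (Iso.refl _)
        (by
          erw [Category.comp_id, ← Category.assoc, show ((yon S).mapIso e).symm.hom ≫ (yon S).map e.hom = 𝟙 _ from ((yon S).mapIso e).inv_hom_id, Category.id_comp])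
        (by
          erw [Category.comp_id, ← Category.assoc, show ((yon S).mapIso e).symm.hom ≫ (yon S).map e.hom = 𝟙 _ from ((yon S).mapIso e).inv_hom_id, Category.id_comp])
        (by simp) (by simp))
    hfin
  refine ⟨p, ?_, hm⟩
  rw [mk_eq_ofPt, mk_eq_ofPt, ← hi, ofPt_comp]
  congr 1
  exact (subsingleton_pt p).elim _ _

theorem isFinite_of_finite_etale {K : Type u} [Field K] {T : Scheme.{u}} (g : T ⟶ Spec (CommRingCat.of K))
    [LocallyQuasiFinite g] [LocallyOfFiniteType g] [Finite ↥T] : AlgebraicGeometry.IsFinite g := by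
  have : QuasiCompact g := HasAffineProperty.iff_of_isAffine.2 (inferInstance : CompactSpace ↥T)
  have : IsArtinianScheme (Spec (CommRingCat.of K)) := inferInstance
  exact IsFinite.of_locallyQuasiFinite g

theorem exists_mono_of_finite_relation (hX : IsAlgSpace X) {U : Over S} {φ : (yon S).obj U ⟶ X}
    (hφ : RepWith @Etale φ) {u u' : ↥U.left} (he : Points.ofPt φ u = Points.ofPt φ u')
    (hfin : ∀ (R : Over S) (s t : R ⟶ U), IsPullback ((yon S).map t) ((yon S).map s) φ φ →
      {r : ↥R.left | s.left r = u ∧ t.left r = u'}.Finite) :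
    ∃ p : FieldPt X, Points.mk p = Points.ofPt φ u ∧ Mono p.toHom := by
  let R := hφ.rep.pullback φ
  let t : R ⟶ U := hφ.rep.fst' φ
  let s : R ⟶ U := hφ.rep.snd φ
  have sq : IsPullback ((yon S).map t) ((yon S).map s) φ φ := hφ.rep.isPullback' φ
  have hF := finite_diag_of_finite hφ he sq (hfin R s t sq)
  let q := FieldPt.ofPt φ u
  let ψ : q.pt ⟶ U := Over.homMk (U.left.fromSpecResidueField u) rfl
  have hqφ : q.toHom = (yon S).map ψ ≫ φ := FieldPt.toHom_ofPt φ u
  let V := hφ.rep.pullback q.toHom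
  let vU : V ⟶ U := hφ.rep.fst' q.toHom
  let vK : V ⟶ q.pt := hφ.rep.snd q.toHom
  have sqV : IsPullback ((yon S).map vU) ((yon S).map vK) φ q.toHom := hφ.rep.isPullback' q.toHom
  have : Etale vK.left := hφ.property_snd q.toHom
  have hd : DiscreteTopology ↥V.left := by
    have h1 := vK.left.isDiscrete_preimage_singleton (IsLocalRing.closedPoint q.K)
    rw [show vK.left ⁻¹' {IsLocalRing.closedPoint q.K} = Set.univ from
      Set.eq_univ_of_forall fun x => Subsingleton.elim (α := ↥q.pt.left) _ _] at h1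
    exact isDiscrete_univ_iff.1 h1
  have hr : Representable q.toHom := representable_from_yon' hX _
  let G := hr.pullback q.toHom
  let g₁ : G ⟶ q.pt := hr.fst' q.toHom
  let g₂ : G ⟶ q.pt := hr.snd q.toHom
  have sqG : IsPullback ((yon S).map g₁) ((yon S).map g₂) q.toHom q.toHom := hr.isPullback' q.toHom
  obtain ⟨l, hl⟩ := (yon S).map_surjective (sqV.lift ((yon S).map (g₁ ≫ ψ)) ((yon S).map g₂)
    (by rw [Functor.map_comp, Category.assoc, ← hqφ]; exact sqG.w))
  have hl₁ : (yon S).map l ≫ (yon S).map vU = (yon S).map g₁ ≫ (yon S).map ψ := by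
    rw [hl, sqV.lift_fst, Functor.map_comp]
  have hl₂ : (yon S).map l ≫ (yon S).map vK = (yon S).map g₂ := by rw [hl, sqV.lift_snd]
  have sqT : IsPullback ((yon S).map g₁) ((yon S).map l) ((yon S).map ψ) ((yon S).map vU) := by
    refine IsPullback.of_bot ?_ hl₁.symm sqV
    rw [hl₂, ← hqφ]
    exact sqG
  obtain ⟨n, hn⟩ := (yon S).map_surjective (sq.lift ((yon S).map vU) ((yon S).map (vK ≫ ψ))
    (by rw [sqV.w, hqφ, Functor.map_comp, Category.assoc]))
  have sqn : IsPullback ((yon S).map n) ((yon S).map vK) ((yon S).map s) ((yon S).map ψ) := by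
    refine IsPullback.of_right ?_ (by rw [hn, sq.lift_snd, Functor.map_comp]) sq
    rw [show (yon S).map n ≫ (yon S).map t = (yon S).map vU by rw [hn, sq.lift_fst], ← hqφ]
    exact sqV
  have : IsPreimmersion ψ.left := inferInstanceAs (IsPreimmersion (U.left.fromSpecResidueField u))
  have : IsPreimmersion n.left := MorphismProperty.of_isPullback (isPullback_of_yon sqn).flip ‹_›
  have : IsPreimmersion l.left := MorphismProperty.of_isPullback (isPullback_of_yon sqT) ‹_›
  have hc : IsClosedImmersion l.left := .of_isPreimmersion _ (isClosed_discrete _)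
  have hnt : n ≫ t = vU := (yon S).map_injective (by rw [Functor.map_comp, hn, sq.lift_fst])
  have hns : n ≫ s = vK ≫ ψ := (yon S).map_injective (by rw [Functor.map_comp, hn, sq.lift_snd])
  have hlU : l ≫ vU = g₁ ≫ ψ := (yon S).map_injective (by rw [Functor.map_comp, hl₁, Functor.map_comp])
  have hψ : ∀ x, ψ.left x = u := fun x => U.left.fromSpecResidueField_apply u x
  have : Finite ↥G.left := by
    have h2 : Set.range (l.left ≫ n.left) ⊆ {r : ↥R.left | s.left r = u ∧ t.left r = u} := by
      rintro _ ⟨z, rfl⟩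
      refine ⟨?_, ?_⟩
      · rw [Scheme.Hom.comp_apply, ← Scheme.Hom.comp_apply n.left, ← Over.comp_left, hns, Over.comp_left,
          Scheme.Hom.comp_apply, hψ]
      · rw [Scheme.Hom.comp_apply, ← Scheme.Hom.comp_apply n.left, ← Over.comp_left, hnt,
          ← Scheme.Hom.comp_apply, ← Over.comp_left, hlU, Over.comp_left, Scheme.Hom.comp_apply, hψ]
    have hi : Function.Injective (l.left ≫ n.left) :=
      n.left.isEmbedding.injective.comp l.left.isEmbedding.injective
    exact Set.finite_univ_iff.1 (Set.Finite.of_finite_image (f := l.left ≫ n.left)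
      ((hF.subset h2).subset (Set.image_subset_range _ _)) hi.injOn)
  have : IsFinite g₂.left := by
    have h : g₂ = l ≫ vK := (yon S).map_injective (by rw [Functor.map_comp, hl₂])
    rw [h, Over.comp_left]
    exact isFinite_of_finite_etale (K := q.K) (l.left ≫ vK.left)
  obtain ⟨p, hp, hm⟩ := exists_mono_of_finite_rel hX q sqG
  exact ⟨p, hp, hm⟩

end Groth.Agent.AlgSpDM
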