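import Groth.Agent.AlgSpDM.RelFibre
import Groth.Prelude.Def_AlgSpMor5

/-!
# Monomorphic points: self products, finite charts, residual spaces
-/

set_option backward.isDefEq.respectTransparency false
set_option backward.isDefEq.respectTransparency.types false

universe u

open CategoryTheory CategoryTheory.Limits AlgebraicGeometry AlgSp Groth.Agent.AlgSpLib
  Groth.Agent.AlgSpPts Groth.Agent.AlgSpDec

namespace Groth.Agent.AlgSpDM

variable {S : Scheme.{u}} {X : Sp S}

theorem exists_mono_iff_etale_qc (hX : IsAlgSpace X) (x : Points X) :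
    (∃ p : FieldPt X, Points.mk p = x ∧ Mono p.toHom) ↔
      ∃ q : FieldPt X, Points.mk q = x ∧
        ∀ (P : Sp S) (fst snd : P ⟶ (yon S).obj q.pt), IsPullback fst snd q.toHom q.toHom →
          RepWith @Etale fst ∧ RepWith @QuasiCompact fst := by
  constructor
  · rintro ⟨p, hp, hm⟩
    refine ⟨p, hp, fun P fst snd sq => ?_⟩
    have : IsIso fst := PullbackCone.isIso_fst_of_mono_of_isLimit sq.isLimit
    exact ⟨repWith_of_isIso @Etale fst, repWith_of_isIso @QuasiCompact fst⟩
  · rintro ⟨q, rfl, h⟩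
    have hr : Representable q.toHom := representable_from_yon' hX _
    have sq := hr.isPullback' q.toHom
    obtain ⟨he, hqc⟩ := h _ _ _ sq.flip
    let G := hr.pullback q.toHom
    let g₂ : G ⟶ q.pt := hr.snd q.toHom
    have he' : Etale g₂.left := (repWith_yon_map_iff _ g₂).1 he
    have : QuasiCompact g₂.left := (repWith_yon_map_iff _ g₂).1 hqc
    have : IsArtinianScheme q.pt.left := inferInstanceAs (IsArtinianScheme (Spec (CommRingCat.of q.K)))
    have : AlgebraicGeometry.IsFinite g₂.left := IsFinite.of_locallyQuasiFinite _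
    exact exists_mono_of_finite_rel hX q sq

/-- The inverse image of a monomorphic point in a chart. -/
theorem nonempty_finite_of_fibre (hX : IsAlgSpace X) {p : FieldPt X} [Mono p.toHom] {U : Over S}
    {φ : (yon S).obj U ⟶ X} (hφ : RepWith @Etale φ) (hne : Points.mk p ∈ Set.range (Points.ofPt φ))
    (hfin : (Points.ofPt φ ⁻¹' {Points.mk p}).Finite) (T : Over S) (c : T ⟶ p.pt)
    (snd : (yon S).obj T ⟶ (yon S).obj U) (sq : IsPullback ((yon S).map c) snd p.toHom φ) :
    Nonempty ↥T.left ∧ AlgebraicGeometry.IsFinite c.left := by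
  obtain ⟨v, rfl⟩ := (yon S).map_surjective snd
  obtain ⟨u, hu⟩ := hne
  obtain ⟨z, -, -⟩ := exists_ofPt_of_eq (u := IsLocalRing.closedPoint p.K) sq
    ((mk_eq_ofPt p).symm.trans hu.symm)
  have : Etale c.left := hφ.property _ _ _ sq.flip
  have : Mono v := (yon S).mono_of_mono_map (PullbackCone.mono_snd_of_is_pullback_of_mono sq.isLimit)
  have : Mono v.left := inferInstanceAs (Mono ((Over.forget S).map v))
  have hv : Set.range v.left ⊆ Points.ofPt φ ⁻¹' {Points.mk p} := by
    rintro _ ⟨y, rfl⟩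
    show Points.ofPt φ (v.left y) = _
    rw [← ofPt_comp, ← sq.w, ofPt_comp, mk_eq_ofPt]
    congr 1
    exact (subsingleton_pt p).elim _ _
  have : UniversallyInjective v.left := inferInstance
  have : Finite ↥T.left := Set.finite_univ_iff.1 (Set.Finite.of_finite_image (f := v.left)
    ((hfin.subset hv).subset (Set.image_subset_range _ _)) v.left.injective.injOn)
  exact ⟨⟨z⟩, isFinite_of_finite_etale (K := p.K) c.left⟩

theorem finite_fibres_iff (hX : IsAlgSpace X) (x : Points X) {U : Over S} (φ : (yon S).obj U ⟶ X)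
    (hφ : RepWith @Etale φ) :
    (x ∈ Set.range (Points.ofPt φ) ∧ (Points.ofPt φ ⁻¹' {x}).Finite ∧
        ∀ (R : Over S) (s t : R ⟶ U), IsPullback ((yon S).map t) ((yon S).map s) φ φ →
          (Points.ofPt ((yon S).map t ≫ φ) ⁻¹' {x}).Finite) ↔
      ∃ p : FieldPt X, Points.mk p = x ∧ Mono p.toHom ∧
        ∀ (T : Over S) (c : T ⟶ p.pt) (snd : (yon S).obj T ⟶ (yon S).obj U),
          IsPullback ((yon S).map c) snd p.toHom φ → Nonempty ↥T.left ∧ AlgebraicGeometry.IsFinite c.left := by
  constructor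
  · rintro ⟨⟨u, rfl⟩, hfin, hR⟩
    obtain ⟨p, hp, hm⟩ := exists_mono_of_finite_relation hX hφ (u := u) (u' := u) rfl fun R s t sq =>
      (hR R s t sq).subset fun r ⟨_, hr⟩ => by
        show Points.ofPt ((yon S).map t ≫ φ) r = _
        rw [ofPt_comp, hr]
    refine ⟨p, hp, hm, fun T c snd sq => nonempty_finite_of_fibre hX hφ (hp ▸ ⟨u, rfl⟩) (hp ▸ hfin) T c snd sq⟩
  · rintro ⟨p, rfl, hm, H⟩
    have sq := hφ.rep.isPullback' p.toHom
    let T := hφ.rep.pullback p.toHom
    let c : T ⟶ p.pt := hφ.rep.snd p.toHom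
    let v : T ⟶ U := hφ.rep.fst' p.toHom
    obtain ⟨⟨z⟩, hf⟩ := H T c _ sq.flip
    have hT : (Set.univ : Set ↥T.left).Finite := by
      have := hf
      rw [← Set.preimage_univ (f := c.left), Set.eq_univ_of_forall (s := {IsLocalRing.closedPoint p.K})
        (fun y => (subsingleton_pt p).elim _ _) |>.symm]
      exact c.left.finite_preimage_singleton _
    have hfib : (Points.ofPt φ ⁻¹' {Points.mk p}).Finite := by
      refine (hT.image v.left).subset fun u hu => ?_
      obtain ⟨w, hw, -⟩ := exists_ofPt_of_eq sq ((show Points.ofPt φ u = _ from hu).trans (mk_eq_ofPt p))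
      exact ⟨w, trivial, hw⟩
    refine ⟨⟨v.left z, ?_⟩, hfib, fun R s t sqR => ?_⟩
    · rw [← ofPt_comp, sq.w, ofPt_comp, mk_eq_ofPt]
      congr 1
      exact (subsingleton_pt p).elim _ _
    refine (hfib.biUnion fun a ha => hfib.biUnion fun b hb =>
      finite_relation_of_mono hX hφ (u := a) (u' := b) ha hb sqR).subset fun r hr => ?_
    have h1 : Points.ofPt φ (t.left r) = Points.mk p := by
      rw [← ofPt_comp]; exact hr
    have h2 : Points.ofPt φ (s.left r) = Points.mk p := by
      rw [← ofPt_comp, ← sqR.w]; exact hr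
    exact Set.mem_biUnion (x := s.left r) h2 (Set.mem_biUnion (x := t.left r) h1 ⟨rfl, rfl⟩)

theorem residual_iso_iff (x : Points X) (hX : IsAlgSpace X) {Z : Sp S} (hZs : IsAlgSpace Z) (i : Z ⟶ X) [Mono i]
    (hi : Set.range (Points.map i) = {x})
    (hZ : ∃ (k : Type u) (_ : Field k) (str : Spec (CommRingCat.of k) ⟶ S)
      (p : (yon S).obj (Over.mk str) ⟶ Z),
        LocP @LocallyOfFinitePresentation p ∧ LocP @Flat p ∧ IsSurjectiveMor p) :
    (∃ (k : Type u) (_ : Field k) (str : Spec (CommRingCat.of k) ⟶ S),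
        Nonempty (Z ≅ (yon S).obj (Over.mk str))) ↔
      ∃ p : FieldPt X, Points.mk p = x ∧ Mono p.toHom := by
  constructor
  · rintro ⟨k, _, str, ⟨e⟩⟩
    let p : FieldPt X := ⟨k, str, (J S).uliftYonedaEquiv (e.inv ≫ i)⟩
    have hp : p.toHom = e.inv ≫ i := Equiv.symm_apply_apply _ _
    refine ⟨p, ?_, by rw [hp]; exact mono_comp _ _⟩
    have : Points.mk p ∈ Set.range (Points.map i) := by
      rw [mk_eq_ofPt, hp]
      exact ⟨Points.ofPt e.inv _, Points.map_ofPt _ _ _⟩
    rw [hi] at this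
    exact this
  · rintro ⟨p, rfl, hm⟩
    obtain ⟨k, _, str, π, hπ1, hπ2, hπ3⟩ := hZ
    obtain ⟨hr, hN, ⟨z⟩, _⟩ := flat_lfp_cover_package hZs π hπ1 hπ2 hπ3
    have hz : Points.map i z = Points.mk p := by
      have : Points.map i z ∈ Set.range (Points.map i) := ⟨z, rfl⟩
      rw [hi] at this
      exact this
    obtain ⟨w, -, -⟩ := exists_point_of_isPullback (IsPullback.of_hasPullback i p.toHom) (x := z)
      (y := Points.ofScheme p.pt (IsLocalRing.closedPoint p.K))
      (by rw [hz, ← Points.ofPt_eq_map_ofScheme, mk_eq_ofPt])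
    have := isIso_of_mono_field (isAlgSpace_pullback hZs (IsAlgSpace.yon_obj _) hX i p.toHom)
      (pullback.snd i p.toHom) w
    let g : (yon S).obj p.pt ⟶ Z := inv (pullback.snd i p.toHom) ≫ pullback.fst i p.toHom
    have hg : g ≫ i = p.toHom := by
      rw [Category.assoc, pullback.condition, IsIso.inv_hom_id_assoc]
    have : Mono (g ≫ i) := hg ▸ hm
    have : Mono g := mono_of_mono g i
    have := isIso_of_mono_of_point (IsAlgSpace.yon_obj _) hZs hr hN g
      (Points.ofScheme p.pt (IsLocalRing.closedPoint p.K))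
    exact ⟨p.K, inferInstance, p.str, ⟨(asIso g).symm⟩⟩

end Groth.Agent.AlgSpDM
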