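import Groth.Agent.AlgSpDec.MonoPoint
import Groth.Agent.AlgSpDec.Glue
import Groth.Agent.AlgSpDec.RedInduced
import Groth.Agent.AlgSpDec.DecentMor
import Groth.Agent.AlgSpDM.CodimOne
import Groth.Agent.AlgSpPts.Imm
import Groth.Agent.AlgSpPts.ProperSubspace

/-!
# Reduced spaces over a point of a locally Noetherian space
-/

set_option backward.isDefEq.respectTransparency false
set_option backward.isDefEq.respectTransparency.types false

universe u

open CategoryTheory CategoryTheory.Limits AlgebraicGeometry AlgSp Groth.Agent.AlgSpLib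
  Groth.Agent.AlgSpPts Groth.Agent.AlgSpDec Order

namespace Groth.Agent.AlgSpDM

theorem coheight_ne_top {U : Scheme.{u}} [IsLocallyNoetherian U] (u : U) : coheight u ≠ ⊤ := by
  intro h
  have h1 := ringKrullDim_stalk_eq_coheight u
  rw [h] at h1
  exact (ringKrullDim_lt_top (R := U.presheaf.stalk u)).ne h1

/-- A subset of an affine Noetherian scheme swept out by an affine scheme and without specializations is finite. -/
theorem finite_image_of_antichain {R B : CommRingCat.{u}} [IsNoetherianRing R] (φ : R ⟶ B)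
    (h : ∀ p q : ↥(Spec R), p ∈ Set.range (Spec.map φ) → q ∈ Set.range (Spec.map φ) → p ⤳ q → p = q) :
    (Set.range (Spec.map φ)).Finite := by
  have hfin : {p : PrimeSpectrum R | p.asIdeal ∈ ((⊥ : Ideal B).comap φ.hom).minimalPrimes}.Finite :=
    ((((⊥ : Ideal B).comap φ.hom).finite_minimalPrimes_of_isNoetherianRing R).preimage
      (fun a _ b _ hab => PrimeSpectrum.ext hab))
  refine hfin.subset ?_
  rintro _ ⟨z, rfl⟩
  let p : PrimeSpectrum R := Spec.map φ z
  obtain ⟨η, hη, hle⟩ := Ideal.exists_minimalPrimes_le (J := p.asIdeal) (I := (⊥ : Ideal B).comap φ.hom)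
    (Ideal.comap_mono bot_le)
  obtain ⟨q, hq, -, hqη⟩ := Ideal.exists_comap_eq_of_mem_minimalPrimes φ.hom η hη
  have he := h ⟨η, hη.1.1⟩ p ⟨⟨q, hq⟩, PrimeSpectrum.ext hqη⟩ ⟨z, rfl⟩
    ((PrimeSpectrum.le_iff_specializes (⟨η, hη.1.1⟩ : PrimeSpectrum R) p).1 hle)
  show p.asIdeal ∈ ((⊥ : Ideal B).comap φ.hom).minimalPrimes
  exact (congrArg PrimeSpectrum.asIdeal he) ▸ hη

/-- Locally, a morphism from a reduced scheme with image in a set without specializations hits one point. -/
theorem exists_open_const {W U : Scheme.{u}} [IsLocallyNoetherian U] (g : W ⟶ U)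
    (h : ∀ a b : W, g a ⤳ g b → g a = g b) (w : W) :
    ∃ O : W.Opens, w ∈ O ∧ ∀ o ∈ O, g o = g w := by
  obtain ⟨A, hA, hwA, -⟩ := exists_isAffineOpen_mem_and_subset (show g w ∈ (⊤ : U.Opens) from trivial)
  obtain ⟨B, hB, hwB, hBA⟩ := exists_isAffineOpen_mem_and_subset (x := w) (U := g ⁻¹ᵁ A) hwA
  have : IsNoetherianRing Γ(U, A) := IsLocallyNoetherian.component_noetherian ⟨A, hA⟩
  let φ := g.appLE A B hBA
  have hφ : Spec.map φ ≫ hA.fromSpec = hB.fromSpec ≫ g := hA.SpecMap_appLE_fromSpec g hB hBA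
  have hpt : ∀ z, hA.fromSpec (Spec.map φ z) = g (hB.fromSpec z) := fun z => by
    rw [← Scheme.Hom.comp_apply, hφ]; rfl
  have hfin := finite_image_of_antichain φ (fun p q ⟨z, hz⟩ ⟨z', hz'⟩ hpq => by
    have h1 := hpq.map hA.fromSpec.continuous
    subst hz hz'
    rw [hpt, hpt] at h1
    exact hA.fromSpec.isOpenEmbedding.injective (by rw [hpt, hpt]; exact h _ _ h1))
  have hgB : (g '' (B : Set W)).Finite := by
    refine (hfin.image hA.fromSpec).subset ?_
    rintro _ ⟨b, hb, rfl⟩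
    obtain ⟨z, rfl⟩ : b ∈ Set.range hB.fromSpec := by rw [hB.range_fromSpec]; exact hb
    exact ⟨_, ⟨z, rfl⟩, hpt z⟩
  obtain ⟨O, hO, hwO, hOF⟩ := isOpen_singleton_fibre hgB (u := g w) ⟨w, hwB, rfl⟩ (by
    rintro _ ⟨b, -, rfl⟩ hv
    exact h b w hv)
  exact ⟨B ⊓ g ⁻¹ᵁ ⟨O, hO⟩, ⟨hwB, hwO⟩, fun o ho => hOF ⟨ho.2, o, ho.1, rfl⟩⟩

variable {S : Scheme.{u}}

theorem eq_of_specializes_of_locNoeth {X : Sp S} {U : Over S} [IsLocallyNoetherian U.left]
    {a : (yon S).obj U ⟶ X} (ha : RepWith @Etale a) {v w : ↥U.left} (h : v ⤳ w)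
    (he : Points.ofPt a v = Points.ofPt a w) : v = w := by
  by_contra hne
  have h1 : w ≤ v := h
  have hlt : w < v := lt_iff_le_not_ge.2 ⟨h1, fun h2 => hne (h.antisymm (show w ⤳ v from h2)).eq⟩
  have h3 := coheight_strictAnti hlt (lt_top_iff_ne_top.2 (coheight_ne_top v))
  rw [coheight_congr_chart ha ha he] at h3
  exact lt_irrefl _ h3

theorem exists_factor_mono_point {X Z : Sp S} (hX : IsAlgSpace X) (hZs : IsAlgSpace Z) (hN : IsLocNoethSp X)
    (i : Z ⟶ X) [Mono i] {x : Points X} (hi : Set.range (Points.map i) = {x}) {Y : Sp S}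
    (hY : EtaleLocally (fun U => IsReduced U) Y) (f : Y ⟶ X) (hf : ∀ y, Points.map f y = x) :
    ∃ g : Y ⟶ Z, g ≫ i = f := by
  obtain ⟨U, a, ha, ha', hU⟩ := hN
  have : IsLocallyNoetherian U.left := hU
  obtain ⟨W, c, hc, hc', hW⟩ := hY
  have : IsReduced W.left := hW
  let W' := ha.rep.pullback (c ≫ f)
  let gU : W' ⟶ U := ha.rep.fst' (c ≫ f)
  let π : W' ⟶ W := ha.rep.snd (c ≫ f)
  have sqW := ha.rep.isPullback' (c ≫ f)
  have : Etale π.left := ha.property_snd _
  have : Surjective π.left := ha'.property _ _ _ (ha.rep.isPullback _)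
  have : IsReduced W'.left := isReduced_of_etaleMor π.left
  have hx : ∀ w, Points.ofPt a (gU.left w) = x := fun w => by
    rw [← ofPt_comp, sqW.w, ofPt_comp, ← Points.map_ofPt]
    exact hf _
  -- the point `u` of the chart over `x` factors through `Z`
  have hpt : ∀ u : ↥U.left, Points.ofPt a u = x → ∃ l : (yon S).obj (FieldPt.ofPt a u).pt ⟶ Z,
      l ≫ i = (FieldPt.ofPt a u).toHom := fun u hu => by
    let q := FieldPt.ofPt a u
    obtain ⟨z, hz⟩ : ∃ z, Points.map i z = x := by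
      have : x ∈ Set.range (Points.map i) := hi ▸ rfl
      exact this
    obtain ⟨y, -, -⟩ := exists_point_of_isPullback (IsPullback.of_hasPullback i q.toHom) (x := z)
      (y := Points.ofScheme q.pt (IsLocalRing.closedPoint q.K))
      (by rw [hz, ← Points.ofPt_eq_map_ofScheme, ← mk_eq_ofPt]; exact hu.symm)
    have := isIso_of_mono_field (isAlgSpace_pullback hZs (IsAlgSpace.yon_obj _) hX i q.toHom)
      (pullback.snd i q.toHom) y
    exact ⟨inv (pullback.snd i q.toHom) ≫ pullback.fst i q.toHom, by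
      rw [Category.assoc, pullback.condition, IsIso.inv_hom_id_assoc]⟩
  have hloc : ∀ w : ↥W'.left, ∃ O : W'.left.Opens, w ∈ O ∧ ∀ o ∈ O, gU.left o = gU.left w :=
    exists_open_const gU.left fun p q hpq => eq_of_specializes_of_locNoeth ha hpq ((hx p).trans (hx q).symm)
  choose O hmem hO using hloc
  let T : ↥W'.left → Over S := fun w => Over.mk ((O w).ι ≫ W'.hom)
  let j : ∀ w, T w ⟶ W' := fun w => Over.homMk (O w).ι rfl
  have hl : ∀ w, ∃ l : (yon S).obj (T w) ⟶ Z, l ≫ i = (yon S).map (j w ≫ π) ≫ c ≫ f := fun w => by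
    obtain ⟨l, hl⟩ := hpt (gU.left w) (hx w)
    have : IsReduced (O w).toScheme := isReduced_of_isOpenImmersion (O w).ι
    obtain ⟨k, hk⟩ := exists_factor_residueField ((O w).ι ≫ gU.left) (gU.left w) fun o => hO w _ o.2
    let k' : T w ⟶ (FieldPt.ofPt a (gU.left w)).pt := Over.homMk k (by
      change k ≫ U.left.fromSpecResidueField _ ≫ U.hom = (O w).ι ≫ W'.hom
      rw [reassoc_of% hk, CategoryTheory.Over.w])
    have hk' : k' ≫ (Over.homMk (U.left.fromSpecResidueField (gU.left w)) rfl :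
        (FieldPt.ofPt a (gU.left w)).pt ⟶ U) = j w ≫ gU := Over.OverMorphism.ext hk
    refine ⟨(yon S).map k' ≫ l, ?_⟩
    rw [Category.assoc, hl, FieldPt.toHom_ofPt, ← Category.assoc, ← Functor.map_comp, hk',
      Functor.map_comp, Functor.map_comp, Category.assoc, Category.assoc]
    exact congrArg ((yon S).map (j w) ≫ ·) sqW.w
  choose l hl using hl
  obtain ⟨G, hG⟩ := exists_hom_sigma T l
  let J' : sigmaOver T ⟶ W' := Over.homMk (Sigma.desc fun w => (O w).ι) (by
    refine Sigma.hom_ext _ _ fun w => ?_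
    show Sigma.ι _ w ≫ Sigma.desc _ ≫ W'.hom = Sigma.ι _ w ≫ Sigma.desc _
    rw [Sigma.ι_desc_assoc, Sigma.ι_desc]
    rfl)
  have hJ : ∀ w, sigmaι T w ≫ J' = j w := fun w => Over.OverMorphism.ext (Sigma.ι_desc _ _)
  have hGi : G ≫ i = (yon S).map (J' ≫ π) ≫ c ≫ f := hom_ext_sigma T fun w => by
    rw [← Category.assoc, hG, hl, ← Category.assoc ((yon S).map (sigmaι T w)), ← Functor.map_comp,
      ← Category.assoc (sigmaι T w), hJ]
  have : Etale J'.left := IsZariskiLocalAtSource.sigmaDesc fun w => inferInstanceAs (Etale (O w).ι)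
  have : Surjective J'.left := ⟨fun w => ⟨(sigmaι T w).left ⟨w, hmem w⟩, by
    rw [← Scheme.Hom.comp_apply, ← Over.comp_left, hJ]; rfl⟩⟩
  have h1 : Etale (J' ≫ π).left := inferInstanceAs (Etale (J'.left ≫ π.left))
  have h2 : Surjective (J' ≫ π).left := inferInstanceAs (Surjective (J'.left ≫ π.left))
  have hce : RepWith @Etale ((yon S).map (J' ≫ π) ≫ c) := repWith_comp ((repWith_yon_map_iff _ _).2 h1) hc
  have hcs : RepWith @Surjective ((yon S).map (J' ≫ π) ≫ c) := repWith_comp ((repWith_yon_map_iff _ _).2 h2) hc'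
  have : Epi ((yon S).map (J' ≫ π) ≫ c) := epi_of_etale_surjective hce hcs
  have sq := IsPullback.of_hasPullback i f
  have : Epi (pullback.snd i f) := epi_of_epi_fac
    (f := sq.lift G ((yon S).map (J' ≫ π) ≫ c) (by rw [hGi, Category.assoc]))
    (h := (yon S).map (J' ≫ π) ≫ c) (sq.lift_snd _ _ _)
  have := isIso_of_mono_of_epi (pullback.snd i f)
  exact ⟨inv (pullback.snd i f) ≫ pullback.fst i f, by
    rw [Category.assoc, pullback.condition, IsIso.inv_hom_id_assoc]⟩

theorem isClosed_iff_closedImmersion {X Z : Sp S} (hX : IsAlgSpace X) (hZs : IsAlgSpace Z) (hN : IsLocNoethSp X)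
    (i : Z ⟶ X) [Mono i] {x : Points X} (hi : Set.range (Points.map i) = {x})
    (hr : EtaleLocally (fun U => IsReduced U) Z) (hZN : IsLocNoethSp Z) [Subsingleton (Points Z)] :
    IsClosed ({x} : Set (Points X)) ↔ RepWith @IsClosedImmersion i := by
  refine ⟨fun h => ?_, fun h => hi ▸ (isClosedMap_map (repWith_mono (fun _ _ g (hg : IsClosedImmersion g) =>
    (inferInstance : UniversallyClosed g)) _ h)).isClosed_range⟩
  obtain ⟨C, j, hj, hjr, hjred⟩ := exists_reduced_induced hX h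
  obtain ⟨g, hg⟩ := exists_factor_mono_point hX hZs hN i hi hjred j fun y => by
    have : Points.map j y ∈ Set.range (Points.map j) := ⟨y, rfl⟩
    rw [hjr] at this
    exact this
  have : Mono j := AlgSpPts.ProperSub.mono_closedImmersion hj
  have : Mono (g ≫ i) := hg.symm ▸ this
  have : Mono g := mono_of_mono g i
  obtain ⟨y, -⟩ : x ∈ Set.range (Points.map j) := hjr ▸ rfl
  have := isIso_of_mono_of_point C.property hZs hr hZN g y
  rw [show i = inv g ≫ j by rw [← hg, IsIso.inv_hom_id_assoc]]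
  exact repWith_comp (repWith_of_isIso _ _) hj

end Groth.Agent.AlgSpDM
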