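import Groth.Agent.AlgSpPts.Sep
import Groth.Agent.AlgSpPts.Univ
import Groth.Agent.AlgSpPts.ProperSubspace
import Groth.Agent.AlgSpLib.FpqcDescent
import Groth.Agent.AlgSpLib.InfCharts
import Groth.Agent.AlgSpDec.LqfScheme
import Groth.Agent.S9938

/-!
# Unramified monomorphisms and closed immersions
-/

set_option backward.isDefEq.respectTransparency false
set_option backward.isDefEq.respectTransparency.types false

universe u

open CategoryTheory CategoryTheory.Limits AlgebraicGeometry Opposite AlgSp Groth.Agent.AlgSpLib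
  Groth.Agent.AlgSpPts

namespace Groth.Agent.AlgSpDM

variable {S : Scheme.{u}} {X Y : Space S}

theorem isUnivInjectiveMor_of_mono (f : X ⟶ Y) [Mono f.hom] : IsUnivInjectiveMor f.hom :=
  (S9938.result f).1.1 fun _ _ _ _ _ h => (cancel_mono f.hom).1 h

theorem repWith_etale_diagonal_of_unram (f : X ⟶ Y)
    (hu : LocP (@LocallyOfFiniteType ⊓ @FormallyUnramified) f.hom) :
    RepWith @Etale (pullback.diagonal f.hom) := by
  obtain ⟨hr, -⟩ := diagonal_package X.property Y.property f.hom
  have hP := isAlgSpace_pullback X.property X.property Y.property f.hom f.hom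
  refine repWith_of_locP hP hr (locP_of_comp' (Q := @LocallyOfFiniteType ⊓ @FormallyUnramified)
    (fun a b hab hb => ?_) X.property (g := pullback.fst f.hom f.hom)
    (by rw [pullback.diagonal_fst]; exact locP_id _)
    (locP_of_isPullback (IsPullback.of_hasPullback f.hom f.hom).flip X.property Y.property X.property hu))
  obtain ⟨_, _⟩ := hb
  have : Etale (a ≫ b) := hab
  exact Etale.of_comp a b

theorem mono_of_unram_univInjective (f : X ⟶ Y) (hu : LocP (@LocallyOfFiniteType ⊓ @FormallyUnramified) f.hom)
    (hi : IsUnivInjectiveMor f.hom) : Mono f.hom := by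
  have hde := repWith_etale_diagonal_of_unram f hu
  have hds : RepWith @Surjective (pullback.diagonal f.hom) :=
    repWith_surjective_of_surjective hde.rep ((S9938.result f).2.1 hi)
  have := isLocallySurjective_of_etale_surjective hde hds
  have := isIso_of_mono_of_locallySurjective (pullback.diagonal f.hom)
  exact (pullback.isIso_diagonal_iff f.hom).1 inferInstance

theorem isFormallyUnramifiedMor_of_mono {F G : Sp S} (f : F ⟶ G) [Mono f] : IsFormallyUnramifiedMor f :=
  fun _ _ _ _ h1 _ h2 => (cancel_mono f).1 (h1.trans h2.symm)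

theorem locP_unram_iff (f : X ⟶ Y) :
    LocP (@LocallyOfFiniteType ⊓ @FormallyUnramified) f.hom ↔
      LocP @LocallyOfFiniteType f.hom ∧ IsFormallyUnramifiedMor f.hom := by
  rw [isFormallyUnramifiedMor_iff_locP X.property Y.property f.hom]
  exact ⟨fun h => ⟨locP_mono inf_le_left h, locP_mono inf_le_right h⟩,
    fun h U V a b k ha hb w => ⟨h.1 a b k ha hb w, h.2 a b k ha hb w⟩⟩

theorem unram_of_lft_mono (f : X ⟶ Y) (hf : LocP @LocallyOfFiniteType f.hom) [Mono f.hom] :
    LocP (@LocallyOfFiniteType ⊓ @FormallyUnramified) f.hom :=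
  (locP_unram_iff f).2 ⟨hf, isFormallyUnramifiedMor_of_mono _⟩

theorem lqf_of_unram (f : X ⟶ Y) (hu : LocP (@LocallyOfFiniteType ⊓ @FormallyUnramified) f.hom) :
    LocP (@LocallyQuasiFinite ⊓ @LocallyOfFiniteType) f.hom :=
  locP_mono (fun _ _ g hg => by
    obtain ⟨_, _⟩ := hg
    exact ⟨locallyQuasiFinite_of_formallyUnramified g, ‹_›⟩) hu

theorem representable_of_lft_mono (f : X ⟶ Y) (hf : LocP @LocallyOfFiniteType f.hom) [Mono f.hom] :
    Representable f.hom :=
  AlgSpDec.representable_of_lqf_separated X.property Y.property f.hom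
    (lqf_of_unram f (unram_of_lft_mono f hf)) (AlgSpDec.isSeparatedMor_of_mono _)

theorem closedImmersion_of_univClosed_lft_mono (f : X ⟶ Y) (hc : IsUnivClosedMor f.hom)
    (hf : LocP @LocallyOfFiniteType f.hom) [Mono f.hom] : RepWith @IsClosedImmersion f.hom := by
  have hr := representable_of_lft_mono f hf
  have hu := repWith_universally_of_univSp
    (P := topologically @IsClosedMap) (Q := IsClosedMor) (fun V U g hg => ?_) hr hc
  · refine ⟨hr, fun U V g fst snd sq => ?_⟩
    have : UniversallyClosed snd.left := ⟨hu.property g fst snd sq⟩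
    have : LocallyOfFiniteType snd.left := locP_yon_map
      (locP_of_isPullback sq X.property Y.property (IsAlgSpace.yon_obj U) hf)
    have : Mono ((yon S).map snd) := sq.mono_snd_of_mono
    have : Mono snd := (yon S).mono_of_mono_map this
    have : Mono snd.left := inferInstanceAs (Mono ((Over.forget S).map snd))
    exact (IsClosedImmersion.iff_isProper_and_mono snd.left).2 ⟨{ }, ‹_›⟩
  · show IsClosedMap g.left
    rw [left_eq_conj g]
    exact (Points.schemeHomeo U).symm.isClosedMap.comp (IsClosedMap.comp hg (Points.schemeHomeo V).isClosedMap)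

theorem univClosed_lft_mono_of_closedImmersion (f : X ⟶ Y) (h : RepWith @IsClosedImmersion f.hom) :
    IsUnivClosedMor f.hom ∧ LocP @LocallyOfFiniteType f.hom ∧ Mono f.hom :=
  ⟨(isProperMor_of_closedImmersion h).2.2, (isProperMor_of_closedImmersion h).2.1.1, AlgSpPts.ProperSub.mono_closedImmersion h⟩

end Groth.Agent.AlgSpDM
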