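import Groth.Agent.AlgSpLib.ThickTop
import Groth.Agent.AlgSpLib.EtLocalInst
import Groth.Agent.AlgSpDM.UnramMono
import Groth.Agent.AlgSpDec.AffineRep
import Groth.Prelude.Def_AlgSp4

/-!
# Etale morphisms have unique sections extending along universal homeomorphisms
-/

set_option backward.isDefEq.respectTransparency false
set_option backward.isDefEq.respectTransparency.types false
set_option maxHeartbeats 600000

universe u

open CategoryTheory CategoryTheory.Limits AlgebraicGeometry Opposite AlgSp Topology Groth.Agent.AlgSpLib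
  Groth.Agent.AlgSpPts

namespace Groth.Agent.AlgSpDM

variable {S : Scheme.{u}}

/-- Integral, universally injective, surjective. -/
abbrev uh : MorphismProperty Scheme.{u} := @IsIntegralHom ⊓ @UniversallyInjective ⊓ @Surjective

theorem isHomeomorph_of_uh {A B : Scheme.{u}} (h : A ⟶ B) (hh : uh h) : IsHomeomorph h := by
  obtain ⟨⟨_, _⟩, _⟩ := hh
  exact isHomeomorph_iff_continuous_isClosedMap_bijective.2
    ⟨h.continuous, h.isClosedMap, h.injective, h.surjective⟩

theorem isHomeomorph_map_of_uh {Z T : Sp S} (hT : IsAlgSpace T) {c : Z ⟶ T} (hc : RepWith uh c) :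
    IsHomeomorph (Points.map c) := by
  have hs : Function.Surjective (Points.map c) :=
    surjective_map_of_repWith (repWith_mono (P := uh) (fun _ _ h hh => hh.2) _ hc)
  refine ⟨Points.continuous_map c, fun A hA => ?_, ⟨fun a b hab => ?_, hs⟩⟩
  · obtain ⟨V, p, hp, hps⟩ := hT.atlas
    refine (isOpen_iff_chart hp hps).2 ?_
    let hr := hc.rep
    have heq : Points.ofPt p ⁻¹' (Points.map c '' A) =
        (hr.snd p).left '' (Points.ofPt (hr.fst p) ⁻¹' A) := by
      ext v
      constructor
      · rintro ⟨x, hx, hxv⟩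
        rw [Points.ofPt_eq_map_ofScheme] at hxv
        obtain ⟨z, hz₁, hz₂⟩ := exists_point_of_isPullback (hr.isPullback p) hxv
        refine ⟨Points.toScheme _ z, ?_, ?_⟩
        · rw [Set.mem_preimage, Points.ofPt_eq_map_ofScheme, Points.ofScheme_toScheme, hz₁]
          exact hx
        · rw [← Points.ofScheme_toScheme _ z, Points.map_ofPt, Category.id_comp] at hz₂
          exact ((Points.toScheme_ofPt _ _).symm.trans (congrArg (Points.toScheme V) hz₂)).trans
            (Points.toScheme_ofScheme V v)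
      · rintro ⟨w, hw, rfl⟩
        exact ⟨_, hw, by rw [Points.map_ofPt, hr.w p, ofPt_comp]⟩
    rw [heq]
    exact (isHomeomorph_of_uh _ (hc.property_snd p)).isOpenMap _ (hA.preimage (Points.continuous_ofPt _))
  · obtain ⟨D, g, t, -, hg⟩ := exists_ofPt_eq (Points.map c a)
    have hga : Points.map c a = Points.map g (Points.ofScheme D t) :=
      hg.symm.trans (Points.ofPt_eq_map_ofScheme g t)
    obtain ⟨za, ha1, ha2⟩ := exists_point_of_isPullback (hc.rep.isPullback g) hga
    obtain ⟨zb, hb1, hb2⟩ := exists_point_of_isPullback (hc.rep.isPullback g) (hab.symm.trans hga)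
    rw [← ha1, ← hb1]
    congr 1
    obtain ⟨va, rfl⟩ := (Points.schemeHomeo _).surjective za
    obtain ⟨vb, rfl⟩ := (Points.schemeHomeo _).surjective zb
    have h2 := (isHomeomorph_of_uh _ (hc.property_snd g)).injective ((Points.schemeHomeo D).injective
      (((Points.map_yon_map_apply _ va).symm.trans (ha2.trans hb2.symm)).trans (Points.map_yon_map_apply _ vb)))
    rw [h2]

/-- An integral, universally injective, surjective morphism is representable by such morphisms. -/
theorem repWith_uh {X Y : Sp S} {f : X ⟶ Y} (h1 : IsIntegralMor f) (h2 : IsUnivInjectiveMor f)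
    (h3 : IsSurjectiveMor f) : RepWith uh f := by
  have hi := AlgSpDec.isIntegralMor_iff_repWith.1 h1
  refine ⟨hi.rep, fun U V g fst snd sq => ⟨⟨hi.property _ _ _ sq, ?_⟩,
    (repWith_surjective_of_surjective hi.rep h3).property _ _ _ sq⟩⟩
  show UniversallyInjective snd.left
  refine ⟨fun W' V' i₁ i₂ j sq' x y hxy => ?_⟩
  let V'' : Over S := Over.mk (i₂ ≫ U.hom)
  let W'' : Over S := Over.mk (i₁ ≫ V.hom)
  let j' : W'' ⟶ V'' := Over.homMk j (by
    show j ≫ i₂ ≫ U.hom = i₁ ≫ V.hom
    rw [← Over.w snd, ← Category.assoc, sq'.w, Category.assoc])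
  let a₁ : W'' ⟶ V := Over.homMk i₁ rfl
  let a₂ : V'' ⟶ U := Over.homMk i₂ rfl
  have sqO : IsPullback a₁ j' snd a₂ := IsPullback.of_map (Over.forget S) (Over.OverMorphism.ext sq'.w.symm) sq'.flip
  have sqS : IsPullback ((yon S).map a₁ ≫ fst) ((yon S).map j') f ((yon S).map a₂ ≫ g) :=
    (sqO.map (yon S)).paste_horiz sq
  apply (Points.schemeHomeo W'').injective
  apply h2 (IsAlgSpace.yon_obj V'') _ _ _ sqS
  exact (Points.map_yon_map_apply j' x).trans ((congrArg (Points.ofScheme V'') hxy).trans
    (Points.map_yon_map_apply j' y).symm)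

theorem isUnivInjectiveMor_of_lifts {O T : Space S} (ψ : O ⟶ T)
    (h : ∀ (D : Over S) (a b : (yon S).obj D ⟶ O.obj), a ≫ ψ.hom = b ≫ ψ.hom →
      ∃ (D' : Over S) (ι : D' ⟶ D), Surjective ι.left ∧ (yon S).map ι ≫ a = (yon S).map ι ≫ b) :
    IsUnivInjectiveMor ψ.hom := by
  refine (S9938.result ψ).2.2 fun z => ?_
  induction z using Points.ind with
  | h p =>
  obtain ⟨D', ι, _, hι⟩ := h _ (p.toHom ≫ pullback.fst ψ.hom ψ.hom) (p.toHom ≫ pullback.snd ψ.hom ψ.hom)
    (by rw [Category.assoc, Category.assoc, pullback.condition])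
  obtain ⟨v, hv⟩ := ι.left.surjective (IsLocalRing.closedPoint p.K)
  refine ⟨Points.ofPt ((yon S).map ι ≫ p.toHom ≫ pullback.fst ψ.hom ψ.hom) v, ?_⟩
  rw [Points.map_ofPt, mk_eq_ofPt p, ← hv, ← ofPt_comp]
  congr 1
  apply pullback.hom_ext <;> simp [hι]

/-- Sections of an etale morphism extend uniquely along a universal homeomorphism. -/
theorem existsUnique_section {W T Z : Sp S} (hW : IsAlgSpace W) (hT : IsAlgSpace T) (hZ : IsAlgSpace Z)
    {π : W ⟶ T} (hπ : IsEtaleMor π) {c : Z ⟶ T} (hc : RepWith uh c) (k : Z ⟶ W) (hk : k ≫ π = c) :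
    ∃! σ : T ⟶ W, σ ≫ π = 𝟙 T ∧ c ≫ σ = k := by
  have hπl : LocP @Etale π := (isEtaleMor_iff_locP hW hT π).1 hπ
  have hcs : Function.Surjective (Points.map c) := (isHomeomorph_map_of_uh hT hc).surjective
  refine existsUnique_of_exists_of_unique ?_ fun σ₁ σ₂ h₁ h₂ => ?_
  · let q : pullback π c ⟶ W := pullback.fst π c
    let p₂ : pullback π c ⟶ Z := pullback.snd π c
    have hP : IsAlgSpace (pullback π c) := isAlgSpace_pullback hW hZ hT π c
    let σ₀ : Z ⟶ pullback π c := pullback.lift k (𝟙 Z) (by rw [hk, Category.id_comp])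
    have hσ₀s : σ₀ ≫ p₂ = 𝟙 Z := pullback.lift_snd _ _ _
    have hσ₀q : σ₀ ≫ q = k := pullback.lift_fst _ _ _
    have : Mono σ₀ := ⟨fun a b e => by
      have := e =≫ p₂
      rwa [Category.assoc, Category.assoc, hσ₀s, Category.comp_id, Category.comp_id] at this⟩
    have hσ₀e : LocP @Etale σ₀ := locP_of_comp' (Q := @Etale)
      (fun a b hab hb => by
        have : Etale b := hb
        have : Etale (a ≫ b) := hab
        exact Etale.of_comp a b)
      hZ (g := p₂) (by rw [hσ₀s]; exact locP_id _)
      (locP_of_isPullback (IsPullback.of_hasPullback π c) hW hT hZ hπl)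
    have hσ₀o := repWith_isOpenImmersion_of_mono_of_etale hZ hP σ₀ hσ₀e
    have hq := isHomeomorph_map_of_uh hW (repWith_fst π hc)
    have hop : IsOpen (Set.range (Points.map σ₀)) := by
      obtain ⟨V, a, ha, has⟩ := hP.atlas
      refine (isOpen_iff_chart ha has).2 ?_
      rw [show Points.ofPt a ⁻¹' Set.range (Points.map σ₀) = Set.range (hσ₀o.rep.snd a).left from
        AlgSpPts.range_preimage (hσ₀o.rep.isPullback a)]
      have : IsOpenImmersion (hσ₀o.rep.snd a).left := hσ₀o.property_snd a
      exact (hσ₀o.rep.snd a).left.isOpenEmbedding.isOpen_range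
    obtain ⟨O, j, hO, hj, hjr⟩ := exists_open_subspace hW (hq.isOpenMap _ hop)
    have := AlgSpDec.mono_of_openImmersion hj
    have hje : LocP @Etale j := locP_of_repWith (repWith_mono (P := @IsOpenImmersion) (Q := @Etale)
      (fun _ _ f (_ : IsOpenImmersion f) => inferInstanceAs (Etale f)) _ hj)
    let ψ : (⟨O, hO⟩ : Space S) ⟶ ⟨T, hT⟩ := ObjectProperty.homMk (j ≫ π)
    have hψe : LocP @Etale ψ.hom := locP_comp hO hW hT hje hπl
    have hψi : IsUnivInjectiveMor ψ.hom := isUnivInjectiveMor_of_lifts ψ fun D a b hab => by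
      change a ≫ j ≫ π = b ≫ j ≫ π at hab
      let hr := hc.rep
      let t : (yon S).obj D ⟶ T := a ≫ j ≫ π
      let ι : hr.pullback t ⟶ D := hr.snd t
      have hw : hr.fst t ≫ c = (yon S).map ι ≫ t := hr.w t
      have key : ∀ (a : (yon S).obj D ⟶ O), a ≫ j ≫ π = t → (yon S).map ι ≫ a ≫ j = hr.fst t ≫ σ₀ ≫ q := by
        intro a ha
        let P : (yon S).obj (hr.pullback t) ⟶ pullback π c := pullback.lift ((yon S).map ι ≫ a ≫ j) (hr.fst t)
          (by rw [Category.assoc, Category.assoc, ha, hw])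
        obtain ⟨p, hp⟩ := exists_lift_openImmersion (IsAlgSpace.yon_obj _) hZ hP hσ₀o P (by
          rintro _ ⟨v, rfl⟩
          have hmem : Points.map q (Points.map P v) ∈ Points.map q '' Set.range (Points.map σ₀) := by
            rw [← hjr]
            exact ⟨Points.map a (Points.map ((yon S).map ι) v), by
              rw [← Points.map_comp, ← Points.map_comp, ← Points.map_comp, show P ≫ q = _ from pullback.lift_fst _ _ _]⟩
          obtain ⟨s, hs, e⟩ := hmem
          exact hq.injective e ▸ hs)
        have h2 : p = hr.fst t := by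
          have := hp =≫ p₂
          rwa [Category.assoc, hσ₀s, Category.comp_id, show P ≫ p₂ = hr.fst t from pullback.lift_snd _ _ _] at this
        rw [← show P ≫ q = _ from pullback.lift_fst _ _ _, ← hp, h2, Category.assoc]
      refine ⟨hr.pullback t, ι, (hc.property_snd t).2, (cancel_mono j).1 ?_⟩
      rw [Category.assoc, Category.assoc, key a rfl, key b hab.symm]
    have : Mono (j ≫ π) := mono_of_unram_univInjective ψ
      (locP_mono (fun _ _ g (hg : Etale g) => ⟨inferInstanceAs (LocallyOfFiniteType g),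
        inferInstanceAs (FormallyUnramified g)⟩) hψe) hψi
    obtain ⟨k', hk'⟩ := exists_lift_openImmersion hZ hO hW hj k (by
      rintro _ ⟨z, rfl⟩
      rw [hjr, ← hσ₀q, Points.map_comp]
      exact ⟨_, ⟨z, rfl⟩, rfl⟩)
    have : IsIso (j ≫ π) := isIso_of_mono_of_etale_surjective hO hT _ hψe fun t => by
      obtain ⟨z, rfl⟩ := hcs t
      exact ⟨Points.map k' z, by rw [← Points.map_comp, reassoc_of% hk', hk]⟩
    refine ⟨inv (j ≫ π) ≫ j, by rw [Category.assoc, IsIso.inv_hom_id], ?_⟩
    have hk'c : k' ≫ j ≫ π = c := by rw [reassoc_of% hk', hk]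
    have : c ≫ inv (j ≫ π) = k' := by rw [← hk'c, Category.assoc, IsIso.hom_inv_id, Category.comp_id]
    rw [← Category.assoc, this, hk']
  · have hsec : ∀ σ : T ⟶ W, σ ≫ π = 𝟙 T → RepWith @IsOpenImmersion σ := fun σ e => by
      have : Mono σ := ⟨fun a b h => by
        have := h =≫ π
        rwa [Category.assoc, Category.assoc, e, Category.comp_id, Category.comp_id] at this⟩
      exact repWith_isOpenImmersion_of_mono_of_etale hT hW σ (locP_of_comp' (Q := @Etale)
        (fun a b hab hb => by
          have : Etale b := hb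
          have : Etale (a ≫ b) := hab
          exact Etale.of_comp a b)
        hT (g := π) (by rw [e]; exact locP_id _) hπl)
    have hp := repWith_fst σ₁ (hsec σ₂ h₂.1)
    have := AlgSpDec.mono_of_openImmersion hp
    have e12 : pullback.fst σ₁ σ₂ = pullback.snd σ₁ σ₂ := by
      have := (pullback.condition (f := σ₁) (g := σ₂)) =≫ π
      rwa [Category.assoc, Category.assoc, h₁.1, h₂.1, Category.comp_id, Category.comp_id] at this
    have : IsIso (pullback.fst σ₁ σ₂) := isIso_of_mono_of_etale_surjective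
      (isAlgSpace_pullback hT hT hW σ₁ σ₂) hT _
      (locP_of_repWith (repWith_mono (P := @IsOpenImmersion) (Q := @Etale)
        (fun _ _ f (_ : IsOpenImmersion f) => inferInstanceAs (Etale f)) _ hp)) fun t => by
      obtain ⟨z, rfl⟩ := hcs t
      exact ⟨Points.map (pullback.lift c c (h₁.2.trans h₂.2.symm)) z, by rw [← Points.map_comp, pullback.lift_fst]⟩
    rw [← cancel_epi (pullback.fst σ₁ σ₂)]
    conv_rhs => rw [e12]
    exact pullback.condition

end Groth.Agent.AlgSpDM
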