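import Groth.Agent.AlgSpDec.OpenGlue
import Groth.Agent.AlgSpDec.PointsSpectral
import Groth.Agent.AlgSpLib.AffineDescProps
import Groth.Agent.AlgSpLib.LargestOpen
import Groth.Agent.AlgSpPts.Descent
import Groth.Agent.AlgSpPts.OpenSub
import Groth.Agent.AlgSpPts.Univ
import Groth.Agent.AlgSpDM.UHomeoSection

/-!
# Schematic points and descent of affine schemes along flat coverings of affine schemes
-/

set_option autoImplicit false
set_option backward.isDefEq.respectTransparency false
set_option backward.isDefEq.respectTransparency.types false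
set_option maxHeartbeats 800000

universe u

open CategoryTheory CategoryTheory.Limits AlgebraicGeometry Opposite AlgSp Groth.Agent.AlgSpLib
  Groth.Agent.AlgSpPts Groth.Agent.AlgSpDec

namespace Groth.Agent.AlgSpDM.SchPt

variable {S : Scheme.{u}}

/-- A point with an open neighbourhood which is a scheme. -/
def IsSchPt (X : Sp S) (x : Points X) : Prop :=
  ∃ (T : Over S) (j : (yon S).obj T ⟶ X), RepWith @IsOpenImmersion j ∧ x ∈ Set.range (Points.ofPt j)

theorem range_map_eq_ofPt {X : Sp S} {T : Over S} (j : (yon S).obj T ⟶ X) :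
    Set.range (Points.map j) = Set.range (Points.ofPt j) := by
  rw [← (Points.schemeHomeo T).surjective.range_comp (Points.map j)]
  exact congrArg Set.range (funext fun v => (Points.ofPt_eq_map_ofScheme j v).symm)

theorem exists_iso_of_isRepresentable {X : Sp S} (h : X.obj.IsRepresentable) :
    ∃ T : Over S, Nonempty ((yon S).obj T ≅ X) := by
  obtain ⟨Z, ⟨r⟩⟩ := h.has_representation
  exact ⟨Z, ⟨(sheafToPresheaf _ _).preimageIso (NatIso.ofComponents
    (fun W => (Equiv.ulift.trans r.homEquiv).toIso) (fun f => by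
      ext g
      exact r.homEquiv_comp _ _))⟩⟩

theorem isSchPt_of_iso {X : Sp S} {T : Over S} (e : (yon S).obj T ≅ X) (x : Points X) : IsSchPt X x := by
  refine ⟨T, e.hom, repWith_of_isIso _ e.hom, ?_⟩
  rw [← range_map_eq_ofPt]
  exact ⟨Points.map e.inv x, by rw [← Points.map_comp, e.inv_hom_id, Points.map_id]⟩

theorem isSchPt_of_openImm {X X' : Sp S} {j : X' ⟶ X} (hj : RepWith @IsOpenImmersion j) {x : Points X'}
    (hx : IsSchPt X' x) : IsSchPt X (Points.map j x) := by
  obtain ⟨T, a, ha, t, rfl⟩ := hx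
  exact ⟨T, a ≫ j, repWith_comp ha hj, t, (Points.map_ofPt _ _ _).symm⟩

theorem isRepresentable_of_forall {X : Sp S} (hX : IsAlgSpace X) (h : ∀ x, IsSchPt X x) :
    X.obj.IsRepresentable := by
  obtain ⟨U, a, -, has⟩ := hX.atlas
  choose T j hj hx using fun u : U.left => h (Points.ofPt a u)
  obtain ⟨Q, ⟨e⟩, -⟩ := exists_iso_of_open_cover T j hj fun x => by
    obtain ⟨u, rfl⟩ := surjective_ofPt has x
    exact ⟨u, hx u⟩
  exact isRepresentable_of_iso e

/-- Every point of a scheme lies in an affine open. -/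
theorem exists_affine_of_isRepresentable {X : Sp S} (h : X.obj.IsRepresentable) (x : Points X) :
    ∃ (T : Over S) (j : (yon S).obj T ⟶ X), IsAffine T.left ∧ RepWith @IsOpenImmersion j ∧
      x ∈ Set.range (Points.ofPt j) := by
  obtain ⟨T, ⟨e⟩⟩ := exists_iso_of_isRepresentable h
  obtain ⟨t, ht⟩ := (Points.schemeHomeo T).surjective (Points.map e.inv x)
  obtain ⟨V, hV, htV, -⟩ := exists_isAffineOpen_mem_and_subset (U := (⊤ : T.left.Opens)) (x := t) trivial
  let TV : Over S := Over.mk (V.ι ≫ T.hom)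
  let ι : TV ⟶ T := CategoryTheory.Over.homMk V.ι rfl
  refine ⟨TV, (yon S).map ι ≫ e.hom, hV, repWith_comp ((repWith_yon_map_iff _ _).2
    (inferInstanceAs (IsOpenImmersion V.ι))) (repWith_of_isIso _ _), ⟨t, htV⟩, ?_⟩
  rw [ofPt_comp, show ι.left ⟨t, htV⟩ = t from rfl, Points.ofPt_eq_map_ofScheme]
  exact (congrArg (Points.map e.hom) ht).trans (by rw [← Points.map_comp, e.inv_hom_id, Points.map_id])

/-- A space over an affine scheme which becomes affine after a flat covering is affine. -/
theorem exists_affine_of_flat_cover {W P : Sp S} (hW : IsAlgSpace W) {T T' : Over S} [IsAffine T.left]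
    [IsAffine T'.left] (g : T' ⟶ T) [Flat g.left] [Surjective g.left] {h : W ⟶ (yon S).obj T}
    {fst : P ⟶ W} {snd : P ⟶ (yon S).obj T'} (sq : IsPullback fst snd h ((yon S).map g))
    {Q : Over S} [IsAffine Q.left] (e : (yon S).obj Q ≅ P) :
    ∃ Q' : Over S, IsAffine Q'.left ∧ Nonempty ((yon S).obj Q' ≅ W) := by
  obtain ⟨q, hq⟩ := (yon S).map_surjective (e.hom ≫ snd)
  have hq' : RepWith @IsAffineHom snd := by
    have h1 : RepWith @IsAffineHom ((yon S).map q) := (repWith_yon_map_iff _ q).2 (inferInstanceAs (IsAffineHom q.left))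
    rw [hq] at h1
    exact (MorphismProperty.cancel_left_of_respectsIso (RepWith @IsAffineHom) e.hom snd).1 h1
  have hsnd : IsAffineMor snd := isAffineMor_of_repWith le_rfl hq'
  have hcov : IsFpqcCover (fun _ : PUnit.{u + 1} => (yon S).obj T') (fun _ => (yon S).map g) := by
    refine ⟨fun _ => locP_of_repWith ((repWith_yon_map_iff _ g).2 ‹Flat g.left›), fun Z hZ k => ?_⟩
    obtain ⟨k, rfl⟩ := (yon S).map_surjective k
    let W' := Limits.pullback g k
    have : IsAffine Z.left := hZ
    have sqW : IsPullback (Limits.pullback.fst g k).left (Limits.pullback.snd g k).left g.left k.left :=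
      (IsPullback.of_hasPullback g k).map (Over.forget S)
    haveI : IsAffine W'.left := IsAffine.of_isIso sqW.isoPullback.hom
    refine ⟨1, fun _ => W', fun _ => Limits.pullback.snd g k, fun _ => inferInstance,
      fun _ => MorphismProperty.of_isPullback (P := @Flat) sqW ‹_›, fun z => ⟨0, ?_⟩,
      fun _ => ⟨PUnit.unit, (yon S).map (Limits.pullback.fst g k), ?_⟩⟩
    · have : Surjective (Limits.pullback.snd g k).left := MorphismProperty.of_isPullback (P := @Surjective) sqW ‹_›
      exact (Limits.pullback.snd g k).left.surjective z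
    · rw [← Functor.map_comp, ← Functor.map_comp, Limits.pullback.condition]
  have hh : IsAffineMor h := (isLocalOnBase_fpqc_isAffineMor (fun _ => (yon S).obj T') (fun _ => (yon S).map g)
    (IsAlgSpace.yon_obj T) (fun _ => IsAlgSpace.yon_obj T') hcov h hW (fun _ => P) (fun _ => snd) (fun _ => fst)
    (fun _ => isAlgSpace_of_isPullback sq hW (IsAlgSpace.yon_obj T') (IsAlgSpace.yon_obj T)) (fun _ => sq)).2
    fun _ => hsnd
  obtain ⟨Q', i, fst', sq', hQ'⟩ := hh (Z := T) ‹_› (𝟙 _)
  have : IsIso fst' := sq'.isIso_fst_of_isIso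
  exact ⟨Q', hQ', ⟨asIso fst'⟩⟩

/-- If a universally homeomorphic flat base change of a space is a scheme, so is the space. -/
theorem isRepresentable_of_uh_cover {X P : Sp S} (hX : IsAlgSpace X) {T T' : Over S} [IsAffine T.left]
    [IsAffine T'.left] (g : T' ⟶ T) [Flat g.left] [IsIntegralHom g.left] [UniversallyInjective g.left]
    [Surjective g.left] {h : X ⟶ (yon S).obj T} {fst : P ⟶ X} {snd : P ⟶ (yon S).obj T'}
    (sq : IsPullback fst snd h ((yon S).map g)) (hP : P.obj.IsRepresentable) : X.obj.IsRepresentable := by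
  have huh : RepWith uh fst := repWith_of_isPullback sq.flip ((repWith_yon_map_iff uh g).2 ⟨⟨‹_›, ‹_›⟩, ‹_›⟩)
  have hhomeo := isHomeomorph_map_of_uh hX huh
  have hPA : IsAlgSpace P := isAlgSpace_of_isPullback sq hX (IsAlgSpace.yon_obj T') (IsAlgSpace.yon_obj T)
  refine isRepresentable_of_forall hX fun x => ?_
  obtain ⟨z, rfl⟩ := hhomeo.bijective.2 x
  obtain ⟨V, a, hV, ha, hz⟩ := exists_affine_of_isRepresentable hP z
  have hop : IsOpen (Set.range (Points.map a)) :=
    (isOpenEmbedding_map' hPA ha).isOpen_range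
  obtain ⟨O, j, hO, hj, hr⟩ := exists_open_subspace hX (hhomeo.isOpenMap _ hop)
  have sqO := IsPullback.of_hasPullback j fst
  have hb : RepWith @IsOpenImmersion (pullback.snd j fst) := repWith_of_isPullback sqO hj
  have hrange : Set.range (Points.map (pullback.snd j fst)) = Set.range (Points.map a) := by
    rw [range_map_snd_of_isPullback sqO, hr, Set.preimage_image_eq _ hhomeo.bijective.1]
  have hOP : IsAlgSpace (pullback j fst) := isAlgSpace_pullback hO hPA hX j fst
  obtain ⟨l, hl⟩ := exists_lift_openImmersion (IsAlgSpace.yon_obj V) hOP hPA hb a hrange.ge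
  obtain ⟨l', hl'⟩ := exists_lift_openImmersion hOP (IsAlgSpace.yon_obj V) hPA ha _ hrange.le
  have := AlgSpDec.mono_of_openImmersion ha
  have := AlgSpDec.mono_of_openImmersion hb
  let e : (yon S).obj V ≅ pullback j fst :=
    ⟨l, l', by rw [← cancel_mono a, Category.assoc, hl', hl, Category.id_comp],
      by rw [← cancel_mono (pullback.snd j fst), Category.assoc, hl, hl', Category.id_comp]⟩
  obtain ⟨Q', -, ⟨eO⟩⟩ := exists_affine_of_flat_cover hO g (sqO.paste_vert sq) e
  refine ⟨Q', eO.hom ≫ j, repWith_comp (repWith_of_isIso _ _) hj, ?_⟩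
  rw [← range_map_eq_ofPt]
  obtain ⟨o, ho⟩ : Points.map fst z ∈ Set.range (Points.map j) :=
    hr.symm ▸ ⟨z, (range_map_eq_ofPt a).symm ▸ hz, rfl⟩
  exact ⟨Points.map eO.inv o, by rw [← Points.map_comp, eO.inv_hom_id_assoc, ho]⟩

end Groth.Agent.AlgSpDM.SchPt
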