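import Groth.Agent.AlgSpDM.FormallySmoothCharts
import Groth.Agent.AlgSpDec.Fibres
import Groth.Agent.S1488
import Groth.Agent.S1417
import Groth.Agent.S2793

/-!
# Infinitesimal criteria for smoothness of morphisms of algebraic spaces
-/

set_option backward.isDefEq.respectTransparency false
set_option backward.isDefEq.respectTransparency.types false

universe u

open CategoryTheory CategoryTheory.Limits AlgebraicGeometry Opposite AlgSp Groth.Agent.AlgSpLib
  Groth.Agent.AlgSpPts Groth.Agent.AlgSpDec IsLocalRing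

namespace Groth.Agent.AlgSpDM

set_option maxHeartbeats 600000

variable {S : Scheme.{u}} {X Y : Sp S} {f : X ⟶ Y}

/-- The map of affine schemes over `S` of a ring map. -/
noncomputable abbrev specHom {A D : Type u} [CommRing A] [CommRing D] (π : A →+* D)
    (s : Spec (CommRingCat.of A) ⟶ S) :
    Over.mk (Spec.map (CommRingCat.ofHom π) ≫ s) ⟶ Over.mk s :=
  Over.homMk (Spec.map (CommRingCat.ofHom π))

/-- Lifting along a surjection with square zero kernel, landing in a formally smooth chart. -/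
theorem exists_lift_of_surjection (hX : IsAlgSpace X) (hY : IsAlgSpace Y) {U V : Over S}
    {a : (yon S).obj U ⟶ X} {b : (yon S).obj V ⟶ Y} {h : U ⟶ V} (ha : RepWith @Etale a)
    (hb : RepWith @Etale b) (w : a ≫ f = (yon S).map h ≫ b)
    (hh : MoreMor.IsFormallySmoothHom h.left) {A D : Type u} [CommRing A] [CommRing D] (π : A →+* D)
    (hπ : Function.Surjective π) (h2 : RingHom.ker π ^ 2 = ⊥) (s : Spec (CommRingCat.of A) ⟶ S)
    (α : (yon S).obj (Over.mk (Spec.map (CommRingCat.ofHom π) ≫ s)) ⟶ X)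
    (β : (yon S).obj (Over.mk s) ⟶ Y) (hc : α ≫ f = (yon S).map (specHom π s) ≫ β)
    (hs : ∀ t, Points.ofPt α t ∈ Set.range (Points.ofPt a)) :
    ∃ γ : (yon S).obj (Over.mk s) ⟶ X, (yon S).map (specHom π s) ≫ γ = α ∧ γ ≫ f = β := by
  let e : CommRingCat.of (A ⧸ RingHom.ker π) ≅ CommRingCat.of D :=
    (RingHom.quotientKerEquivOfSurjective hπ).toCommRingCatIso
  have he : CommRingCat.ofHom (Ideal.Quotient.mk (RingHom.ker π)) ≫ e.hom = CommRingCat.ofHom π := by
    ext x
    exact RingHom.quotientKerEquivOfSurjective_apply_mk hπ x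
  have he' : CommRingCat.ofHom π ≫ e.inv = CommRingCat.ofHom (Ideal.Quotient.mk (RingHom.ker π)) := by
    rw [← he, Category.assoc, e.hom_inv_id, Category.comp_id]
  let ε : Over.mk (Spec.map (CommRingCat.ofHom (Ideal.Quotient.mk (RingHom.ker π))) ≫ s) ⟶
      Over.mk (Spec.map (CommRingCat.ofHom π) ≫ s) := Over.homMk (Spec.map e.inv) (by
    show Spec.map e.inv ≫ Spec.map _ ≫ s = _
    rw [← Spec.map_comp_assoc, he']
    rfl)
  let ε' : Over.mk (Spec.map (CommRingCat.ofHom π) ≫ s) ⟶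
      Over.mk (Spec.map (CommRingCat.ofHom (Ideal.Quotient.mk (RingHom.ker π))) ≫ s) :=
    Over.homMk (Spec.map e.hom) (by
      show Spec.map e.hom ≫ Spec.map _ ≫ s = _
      rw [← Spec.map_comp_assoc, he]
      rfl)
  have hε : ε' ≫ ε = 𝟙 _ := Over.OverMorphism.ext (by
    show Spec.map e.hom ≫ Spec.map e.inv = 𝟙 (Spec (CommRingCat.of D))
    rw [← Spec.map_comp, e.inv_hom_id, Spec.map_id])
  have hεj : ε ≫ specHom π s = specHom (Ideal.Quotient.mk (RingHom.ker π)) s := Over.OverMorphism.ext (by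
    show Spec.map e.inv ≫ Spec.map _ = Spec.map _
    rw [← Spec.map_comp, he'])
  let sq : InfSq f :=
    { A := A, I := RingHom.ker π, sq_zero := h2, str := s, top := (yon S).map ε ≫ α, bot := β
      comm := by rw [Category.assoc, hc, ← Functor.map_comp_assoc, hεj] }
  obtain ⟨γ, g1, g2⟩ := exists_lift_of_chart hX hY ha hb w hh sq fun t => by
    show Points.ofPt ((yon S).map ε ≫ α) t ∈ _
    rw [Groth.Agent.AlgSpLib.ofPt_comp]
    exact hs _
  refine ⟨γ, ?_, g2⟩
  have hj : ε' ≫ specHom (Ideal.Quotient.mk (RingHom.ker π)) s = specHom π s := by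
    rw [← hεj, ← Category.assoc, hε, Category.id_comp]
  rw [← hj, Functor.map_comp, Category.assoc]
  refine (congrArg ((yon S).map ε' ≫ ·) g1).trans ?_
  show (yon S).map ε' ≫ (yon S).map ε ≫ α = α
  rw [← Functor.map_comp_assoc, hε, CategoryTheory.Functor.map_id, Category.id_comp]

theorem ker_sq_of_small {B' B : Type u} [CommRing B'] [CommRing B] [IsLocalRing B'] [Nontrivial B]
    (π : B' →+* B) (hk : ∃ t : B', RingHom.ker π = Ideal.span {t} ∧ ∀ a ∈ maximalIdeal B', a * t = 0) :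
    RingHom.ker π ^ 2 = ⊥ := by
  obtain ⟨t, ht, hm⟩ := hk
  rw [ht, pow_two, Ideal.span_singleton_mul_span_singleton, Ideal.span_singleton_eq_bot]
  refine hm t (le_maximalIdeal (RingHom.ker_ne_top π) ?_)
  rw [ht]
  exact Ideal.mem_span_singleton_self t

/-- A lift of the composite with etale charts lifts the chart morphism. -/
theorem exists_chart_lift {U V : Over S} {a : (yon S).obj U ⟶ X} {b : (yon S).obj V ⟶ Y} {h : U ⟶ V}
    (ha : RepWith @Etale a) (hb : RepWith @Etale b) (w : a ≫ f = (yon S).map h ≫ b) {A D : Type u}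
    [CommRing A] [CommRing D] (π : A →+* D) (hπ : Function.Surjective π) (h2 : RingHom.ker π ^ 2 = ⊥)
    (α0 : Spec (CommRingCat.of D) ⟶ U.left) (β0 : Spec (CommRingCat.of A) ⟶ V.left)
    (hc : Spec.map (CommRingCat.ofHom π) ≫ β0 = α0 ≫ h.left)
    (H : ∀ (α : (yon S).obj (Over.mk (Spec.map (CommRingCat.ofHom π) ≫ β0 ≫ V.hom)) ⟶ X)
      (β : (yon S).obj (Over.mk (β0 ≫ V.hom)) ⟶ Y),
      (∀ t, Points.ofPt α t = Points.ofPt a (α0 t)) →
      β = (yon S).map (Over.homMk β0 rfl) ≫ b →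
      α ≫ f = (yon S).map (specHom π (β0 ≫ V.hom)) ≫ β →
      ∃ γ : (yon S).obj (Over.mk (β0 ≫ V.hom)) ⟶ X,
        (yon S).map (specHom π (β0 ≫ V.hom)) ≫ γ = α ∧ γ ≫ f = β) :
    ∃ γ0 : Spec (CommRingCat.of A) ⟶ U.left,
      Spec.map (CommRingCat.ofHom π) ≫ γ0 = α0 ∧ γ0 ≫ h.left = β0 := by
  let p : Over.mk (Spec.map (CommRingCat.ofHom π) ≫ β0 ≫ V.hom) ⟶ Over.mk (β0 ≫ V.hom) :=
    specHom π (β0 ≫ V.hom)
  let β1 : Over.mk (β0 ≫ V.hom) ⟶ V := Over.homMk β0 rfl
  let α1 : Over.mk (Spec.map (CommRingCat.ofHom π) ≫ β0 ≫ V.hom) ⟶ U := Over.homMk α0 (by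
    show α0 ≫ U.hom = _
    rw [← Over.w h, ← Category.assoc, ← hc, Category.assoc]
    rfl)
  have hw : α1 ≫ h = p ≫ β1 := Over.OverMorphism.ext hc.symm
  obtain ⟨γ, g1, g2⟩ := H ((yon S).map α1 ≫ a) ((yon S).map β1 ≫ b)
    (fun t => Groth.Agent.AlgSpLib.ofPt_comp α1 a t) rfl
    (by rw [Category.assoc, w, ← Functor.map_comp_assoc, hw, Functor.map_comp_assoc])
  have hp : IsFOThickMor ((yon S).map p) :=
    isFOThickMor_yon _ (Groth.Agent.UnivThick.isFirstOrderThickening_specMap π hπ h2)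
  obtain ⟨γU, ⟨u1, u2⟩, -⟩ := existsUnique_lift_of_formallyEtale ((formal_of_repWith a).2.1 ha)
    (IsAlgSpace.yon_obj _) hp ((yon S).map α1) γ g1.symm
  obtain ⟨γU, rfl⟩ := (yon S).map_surjective γU
  have hγ : γU ≫ h = β1 := (yon S).map_injective <|
    (existsUnique_lift_of_formallyEtale ((formal_of_repWith b).2.1 hb) (IsAlgSpace.yon_obj _) hp
      ((yon S).map (α1 ≫ h)) ((yon S).map β1 ≫ b) (by rw [hw, Functor.map_comp, Category.assoc])).unique
      ⟨by rw [Functor.map_comp, reassoc_of% u1, Functor.map_comp],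
        by rw [Functor.map_comp, Category.assoc, ← w, reassoc_of% u2, g2]⟩
      ⟨((yon S).map_comp _ _).symm.trans (congrArg (fun q => (yon S).map q) hw.symm), rfl⟩
  exact ⟨γU.left, congrArg CommaMorphism.left ((yon S).map_injective
    (((yon S).map_comp _ _).trans u1) : p ≫ γU = α1), congrArg CommaMorphism.left hγ⟩

/-- Induction over the ideals inside a finitely generated ideal, adding one element at a time. -/
theorem ideal_induction {A : Type u} [CommRing A] [IsNoetherianRing A] {P : Ideal A → Prop} (I : Ideal A)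
    (base : P ⊥) (step : ∀ (J : Ideal A) (t : A), t ∈ I → J ≤ I → P J → P (J ⊔ Ideal.span {t})) : P I := by
  classical
  obtain ⟨s, hs⟩ := IsNoetherian.noetherian I
  have key : ∀ r : Finset A, (r : Set A) ⊆ I → P (Ideal.span (r : Set A)) := by
    intro r
    induction r using Finset.induction_on with
    | empty => intro _; simpa using base
    | insert t r _ ih =>
      intro hr
      rw [Finset.coe_insert, Set.insert_subset_iff] at hr
      rw [Finset.coe_insert, Ideal.span_insert, sup_comm]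
      exact step _ t hr.1 (Ideal.span_le.2 hr.2) (ih hr.2)
  have hsI : (s : Set A) ⊆ I := fun a ha => hs ▸ Ideal.subset_span ha
  exact hs ▸ key s hsI

/-- Smoothness near a point from lifting along small extensions centred at it. -/
theorem smooth_nhd_of_small_lifts {U V : Scheme.{u}} (h : U ⟶ V) [IsLocallyNoetherian V]
    [LocallyOfFiniteType h] (x : U)
    (H : ∀ (B' B : Type u) [CommRing B'] [CommRing B] [IsLocalRing B'] [IsLocalRing B]
      [IsArtinianRing B'] [IsArtinianRing B] (π : B' →+* B), Function.Surjective π →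
      (∃ t : B', RingHom.ker π = Ideal.span {t} ∧ ∀ a ∈ maximalIdeal B', a * t = 0) →
      ∀ (α0 : Spec (CommRingCat.of B) ⟶ U) (β0 : Spec (CommRingCat.of B') ⟶ V),
        α0 (closedPoint B) = x → Spec.map (CommRingCat.ofHom π) ≫ β0 = α0 ≫ h →
        ∃ γ0 : Spec (CommRingCat.of B') ⟶ U, Spec.map (CommRingCat.ofHom π) ≫ γ0 = α0 ∧ γ0 ≫ h = β0) :
    ∃ W : U.Opens, x ∈ W ∧ Smooth (W.ι ≫ h) := by
  refine (Groth.Agent.S2793.result h x).2 fun A' _ _ _ hA _ I hI hIm g₀ hc h1 _ => ?_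
  let R := U.presheaf.stalk x
  let P : Ideal A' → Prop := fun J => J ≠ ⊤ → ∀ g : R →+* A' ⧸ J,
    g.comp (h.stalkMap x).hom = (Ideal.Quotient.mk J).comp hA →
    (∀ b ∈ maximalIdeal R, g b ∈ (maximalIdeal A').map (Ideal.Quotient.mk J)) →
    ∃ g' : R →+* A', g'.comp (h.stalkMap x).hom = hA ∧ (Ideal.Quotient.mk J).comp g' = g
  suffices P I from this hI g₀ hc h1
  refine ideal_induction I ?_ ?_
  · intro _ g hg _
    let e := RingEquiv.quotientBot A'
    have he : ∀ a, e (Ideal.Quotient.mk ⊥ a) = a := fun a => rfl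
    refine ⟨e.toRingHom.comp g, RingHom.ext fun r => ?_, RingHom.ext fun r => ?_⟩
    · exact (congrArg e (congr($hg r))).trans (he _)
    · obtain ⟨a, ha⟩ := Ideal.Quotient.mk_surjective (g r)
      show Ideal.Quotient.mk ⊥ (e (g r)) = g r
      rw [← ha, he]
  intro J t htI hJI hPJ hne g hgc hgl
  let K : Ideal A' := J ⊔ Ideal.span {t}
  have hJK : J ≤ K := le_sup_left
  have hJne : J ≠ ⊤ := ne_top_of_le_ne_top hne hJK
  have : Nontrivial (A' ⧸ J) := Ideal.Quotient.nontrivial_iff.2 hJne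
  have : Nontrivial (A' ⧸ K) := Ideal.Quotient.nontrivial_iff.2 hne
  have : IsLocalRing (A' ⧸ J) := IsLocalRing.of_surjective' _ Ideal.Quotient.mk_surjective
  have : IsLocalRing (A' ⧸ K) := IsLocalRing.of_surjective' _ Ideal.Quotient.mk_surjective
  have hmax : ∀ L : Ideal A', L ≠ ⊤ → ∀ [IsLocalRing (A' ⧸ L)],
      (maximalIdeal A').map (Ideal.Quotient.mk L) = maximalIdeal (A' ⧸ L) := fun L _ _ => by
    have := IsLocalHom.of_surjective (Ideal.Quotient.mk L) Ideal.Quotient.mk_surjective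
    refine le_antisymm (Ideal.map_le_iff_le_comap.2 fun m hm hu => hm (IsLocalHom.map_nonunit m hu)) ?_
    intro b hb
    obtain ⟨a, rfl⟩ := Ideal.Quotient.mk_surjective b
    exact Ideal.mem_map_of_mem _ fun hu => hb (hu.map _)
  let π : A' ⧸ J →+* A' ⧸ K := Ideal.Quotient.factor hJK
  have hπs : Function.Surjective π := Ideal.Quotient.factor_surjective hJK
  have hker : RingHom.ker π = Ideal.span {Ideal.Quotient.mk J t} := by
    rw [Ideal.Quotient.factor_ker hJK, Ideal.map_sup, Ideal.map_quotient_self, bot_sup_eq, Ideal.map_span,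
      Set.image_singleton]
  have hkill : ∀ a ∈ maximalIdeal (A' ⧸ J), a * Ideal.Quotient.mk J t = 0 := by
    intro a ha
    rw [← hmax J hJne, Ideal.mem_map_iff_of_surjective _ Ideal.Quotient.mk_surjective] at ha
    obtain ⟨m, hm, rfl⟩ := ha
    rw [← map_mul, Ideal.Quotient.eq_zero_iff_mem]
    have : t * m ∈ I * maximalIdeal A' := Ideal.mul_mem_mul htI hm
    rw [hIm, Ideal.mem_bot, mul_comm] at this
    rw [this]
    exact zero_mem _
  have hloc : IsLocalHom g := ⟨fun b hb => by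
    by_contra hnb
    exact (hmax K hne ▸ hgl b hnb : g b ∈ maximalIdeal (A' ⧸ K)) hb⟩
  have hclosed : ∀ {D : Type u} [CommRing D] [IsLocalRing D] {Z : Scheme.{u}} (z : Z)
      (φ : Z.presheaf.stalk z →+* D) (_ : IsLocalHom φ),
      (Spec.map (CommRingCat.ofHom φ) ≫ Z.fromSpecStalk z) (closedPoint D) = z := by
    intro D _ _ Z z φ hφ
    rw [Scheme.Hom.comp_apply]
    have : Spec.map (CommRingCat.ofHom φ) (closedPoint D) = closedPoint (Z.presheaf.stalk z) :=
      IsLocalRing.comap_closedPoint φ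
    rw [this]
    exact Scheme.fromSpecStalk_closedPoint
  obtain ⟨γ0, hγ1, hγ2⟩ := H (A' ⧸ J) (A' ⧸ K) π hπs ⟨_, hker, hkill⟩
    (Spec.map (CommRingCat.ofHom g) ≫ U.fromSpecStalk x)
    (Spec.map (CommRingCat.ofHom ((Ideal.Quotient.mk J).comp hA)) ≫ V.fromSpecStalk (h x))
    (hclosed x g hloc) (by
      rw [Category.assoc, ← Scheme.SpecMap_stalkMap_fromSpecStalk, ← Category.assoc, ← Category.assoc,
        ← Spec.map_comp, ← Spec.map_comp]
      congr 2
      ext r
      exact ((congr($hgc r)).trans (Ideal.Quotient.factor_mk hJK (hA r)).symm).symm)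
  obtain ⟨⟨y, g1, hg1⟩, rfl⟩ := (SpecToEquivOfLocalRing U (CommRingCat.of (A' ⧸ J))).symm.surjective γ0
  change Spec.map (CommRingCat.ofHom π) ≫ Spec.map g1 ≫ U.fromSpecStalk y = _ at hγ1
  change (Spec.map g1 ≫ U.fromSpecStalk y) ≫ h = _ at hγ2
  have hπl : IsLocalHom π := IsLocalHom.of_surjective π hπs
  obtain rfl : x = y := by
    rw [← Category.assoc, ← Spec.map_comp] at hγ1
    refine (hclosed x g hloc).symm.trans ((congrArg (fun q => q (closedPoint (A' ⧸ K))) hγ1).symm.trans ?_)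
    exact hclosed y (π.comp g1.hom) (by infer_instance)
  have e1 : π.comp g1.hom = g := by
    rw [← Category.assoc, ← Spec.map_comp, cancel_mono, Spec.map_inj] at hγ1
    exact congrArg CommRingCat.Hom.hom hγ1
  have e2 : g1.hom.comp (h.stalkMap x).hom = (Ideal.Quotient.mk J).comp hA := by
    rw [Category.assoc, ← Scheme.SpecMap_stalkMap_fromSpecStalk, ← Category.assoc, ← Spec.map_comp,
      cancel_mono, Spec.map_inj] at hγ2
    exact congrArg CommRingCat.Hom.hom hγ2
  obtain ⟨g', a1, a2⟩ := hPJ hJne g1.hom e2 (fun b hb => by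
    rw [hmax J hJne]
    exact fun hu => hb (hg1.map_nonunit b hu))
  refine ⟨g', a1, ?_⟩
  rw [← e1, ← a2, ← RingHom.comp_assoc]
  exact congrArg (fun q => RingHom.comp q g') (RingHom.ext fun a => (Ideal.Quotient.factor_mk hJK a).symm)

/-- The chart morphisms of a morphism with lifts along small extensions are smooth. -/
theorem smooth_chart_of_lifts (hY : IsLocNoethSp Y) (hYa : IsAlgSpace Y) (hft : LocP @LocallyOfFiniteType f)
    (H : ∀ (B' B : Type u) [CommRing B'] [CommRing B] [IsLocalRing B'] [IsLocalRing B]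
        [IsArtinianRing B'] [IsArtinianRing B] (π : B' →+* B), Function.Surjective π →
        (∃ t : B', RingHom.ker π = Ideal.span {t} ∧ ∀ a ∈ IsLocalRing.maximalIdeal B', a * t = 0) →
        ∀ (s : Spec (CommRingCat.of B') ⟶ S)
          (α : (yon S).obj (Over.mk (Spec.map (CommRingCat.ofHom π) ≫ s)) ⟶ X)
          (β : (yon S).obj (Over.mk s) ⟶ Y),
          LocP @LocallyOfFiniteType β → α ≫ f = (yon S).map (specHom π s) ≫ β →
          ∃ γ : (yon S).obj (Over.mk s) ⟶ X, (yon S).map (specHom π s) ≫ γ = α ∧ γ ≫ f = β) :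
    LocP @Smooth f := by
  intro U V a b h ha hb w
  have : LocallyOfFiniteType h.left := hft a b h ha hb w
  have : IsLocallyNoetherian V.left := isLocallyNoetherian_chart hb hY
  refine (Groth.Agent.S1417.result h.left).2 fun B B' _ _ _ _ _ _ φ ε hφ hker hm α0 β0 hβ hc => ?_
  have hk : ∃ t, RingHom.ker φ = Ideal.span {t} ∧ ∀ a ∈ maximalIdeal B', a * t = 0 :=
    ⟨ε, hker, fun a ha' => mul_comm a ε ▸ hm a ha'⟩
  refine exists_chart_lift ha hb w φ hφ (ker_sq_of_small φ hk) α0 β0 hc fun α β _ hβ' hc' =>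
    H B' B φ hφ hk _ α β ?_ hc'
  rw [hβ']
  exact locP_of_repWith (P := @LocallyOfFiniteType) (repWith_comp ((repWith_yon_map_iff _ _).2 hβ)
    (repWith_mono (fun _ _ g (_ : Etale g) => inferInstanceAs (LocallyOfFiniteType g)) b hb))

/-- Smoothness at a point from lifting along small extensions centred at it. -/
theorem hasAtMor_smooth_of_lifts (hX : IsAlgSpace X) (hYa : IsAlgSpace Y) (hY : IsLocNoethSp Y)
    (hft : LocP @LocallyOfFiniteType f) (x : Points X)
    (H : ∀ (B' B : Type u) [CommRing B'] [CommRing B] [IsLocalRing B'] [IsLocalRing B]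
        [IsArtinianRing B'] [IsArtinianRing B] (π : B' →+* B), Function.Surjective π →
        (∃ t : B', RingHom.ker π = Ideal.span {t} ∧ ∀ a ∈ IsLocalRing.maximalIdeal B', a * t = 0) →
        ∀ (s : Spec (CommRingCat.of B') ⟶ S)
          (α : (yon S).obj (Over.mk (Spec.map (CommRingCat.ofHom π) ≫ s)) ⟶ X)
          (β : (yon S).obj (Over.mk s) ⟶ Y),
          Points.ofPt α (closedPoint B) = x → α ≫ f = (yon S).map (specHom π s) ≫ β →
          ∃ γ : (yon S).obj (Over.mk s) ⟶ X, (yon S).map (specHom π s) ≫ γ = α ∧ γ ≫ f = β) :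
    HasAtMor (fun U _ h u => ∃ W : U.Opens, u ∈ W ∧ Smooth (W.ι ≫ h)) f x := by
  obtain ⟨U, V, a, b, h, ha, has, hb, -, w⟩ := exists_chart hX hYa f
  obtain ⟨u, rfl⟩ := Groth.Agent.AlgSpLib.surjective_ofPt has x
  have : LocallyOfFiniteType h.left := hft a b h ha hb w
  have : IsLocallyNoetherian V.left := isLocallyNoetherian_chart hb hY
  refine ⟨U, V, a, b, h, u, ha, hb, w, rfl, smooth_nhd_of_small_lifts h.left u ?_⟩
  intro B' B _ _ _ _ _ _ π hπ hk α0 β0 hu hc
  refine exists_chart_lift ha hb w π hπ (ker_sq_of_small π hk) α0 β0 hc fun α β hα _ hc' =>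
    H B' B π hπ hk _ α β ?_ hc'
  rw [hα, hu]

/-- Lifting at a point of smoothness. -/
theorem exists_lift_of_hasAtMor_smooth (hX : IsAlgSpace X) (hYa : IsAlgSpace Y) {x : Points X}
    (hs : HasAtMor (fun U _ h u => ∃ W : U.Opens, u ∈ W ∧ Smooth (W.ι ≫ h)) f x)
    {B' B : Type u} [CommRing B'] [CommRing B] [IsLocalRing B] (π : B' →+* B) (hπ : Function.Surjective π)
    (h2 : RingHom.ker π ^ 2 = ⊥) (s : Spec (CommRingCat.of B') ⟶ S)
    (α : (yon S).obj (Over.mk (Spec.map (CommRingCat.ofHom π) ≫ s)) ⟶ X) (β : (yon S).obj (Over.mk s) ⟶ Y)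
    (hx : Points.ofPt α (closedPoint B) = x) (hc : α ≫ f = (yon S).map (specHom π s) ≫ β) :
    ∃ γ : (yon S).obj (Over.mk s) ⟶ X, (yon S).map (specHom π s) ≫ γ = α ∧ γ ≫ f = β := by
  obtain ⟨U, V, a, b, h, u, ha, hb, w, hu, W, huW, hW⟩ := hs
  let W' : Over S := Over.mk (W.ι ≫ U.hom)
  let ι : W' ⟶ U := Over.homMk W.ι rfl
  have hι : Etale ι.left := inferInstanceAs (Etale W.ι)
  have ha' : RepWith @Etale ((yon S).map ι ≫ a) := repWith_comp ((repWith_yon_map_iff _ _).2 hι) ha
  have hsm : Smooth (ι ≫ h).left := hW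
  refine exists_lift_of_surjection hX hYa ha' hb (by rw [Category.assoc, w, Functor.map_comp_assoc])
    ((Groth.Agent.S1488.result (ι ≫ h).left).1 hsm).2 π hπ h2 s α β hc fun t => ?_
  have hO : IsOpen (Set.range (Points.ofPt ((yon S).map ι ≫ a))) :=
    (Groth.Agent.AlgSpLib.isOpenMap_ofPt ha').isOpen_range
  refine ((IsLocalRing.specializes_closedPoint t).map (Points.continuous_ofPt α)).mem_open hO ?_
  rw [hx, ← hu]
  exact ⟨(⟨u, huW⟩ : W), Groth.Agent.AlgSpLib.ofPt_comp ι a _⟩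

end Groth.Agent.AlgSpDM
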