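import Mathlib.AlgebraicGeometry.Morphisms.Etale
import Mathlib.AlgebraicGeometry.Morphisms.Finite
import Mathlib.AlgebraicGeometry.Limits
import Mathlib.RingTheory.TotallySplit
import Mathlib.RingTheory.Spectrum.Prime.FreeLocus
import Mathlib.RingTheory.Finiteness.ModuleFinitePresentation

/-!
# Finite etale coverings splitting a given one
-/

set_option autoImplicit false
set_option backward.isDefEq.respectTransparency false
set_option backward.isDefEq.respectTransparency.types false
set_option maxHeartbeats 800000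

universe u

open CategoryTheory CategoryTheory.Limits AlgebraicGeometry
open scoped TensorProduct

namespace Groth.Agent.AlgSpDM.SplitCover

/-- A finite etale morphism to a connected affine scheme becomes a local isomorphism after a finite etale
surjective base change. -/
theorem exists_split {U P : Scheme.{u}} [IsAffine U] [ConnectedSpace ↥U] (p : P ⟶ U) [IsFinite p] [Etale p] :
    ∃ (W : Scheme.{u}) (w : W ⟶ U), IsAffine W ∧ IsFinite w ∧ Etale w ∧ Surjective w ∧
      ∀ z : ↥(pullback p w), ∃ O : (pullback p w).Opens, z ∈ O ∧ IsOpenImmersion (O.ι ≫ pullback.snd p w) := by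
  have : IsAffine P := isAffine_of_isAffineHom p
  let R : Type u := Γ(U, ⊤)
  let D : Type u := Γ(P, ⊤)
  let φ : Γ(U, ⊤) ⟶ Γ(P, ⊤) := p.appTop
  have hp : p = P.isoSpec.hom ≫ Spec.map φ ≫ U.isoSpec.inv := by
    rw [Scheme.isoSpec_hom_naturality_assoc, Iso.hom_inv_id, Category.comp_id]
  let _ : Algebra R D := φ.hom.toAlgebra
  have hsp : ∀ (Q : MorphismProperty Scheme.{u}) [Q.RespectsIso], Q p → Q (Spec.map φ) := fun Q _ h => by
    rwa [hp, Q.cancel_left_of_respectsIso, Q.cancel_right_of_respectsIso] at h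
  have : Module.Finite R D := (IsFinite.SpecMap_iff _).1 (hsp @IsFinite ‹_›)
  have : Algebra.Etale R D :=
    RingHom.etale_algebraMap.1 ((HasRingHomProperty.Spec_iff (P := @Etale)).1 (hsp @Etale ‹_›))
  have : ConnectedSpace (PrimeSpectrum R) :=
    U.isoSpec.hom.homeomorph.surjective.connectedSpace U.isoSpec.hom.homeomorph.continuous
  have : Module.FinitePresentation R D := .of_finite_of_finitePresentation R D
  obtain ⟨n, hn⟩ : ∃ n : ℕ, Module.rankAtStalk (R := R) D = (n : PrimeSpectrum R → ℕ) := by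
    obtain ⟨q⟩ := (inferInstance : Nonempty (PrimeSpectrum R))
    refine ⟨Module.rankAtStalk (R := R) D q, funext fun q' => ?_⟩
    rw [Pi.natCast_def]
    exact Module.isLocallyConstant_rankAtStalk.apply_eq_of_preconnectedSpace q' q
  obtain ⟨T, _, _, _, _, _, hT⟩ := Algebra.IsFiniteSplit.exists_tensorProduct_of_etale hn
  obtain ⟨m, ⟨e₀⟩⟩ := hT.nonempty_algEquiv_fun
  let W : Scheme.{u} := Spec (CommRingCat.of T)
  let sD : Spec (CommRingCat.of D) ⟶ Spec (CommRingCat.of R) := Spec.map (CommRingCat.ofHom (algebraMap R D))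
  let sT : W ⟶ Spec (CommRingCat.of R) := Spec.map (CommRingCat.ofHom (algebraMap R T))
  let w : W ⟶ U := sT ≫ U.isoSpec.inv
  have hsD : sD = Spec.map φ := rfl
  let E : (pullback p w : Scheme.{u}) ≅ pullback sT sD :=
    pullbackSymmetry p w ≪≫ asIso (pullback.map w p sT sD (𝟙 W) P.isoSpec.hom U.isoSpec.hom
      (by simp [w]) (by rw [hsD, Scheme.isoSpec_hom_naturality])) ≪≫ Iso.refl _
  have hE : E.hom ≫ pullback.fst sT sD = pullback.snd p w := by
    simp only [E, Iso.trans_hom, asIso_hom, Iso.refl_hom, Category.comp_id, Category.assoc]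
    erw [pullback.lift_fst, Category.comp_id]
    exact pullbackSymmetry_hom_comp_fst p w
  let J : Spec (CommRingCat.of (T ⊗[R] D)) ≅ (pullback p w : Scheme.{u}) := (pullbackSpecIso R T D).symm ≪≫ E.symm
  have hJ : J.hom ≫ pullback.snd p w = Spec.map (CommRingCat.ofHom (algebraMap T (T ⊗[R] D))) := by
    simp only [J, Iso.trans_hom, Iso.symm_hom, ← hE, Category.assoc, Iso.inv_hom_id_assoc]
    exact pullbackSpecIso_inv_fst' R T D
  refine ⟨W, w, inferInstanceAs (IsAffine (Spec _)), ?_, ?_, ?_, fun z => ?_⟩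
  · refine (MorphismProperty.cancel_right_of_respectsIso @IsFinite _ _).2 ((IsFinite.SpecMap_iff _).2 ?_)
    exact RingHom.finite_algebraMap.2 ‹_›
  · exact (MorphismProperty.cancel_right_of_respectsIso @Etale _ _).2
      ((HasRingHomProperty.Spec_iff (P := @Etale)).2 (RingHom.etale_algebraMap.2 ‹_›))
  · have : Surjective sT := ⟨PrimeSpectrum.comap_surjective_of_faithfullyFlat (A := R) (B := T)⟩
    infer_instance
  let R' : ULift.{u} (Fin m) → CommRingCat.{u} := fun _ => CommRingCat.of T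
  let ev : ∀ i : ULift.{u} (Fin m), CommRingCat.of (T ⊗[R] D) ⟶ CommRingCat.of T := fun i =>
    CommRingCat.ofHom ((Pi.evalRingHom (fun _ : Fin m => T) i.down).comp e₀.toAlgHom.toRingHom)
  have hev : ∀ i, CommRingCat.ofHom (algebraMap T (T ⊗[R] D)) ≫ ev i = 𝟙 _ := fun i =>
    CommRingCat.hom_ext (RingHom.ext fun t => by
      show e₀ (algebraMap T (T ⊗[R] D) t) i.down = t
      rw [e₀.commutes]
      rfl)
  let ι : ∀ i, W ⟶ pullback p w := fun i => Spec.map (ev i) ≫ J.hom
  let eI : CommRingCat.of (T ⊗[R] D) ≅ CommRingCat.of (Π i, R' i) :=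
    (e₀.toRingEquiv.trans (RingEquiv.piCongrLeft' (fun _ : Fin m => T) Equiv.ulift.symm)).toCommRingCatIso
  have hι : ∀ i, ι i = Sigma.ι (fun i => Spec (R' i)) i ≫ sigmaSpec R' ≫ Spec.map eI.hom ≫ J.hom := fun i => by
    rw [ι_sigmaSpec_assoc, ← Spec.map_comp_assoc]
    rfl
  obtain ⟨y, hy⟩ := (sigmaSpec R' ≫ Spec.map eI.hom ≫ J.hom).homeomorph.surjective z
  obtain ⟨⟨i, t⟩, hit⟩ := (sigmaMk fun i => Spec (R' i)).surjective y
  have hio : IsOpenImmersion (ι i) := by rw [hι]; infer_instance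
  refine ⟨(ι i).opensRange, ⟨t, ?_⟩, ?_⟩
  · rw [hι, Scheme.Hom.comp_apply, ← hy, ← hit, sigmaMk_mk]
    rfl
  · have h1 : ι i ≫ pullback.snd p w = 𝟙 W := by
      rw [Category.assoc, hJ, ← Spec.map_comp, hev, Spec.map_id]
    rw [show (ι i).opensRange.ι ≫ pullback.snd p w = (ι i).isoOpensRange.inv by
      rw [← Scheme.Hom.isoOpensRange_inv_comp, Category.assoc, h1, Category.comp_id]]
    infer_instance

end Groth.Agent.AlgSpDM.SplitCover
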