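import Groth.Agent.AlgSpDM.SplitCover
import Groth.Agent.AlgSpDM.DenseFiniteAux
import Groth.Agent.CodimQf.Basic
import Groth.Agent.AlgSpDec.CodimZero
import Groth.Agent.AlgSpPts.Dim

/-!
# A splitting covering over a neighbourhood of a minimal point
-/

set_option autoImplicit false
set_option backward.isDefEq.respectTransparency false
set_option backward.isDefEq.respectTransparency.types false
set_option maxHeartbeats 800000

universe u

open CategoryTheory CategoryTheory.Limits AlgebraicGeometry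
open Groth.Agent.AlgSpDM.DenseFin

namespace Groth.Agent.AlgSpDM.SplitCover

/-- The base change of `r` along `w` is locally an isomorphism onto its image. -/
def SplitOver {R V W : Scheme.{u}} (r : R ⟶ V) (w : W ⟶ V) : Prop :=
  ∀ z : ↥(pullback r w), ∃ O : (pullback r w).Opens, z ∈ O ∧ IsOpenImmersion (O.ι ≫ pullback.snd r w)

/-- Distinct minimal points have no common specialization. -/
def SepMin (W : Scheme.{u}) : Prop :=
  ∀ w₁ w₂ z : ↥W, w₁ ∈ minPts W → w₂ ∈ minPts W → w₁ ⤳ z → w₂ ⤳ z → w₁ = w₂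

theorem SplitOver.comp {R V W W' : Scheme.{u}} {r : R ⟶ V} {w : W ⟶ V} (h : SplitOver r w) (j : W' ⟶ W)
    [IsOpenImmersion j] : SplitOver r (j ≫ w) := by
  intro z
  let κ : pullback r (j ≫ w) ⟶ pullback r w :=
    pullback.lift (pullback.fst _ _) (pullback.snd _ _ ≫ j) (by rw [Category.assoc]; exact pullback.condition)
  have sq : IsPullback κ (pullback.snd r (j ≫ w)) (pullback.snd r w) j := by
    refine IsPullback.of_right ?_ (pullback.lift_snd _ _ _) (IsPullback.of_hasPullback r w)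
    rw [pullback.lift_fst]
    exact IsPullback.of_hasPullback r (j ≫ w)
  have : IsOpenImmersion κ := MorphismProperty.of_isPullback (P := @IsOpenImmersion) sq.flip ‹_›
  obtain ⟨O, hzO, hO⟩ := h (κ z)
  refine ⟨κ ⁻¹ᵁ O, hzO, ?_⟩
  have : IsOpenImmersion (((κ ⁻¹ᵁ O).ι ≫ pullback.snd r (j ≫ w)) ≫ j) := by
    rw [Category.assoc, ← sq.w, ← reassoc_of% (isPullback_morphismRestrict κ O).w]
    infer_instance
  exact IsOpenImmersion.of_comp _ j

theorem SplitOver.of_restrict {R V : Scheme.{u}} {r : R ⟶ V} {A : V.Opens} {W : Scheme.{u}} {w : W ⟶ A}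
    (h : ∀ z : ↥(pullback (r ∣_ A) w), ∃ O : (pullback (r ∣_ A) w).Opens,
      z ∈ O ∧ IsOpenImmersion (O.ι ≫ pullback.snd (r ∣_ A) w)) : SplitOver r (w ≫ A.ι) := by
  intro z
  have sq : IsPullback (pullback.fst (r ∣_ A) w ≫ (r ⁻¹ᵁ A).ι) (pullback.snd (r ∣_ A) w) r (w ≫ A.ι) :=
    (IsPullback.of_hasPullback (r ∣_ A) w).paste_horiz (isPullback_morphismRestrict r A).flip
  obtain ⟨O, hzO, hO⟩ := h (sq.isoPullback.inv z)
  refine ⟨sq.isoPullback.inv ⁻¹ᵁ O, hzO, ?_⟩
  rw [← sq.isoPullback_inv_snd, ← reassoc_of% (isPullback_morphismRestrict sq.isoPullback.inv O).w]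
  infer_instance

/-- Near a minimal point a finite etale morphism is split by a finite etale covering whose minimal points
have no common specialization. -/
theorem exists_piece {R V : Scheme.{u}} (r : R ⟶ V) [Etale r] {V₁ : V.Opens} [IsFinite (r ∣_ V₁)]
    (hfin : (minPts V).Finite) {v : ↥V} (hv : v ∈ minPts V) (hvV : v ∈ V₁) :
    ∃ A : V.Opens, IsAffineOpen A ∧ v ∈ A ∧ (∀ v' ∈ minPts V, v' ∈ A → v' = v) ∧ A ≤ V₁ ∧
      ∃ (W : Scheme.{u}) (w : W ⟶ A), IsAffine W ∧ IsFinite w ∧ Etale w ∧ Surjective w ∧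
        (minPts W).Finite ∧ SepMin W ∧ SplitOver r (w ≫ A.ι) := by
  let N : V.Opens := ⟨(⋃ v' ∈ minPts V \ {v}, closure {v'})ᶜ,
    ((hfin.subset Set.diff_subset).isClosed_biUnion fun _ _ => isClosed_closure).isOpen_compl⟩
  have hvN : v ∈ N := fun hm => by
    obtain ⟨v', ⟨-, hne⟩, hc⟩ := Set.mem_iUnion₂.1 hm
    exact hne (AlgSpDec.eq_of_specializes_of_coheight hv (specializes_iff_mem_closure.2 hc))
  obtain ⟨A, hA, hvA, hAN⟩ := exists_isAffineOpen_mem_and_subset (U := V₁ ⊓ N) (x := v) ⟨hvV, hvN⟩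
  have hgen : ∀ a ∈ A, v ⤳ a := fun a ha => by
    obtain ⟨v', hv', h0⟩ := CodimQf.exists_coheight_zero_specializes a
    by_cases he : v' = v
    · exact he ▸ hv'
    · exact absurd (Set.mem_iUnion₂.2 ⟨v', ⟨h0, he⟩, specializes_iff_mem_closure.1 hv'⟩) (hAN ha).2
  have hone : ∀ v' ∈ minPts V, v' ∈ A → v' = v := fun v' hv' h =>
    (AlgSpDec.eq_of_specializes_of_coheight hv' (hgen v' h)).symm
  have : IsAffine A.toScheme := hA
  have hAV : A ≤ V₁ := fun a ha => (hAN ha).1
  have : IsFinite (r ∣_ A) := by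
    let k := R.homOfLE (show r ⁻¹ᵁ A ≤ r ⁻¹ᵁ V₁ from fun _ h => hAV h)
    suffices sq : IsPullback k (r ∣_ A) (r ∣_ V₁) (V.homOfLE hAV) from
      MorphismProperty.of_isPullback (P := @IsFinite) sq ‹_›
    refine IsPullback.of_right ?_ ?_ (isPullback_morphismRestrict r V₁).flip
    · rw [Scheme.homOfLE_ι, Scheme.homOfLE_ι]
      exact (isPullback_morphismRestrict r A).flip
    · rw [← cancel_mono V₁.ι, Category.assoc, Category.assoc, Scheme.homOfLE_ι]
      erw [(isPullback_morphismRestrict r V₁).w]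
      rw [Scheme.homOfLE_ι_assoc]
      exact (isPullback_morphismRestrict r A).w.symm
  have : ConnectedSpace ↥A.toScheme := by
    have h : _root_.IsPreconnected (A : Set ↥V) := by
      refine (isPreconnected_singleton (x := v)).subset_closure (Set.singleton_subset_iff.2 hvA) fun a ha => ?_
      exact specializes_iff_mem_closure.1 (hgen a ha)
    exact Subtype.connectedSpace ⟨⟨v, hvA⟩, h⟩
  obtain ⟨W, w, hW, hwf, hwe, hws, hsplit⟩ := exists_split (r ∣_ A)
  have := hwe
  have hcw : ∀ x : ↥W, x ∈ minPts W ↔ (w x).1 = v := fun x => by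
    show Order.coheight x = 0 ↔ _
    rw [AlgSpPts.coheight_eq_of_etale w, AlgSpPts.coheight_eq_of_etale A.ι]
    exact ⟨fun h => hone _ h (w x).2, fun h => (show A.ι (w x) = v from h).symm ▸ hv⟩
  have hWfin : (minPts W).Finite := (w.finite_preimage_singleton ⟨v, hvA⟩).subset fun x hx => Subtype.ext ((hcw x).1 hx)
  let B : Set ↥W := ⋃ x ∈ minPts W, ⋃ x' ∈ minPts W \ {x}, closure {x} ∩ closure {x'}
  have hB : IsClosed B := hWfin.isClosed_biUnion fun x _ =>
    (hWfin.subset Set.diff_subset).isClosed_biUnion fun x' _ => isClosed_closure.inter isClosed_closure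
  have hvB : (⟨v, hvA⟩ : A.toScheme) ∉ w '' B := by
    rintro ⟨b, hb, hwb⟩
    obtain ⟨x, hx, hb⟩ := Set.mem_iUnion₂.1 hb
    obtain ⟨x', ⟨hx', hne⟩, hb, hb'⟩ := Set.mem_iUnion₂.1 hb
    have hb0 : b ∈ minPts W := (hcw b).2 (congrArg Subtype.val hwb)
    exact hne ((AlgSpDec.eq_of_specializes_of_coheight hb0 (specializes_iff_mem_closure.2 hb')).trans
      (AlgSpDec.eq_of_specializes_of_coheight hb0 (specializes_iff_mem_closure.2 hb)).symm)
  let G : A.toScheme.Opens := ⟨(w '' B)ᶜ, (w.isClosedMap _ hB).isOpen_compl⟩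
  obtain ⟨A', hA', hvA', hA'G⟩ := exists_isAffineOpen_mem_and_subset (U := A.ι ''ᵁ G) (x := v) ⟨⟨v, hvA⟩, hvB, rfl⟩
  have hA'A : A' ≤ A := fun a ha => by
    obtain ⟨a', -, rfl⟩ := hA'G ha
    exact a'.2
  have hA'aff : IsAffine A'.toScheme := hA'
  let W' : Scheme.{u} := pullback w (V.homOfLE hA'A)
  let w' : W' ⟶ A' := pullback.snd w (V.homOfLE hA'A)
  let j : W' ⟶ W := pullback.fst w (V.homOfLE hA'A)
  have hj : ∀ x : ↥W', (w' x).1 = (w (j x)).1 := fun x => by
    have h1 := congrArg (fun k : W' ⟶ A.toScheme => A.ι (k x)) (pullback.condition : j ≫ w = w' ≫ V.homOfLE hA'A)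
    simp only [Scheme.Hom.comp_apply] at h1
    rw [← Scheme.Hom.comp_apply (V.homOfLE hA'A) A.ι, Scheme.homOfLE_ι] at h1
    exact h1.symm
  have hjmin : ∀ x : ↥W', x ∈ minPts W' ↔ j x ∈ minPts W := fun x => by
    show Order.coheight x = 0 ↔ Order.coheight (j x) = 0
    rw [AlgSpPts.coheight_eq_of_etale j]
  refine ⟨A', hA', hvA', fun v' hv' h => hone v' hv' (hA'A h), hA'A.trans hAV, W', w',
    isAffine_of_isAffineHom w', MorphismProperty.pullback_snd (P := @IsFinite) _ _ hwf,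
    MorphismProperty.pullback_snd (P := @Etale) _ _ hwe, MorphismProperty.pullback_snd (P := @Surjective) _ _ hws,
    (hWfin.preimage j.isOpenEmbedding.injective.injOn).subset fun x hx => (hjmin x).1 hx, ?_, ?_⟩
  · intro x₁ x₂ z h₁ h₂ s₁ s₂
    refine j.isOpenEmbedding.injective (by_contra fun hne => ?_)
    have hz : j z ∈ B := Set.mem_iUnion₂.2 ⟨j x₁, (hjmin _).1 h₁, Set.mem_iUnion₂.2 ⟨j x₂,
      ⟨(hjmin _).1 h₂, Ne.symm hne⟩, specializes_iff_mem_closure.1 (s₁.map j.continuous),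
      specializes_iff_mem_closure.1 (s₂.map j.continuous)⟩⟩
    obtain ⟨a', ha', he⟩ := hA'G (w' z).2
    exact ha' ⟨j z, hz, Subtype.ext ((hj z).symm.trans he.symm)⟩
  · rw [show w' ≫ A'.ι = j ≫ w ≫ A.ι by
      rw [← Category.assoc, pullback.condition, Category.assoc, Scheme.homOfLE_ι]]
    exact (SplitOver.of_restrict hsplit).comp j

end Groth.Agent.AlgSpDM.SplitCover
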