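import Groth.Agent.AlgSpDM.DenseSplit
import Groth.Agent.IntCover.Main
import Groth.Agent.AlgSpPts.ProperSubspace

/-!
# Integral covers by schemes which are finite etale over a dense open
-/

set_option autoImplicit false
set_option backward.isDefEq.respectTransparency false
set_option backward.isDefEq.respectTransparency.types false
set_option maxHeartbeats 800000

universe u

open CategoryTheory CategoryTheory.Limits AlgebraicGeometry AlgSp
open Groth.Agent.AlgSpLib Groth.Agent.AlgSpPts Groth.Agent.AlgSpDec Groth.Agent.RelNorm Groth.Agent.IntCover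
open Groth.Agent.AlgSpDM.DenseFin Groth.Agent.AlgSpDM.SplitCover

namespace Groth.Agent.AlgSpDM.SplitScheme

/-- Minimal points of a source which is locally isomorphic to a target with separated minimal points are
separated by clopen sets. -/
theorem exists_clopen_of_split {P W : Scheme.{u}} (π : P ⟶ W) [Etale π] [QuasiCompact π]
    (hWfin : (minPts W).Finite) (hsep : SepMin W)
    (hloc : ∀ z : ↥P, ∃ O : P.Opens, z ∈ O ∧ IsOpenImmersion (O.ι ≫ π))
    {z z' : ↥P} (hz : z ∈ minPts P) (hne : z ≠ z') (hz' : z' ∈ minPts P) :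
    ∃ O : P.Opens, IsClosed (O : Set P) ∧ z ∈ O ∧ z' ∉ O := by
  have hmin : ∀ x : ↥P, x ∈ minPts P → π x ∈ minPts W := fun x hx =>
    (AlgSpPts.coheight_eq_of_etale π x).symm.trans hx
  have hfin : (minPts P).Finite := (π.finite_preimage hWfin).subset hmin
  have hone : ∀ x x' p : ↥P, x ∈ minPts P → x' ∈ minPts P → x ⤳ p → x' ⤳ p → x = x' := by
    intro x x' p hx hx' s s'
    obtain ⟨O, hpO, hO⟩ := hloc p
    have h := hsep _ _ (π p) (hmin x hx) (hmin x' hx') (s.map π.continuous) (s'.map π.continuous)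
    exact congrArg Subtype.val ((O.ι ≫ π).isOpenEmbedding.injective
      (a₁ := ⟨x, s.mem_open O.2 hpO⟩) (a₂ := ⟨x', s'.mem_open O.2 hpO⟩) h)
  let C : Set ↥P := ⋃ x ∈ minPts P \ {z}, closure {x}
  have hC : C = (closure {z})ᶜ := Set.ext fun p => by
    constructor
    · intro hp hpz
      obtain ⟨x, ⟨hx, hxz⟩, hpx⟩ := Set.mem_iUnion₂.1 hp
      exact hxz (hone x z p hx hz (specializes_iff_mem_closure.2 hpx) (specializes_iff_mem_closure.2 hpz))
    · intro hp
      obtain ⟨x, hx, hx0⟩ := CodimQf.exists_coheight_zero_specializes p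
      exact Set.mem_iUnion₂.2 ⟨x, ⟨hx0, fun e : x = z => hp (specializes_iff_mem_closure.1 (e ▸ hx))⟩,
        specializes_iff_mem_closure.1 hx⟩
  have hCc : IsClosed C := (hfin.subset Set.diff_subset).isClosed_biUnion fun _ _ => isClosed_closure
  refine ⟨⟨Cᶜ, hCc.isOpen_compl⟩, ?_, ?_, ?_⟩
  · show IsClosed Cᶜ
    rw [hC, compl_compl]; exact isClosed_closure
  · show z ∈ Cᶜ
    rw [hC, compl_compl]; exact subset_closure rfl
  · show z' ∉ Cᶜ
    rw [hC, compl_compl]
    exact fun h => hne (hone z z' z' hz hz' (specializes_iff_mem_closure.2 h) specializes_rfl)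

/-- Where the morphism is locally an open immersion, a pair lying twice over one point is diagonal. -/
theorem mem_range_diagonal_of_loc {P W : Scheme.{u}} (π : P ⟶ W)
    (hloc : ∀ z : ↥P, ∃ O : P.Opens, z ∈ O ∧ IsOpenImmersion (O.ι ≫ π)) (ρ : ↥(pullback π π))
    (h : pullback.fst π π ρ = pullback.snd π π ρ) : ρ ∈ Set.range (pullback.diagonal π) := by
  obtain ⟨O, hO, _⟩ := hloc (pullback.fst π π ρ)
  let G : (pullback π π).Opens := (pullback.fst π π) ⁻¹ᵁ O ⊓ (pullback.snd π π) ⁻¹ᵁ O
  have r₁ : Set.range (G.ι ≫ pullback.fst π π) ⊆ Set.range O.ι := by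
    rintro _ ⟨g, rfl⟩; rw [Scheme.Opens.range_ι]; exact g.2.1
  have r₂ : Set.range (G.ι ≫ pullback.snd π π) ⊆ Set.range O.ι := by
    rintro _ ⟨g, rfl⟩; rw [Scheme.Opens.range_ι]; exact g.2.2
  let l₁ : G.toScheme ⟶ O := IsOpenImmersion.lift O.ι (G.ι ≫ pullback.fst π π) r₁
  let l₂ : G.toScheme ⟶ O := IsOpenImmersion.lift O.ι (G.ι ≫ pullback.snd π π) r₂
  have e : l₁ = l₂ := by
    rw [← cancel_mono (O.ι ≫ π), IsOpenImmersion.lift_fac_assoc, IsOpenImmersion.lift_fac_assoc, Category.assoc,
      Category.assoc, pullback.condition]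
  have e' : G.ι ≫ pullback.fst π π = G.ι ≫ pullback.snd π π := by
    rw [← IsOpenImmersion.lift_fac O.ι _ r₁, ← IsOpenImmersion.lift_fac O.ι _ r₂]
    exact congrArg (· ≫ O.ι) e
  refine ⟨pullback.fst π π ρ, ?_⟩
  have eG : (G.ι ≫ pullback.fst π π) ≫ pullback.diagonal π = G.ι := by
    apply pullback.hom_ext
    · simp
    · simp [e']
  exact congrArg (fun k : G.toScheme ⟶ pullback π π => k ⟨ρ, hO, show pullback.snd π π ρ ∈ O from h ▸ hO⟩) eG

variable {S : Scheme.{u}}

/-- A quasi-compact quasi-separated space with finitely many irreducible components has an integral cover by a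
scheme which is finite etale over a dense open and factors locally through a given chart. -/
theorem exists_scheme [QuasiSeparatedSpace ↥S] {X : Sp S} (hX : IsAlgSpace X) (hqc : IsQuasiCompactSp X)
    (hqs : IsQuasiSeparatedSp X) (hirr : (irreducibleComponents (Points X)).Finite) {U₀ : Over S}
    (b : (yon S).obj U₀ ⟶ X) (hb : RepWith @Etale b) (hbs : RepWith @Surjective b) :
    ∃ (Y : Over S) (g : (yon S).obj Y ⟶ X) (U : Over S) (jU : (yon S).obj U ⟶ X),
      RepWith @IsIntegralHom g ∧ RepWith @Surjective g ∧ RepWith @IsOpenImmersion jU ∧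
      IsQuasiCompactSp ((yon S).obj U) ∧ Dense (Set.range (Points.map jU)) ∧
      (∀ (P : Sp S) (fst : P ⟶ (yon S).obj Y) (snd : P ⟶ (yon S).obj U), IsPullback fst snd g jU →
        RepWith @IsFinite snd ∧ RepWith @Etale snd) ∧
      ∀ y : ↥Y.left, ∃ (W : Y.left.Opens) (c : Over.mk (W.ι ≫ Y.hom) ⟶ U₀), y ∈ W ∧
        (yon S).map c ≫ b = (yon S).map (Over.homMk W.ι rfl : Over.mk (W.ι ≫ Y.hom) ⟶ Y) ≫ g := by
  obtain ⟨U', k, hU', hφ, hφs⟩ := exists_affine_refine hqc hb hbs
  let φ : (yon S).obj U' ⟶ X := (yon S).map k ≫ b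
  obtain ⟨U, W, jU, w, hjU, hUaff, hdense, hW, hwf, hwe, hws, hWfin, hWsep, hsplit⟩ :=
    DenseSplit.exists_dense_split hX hqs (DenseSplit.finite_cz hX (isDecent_of_isQuasiSeparatedSp hX hqs) hirr)
      hφ hφs
  let g₀ : (yon S).obj W ⟶ X := (yon S).map w ≫ jU
  obtain ⟨hgc, hgs⟩ := qcqs_of_affine hX hqs g₀
  obtain ⟨Y, ν, f', hY, hst⟩ := exists_stabNorm (IsAlgSpace.yon_obj W) hX g₀ hgc hgs
  have hνr := isIntegralMor_iff_repWith.1 hst.integral
  have hνs : IsSeparatedMor ν := isSeparatedMor_of_repWith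
    (repWith_mono (fun _ _ k (_ : IsIntegralHom k) => inferInstanceAs (IsSeparated k)) _ hνr)
  have hYqs : IsQuasiSeparatedSp Y := by
    rw [isQuasiSeparatedSp_iff_mor, (isTerminalYon S).hom_ext ((isTerminalYon S).from Y) (ν ≫ (isTerminalYon S).from X)]
    exact AlgSpPts.isQuasiSeparatedMor_comp
      (repWith_mono (fun _ _ k (_ : IsClosedImmersion k) => inferInstanceAs (QuasiCompact k)) _ hνs)
      ((isQuasiSeparatedSp_iff_mor X).1 hqs)
  let V := hνr.rep.pullback φ
  let νV : V ⟶ U' := hνr.rep.snd φ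
  let a : (yon S).obj V ⟶ Y := hνr.rep.fst φ
  have sqV : IsPullback a ((yon S).map νV) ν φ := hνr.rep.isPullback φ
  have : IsIntegralHom νV.left := hνr.property_snd φ
  have : IsAffine V.left := isAffine_of_isAffineHom νV.left
  have ha : RepWith @Etale a := repWith_of_isPullback sqV.flip hφ
  have has : RepWith @Surjective a := repWith_of_isPullback sqV.flip hφs
  let P := hφ.rep.pullback g₀
  let π : P ⟶ W := hφ.rep.snd g₀
  let q : P ⟶ U' := hφ.rep.fst' g₀
  have sqP : IsPullback ((yon S).map π) ((yon S).map q) g₀ φ := (hφ.rep.isPullback' g₀).flip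
  have hloc : ∀ z : ↥P.left, ∃ O : P.left.Opens, z ∈ O ∧ IsOpenImmersion (O.ι ≫ π.left) :=
    hsplit P ((yon S).map q) π sqP.flip
  have : Etale π.left := hφ.property_snd g₀
  have : CompactSpace ↥P.left :=
    (isQuasiCompactSp_yon_iff P).1 (hgc (IsAlgSpace.yon_obj U') (isQuasiCompactSp_yon_affine U') φ _ _ sqP)
  have : QuasiCompact π.left := inferInstance
  have : QuasiSeparatedSpace ↥P.left := by
    let i : P ⟶ pullback (Over.mkIdTerminal.from W) (Over.mkIdTerminal.from U') :=
      pullback.lift π q (Over.mkIdTerminal.hom_ext _ _)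
    have : Mono i := (yon S).mono_of_mono_map ⟨fun x y h => by
      have h1 := h =≫ (yon S).map (pullback.fst _ _)
      have h2 := h =≫ (yon S).map (pullback.snd _ _)
      simp only [Category.assoc, ← Functor.map_comp, i, pullback.lift_fst, pullback.lift_snd] at h1 h2
      exact sqP.hom_ext h1 h2⟩
    have : Mono i.left := inferInstanceAs (Mono ((Over.forget S).map i))
    have hsq := (IsPullback.of_hasPullback (Over.mkIdTerminal.from W) (Over.mkIdTerminal.from U')).map (Over.forget S)
    have : IsSeparated (Over.mkIdTerminal.from U').left := inferInstance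
    have : IsSeparated (pullback.fst (Over.mkIdTerminal.from W) (Over.mkIdTerminal.from U')).left :=
      MorphismProperty.of_isPullback (P := @IsSeparated) hsq.flip this
    have : IsSeparated π.left := by
      rw [show π.left = i.left ≫ (pullback.fst (Over.mkIdTerminal.from W) (Over.mkIdTerminal.from U')).left by
        rw [← Over.comp_left, pullback.lift_fst]]
      infer_instance
    exact quasiSeparatedSpace_of_quasiSeparated π.left
  obtain ⟨j, hj⟩ := (yon S).map_surjective (sqV.lift ((yon S).map π ≫ f') ((yon S).map q)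
    (by rw [Category.assoc, hst.fac, sqP.w]))
  have hja : (yon S).map j ≫ a = (yon S).map π ≫ f' := by rw [hj, sqV.lift_fst]
  have hjν : (yon S).map j ≫ (yon S).map νV = (yon S).map q := by rw [hj, sqV.lift_snd]
  have hn : IsRelNormalization ((yon S).map q) ((yon S).map νV) ((yon S).map j) :=
    hst.normAt hX (IsAlgSpace.yon_obj U') (isEtaleMor_of_repWith hφ) _ _ _ _ _ sqP sqV hjν hja
  have sqj : IsPullback ((yon S).map π) ((yon S).map j) f' a := by
    refine IsPullback.of_bot ?_ hja.symm sqV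
    rw [hst.fac, hjν]
    exact sqP
  have key : ∀ y : Points Y, ∃ (O : Over S) (o : O ⟶ V) (v : ↥O.left),
      RepWith @IsOpenImmersion ((yon S).map o ≫ a) ∧ Points.ofPt ((yon S).map o ≫ a) v = y := fun y => by
    obtain ⟨v, rfl⟩ := surjective_ofPt has y
    obtain ⟨O, hv, hO⟩ := exists_open_chart_of_split hY hYqs ha sqj
      (fun z z' hz hz' hne => exists_clopen_of_split π.left hWfin hWsep hloc hz hne hz')
      (fun ρ e _ => mem_range_diagonal_of_loc π.left hloc ρ e) hn v
    exact ⟨Over.mk (O.ι ≫ V.hom), CategoryTheory.Over.homMk O.ι rfl, (⟨v, hv⟩ : O.toScheme), hO,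
      by rw [ofPt_comp]; rfl⟩
  obtain ⟨Q, ⟨e⟩⟩ := exists_rep_of_points hY fun y => by
    obtain ⟨O, o, v, h1, h2⟩ := key y
    exact ⟨O, _, v, h1, h2⟩
  have hsurj : Function.Surjective (Points.map ν) := fun x => by
    have hcl : IsClosed (Set.range (Points.map ν)) := ProperSub.isClosed_range_of_univClosed hX
      (isUnivClosedMor_of_repWith_universallyClosed
        (repWith_mono (fun _ _ i (_ : IsIntegralHom i) => inferInstanceAs (UniversallyClosed i)) _ hνr))
    refine (closure_minimal ?_ hcl) (hdense x)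
    rintro _ ⟨u, rfl⟩
    obtain ⟨u, rfl⟩ := (Points.schemeHomeo U).surjective u
    obtain ⟨t, rfl⟩ := w.left.surjective u
    refine ⟨Points.ofPt f' t, ?_⟩
    rw [Points.map_ofPt, hst.fac, ofPt_comp]
    exact Points.ofPt_eq_map_ofScheme _ _
  -- over the open the normalization is the finite etale covering
  have hmono := mono_of_openImmersion hjU
  have sqW : IsPullback (𝟙 _) ((yon S).map w) g₀ jU :=
    ⟨⟨Category.id_comp _⟩, ⟨PullbackCone.IsLimit.mk _ (fun c => c.fst) (fun _ => Category.comp_id _)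
      (fun c => (cancel_mono jU).1 (by rw [Category.assoc]; exact c.condition))
      fun _ _ h _ => (Category.comp_id _).symm.trans h⟩⟩
  let N := pullback ν jU
  let γ : (yon S).obj W ⟶ N := pullback.lift f' ((yon S).map w) hst.fac
  have hn1 : IsRelNormalization ((yon S).map w) (pullback.snd ν jU) γ :=
    hst.normAt hX (IsAlgSpace.yon_obj U) (isEtaleMor_of_repWith_isOpenImmersion hjU) _ _ _ _ _ sqW
      (IsPullback.of_hasPullback ν jU) (pullback.lift_snd _ _ _)
      ((pullback.lift_fst _ _ _).trans (Category.id_comp _).symm)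
  have hn2 : IsRelNormalization ((yon S).map w) ((yon S).map w) (𝟙 _) :=
    ⟨Category.id_comp _, isIntegralMor_iff_repWith.2 ((repWith_yon_map_iff @IsIntegralHom w).2
      (inferInstanceAs (IsIntegralHom w.left))),
      fun Z _ π' γ' _ hγ => ⟨γ', ⟨Category.id_comp _, hγ⟩, fun h hh => (Category.id_comp h).symm.trans hh.1⟩⟩
  obtain ⟨eN, -, heN⟩ := RelNorm.exists_iso (IsAlgSpace.yon_obj U) hn1 hn2
  refine ⟨Q, e.hom ≫ ν, U, jU, repWith_comp (repWith_of_isIso _ _) hνr,
    repWith_surjective_of_surjective (repWith_comp (repWith_of_isIso @IsIntegralHom e.hom) hνr).rep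
      (fun x => ?_), hjU, isQuasiCompactSp_yon_affine U, hdense, fun P fst snd sq => ?_, fun y => ?_⟩
  · obtain ⟨z, rfl⟩ := hsurj x
    exact ⟨Points.map e.inv z, by rw [← Points.map_comp, e.inv_hom_id_assoc]⟩
  · have sq' : IsPullback (fst ≫ e.hom) snd ν jU :=
      sq.of_iso (Iso.refl _) e (Iso.refl _) (Iso.refl _) (by simp) (by simp) (by simp) (by simp)
    have hs : snd = (sq'.isoPullback.hom ≫ eN.hom) ≫ (yon S).map w := by
      rw [Category.assoc, heN, sq'.isoPullback_hom_snd]
    rw [hs]
    exact ⟨repWith_comp (repWith_of_isIso _ _) ((repWith_yon_map_iff _ _).2 hwf),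
      repWith_comp (repWith_of_isIso _ _) ((repWith_yon_map_iff _ _).2 hwe)⟩
  · obtain ⟨O, o, v, h1, h2⟩ := key (Points.ofPt e.hom y)
    obtain ⟨o', ho'⟩ := (yon S).map_surjective ((yon S).map o ≫ a ≫ e.inv)
    have : IsOpenImmersion o'.left := by
      refine (repWith_yon_map_iff @IsOpenImmersion o').1 ?_
      rw [ho', ← Category.assoc]
      exact repWith_comp h1 (repWith_of_isIso _ _)
    have hy : o'.left v = y := by
      have h3 : Points.map e.hom (Points.ofPt ((yon S).map o') v) = Points.map e.hom (Points.ofScheme Q y) := by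
        rw [← Points.ofPt_eq_map_ofScheme e.hom y, ← h2, Points.map_ofPt, ho', Category.assoc, Category.assoc,
          e.inv_hom_id, Category.comp_id]
      have h4 : Points.ofPt ((yon S).map o') v = Points.ofScheme Q y := by
        have := congrArg (Points.map e.inv) h3
        rwa [← Points.map_comp, ← Points.map_comp, e.hom_inv_id, Points.map_id] at this
      rw [← Category.comp_id ((yon S).map o'), ofPt_comp, Points.ofPt_eq_map_ofScheme, Points.map_id] at h4
      exact (Points.schemeHomeo Q).injective h4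
    let W' : Q.left.Opens := o'.left.opensRange
    let l : Over.mk (W'.ι ≫ Q.hom) ⟶ Q := CategoryTheory.Over.homMk W'.ι rfl
    have : IsOpenImmersion l.left := inferInstanceAs (IsOpenImmersion W'.ι)
    obtain ⟨c₀, hc₀⟩ := exists_factor_openImm o' l fun p => (p.2 : _)
    refine ⟨W', c₀ ≫ o ≫ νV ≫ k, ⟨v, hy⟩, ?_⟩
    show _ = (yon S).map l ≫ e.hom ≫ ν
    rw [← hc₀, Functor.map_comp, Functor.map_comp, Functor.map_comp, Functor.map_comp, Category.assoc,
      Category.assoc, Category.assoc, Category.assoc]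
    rw [reassoc_of% ho', e.inv_hom_id_assoc, sqV.w]

end Groth.Agent.AlgSpDM.SplitScheme
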