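import Groth.Agent.AlgSpLib.InfBC
import Groth.Agent.UnivThick.BaseChange

/-!
# First order thickenings are detected on an etale chart
-/

set_option backward.isDefEq.respectTransparency false
set_option backward.isDefEq.respectTransparency.types false

universe u

open CategoryTheory CategoryTheory.Limits AlgebraicGeometry Opposite AlgSp Groth.Agent.AlgSpLib

namespace Groth.Agent.AlgSpDM

set_option maxHeartbeats 600000

variable {S : Scheme.{u}}

/-- The kernel of a thickening has square zero when it does over an etale chart. -/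
theorem sqZero_snd_of_chart {T T' : Sp S} {j : T ⟶ T'} (hj : IsThickMor j) {U U0 : Over S}
    {p : (yon S).obj U ⟶ T'} (hp : RepWith @Etale p) (hp' : RepWith @Surjective p)
    {t : (yon S).obj U0 ⟶ T} {jU : U0 ⟶ U} (sqU : IsPullback t ((yon S).map jU) j p)
    (hjU : IsFOThickMor ((yon S).map jU)) {V W : Over S}
    [IsAffine V.left] (g : (yon S).obj V ⟶ T') (fst : (yon S).obj W ⟶ T) (snd : W ⟶ V)
    (hP : IsPullback fst ((yon S).map snd) j g) : sqZero snd.left := by
  have hth : thick snd.left := hj.2 g fst snd hP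
  have hcl : IsClosedImmersion snd.left := hth.1
  refine Groth.Agent.MorLib.ker_mul_ker_eq_bot_of_isAffine _ ?_
  rw [pow_two, eq_bot_iff, Ideal.mul_le]
  intro x hx y hy
  rw [Ideal.mem_bot]
  refine eq_zero_of_flat_cover (x * y) fun v => ?_
  have hR := hp.1.isPullback g
  have het : Etale (hp.1.snd g).left := hp.2 g _ _ hR
  have hsur : Surjective (hp.1.snd g).left := hp'.2 g _ _ hR
  obtain ⟨u, rfl⟩ := (hp.1.snd g).left.surjective v
  let 𝒰 := U.left.affineOpenCover
  obtain ⟨r₀, hr₀⟩ := (yon S).map_surjective (hp.1.fst g)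
  let 𝒱 : (hp.1.pullback g).left.OpenCover := 𝒰.openCover.pullback₁ r₀.left
  obtain ⟨i, w, hw⟩ := 𝒱.exists_eq u
  let 𝒲 := (𝒱.X i).affineOpenCover.openCover
  obtain ⟨l, b, hb⟩ := 𝒲.exists_eq w
  let Bs : Scheme.{u} := 𝒲.X l
  let k : Bs ⟶ (hp.1.pullback g).left := 𝒲.f l ≫ 𝒱.f i
  let Bo : Over S := Over.mk (k ≫ (hp.1.pullback g).hom)
  let kB : Bo ⟶ V := (Over.homMk k rfl : Bo ⟶ hp.1.pullback g) ≫ hp.1.snd g
  let Ci : Over S := Over.mk (𝒰.f i ≫ U.hom)
  let c : (yon S).obj Ci ⟶ T' := (yon S).map (Over.homMk (𝒰.f i) rfl : Ci ⟶ U) ≫ p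
  have hc : RepWith @Etale c := repWith_comp ((repWith_yon_map_iff _ _).2 (by
    have : IsOpenImmersion (Over.homMk (𝒰.f i) rfl : Ci ⟶ U).left := 𝒰.openCover.map_prop i
    infer_instance)) hp
  let φ₀ : Bs ⟶ Ci.left := 𝒲.f l ≫ pullback.snd r₀.left (𝒰.f i)
  have hφ₀ : φ₀ ≫ 𝒰.f i = k ≫ r₀.left := by
    simp only [φ₀, k, Category.assoc]
    exact congrArg (𝒲.f l ≫ ·) pullback.condition.symm
  let φ : Bo ⟶ Ci := Over.homMk φ₀ (by
    change φ₀ ≫ 𝒰.f i ≫ U.hom = k ≫ (hp.1.pullback g).hom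
    rw [reassoc_of% hφ₀, Over.w r₀])
  have hφ : (yon S).map φ ≫ c = (yon S).map kB ≫ g := by
    have e : φ ≫ (Over.homMk (𝒰.f i) rfl : Ci ⟶ U) = (Over.homMk k rfl : Bo ⟶ hp.1.pullback g) ≫ r₀ :=
      Over.OverMorphism.ext hφ₀
    rw [← Functor.map_comp_assoc, e, Functor.map_comp_assoc, hr₀, hR.w, Functor.map_comp_assoc]
  have hQ := hj.1.isPullback c
  have hCaff : IsAffine Ci.left := inferInstanceAs (IsAffine (Spec _))
  have hthC : thick (hj.1.snd c).left := hj.2 c _ _ hQ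
  have hsqC : sqZero (hj.1.snd c).left :=
    hjU.2 ((yon S).map (Over.homMk (𝒰.f i) rfl : Ci ⟶ U))
      (sqU.lift (hj.1.fst c) ((yon S).map (hj.1.snd c) ≫ (yon S).map (Over.homMk (𝒰.f i) rfl : Ci ⟶ U))
        (by rw [hQ.w, Category.assoc]))
      _ hCaff ((repWith_yon_map_iff _ _).2 (by
        have : IsOpenImmersion (Over.homMk (𝒰.f i) rfl : Ci ⟶ U).left := 𝒰.openCover.map_prop i
        infer_instance))
      (IsPullback.of_right (by rw [sqU.lift_fst]; exact hQ) (sqU.lift_snd _ _ _) sqU)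
  obtain ⟨A, I, hI, e', e₀, he₀⟩ :=
    Groth.Agent.MorLib.exists_iso_quotientMk (hj.1.snd c).left ⟨hthC, hsqC⟩
  let B : CommRingCat.{u} := (𝒱.X i).affineOpenCover.X l
  obtain ⟨ψ, hψ⟩ := Spec.map_surjective (φ₀ ≫ e'.inv : Spec B ⟶ Spec (CommRingCat.of A))
  let J : Ideal B := I.map ψ.hom
  have hJ : J ^ 2 = ⊥ := by rw [← Ideal.map_pow, hI, Ideal.map_bot]
  let μ : CommRingCat.of (A ⧸ I) ⟶ CommRingCat.of (B ⧸ J) :=
    CommRingCat.ofHom (Ideal.quotientMap J ψ.hom Ideal.le_comap_map)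
  let q : Spec (CommRingCat.of (B ⧸ J)) ⟶ Spec B := Spec.map (CommRingCat.ofHom (Ideal.Quotient.mk J))
  have hμ : Spec.map μ ≫ Spec.map (CommRingCat.ofHom (Ideal.Quotient.mk I)) = q ≫ φ₀ ≫ e'.inv := by
    rw [← hψ, ← Spec.map_comp, ← Spec.map_comp]
    rfl
  have hz : (Spec.map μ ≫ e₀.hom) ≫ (hj.1.snd c).left = q ≫ φ₀ := by
    rw [Category.assoc, he₀, reassoc_of% hμ, e'.inv_hom_id]
    exact congrArg (q ≫ ·) (Category.comp_id _)
  let Qo : Over S := Over.mk (q ≫ Bo.hom)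
  let z : Qo ⟶ hj.1.pullback c := Over.homMk (Spec.map μ ≫ e₀.hom) (by
    rw [← Over.w (hj.1.snd c), ← Category.assoc, hz, Category.assoc]
    exact congrArg (q ≫ ·) (Over.w φ))
  let qo : Qo ⟶ Bo := Over.homMk q rfl
  have hzq : z ≫ hj.1.snd c = qo ≫ φ := Over.OverMorphism.ext hz
  obtain ⟨m, hm⟩ := (yon S).map_surjective (hP.lift ((yon S).map z ≫ hj.1.fst c)
    ((yon S).map (qo ≫ kB)) (by
      rw [Category.assoc, hQ.w, ← Functor.map_comp_assoc, hzq, Functor.map_comp_assoc, hφ,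
        ← Functor.map_comp_assoc]))
  have hms : m ≫ snd = qo ≫ kB := (yon S).map_injective (by rw [Functor.map_comp, hm, hP.lift_snd])
  have hk : ∀ a : Γ(V.left, ⊤), a ∈ RingHom.ker snd.left.appTop.hom →
      (Scheme.ΓSpecIso B).hom (kB.left.appTop a) ∈ J := by
    intro a ha
    have h0 : q.appTop (kB.left.appTop a) = 0 := by
      have e := congrArg (fun f : Qo ⟶ V => f.left.appTop a) hms
      simp only [Over.comp_left, Scheme.Hom.comp_appTop, CommRingCat.comp_apply] at e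
      rw [RingHom.mem_ker.1 ha, map_zero] at e
      exact e.symm
    rw [← Ideal.Quotient.eq_zero_iff_mem]
    have e2 := congrArg (fun f => f (kB.left.appTop a))
      (Scheme.ΓSpecIso_naturality (CommRingCat.ofHom (Ideal.Quotient.mk J)))
    simp only [CommRingCat.comp_apply] at e2
    refine e2.symm.trans ?_
    change (Scheme.ΓSpecIso _).hom (q.appTop (kB.left.appTop a)) = 0
    rw [h0, map_zero]
  refine ⟨Bs, kB.left, b, ?_, ?_, ?_⟩
  · have : IsOpenImmersion k := by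
      have h1 : IsOpenImmersion (𝒱.f i) := 𝒱.map_prop i
      have h2 : IsOpenImmersion (𝒲.f l) := 𝒲.map_prop l
      infer_instance
    change Flat (k ≫ (hp.1.snd g).left)
    infer_instance
  · change (k ≫ (hp.1.snd g).left) b = _
    rw [Scheme.Hom.comp_apply, Scheme.Hom.comp_apply, hb, hw]
  · apply (ConcreteCategory.bijective_of_isIso (Scheme.ΓSpecIso B).hom).1
    refine Eq.trans ?_ (map_zero _).symm
    rw [map_mul]
    refine (map_mul _ _ _).trans (?_ : _ = (0 : B))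
    have : _ ∈ J ^ 2 := pow_two J ▸ Ideal.mul_mem_mul (hk x hx) (hk y hy)
    rwa [hJ, Ideal.mem_bot] at this

theorem isFOThickMor_of_chart {T T' : Sp S} {j : T ⟶ T'} (hj : IsThickMor j) {U U0 : Over S}
    {p : (yon S).obj U ⟶ T'} (hp : RepWith @Etale p) (hp' : RepWith @Surjective p)
    {t : (yon S).obj U0 ⟶ T} {jU : U0 ⟶ U} (sqU : IsPullback t ((yon S).map jU) j p)
    (hjU : IsFOThickMor ((yon S).map jU)) : IsFOThickMor j :=
  ⟨hj, fun _ _ g fst snd _ _ hP => sqZero_snd_of_chart hj hp hp' sqU hjU g fst snd hP⟩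

/-- A first order thickening of schemes gives a first order thickening of spaces. -/
theorem isFOThickMor_yon {A B : Over S} (g : A ⟶ B) (hg : MoreMor.IsFirstOrderThickening g.left) :
    IsFOThickMor ((yon S).map g) := by
  refine ⟨(isThickMor_yon_map_iff g).2 hg.1, fun V W b fst snd _ _ sq => ?_⟩
  obtain ⟨b0, rfl⟩ := (yon S).map_surjective b
  obtain ⟨f0, rfl⟩ := (yon S).map_surjective fst
  have := (IsPullback.of_map (yon S) ((yon S).map_injective (by
    rw [Functor.map_comp, Functor.map_comp, sq.w])) sq).map (Over.forget S)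
  exact (Groth.Agent.UnivThick.isFirstOrderThickening_baseChange this.flip hg).2

end Groth.Agent.AlgSpDM
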