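import Groth.Agent.AlgSpDM.UHomeoSection
import Groth.Agent.AlgSpLib.EtLift
import Groth.Agent.AlgSpLib.Descent2
import Groth.Agent.AlgSpDec.LqfSplitZ
import Groth.Agent.AlgSpDec.QuotRep
import Groth.Agent.S0075

/-!
# Spaces etale over the source of a universal homeomorphism descend
-/

set_option backward.isDefEq.respectTransparency false
set_option backward.isDefEq.respectTransparency.types false
set_option maxHeartbeats 800000

universe u

open CategoryTheory CategoryTheory.Limits AlgebraicGeometry Opposite AlgSp Topology Groth.Agent.AlgSpLib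
  Groth.Agent.AlgSpPts

namespace Groth.Agent.AlgSpDM

variable {S : Scheme.{u}}

theorem repWith_uh_of_isPullback {F G F' G' : Sp S} {f : F ⟶ G} {g : G' ⟶ G} {fst : F' ⟶ F} {snd : F' ⟶ G'}
    (sq : IsPullback fst snd f g) (hf : RepWith uh f) : RepWith uh snd := repWith_of_isPullback sq hf

/-- An etale space over the source of a universal homeomorphism descends. -/
theorem exists_descent {X Y E : Sp S} (hX : IsAlgSpace X) (hY : IsAlgSpace Y) (hE : IsAlgSpace E) {f : X ⟶ Y}
    (hf : RepWith uh f) (b : E ⟶ X) (hb : IsEtaleMor b) :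
    ∃ (E' : Sp S) (_ : IsAlgSpace E') (a : E' ⟶ Y) (c : E ⟶ E'), IsEtaleMor a ∧ IsPullback b c f a := by
  -- charts
  obtain ⟨V', av, hav, havs⟩ := hY.atlas
  let V := hf.rep.pullback av
  let cV : V ⟶ V' := hf.rep.snd av
  let vX : (yon S).obj V ⟶ X := hf.rep.fst av
  have sqV : IsPullback vX ((yon S).map cV) f av := hf.rep.isPullback av
  obtain ⟨⟨_, _⟩, _⟩ : uh cV.left := hf.property_snd av
  have hvX : RepWith @Etale vX := repWith_of_isPullback sqV.flip hav
  have hvXs : RepWith @Surjective vX := repWith_of_isPullback sqV.flip havs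
  obtain ⟨U₀, p₀, hp₀, hp₀s⟩ := hE.atlas
  have hpb : RepWith @Etale (p₀ ≫ b) := hb p₀ hp₀
  let U := hpb.rep.pullback vX
  let uU : U ⟶ U₀ := hpb.rep.fst' vX
  let uV : U ⟶ V := hpb.rep.snd vX
  have sqU : IsPullback ((yon S).map uU) ((yon S).map uV) (p₀ ≫ b) vX := hpb.rep.isPullback' vX
  have : Etale uV.left := (repWith_yon_map_iff _ uV).1 (repWith_of_isPullback sqU hpb)
  let pE : (yon S).obj U ⟶ E := (yon S).map uU ≫ p₀
  have hpE : RepWith @Etale pE := repWith_comp (repWith_of_isPullback sqU.flip hvX) hp₀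
  have hpEs : RepWith @Surjective pE := repWith_comp (repWith_of_isPullback sqU.flip hvXs) hp₀s
  -- lift the chart
  let Uet : V.left.Etale := { toComma := Over.mk uV.left, prop := ‹Etale uV.left› }
  have := Groth.Agent.S0075.result cV.left
  let U'et := (EtCoh.bc cV.left).objPreimage Uet
  let θ : (EtCoh.bc cV.left).obj U'et ≅ Uet := (EtCoh.bc cV.left).objObjPreimageIso Uet
  let θi := θ.inv.left
  have : IsIso θi := ⟨θ.hom.left, congrArg (fun k => k.left) θ.inv_hom_id, congrArg (fun k => k.left) θ.hom_inv_id⟩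
  have hθw : θi ≫ pullback.snd U'et.hom cV.left = uV.left := MorphismProperty.Over.w θ.inv
  let U' : Over S := Over.mk (U'et.hom ≫ V'.hom)
  let w' : U' ⟶ V' := Over.homMk U'et.hom rfl
  let γ : U ⟶ U' := Over.homMk (θi ≫ pullback.fst U'et.hom cV.left) (by
    show (θi ≫ _) ≫ U'et.hom ≫ V'.hom = U.hom
    rw [Category.assoc, pullback.condition_assoc, ← Category.assoc, hθw, ← Over.w uV, ← Over.w cV])
  have sqγ0 : IsPullback γ.left uV.left w'.left cV.left :=
    (IsPullback.of_hasPullback U'et.hom cV.left).of_iso (asIso θi).symm (Iso.refl _) (Iso.refl _) (Iso.refl _)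
      (by simp [γ]) (by simp [← hθw]) (by simp [w']) (by simp)
  have sqγ1 : IsPullback γ uV w' cV := IsPullback.of_map (Over.forget S) (Over.OverMorphism.ext sqγ0.w) sqγ0
  let a' : (yon S).obj U' ⟶ Y := (yon S).map w' ≫ av
  have ha' : RepWith @Etale a' := repWith_comp ((repWith_yon_map_iff _ _).2 U'et.prop) hav
  have hpEb : pE ≫ b = (yon S).map uV ≫ vX := (Category.assoc _ _ _).trans sqU.w
  have sqγ : IsPullback (pE ≫ b) ((yon S).map γ) f a' := by
    rw [hpEb]
    exact (sqγ1.map (yon S)).flip.paste_horiz sqV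
  -- the kernel pair of the lifted chart and its pullback
  let P := ha'.rep.pullback a'
  let t₁ : P ⟶ U' := ha'.rep.fst' a'
  let s₁ : P ⟶ U' := ha'.rep.snd a'
  have sqP : IsPullback ((yon S).map t₁) ((yon S).map s₁) a' a' := ha'.rep.isPullback' a'
  have : Etale s₁.left := ha'.property _ _ _ sqP
  have : Etale t₁.left := ha'.property _ _ _ sqP.flip
  let Z := hf.rep.pullback ((yon S).map t₁ ≫ a')
  let c : Z ⟶ P := hf.rep.snd ((yon S).map t₁ ≫ a')
  let fZ : (yon S).obj Z ⟶ X := hf.rep.fst ((yon S).map t₁ ≫ a')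
  have sqZ : IsPullback fZ ((yon S).map c) f ((yon S).map t₁ ≫ a') := hf.rep.isPullback _
  have hch := isHomeomorph_of_uh _ (hf.property_snd ((yon S).map t₁ ≫ a'))
  obtain ⟨zt, hzt⟩ := (yon S).map_surjective (sqγ.lift fZ ((yon S).map c ≫ (yon S).map t₁)
    (by rw [sqZ.w, Category.assoc]))
  obtain ⟨zs, hzs⟩ := (yon S).map_surjective (sqγ.lift fZ ((yon S).map c ≫ (yon S).map s₁)
    (by rw [sqZ.w, Category.assoc, sqP.w]))
  have hzt1 : (yon S).map zt ≫ pE ≫ b = fZ := by rw [hzt, sqγ.lift_fst]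
  have hzt2 : zt ≫ γ = c ≫ t₁ := (yon S).map_injective (by
    rw [Functor.map_comp, hzt, sqγ.lift_snd, Functor.map_comp])
  have hzs1 : (yon S).map zs ≫ pE ≫ b = fZ := by rw [hzs, sqγ.lift_fst]
  have hzs2 : zs ≫ γ = c ≫ s₁ := (yon S).map_injective (by
    rw [Functor.map_comp, hzs, sqγ.lift_snd, Functor.map_comp])
  have sqZt : IsPullback ((yon S).map zt) ((yon S).map c) ((yon S).map γ) ((yon S).map t₁) := by
    refine IsPullback.of_right (h₁₂ := pE ≫ b) (v₁₃ := f) (h₂₂ := a') ?_ ?_ sqγ
    · rw [hzt1]; exact sqZ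
    · rw [← Functor.map_comp, ← Functor.map_comp, hzt2]
  have sqZs : IsPullback ((yon S).map zs) ((yon S).map c) ((yon S).map γ) ((yon S).map s₁) := by
    refine IsPullback.of_right (h₁₂ := pE ≫ b) (v₁₃ := f) (h₂₂ := a') ?_ ?_ sqγ
    · rw [hzs1, ← sqP.w]; exact sqZ
    · rw [← Functor.map_comp, ← Functor.map_comp, hzs2]
  let R := hpE.rep.pullback pE
  let rt : R ⟶ U := hpE.rep.fst' pE
  let rs : R ⟶ U := hpE.rep.snd pE
  have sqR : IsPullback ((yon S).map rt) ((yon S).map rs) pE pE := hpE.rep.isPullback' pE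
  have hrb : (yon S).map rt ≫ pE ≫ b = (yon S).map rs ≫ pE ≫ b := by rw [reassoc_of% sqR.w]
  have extZ : ∀ {D : Over S} {z z' : D ⟶ Z}, z ≫ zt = z' ≫ zt → z ≫ zs = z' ≫ zs → z = z' := fun {D z z'} h1 h2 => by
    refine (yon S).map_injective (sqZ.hom_ext ?_ (sqP.hom_ext ?_ ?_))
    · have hA := congrArg (fun k => (yon S).map k) h1
      simp only [Functor.map_comp] at hA
      rw [← hzt1, reassoc_of% hA]
    · simp only [← Functor.map_comp]
      rw [Category.assoc, Category.assoc, ← hzt2, reassoc_of% h1]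
    · simp only [← Functor.map_comp]
      rw [Category.assoc, Category.assoc, ← hzs2, reassoc_of% h2]
  obtain ⟨ρ, hρt, hρs⟩ := exists_pair_lift sqP (rt ≫ γ) (rs ≫ γ) (by
    rw [Functor.map_comp, Functor.map_comp, Category.assoc, Category.assoc, ← sqγ.w, Category.assoc,
      reassoc_of% sqR.w])
  obtain ⟨l, hl⟩ := (yon S).map_surjective (sqZ.lift ((yon S).map rt ≫ pE ≫ b) ((yon S).map ρ) (by
    rw [Category.assoc, sqγ.w, ← reassoc_of% ((yon S).map_comp rt γ), ← hρt, Functor.map_comp, Category.assoc]))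
  have hl1 : (yon S).map l ≫ fZ = (yon S).map rt ≫ pE ≫ b := by rw [hl, sqZ.lift_fst]
  have hlc : l ≫ c = ρ := (yon S).map_injective (by rw [Functor.map_comp, hl, sqZ.lift_snd])
  have hlt : l ≫ zt = rt := (yon S).map_injective (sqγ.hom_ext
    (by rw [Functor.map_comp, Category.assoc, hzt1, hl1])
    (by simp only [← Functor.map_comp]; rw [Category.assoc, hzt2, ← Category.assoc, hlc, hρt]))
  have hls : l ≫ zs = rs := (yon S).map_injective (sqγ.hom_ext
    (by rw [Functor.map_comp, Category.assoc, hzs1, hl1, hrb])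
    (by simp only [← Functor.map_comp]; rw [Category.assoc, hzs2, ← Category.assoc, hlc, hρs]))
  have : IsOpenImmersion l.left := by
    have : Mono ((yon S).map l) := ⟨fun x y h => sqR.hom_ext
      (by rw [← hlt, Functor.map_comp, reassoc_of% h])
      (by rw [← hls, Functor.map_comp, reassoc_of% h])⟩
    have : Etale zt.left := (repWith_yon_map_iff _ zt).1 (repWith_of_isPullback sqZt.flip
      ((repWith_yon_map_iff _ _).2 ‹Etale t₁.left›))
    have : Etale (l.left ≫ zt.left) := by
      rw [← Over.comp_left, hlt]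
      exact (repWith_yon_map_iff _ rt).1 (repWith_of_isPullback sqR.flip hpE)
    exact (repWith_yon_map_iff _ l).1 (repWith_isOpenImmersion_of_mono_of_etale (IsAlgSpace.yon_obj R)
      (IsAlgSpace.yon_obj Z) _ (locP_of_repWith ((repWith_yon_map_iff _ l).2 (Etale.of_comp l.left zt.left))))
  let O : P.left.Opens := ⟨c.left '' Set.range l.left, hch.isOpenMap _ l.left.isOpenEmbedding.isOpen_range⟩
  -- the relation
  let Rel : ∀ {T : Over S}, (T ⟶ U') → (T ⟶ U') → Prop := fun {T} x y =>
    (yon S).map x ≫ a' = (yon S).map y ≫ a' ∧ ∀ (D : Over S) (q : D ⟶ T) (xD yD : D ⟶ U),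
      xD ≫ γ = q ≫ x → yD ≫ γ = q ≫ y →
        (yon S).map xD ≫ pE ≫ b = (yon S).map yD ≫ pE ≫ b → (yon S).map xD ≫ pE = (yon S).map yD ≫ pE
  have relO : ∀ {T : Over S} (m : T ⟶ P), Rel (m ≫ t₁) (m ≫ s₁) ↔ ∀ v, m.left v ∈ O := by
    intro T m
    constructor
    · intro h v
      let D := pullback c m
      let dz : D ⟶ Z := pullback.fst c m
      let q : D ⟶ T := pullback.snd c m
      have hdz : dz ≫ c = q ≫ m := pullback.condition
      have e := h.2 D q (dz ≫ zt) (dz ≫ zs) (by rw [Category.assoc, hzt2, reassoc_of% hdz])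
        (by rw [Category.assoc, hzs2, reassoc_of% hdz])
        (by simp only [Functor.map_comp, Category.assoc, hzt1, hzs1])
      obtain ⟨δ, hδt, hδs⟩ := exists_pair_lift sqR _ _ e
      have hδ : δ ≫ l = dz := extZ (by rw [Category.assoc, hlt, hδt]) (by rw [Category.assoc, hls, hδs])
      have : Surjective q.left := MorphismProperty.of_isPullback (P := @Surjective)
        ((IsPullback.of_hasPullback c m).map (Over.forget S)) ⟨hch.surjective⟩
      obtain ⟨w, rfl⟩ := q.left.surjective v
      rw [← Scheme.Hom.comp_apply, ← Over.comp_left, ← hdz, ← hδ, Over.comp_left, Over.comp_left,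
        Scheme.Hom.comp_apply, Scheme.Hom.comp_apply]
      exact ⟨_, ⟨_, rfl⟩, rfl⟩
    · intro hm
      refine ⟨by simp only [Functor.map_comp, Category.assoc, sqP.w], fun D q xD yD hx hy hxy => ?_⟩
      obtain ⟨dz, hdz⟩ := (yon S).map_surjective (sqZ.lift ((yon S).map xD ≫ pE ≫ b) ((yon S).map (q ≫ m)) (by
        rw [Category.assoc, sqγ.w, ← reassoc_of% ((yon S).map_comp xD γ), hx, ← Category.assoc q m,
          Functor.map_comp, Category.assoc]))
      have hdz1 : (yon S).map dz ≫ fZ = (yon S).map xD ≫ pE ≫ b := by rw [hdz, sqZ.lift_fst]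
      have hdzc : dz ≫ c = q ≫ m := (yon S).map_injective (by rw [Functor.map_comp, hdz, sqZ.lift_snd])
      have hdt : dz ≫ zt = xD := (yon S).map_injective (sqγ.hom_ext
        (by rw [Functor.map_comp, Category.assoc, hzt1, hdz1])
        (by simp only [← Functor.map_comp]; rw [Category.assoc, hzt2, reassoc_of% hdzc, hx]))
      have hds : dz ≫ zs = yD := (yon S).map_injective (sqγ.hom_ext
        (by rw [Functor.map_comp, Category.assoc, hzs1, hdz1, hxy])
        (by simp only [← Functor.map_comp]; rw [Category.assoc, hzs2, reassoc_of% hdzc, hy]))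
      have hr : Set.range dz.left ⊆ Set.range l.left := by
        rintro _ ⟨w, rfl⟩
        obtain ⟨z, hz, e⟩ : c.left (dz.left w) ∈ O := by
          rw [← Scheme.Hom.comp_apply, ← Over.comp_left, hdzc, Over.comp_left, Scheme.Hom.comp_apply]
          exact hm _
        exact hch.injective e ▸ hz
      let δ : D ⟶ R := Over.homMk (IsOpenImmersion.lift l.left dz.left hr) (by
        rw [← Over.w l, ← Category.assoc, IsOpenImmersion.lift_fac, Over.w dz])
      have hδ : δ ≫ l = dz := Over.OverMorphism.ext (IsOpenImmersion.lift_fac _ _ _)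
      rw [← hdt, ← hds, ← hδ, Category.assoc, Category.assoc, hlt, hls, Functor.map_comp, Functor.map_comp,
        Category.assoc, Category.assoc, sqR.w]
  let R' : Over S := Over.mk (O.ι ≫ P.hom)
  let ι : R' ⟶ P := Over.homMk O.ι rfl
  let t : R' ⟶ U' := ι ≫ t₁
  let s : R' ⟶ U' := ι ≫ s₁
  have relR : ∀ {T : Over S} (x y : T ⟶ U'), (∃ r : T ⟶ R', r ≫ t = x ∧ r ≫ s = y) ↔ Rel x y := by
    intro T x y
    constructor
    · rintro ⟨r, rfl, rfl⟩
      rw [show r ≫ t = (r ≫ ι) ≫ t₁ from (Category.assoc _ _ _).symm,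
        show r ≫ s = (r ≫ ι) ≫ s₁ from (Category.assoc _ _ _).symm]
      refine (relO _).2 fun v => ?_
      rw [Over.comp_left, Scheme.Hom.comp_apply]
      exact (r.left v).2
    · intro h
      obtain ⟨m, rfl, rfl⟩ := exists_pair_lift sqP x y h.1
      obtain ⟨r, hr⟩ := EtLift.exists_factor_open O m ((relO m).1 h)
      exact ⟨r, by rw [← Category.assoc, hr], by rw [← Category.assoc, hr]⟩
  have hR : IsEqvRel s t := by
    refine { injective := fun T x y h1 h2 => ?_, equivalence := fun T => ⟨fun x => ?_, ?_, ?_⟩ }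
    · have e : x ≫ ι = y ≫ ι := (yon S).map_injective (sqP.hom_ext
        (by simp only [← Functor.map_comp]; rw [Category.assoc, Category.assoc]; exact congrArg _ h1)
        (by simp only [← Functor.map_comp]; rw [Category.assoc, Category.assoc]; exact congrArg _ h2))
      exact Over.OverMorphism.ext ((cancel_mono O.ι).1 (congrArg (fun k => k.left) e))
    · refine (relR x x).2 ⟨rfl, fun D q xD yD hx hy hxy => ?_⟩
      rw [sqγ.hom_ext hxy (by simp only [← Functor.map_comp]; rw [hx, hy])]
    · intro x y h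
      obtain ⟨h1, h2⟩ := (relR x y).1 h
      exact (relR y x).2 ⟨h1.symm, fun D q yD xD hy hx hyx => (h2 D q xD yD hx hy hyx.symm).symm⟩
    · intro x y z hxy hyz
      obtain ⟨h1, h2⟩ := (relR x y).1 hxy
      obtain ⟨h3, h4⟩ := (relR y z).1 hyz
      refine (relR x z).2 ⟨h1.trans h3, fun D q xD zD hx hz hxz => ?_⟩
      obtain ⟨yD, hyD⟩ := (yon S).map_surjective (sqγ.lift ((yon S).map xD ≫ pE ≫ b) ((yon S).map (q ≫ y)) (by
        rw [Category.assoc, sqγ.w, ← reassoc_of% ((yon S).map_comp xD γ), hx, Functor.map_comp, Functor.map_comp,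
          Category.assoc, Category.assoc, h1]))
      have e1 : (yon S).map yD ≫ pE ≫ b = (yon S).map xD ≫ pE ≫ b := by rw [hyD, sqγ.lift_fst]
      have e2 : yD ≫ γ = q ≫ y := (yon S).map_injective (by rw [Functor.map_comp, hyD, sqγ.lift_snd])
      exact (h2 D q xD yD hx e2 e1.symm).trans (h4 D q yD zD e2 hz (e1.trans hxz))
  have : Etale s.left := inferInstanceAs (Etale (O.ι ≫ s₁.left))
  have : Etale t.left := inferInstanceAs (Etale (O.ι ≫ t₁.left))
  have hss : Surjective s.left := ⟨fun w => by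
    obtain ⟨r, -, hr⟩ := (hR.equivalence U').refl (𝟙 U')
    exact ⟨r.left w, by rw [← Scheme.Hom.comp_apply, ← Over.comp_left, hr]; simp⟩⟩
  -- the quotient
  obtain ⟨π, hπdef⟩ : ∃ π : (yon S).obj U' ⟶ QuotSh.quot Scheme.fppfPrecoverage s t,
      π = AlgSpPts.quotMap s t := ⟨_, rfl⟩
  have sqπ : IsPullback ((yon S).map t) ((yon S).map s) π π := by
    rw [hπdef]
    exact AlgSpPts.isPullback_quotMap hR
  have : Sheaf.IsLocallySurjective π := by
    rw [hπdef]
    have : Epi (QuotSh.quotπ Scheme.fppfPrecoverage s t) := by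
      unfold QuotSh.quotπ
      infer_instance
    exact (CategoryTheory.Sheaf.isLocallySurjective_iff_epi _).2 (epi_comp _ _)
  have hE' : IsAlgSpace (QuotSh.quot Scheme.fppfPrecoverage s t) := AlgSpDec.isAlgSpace_of_etale_kernelPair sqπ
  have hπr : Representable π := AlgSpDec.representable_of_kernelPair sqπ
  have := AlgSpPts.isLocalAtTarget_fppf (@Etale : MorphismProperty Scheme.{u})
  have := AlgSpPts.isLocalAtTarget_fppf (@Surjective : MorphismProperty Scheme.{u})
  have hπe : RepWith @Etale π :=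
    AlgSpPts.repWith_of_locallySurjective hπr _ sqπ @Etale ((repWith_yon_map_iff _ _).2 ‹Etale s.left›)
  have hπs : RepWith @Surjective π :=
    AlgSpPts.repWith_of_locallySurjective hπr _ sqπ @Surjective ((repWith_yon_map_iff _ _).2 hss)
  obtain ⟨a, ha⟩ := AlgSpDec.exists_desc_of_kernelPair sqπ a' (by
    simp only [t, s, Functor.map_comp, Category.assoc, sqP.w])
  have hae : IsEtaleMor a := (isEtaleMor_iff_locP hE' hY a).2 (locP_of_chart hπe hπs ha'
    (show π ≫ a = (yon S).map (𝟙 U') ≫ a' by rw [ha, CategoryTheory.Functor.map_id, Category.id_comp])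
    (inferInstanceAs (Etale (𝟙 U'.left))))
  -- compare the base change
  let Q := pullback f a
  let j : (yon S).obj U ⟶ Q := pullback.lift (pE ≫ b) ((yon S).map γ ≫ π) (by rw [sqγ.w, Category.assoc, ha])
  have hjπ : j ≫ pullback.snd f a = (yon S).map γ ≫ π := pullback.lift_snd _ _ _
  have sqj : IsPullback ((yon S).map γ) j π (pullback.snd f a) := by
    refine IsPullback.of_bot (v₂₁ := pullback.fst f a) (v₂₂ := a) (h₃₁ := f) ?_ hjπ.symm
      (IsPullback.of_hasPullback f a).flip
    rw [pullback.lift_fst, ha]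
    exact sqγ.flip
  have hje : RepWith @Etale j := repWith_of_isPullback sqj hπe
  have hjs : RepWith @Surjective j := repWith_of_isPullback sqj hπs
  obtain ⟨γR, hγR⟩ : ∃ g : R ⟶ R', g ≫ ι = ρ := EtLift.exists_factor_open O ρ fun q => by
    rw [← hlc, Over.comp_left, Scheme.Hom.comp_apply]
    exact ⟨_, ⟨q, rfl⟩, rfl⟩
  have hγRt : γR ≫ t = rt ≫ γ := by simp only [t, reassoc_of% hγR, hρt]
  have hγRs : γR ≫ s = rs ≫ γ := by simp only [s, reassoc_of% hγR, hρs]
  have sqO : IsPullback γR l ι c := by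
    refine IsPullback.of_map (Over.forget S) (by rw [hγR, hlc]) ?_
    refine IsOpenImmersion.isPullback γR.left l.left O.ι c.left ?_ ?_
    · change l.left ≫ c.left = γR.left ≫ ι.left
      rw [← Over.comp_left, ← Over.comp_left, hγR, hlc]
    · rw [Scheme.Opens.opensRange_ι]
      refine TopologicalSpace.Opens.ext (Set.ext fun q => ⟨?_, ?_⟩)
      · rintro ⟨q', hq', e⟩
        exact hch.injective e ▸ hq'
      · intro hq
        exact ⟨q, hq, rfl⟩
  have sqR' : IsPullback ((yon S).map γR) ((yon S).map rs) ((yon S).map s) ((yon S).map γ) := by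
    have h := (sqO.map (yon S)).paste_vert sqZs.flip
    rw [← Functor.map_comp, ← Functor.map_comp, hls] at h
    exact h
  have sqj' : IsPullback ((yon S).map rt) ((yon S).map rs) j j := by
    refine IsPullback.of_right (h₁₂ := (yon S).map γ) (v₁₃ := π) (h₂₂ := pullback.snd f a) ?_ ?_ sqj
    · rw [hjπ, ← Functor.map_comp, ← hγRt, Functor.map_comp]
      exact sqR'.paste_horiz sqπ
    · apply pullback.hom_ext
      · simp only [j, Category.assoc, pullback.lift_fst]
        exact hrb
      · rw [Category.assoc, Category.assoc, hjπ, ← Category.assoc, ← Category.assoc, ← Functor.map_comp,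
          ← Functor.map_comp, ← hγRt, ← hγRs, (yon S).map_comp γR t, (yon S).map_comp γR s, Category.assoc,
          Category.assoc, sqπ.w]
  let ε : E ≅ Q := (EtLift.isColimitOfAtlas hpE hpEs sqR).coconePointUniqueUpToIso
    (EtLift.isColimitOfAtlas hje hjs sqj')
  have hε : pE ≫ ε.hom = j :=
    (EtLift.isColimitOfAtlas hpE hpEs sqR).comp_coconePointUniqueUpToIso_hom
      (EtLift.isColimitOfAtlas hje hjs sqj') WalkingParallelPair.one
  have : Epi pE := epi_of_etale_surjective hpE hpEs
  refine ⟨_, hE', a, ε.hom ≫ pullback.snd f a, hae, ?_⟩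
  refine (IsPullback.of_hasPullback f a).of_iso ε.symm (Iso.refl _) (Iso.refl _) (Iso.refl _) ?_ (by simp)
    (by simp) (by simp)
  simp only [Iso.symm_hom, Iso.refl_hom, Category.comp_id]
  rw [Iso.eq_inv_comp, ← cancel_epi pE, ← Category.assoc, hε, pullback.lift_fst]

end Groth.Agent.AlgSpDM
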