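import Groth.Agent.AlgSpLib.InfBC
import Groth.Agent.AlgSpLib.EtLift
import Groth.Agent.AlgSpLib.ThickTop
import Groth.Agent.AlgSpDec.LqfSplitZ
import Groth.Agent.AlgSpDec.Glue

/-!
# Universal first order thickenings: descent along an etale chart
-/

set_option backward.isDefEq.respectTransparency false
set_option backward.isDefEq.respectTransparency.types false

universe u

open CategoryTheory CategoryTheory.Limits AlgebraicGeometry Opposite AlgSp Groth.Agent.AlgSpLib
  Groth.Agent.AlgSpPts Groth.Agent.AlgSpDec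

namespace Groth.Agent.AlgSpDM

set_option maxHeartbeats 800000

variable {S : Scheme.{u}} {Z Z' X : Sp S} {h : Z ⟶ X} {i : Z ⟶ Z'} {h' : Z' ⟶ X}

/-- Two maps into a universal thickening with the same restriction and the same composite agree. -/
theorem univ_hom_ext (HU : IsUnivFOThick h i h') {D D' : Over S} {j : D ⟶ D'}
    (hj : IsFOThickMor ((yon S).map j)) (a : (yon S).obj D ⟶ Z) {l l' : (yon S).obj D' ⟶ Z'}
    (h1 : (yon S).map j ≫ l = a ≫ i) (h2 : (yon S).map j ≫ l' = a ≫ i) (h3 : l ≫ h' = l' ≫ h') : l = l' :=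
  (HU.2.2 (IsAlgSpace.yon_obj D) (IsAlgSpace.yon_obj D') _ a (l ≫ h') hj
    (by rw [← Category.assoc, h1, Category.assoc, HU.2.1])).unique ⟨h1, rfl⟩ ⟨h2, h3.symm⟩

/-- Maps into a universal thickening exist. -/
theorem univ_lift (HU : IsUnivFOThick h i h') {D D' : Over S} {j : D ⟶ D'}
    (hj : IsFOThickMor ((yon S).map j)) (a : (yon S).obj D ⟶ Z) (b : (yon S).obj D' ⟶ X)
    (w : (yon S).map j ≫ b = a ≫ h) :
    ∃ l : (yon S).obj D' ⟶ Z', (yon S).map j ≫ l = a ≫ i ∧ l ≫ h' = b :=
  (HU.2.2 (IsAlgSpace.yon_obj D) (IsAlgSpace.yon_obj D') _ a b hj w).exists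

theorem isLocallySurjective_yon_map {A B : Over S} (f : A ⟶ B) [Etale f.left] [Surjective f.left] :
    Sheaf.IsLocallySurjective ((yon S).map f) :=
  isLocallySurjective_of_etale_surjective ((repWith_yon_map_iff _ f).2 ‹_›) ((repWith_yon_map_iff _ f).2 ‹_›)

/-- Universality descends along an etale chart of thickenings. -/
theorem isUnivFOThick_of_chart (hZ' : IsAlgSpace Z') (hi : IsFOThickMor i) (hw : i ≫ h' = h)
    {V V' : Over S} {e : (yon S).obj V ⟶ Z} (he : RepWith @Etale e) (hes : RepWith @Surjective e)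
    {iV : (yon S).obj V ⟶ (yon S).obj V'} {q : (yon S).obj V' ⟶ Z'} (hq : RepWith @Etale q)
    (hqs : RepWith @Surjective q) (sq : IsPullback e iV i q)
    (HU : IsUnivFOThick (e ≫ h) iV (q ≫ h')) : IsUnivFOThick h i h' := by
  -- the relation and its thickening
  let R := he.rep.pullback e
  let tR : (yon S).obj R ⟶ (yon S).obj V := (yon S).map (he.rep.fst' e)
  let sR : (yon S).obj R ⟶ (yon S).obj V := (yon S).map (he.rep.snd e)
  have sqR : IsPullback tR sR e e := he.rep.isPullback' e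
  let R' := hq.rep.pullback q
  let t' : (yon S).obj R' ⟶ (yon S).obj V' := (yon S).map (hq.rep.fst' q)
  let s' : (yon S).obj R' ⟶ (yon S).obj V' := (yon S).map (hq.rep.snd q)
  have sqR' : IsPullback t' s' q q := hq.rep.isPullback' q
  let r : (yon S).obj R ⟶ (yon S).obj R' := sqR'.lift (tR ≫ iV) (sR ≫ iV)
    (by rw [Category.assoc, ← sq.w, Category.assoc, ← sq.w, sqR.w_assoc])
  have hrt : r ≫ t' = tR ≫ iV := sqR'.lift_fst _ _ _
  have hrs : r ≫ s' = sR ≫ iV := sqR'.lift_snd _ _ _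
  have sqr : IsPullback sR r iV s' := by
    refine (IsPullback.of_right ?_ hrs sqR').flip
    rw [hrt]
    have := sqR.paste_horiz sq.flip
    rwa [sq.w] at this
  have hRU : IsUnivFOThick (sR ≫ e ≫ h) r (s' ≫ q ≫ h') :=
    isUnivFOThick_etale (IsAlgSpace.yon_obj V') (IsAlgSpace.yon_obj R') sR (e ≫ h) iV (q ≫ h') HU r s'
      (isEtaleMor_of_repWith (repWith_of_isPullback sqR' hq)) sqr
  -- a pair of maps to the chart over the same map to the base restricting to the relation agree in `Z'`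
  have pair : ∀ {D D' : Over S} (j : D ⟶ D'), IsFOThickMor ((yon S).map j) →
      ∀ (l₀ l₁ : (yon S).obj D' ⟶ (yon S).obj V') (a₀ a₁ : (yon S).obj D ⟶ (yon S).obj V),
      (yon S).map j ≫ l₀ = a₀ ≫ iV → (yon S).map j ≫ l₁ = a₁ ≫ iV → a₀ ≫ e = a₁ ≫ e →
      l₀ ≫ q ≫ h' = l₁ ≫ q ≫ h' → l₀ ≫ q = l₁ ≫ q := by
    intro D D' j hj l₀ l₁ a₀ a₁ h0 h1 hae hh
    obtain ⟨m, hm1, hm2⟩ := univ_lift hRU hj (sqR.lift a₀ a₁ hae) (l₁ ≫ q ≫ h') (by
      rw [← Category.assoc, h1, Category.assoc, sqR.lift_snd_assoc]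
      exact congrArg (a₁ ≫ ·) HU.2.1)
    have e1 : m ≫ s' = l₁ := univ_hom_ext HU hj a₁
      (by rw [← Category.assoc, hm1, Category.assoc, hrs, sqR.lift_snd_assoc]) h1
      (by rw [Category.assoc]; exact hm2)
    have e0 : m ≫ t' = l₀ := univ_hom_ext HU hj a₀
      (by rw [← Category.assoc, hm1, Category.assoc, hrt, sqR.lift_fst_assoc]) h0
      (by rw [Category.assoc, sqR'.w_assoc, hh]; exact hm2)
    rw [← e0, ← e1, Category.assoc, Category.assoc, sqR'.w]
  have existsL : ∀ (T T' : Over S) (j : T ⟶ T'), IsFOThickMor ((yon S).map j) →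
      ∀ (a : (yon S).obj T ⟶ Z) (b : (yon S).obj T' ⟶ X), (yon S).map j ≫ b = a ≫ h →
      ∃ x : (yon S).obj T' ⟶ Z', (yon S).map j ≫ x = a ≫ i ∧ x ≫ h' = b := by
    intro T T' j hj a b w
    let T1 := he.rep.pullback a
    let π : T1 ⟶ T := he.rep.snd a
    let a1 : (yon S).obj T1 ⟶ (yon S).obj V := he.rep.fst a
    have hw1 : a1 ≫ e = (yon S).map π ≫ a := he.rep.w a
    have hπ : Etale π.left := he.property_snd a
    have hπs : Surjective π.left := hes.property _ _ _ (he.rep.isPullback a)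
    obtain ⟨T1', b1, ε, hb1, hε⟩ := Groth.Agent.AlgSpLib.EtLift.exists_lift (IsAlgSpace.yon_obj T) (IsAlgSpace.yon_obj T') hj.1
      ((yon S).map π) ((repWith_yon_map_iff _ π).2 hπ)
    obtain ⟨β, rfl⟩ := (yon S).map_surjective b1
    obtain ⟨κ, hκ⟩ := (yon S).map_surjective (ε.hom ≫ pullback.snd _ _)
    have sqT : IsPullback ((yon S).map π) ((yon S).map κ) ((yon S).map j) ((yon S).map β) :=
      (IsPullback.of_hasPullback _ _).of_iso ε.symm (Iso.refl _) (Iso.refl _) (Iso.refl _)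
        (by simp [← hε]) (by simp [hκ]) (by simp) (by simp)
    have : Etale β.left := (repWith_yon_map_iff _ β).1 hb1
    have : Surjective β.left := ⟨fun t' => by
      have : Surjective j.left := ((repWith_yon_map_iff thick j).1 hj.1).2
      obtain ⟨t, rfl⟩ := j.left.surjective t'
      obtain ⟨t1, rfl⟩ := π.left.surjective t
      have : κ ≫ β = π ≫ j := (yon S).map_injective (by rw [Functor.map_comp, Functor.map_comp]; exact sqT.w.symm)
      exact ⟨κ.left t1, by rw [← Scheme.Hom.comp_apply, ← Over.comp_left, this]; rfl⟩⟩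
    obtain ⟨l, hl1, hl2⟩ := univ_lift HU (isFOThickMor_baseChange (IsAlgSpace.yon_obj T') hj sqT) a1
      ((yon S).map β ≫ b) (by rw [← sqT.w_assoc, w, ← Category.assoc, ← hw1, Category.assoc])
    let p₀ : pullback β β ⟶ T1' := pullback.fst β β
    let p₁ : pullback β β ⟶ T1' := pullback.snd β β
    have sqP : IsPullback ((yon S).map p₀) ((yon S).map p₁) ((yon S).map β) ((yon S).map β) :=
      (IsPullback.of_hasPullback β β).map (yon S)
    have hagree : (yon S).map p₀ ≫ l ≫ q = (yon S).map p₁ ≫ l ≫ q := by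
      let c : (yon S).obj (pullback β β) ⟶ (yon S).obj T' := (yon S).map p₀ ≫ (yon S).map β
      let P0 := hj.1.1.pullback c
      let π0 : (yon S).obj P0 ⟶ (yon S).obj T := hj.1.1.fst c
      let κ2 : P0 ⟶ pullback β β := hj.1.1.snd c
      have sq0 : IsPullback π0 ((yon S).map κ2) ((yon S).map j) c := hj.1.1.isPullback c
      let u0 : (yon S).obj P0 ⟶ (yon S).obj T1 := sqT.lift π0 ((yon S).map κ2 ≫ (yon S).map p₀)
        (by rw [sq0.w, Category.assoc])
      let u1 : (yon S).obj P0 ⟶ (yon S).obj T1 := sqT.lift π0 ((yon S).map κ2 ≫ (yon S).map p₁)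
        (by rw [sq0.w, Category.assoc]; exact congrArg ((yon S).map κ2 ≫ ·) sqP.w)
      rw [← Category.assoc, ← Category.assoc]
      refine pair κ2 (isFOThickMor_baseChange (IsAlgSpace.yon_obj T') hj sq0) _ _ (u0 ≫ a1) (u1 ≫ a1) ?_ ?_ ?_ ?_
      · rw [Category.assoc u0, ← hl1, sqT.lift_snd_assoc, Category.assoc]
      · rw [Category.assoc u1, ← hl1, sqT.lift_snd_assoc, Category.assoc]
      · rw [Category.assoc, Category.assoc, hw1, sqT.lift_fst_assoc, sqT.lift_fst_assoc]
      · rw [Category.assoc, Category.assoc, hl2, sqP.w_assoc]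
    have := isLocallySurjective_yon_map β
    obtain ⟨x, hx⟩ := exists_desc_of_kernelPair sqP (l ≫ q) hagree
    have : Epi ((yon S).map π) := epi_of_etale_surjective ((repWith_yon_map_iff _ π).2 hπ)
      ((repWith_yon_map_iff _ π).2 hπs)
    have : Epi ((yon S).map β) := (Sheaf.isLocallySurjective_iff_epi _).1 inferInstance
    refine ⟨x, ?_, ?_⟩
    · rw [← cancel_epi ((yon S).map π), sqT.w_assoc, hx, ← Category.assoc, hl1, Category.assoc, ← sq.w,
        ← Category.assoc, hw1, Category.assoc]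
    · rw [← cancel_epi ((yon S).map β), ← Category.assoc, hx, Category.assoc, hl2]
  have uniq : ∀ (T T' : Over S) (j : T ⟶ T'), IsFOThickMor ((yon S).map j) →
      ∀ (a : (yon S).obj T ⟶ Z) (x x' : (yon S).obj T' ⟶ Z'),
      (yon S).map j ≫ x = a ≫ i → (yon S).map j ≫ x' = a ≫ i → x ≫ h' = x' ≫ h' → x = x' := by
    intro T T' j hj a x x' hx hx' hh
    let C1 := hq.rep.pullback x
    let c1 : C1 ⟶ T' := hq.rep.snd x
    let C := hq.rep.pullback ((yon S).map c1 ≫ x')
    let c2 : C ⟶ C1 := hq.rep.snd ((yon S).map c1 ≫ x')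
    have h1 : Etale c1.left := hq.property_snd x
    have h2 : Surjective c1.left := hqs.property _ _ _ (hq.rep.isPullback x)
    have h3 : Etale c2.left := hq.property_snd _
    have h4 : Surjective c2.left := hqs.property _ _ _ (hq.rep.isPullback _)
    let c : (yon S).obj C ⟶ (yon S).obj T' := (yon S).map c2 ≫ (yon S).map c1
    have : Epi ((yon S).map c1) := epi_of_etale_surjective ((repWith_yon_map_iff _ c1).2 h1) ((repWith_yon_map_iff _ c1).2 h2)
    have : Epi ((yon S).map c2) := epi_of_etale_surjective ((repWith_yon_map_iff _ c2).2 h3) ((repWith_yon_map_iff _ c2).2 h4)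
    let y : (yon S).obj C ⟶ (yon S).obj V' := (yon S).map c2 ≫ hq.rep.fst x
    let y' : (yon S).obj C ⟶ (yon S).obj V' := hq.rep.fst ((yon S).map c1 ≫ x')
    have hy : y ≫ q = c ≫ x := by rw [Category.assoc, hq.rep.w, Category.assoc]
    have hy' : y' ≫ q = c ≫ x' := by rw [hq.rep.w, Category.assoc]
    suffices y ≫ q = y' ≫ q by
      rw [hy, hy'] at this
      exact (cancel_epi c).1 this
    let C0 := hj.1.1.pullback c
    let πC : (yon S).obj C0 ⟶ (yon S).obj T := hj.1.1.fst c
    let jC : C0 ⟶ C := hj.1.1.snd c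
    have sq0 : IsPullback πC ((yon S).map jC) ((yon S).map j) c := hj.1.1.isPullback c
    refine pair jC (isFOThickMor_baseChange (IsAlgSpace.yon_obj T') hj sq0) y y'
      (sq.lift (πC ≫ a) ((yon S).map jC ≫ y) (by simp only [Category.assoc, hy]; rw [← hx, sq0.w_assoc]))
      (sq.lift (πC ≫ a) ((yon S).map jC ≫ y') (by simp only [Category.assoc, hy']; rw [← hx', sq0.w_assoc]))
      (sq.lift_snd _ _ _).symm (sq.lift_snd _ _ _).symm (by rw [sq.lift_fst, sq.lift_fst]) ?_
    rw [← Category.assoc, hy, ← Category.assoc y', hy', Category.assoc, Category.assoc, hh]; simp [c]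
  refine (isUnivFOThick_iff h i h' hi hw).2 fun T T' j _ hj a b w => ?_
  obtain ⟨x, hx1, hx2⟩ := existsL T T' j hj a b w
  exact ⟨x, ⟨hx1, hx2⟩, fun y hy => uniq T T' j hj a y x hy.1 hx1 (hy.2.trans hx2.symm)⟩

end Groth.Agent.AlgSpDM
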