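import Groth.Agent.AlgSpDM.UnivThickLift
import Groth.Agent.AlgSpDM.ThickChart
import Groth.Agent.AlgSpLib.InfCharts
import Groth.Agent.AlgSpLib.Descent2
import Groth.Agent.AlgSpLib.ClosedImmDesc
import Groth.Agent.AlgSpDec.QuotRep
import Groth.Agent.S9731

/-!
# Existence of universal first order thickenings
-/

set_option backward.isDefEq.respectTransparency false
set_option backward.isDefEq.respectTransparency.types false

universe u

open CategoryTheory CategoryTheory.Limits AlgebraicGeometry Opposite AlgSp Groth.Agent.AlgSpLib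
  Groth.Agent.AlgSpPts Groth.Agent.AlgSpDec

namespace Groth.Agent.AlgSpDM

set_option maxHeartbeats 800000

variable {S : Scheme.{u}}

/-- Universal first order thickenings of schemes are universal among spaces. -/
theorem exists_univ_scheme {V U : Over S} (ψ : V ⟶ U) [FormallyUnramified ψ.left] :
    ∃ (V' : Over S) (iV : V ⟶ V') (hVU : V' ⟶ U),
      IsUnivFOThick ((yon S).map ψ) ((yon S).map iV) ((yon S).map hVU) := by
  obtain ⟨Z', i, h', hi, hw, hu⟩ := Groth.Agent.S9731.result ψ.left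
  let V' : Over S := Over.mk (h' ≫ U.hom)
  let iV : V ⟶ V' := Over.homMk i (by
    show i ≫ h' ≫ U.hom = V.hom
    rw [reassoc_of% hw, Over.w ψ])
  let hVU : V' ⟶ U := Over.homMk h' rfl
  refine ⟨V', iV, hVU, (isUnivFOThick_iff _ _ _ (isFOThickMor_yon iV hi) ?_).2 ?_⟩
  · rw [← Functor.map_comp]
    exact congrArg _ (Over.OverMorphism.ext hw)
  intro T T' j hT' hj a b w
  obtain ⟨a0, rfl⟩ := (yon S).map_surjective a
  obtain ⟨b0, rfl⟩ := (yon S).map_surjective b
  have w0 : j ≫ b0 = a0 ≫ ψ := (yon S).map_injective (by rw [Functor.map_comp, Functor.map_comp, w])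
  obtain ⟨l, ⟨l1, l2⟩, hl⟩ := hu T.left T'.left j.left b0.left a0.left
    (isFirstOrderThickening_of_isFOThickMor_yon_map hT' hj) (congrArg CommaMorphism.left w0)
  let m : T' ⟶ V' := Over.homMk l (by
    show l ≫ h' ≫ U.hom = T'.hom
    rw [reassoc_of% l2, Over.w b0])
  refine ⟨(yon S).map m, ⟨?_, ?_⟩, fun y hy => ?_⟩
  · rw [← Functor.map_comp, ← Functor.map_comp]
    exact congrArg _ (Over.OverMorphism.ext l1)
  · rw [← Functor.map_comp]
    exact congrArg _ (Over.OverMorphism.ext l2)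
  · obtain ⟨y0, rfl⟩ := (yon S).map_surjective y
    refine congrArg _ (Over.OverMorphism.ext (hl y0.left ⟨?_, ?_⟩))
    · exact congrArg CommaMorphism.left (show j ≫ y0 = a0 ≫ iV from
        (yon S).map_injective (by rw [Functor.map_comp, Functor.map_comp, hy.1]))
    · exact congrArg CommaMorphism.left (show y0 ≫ hVU = b0 from
        (yon S).map_injective (by rw [Functor.map_comp, hy.2]))

theorem isUnivFOThick_comp_formallyEtale {Z Z' Y X : Sp S} {hZ : Z ⟶ Y} {g : Y ⟶ X} {i : Z ⟶ Z'}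
    {h' : Z' ⟶ Y} (HU : IsUnivFOThick hZ i h') (hg : IsFormallyEtaleMor g) :
    IsUnivFOThick (hZ ≫ g) i (h' ≫ g) := by
  refine ⟨HU.1, by rw [← Category.assoc, HU.2.1], ?_⟩
  intro T T' hT hT' j a b hj hw
  obtain ⟨c, ⟨hc₁, hc₂⟩, hc⟩ := existsUnique_lift_of_formallyEtale hg hT' hj (a ≫ hZ) b
    ((Category.assoc _ _ _).trans hw.symm)
  obtain ⟨a', ⟨h₁, h₂⟩, ha'⟩ := HU.2.2 hT hT' j a c hj hc₁
  refine ⟨a', ⟨h₁, ?_⟩, fun y hy => ha' y ⟨hy.1, hc (y ≫ h') ⟨?_, (Category.assoc _ _ _).trans hy.2⟩⟩⟩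
  · rw [← Category.assoc, h₂, hc₂]
  · rw [← Category.assoc, hy.1, Category.assoc, HU.2.1]

theorem exists_isUnivFOThick {Z X : Sp S} (hZ : IsAlgSpace Z) (hX : IsAlgSpace X) (h : Z ⟶ X)
    (hh : IsFormallyUnramifiedMor h) :
    ∃ (Z' : Sp S) (_ : IsAlgSpace Z') (i : Z ⟶ Z') (h' : Z' ⟶ X), IsUnivFOThick h i h' := by
  obtain ⟨V, U, e, u, ψ, he, hes, hu, -, w⟩ := exists_chart hZ hX h
  have : FormallyUnramified ψ.left := (isFormallyUnramifiedMor_iff_locP hZ hX h).1 hh e u ψ he hu w
  obtain ⟨V', iV, hVU, HV0⟩ := exists_univ_scheme ψ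
  have HV : IsUnivFOThick (e ≫ h) ((yon S).map iV) ((yon S).map hVU ≫ u) := by
    rw [w]
    exact isUnivFOThick_comp_formallyEtale HV0 ((formal_of_repWith u).2.1 hu)
  let hV' : (yon S).obj V' ⟶ X := (yon S).map hVU ≫ u
  have hiV : IsFOThickMor ((yon S).map iV) := HV.1
  -- the relation and its thickening
  let R := he.rep.pullback e
  let t0 : R ⟶ V := he.rep.fst' e
  let s0 : R ⟶ V := he.rep.snd e
  have sqR : IsPullback ((yon S).map t0) ((yon S).map s0) e e := he.rep.isPullback' e
  have ht0 : RepWith @Etale ((yon S).map t0) := repWith_of_isPullback sqR.flip he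
  have hs0 : RepWith @Etale ((yon S).map s0) := repWith_of_isPullback sqR he
  have hs0s : RepWith @Surjective ((yon S).map s0) := repWith_of_isPullback sqR hes
  obtain ⟨R', s', jR, hs', sqs, hjR⟩ := exists_lift_pullback (IsAlgSpace.yon_obj V) (IsAlgSpace.yon_obj V')
    hiV ((yon S).map s0) hs0
  obtain ⟨R'', t'', jR'', ht'', sqt'', hjR''⟩ := exists_lift_pullback (IsAlgSpace.yon_obj V)
    (IsAlgSpace.yon_obj V') hiV ((yon S).map t0) ht0
  have HR : IsUnivFOThick ((yon S).map s0 ≫ e ≫ h) ((yon S).map jR) (s' ≫ hV') :=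
    isUnivFOThick_etale (IsAlgSpace.yon_obj V') (IsAlgSpace.yon_obj R') _ _ _ _ HV _ s'
      (isEtaleMor_of_repWith hs') sqs
  have HR'' : IsUnivFOThick ((yon S).map t0 ≫ e ≫ h) ((yon S).map jR'') (t'' ≫ hV') :=
    isUnivFOThick_etale (IsAlgSpace.yon_obj V') (IsAlgSpace.yon_obj R'') _ _ _ _ HV _ t''
      (isEtaleMor_of_repWith ht'') sqt''
  rw [sqR.w_assoc] at HR''
  obtain ⟨φ, φ1, φ2⟩ := univ_iso (IsAlgSpace.yon_obj R) (IsAlgSpace.yon_obj R') (IsAlgSpace.yon_obj R'') HR HR''
  obtain ⟨t', ht'def⟩ : ∃ t' : (yon S).obj R' ⟶ (yon S).obj V', t' = φ.hom ≫ t'' := ⟨_, rfl⟩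
  have sqt : IsPullback ((yon S).map t0) ((yon S).map jR) ((yon S).map iV) t' :=
    sqt''.of_iso (Iso.refl _) (Iso.refl _) φ.symm (Iso.refl _) (by simp) (by simp [← φ1]) (by simp) (by simp [ht'def])
  have ht' : RepWith @Etale t' := ht'def ▸ (MorphismProperty.cancel_left_of_respectsIso (RepWith @Etale) φ.hom t'').2 ht''
  have hts : t' ≫ hV' = s' ≫ hV' := by rw [ht'def, Category.assoc]; exact φ2
  obtain ⟨t, htt⟩ := (yon S).map_surjective t'
  obtain ⟨s, hss⟩ := (yon S).map_surjective s'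
  have : Etale s.left := (repWith_yon_map_iff _ s).1 (hss ▸ hs')
  have : Etale t.left := (repWith_yon_map_iff _ t).1 (htt ▸ ht')
  have hs's : RepWith @Surjective s' :=
    surjective_of_pullback (IsAlgSpace.yon_obj V') hiV hs0s hs'.1 sqs.w
  have : Surjective s.left := (repWith_yon_map_iff _ s).1 (hss ▸ hs's)
  -- the criterion for being related
  have mk : ∀ {D T : Over S} (jD : D ⟶ T), IsFOThickMor ((yon S).map jD) →
      ∀ (x y : (yon S).obj T ⟶ (yon S).obj V') (x0 y0 : (yon S).obj D ⟶ (yon S).obj V),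
      (yon S).map jD ≫ x = x0 ≫ (yon S).map iV → (yon S).map jD ≫ y = y0 ≫ (yon S).map iV →
      x0 ≫ e = y0 ≫ e → x ≫ hV' = y ≫ hV' →
      ∃ r : T ⟶ R', (yon S).map r ≫ t' = x ∧ (yon S).map r ≫ s' = y := by
    intro D T jD hjD x y x0 y0 hx hy hxy hh'
    obtain ⟨l, hl1, hl2⟩ := univ_lift HR hjD (sqR.lift x0 y0 hxy) (y ≫ hV') (by
      rw [← Category.assoc, hy, sqR.lift_snd_assoc, Category.assoc, HV.2.1])
    obtain ⟨r, rfl⟩ := (yon S).map_surjective l
    refine ⟨r, univ_hom_ext HV hjD x0 ?_ hx ?_, univ_hom_ext HV hjD y0 ?_ hy ?_⟩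
    · rw [← Category.assoc, hl1, Category.assoc, ← sqt.w, sqR.lift_fst_assoc]
    · rw [Category.assoc, show t' ≫ (yon S).map hVU ≫ u = s' ≫ hV' from hts, hl2]
      exact hh'.symm
    · rw [← Category.assoc, hl1, Category.assoc, ← sqs.w, sqR.lift_snd_assoc]
    · rw [Category.assoc]
      exact hl2
  have rel : ∀ {T : Over S} (r : T ⟶ R'),
      ((yon S).map r ≫ t') ≫ hV' = ((yon S).map r ≫ s') ≫ hV' := fun r => by
    rw [Category.assoc, Category.assoc, hts]
  have hR : IsEqvRel s t := by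
    refine { injective := fun T r r' h1 h2 => ?_, equivalence := fun T => ⟨fun x => ?_, ?_, ?_⟩ }
    · have e1 : (yon S).map r ≫ t' = (yon S).map r' ≫ t' := by
        rw [← htt, ← Functor.map_comp, ← Functor.map_comp, h1]
      have e2 : (yon S).map r ≫ s' = (yon S).map r' ≫ s' := by
        rw [← hss, ← Functor.map_comp, ← Functor.map_comp, h2]
      let c := (yon S).map r ≫ s'
      let π := hiV.1.1.fst c
      let jD := hiV.1.1.snd c
      have sqD : IsPullback π ((yon S).map jD) ((yon S).map iV) c := hiV.1.1.isPullback c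
      have hjD := isFOThickMor_baseChange (IsAlgSpace.yon_obj V') hiV sqD
      let m := sqs.lift π ((yon S).map jD ≫ (yon S).map r) (by rw [sqD.w, Category.assoc])
      let m' := sqs.lift π ((yon S).map jD ≫ (yon S).map r') (by rw [sqD.w, Category.assoc, ← e2])
      have em : m ≫ (yon S).map t0 = m' ≫ (yon S).map t0 := cancel_thick hiV.1 _ _ (by
        rw [Category.assoc, Category.assoc, sqt.w, sqs.lift_snd_assoc, sqs.lift_snd_assoc, Category.assoc, Category.assoc, e1])
      have hm : m = m' := sqR.hom_ext em (by rw [sqs.lift_fst, sqs.lift_fst])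
      exact (yon S).map_injective (univ_hom_ext HR hjD m (sqs.lift_snd _ _ _).symm
        (by rw [hm]; exact (sqs.lift_snd _ _ _).symm) (by rw [reassoc_of% e2]))
    · obtain ⟨r, h1, h2⟩ := mk (hiV.1.1.snd ((yon S).map x))
        (isFOThickMor_baseChange (IsAlgSpace.yon_obj V') hiV (hiV.1.1.isPullback ((yon S).map x)))
        ((yon S).map x) ((yon S).map x) (hiV.1.1.fst ((yon S).map x)) (hiV.1.1.fst ((yon S).map x))
        (hiV.1.1.w _).symm (hiV.1.1.w _).symm rfl rfl
      exact ⟨r, (yon S).map_injective (by rw [Functor.map_comp, htt, h1]),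
        (yon S).map_injective (by rw [Functor.map_comp, hss, h2])⟩
    · rintro _ _ ⟨r, rfl, rfl⟩
      let c := (yon S).map r ≫ t'
      let π := hiV.1.1.fst c
      let jD := hiV.1.1.snd c
      have sqD : IsPullback π ((yon S).map jD) ((yon S).map iV) c := hiV.1.1.isPullback c
      let m := sqt.lift π ((yon S).map jD ≫ (yon S).map r) (by rw [sqD.w, Category.assoc])
      obtain ⟨r', h1, h2⟩ := mk jD (isFOThickMor_baseChange (IsAlgSpace.yon_obj V') hiV sqD)
        ((yon S).map r ≫ s') c (m ≫ (yon S).map s0) π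
        (by rw [Category.assoc, sqs.w, sqt.lift_snd_assoc, Category.assoc]) sqD.w.symm
        (by rw [Category.assoc, ← sqR.w, sqt.lift_fst_assoc]) (rel r).symm
      exact ⟨r', (yon S).map_injective (by rw [Functor.map_comp, Functor.map_comp, htt, hss, h1]),
        (yon S).map_injective (by rw [Functor.map_comp, Functor.map_comp, hss, htt, h2])⟩
    · rintro _ _ _ ⟨r, rfl, rfl⟩ ⟨r₂, hr₂, rfl⟩
      have hy : (yon S).map r₂ ≫ t' = (yon S).map r ≫ s' := by
        rw [← htt, ← hss, ← Functor.map_comp, ← Functor.map_comp, hr₂]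
      let c := (yon S).map r ≫ s'
      let π := hiV.1.1.fst c
      let jD := hiV.1.1.snd c
      have sqD : IsPullback π ((yon S).map jD) ((yon S).map iV) c := hiV.1.1.isPullback c
      let m := sqs.lift π ((yon S).map jD ≫ (yon S).map r) (by rw [sqD.w, Category.assoc])
      let m₂ := sqt.lift π ((yon S).map jD ≫ (yon S).map r₂) (by rw [sqD.w, Category.assoc, hy])
      obtain ⟨r', h1, h2⟩ := mk jD (isFOThickMor_baseChange (IsAlgSpace.yon_obj V') hiV sqD)
        ((yon S).map r ≫ t') ((yon S).map r₂ ≫ s') (m ≫ (yon S).map t0) (m₂ ≫ (yon S).map s0)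
        (by rw [Category.assoc, sqt.w, sqs.lift_snd_assoc, Category.assoc])
        (by rw [Category.assoc, sqs.w, sqt.lift_snd_assoc, Category.assoc])
        (by rw [Category.assoc, sqR.w, sqs.lift_fst_assoc, Category.assoc, ← sqR.w, sqt.lift_fst_assoc])
        (by rw [rel r, ← hy, rel r₂])
      exact ⟨r', (yon S).map_injective (by rw [Functor.map_comp, Functor.map_comp, htt, h1]),
        (yon S).map_injective (by rw [Functor.map_comp, Functor.map_comp, hss, h2])⟩
  -- the quotient
  let Z' : Sp S := QuotSh.quot Scheme.fppfPrecoverage s t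
  let q : (yon S).obj V' ⟶ Z' := AlgSpPts.quotMap s t
  have sqq : IsPullback t' s' q q := by
    have h0 := AlgSpPts.isPullback_quotMap hR
    rwa [htt, hss] at h0
  have : Sheaf.IsLocallySurjective q := by
    have : Epi (QuotSh.quotπ Scheme.fppfPrecoverage s t) := by
      unfold QuotSh.quotπ
      infer_instance
    exact (CategoryTheory.Sheaf.isLocallySurjective_iff_epi _).2 (epi_comp _ _)
  have sqq0 : IsPullback ((yon S).map t) ((yon S).map s) q q := by rw [htt, hss]; exact sqq
  have hZ' : IsAlgSpace Z' := isAlgSpace_of_etale_kernelPair sqq0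
  have hqr : Representable q := representable_of_kernelPair sqq0
  have := AlgSpPts.isLocalAtTarget_fppf (@Etale : MorphismProperty Scheme.{u})
  have := AlgSpPts.isLocalAtTarget_fppf (@Surjective : MorphismProperty Scheme.{u})
  have hq : RepWith @Etale q :=
    AlgSpPts.repWith_of_locallySurjective hqr _ sqq0 @Etale ((repWith_yon_map_iff _ _).2 ‹Etale s.left›)
  have hqs : RepWith @Surjective q :=
    AlgSpPts.repWith_of_locallySurjective hqr _ sqq0 @Surjective ((repWith_yon_map_iff _ _).2 ‹Surjective s.left›)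
  have := isLocallySurjective_of_etale_surjective he hes
  have hepi : Epi e := epi_of_etale_surjective he hes
  obtain ⟨i, hi⟩ := exists_desc_of_kernelPair sqR ((yon S).map iV ≫ q) (by
    rw [sqt.w_assoc, sqs.w_assoc, sqq.w])
  obtain ⟨h', hh'⟩ := exists_desc_of_kernelPair sqq0 hV' (by rw [htt, hss, hts])
  have hih : i ≫ h' = h := by
    rw [← cancel_epi e, ← Category.assoc, hi, Category.assoc, hh']
    exact HV.2.1
  -- the chart is cartesian
  let P := pullback i q
  let m : (yon S).obj V ⟶ P := pullback.lift e ((yon S).map iV) hi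
  have hmono : Mono ((yon S).map iV) := mono_of_thick hiV.1
  have : Mono (m ≫ pullback.snd i q) := by rw [pullback.lift_snd]; exact hmono
  have : Mono m := mono_of_mono m (pullback.snd i q)
  let ρ : (yon S).obj R ⟶ P := (yon S).map s0 ≫ m
  have sqbig : IsPullback ((yon S).map t0) ((yon S).map jR ≫ s') ((yon S).map iV ≫ q) q :=
    sqt.paste_vert sqq
  have sqρ : IsPullback ((yon S).map t0) ρ e (pullback.fst i q) := by
    refine IsPullback.of_bot (v₂₁ := pullback.snd i q) (v₂₂ := i) (h₃₁ := q) ?_ ?_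
      (IsPullback.of_hasPullback i q)
    · rw [hi, Category.assoc, pullback.lift_snd, sqs.w]
      exact sqbig
    · rw [Category.assoc, pullback.lift_fst, sqR.w]
  have : Epi ρ := epi_of_etale_surjective (repWith_of_isPullback sqρ he) (repWith_of_isPullback sqρ hes)
  have : Epi m := epi_of_epi ((yon S).map s0) m
  have : IsIso m := isIso_of_mono_of_epi m
  have sq : IsPullback e ((yon S).map iV) i q :=
    (IsPullback.of_hasPullback i q).of_iso (asIso m).symm (Iso.refl _) (Iso.refl _) (Iso.refl _)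
      (by simp [m]) (by simp [m]) (by simp) (by simp)
  -- a thickening
  have hcl : RepWith @IsClosedImmersion i :=
    (isLocalOnBase_fpqc_isClosedImmersion (fun _ : PUnit.{u + 1} => (yon S).obj V') (fun _ => q) hZ'
      (fun _ => IsAlgSpace.yon_obj V')
      (isFpqcCover_of_isEtaleMor (IsAlgSpace.yon_obj V') hZ' (isEtaleMor_of_repWith hq)
        (fun y => Groth.Agent.AlgSpLib.surjective_map_of_repWith hqs y))
      i hZ (fun _ => (yon S).obj V) (fun _ => (yon S).map iV) (fun _ => e)
      (fun _ => IsAlgSpace.yon_obj V) (fun _ => sq)).2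
      fun _ => repWith_mono (fun _ _ k hk => hk.1) _ hiV.1
  have hsurj : RepWith @Surjective i := repWith_surjective_of_surjective hcl.1 fun y => by
    obtain ⟨v', rfl⟩ := Groth.Agent.AlgSpLib.surjective_map_of_repWith hqs y
    obtain ⟨v, rfl⟩ := (isHomeomorph_map_of_thick (IsAlgSpace.yon_obj V') hiV.1).surjective v'
    exact ⟨Points.map e v, by rw [← Points.map_comp, hi, Points.map_comp]⟩
  have hth : IsThickMor i :=
    ⟨hcl.1, fun T W g fst snd hP => ⟨hcl.2 g fst snd hP, hsurj.2 g fst snd hP⟩⟩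
  have hfo : IsFOThickMor i := isFOThickMor_of_chart hth hq hqs sq hiV
  exact ⟨Z', hZ', i, h', isUnivFOThick_of_chart hZ' hfo hih he hes hq hqs sq (by rw [hh']; exact HV)⟩

end Groth.Agent.AlgSpDM
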