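import Groth.Agent.AlgSpDM.UnivThick
import Groth.Agent.AlgSpLib.EtaleSmoothLocal

/-!
# Universal first order thickenings: lifts of etale charts, uniqueness, etale localisation
-/

set_option backward.isDefEq.respectTransparency false
set_option backward.isDefEq.respectTransparency.types false

universe u

open CategoryTheory CategoryTheory.Limits AlgebraicGeometry Opposite AlgSp Groth.Agent.AlgSpLib
  Groth.Agent.AlgSpPts Groth.Agent.AlgSpDec

namespace Groth.Agent.AlgSpDM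

set_option maxHeartbeats 600000

variable {S : Scheme.{u}} {Z Z' X Y : Sp S} {h : Z ⟶ X} {i : Z ⟶ Z'} {h' : Z' ⟶ X}

/-- An etale chart of `Z` is the restriction of an etale chart of a first order thickening of `Z`. -/
theorem exists_lift_pullback (hZ : IsAlgSpace Z) (hZ' : IsAlgSpace Z') (hi : IsFOThickMor i) {U : Over S}
    (p : (yon S).obj U ⟶ Z) (hp : RepWith @Etale p) :
    ∃ (T : Over S) (b : (yon S).obj T ⟶ Z') (j : U ⟶ T),
      RepWith @Etale b ∧ IsPullback p ((yon S).map j) i b ∧ IsFOThickMor ((yon S).map j) := by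
  obtain ⟨T, b, ε, hb, hε⟩ := Groth.Agent.AlgSpLib.EtLift.exists_lift hZ hZ' hi.1 p hp
  obtain ⟨j, hj⟩ := (yon S).map_surjective (ε.hom ≫ pullback.snd i b)
  have sq : IsPullback p ((yon S).map j) i b :=
    (IsPullback.of_hasPullback i b).of_iso ε.symm (Iso.refl _) (Iso.refl _) (Iso.refl _)
      (by simp [← hε]) (by simp [hj]) (by simp) (by simp)
  exact ⟨T, b, j, hb, sq, isFOThickMor_baseChange hZ' hi sq⟩

theorem surjective_of_pullback (hZ' : IsAlgSpace Z') (hi : IsFOThickMor i) {U T : Over S}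
    {p : (yon S).obj U ⟶ Z} (hps : RepWith @Surjective p) {b : (yon S).obj T ⟶ Z'} {j : (yon S).obj U ⟶ (yon S).obj T}
    (hb : Representable b) (w : p ≫ i = j ≫ b) : RepWith @Surjective b := by
  refine repWith_surjective_of_surjective hb fun y => ?_
  obtain ⟨z, rfl⟩ := (isHomeomorph_map_of_thick hZ' hi.1).surjective y
  obtain ⟨v, rfl⟩ := Groth.Agent.AlgSpLib.surjective_map_of_repWith hps z
  exact ⟨Points.map j v, by rw [← Points.map_comp, ← w, Points.map_comp]⟩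

/-- Universal first order thickenings are unique. -/
theorem univ_iso (hZ : IsAlgSpace Z) {A B : Sp S} {iA : Z ⟶ A} {iB : Z ⟶ B} {hA : A ⟶ X} {hB : B ⟶ X}
    (sA : IsAlgSpace A) (sB : IsAlgSpace B) (H1 : IsUnivFOThick h iA hA) (H2 : IsUnivFOThick h iB hB) :
    ∃ φ : A ≅ B, iA ≫ φ.hom = iB ∧ φ.hom ≫ hB = hA := by
  obtain ⟨f, ⟨f1, f2⟩, -⟩ := H2.2.2 hZ sA iA (𝟙 Z) hA H1.1 (by rw [H1.2.1, Category.id_comp])
  obtain ⟨g, ⟨g1, g2⟩, -⟩ := H1.2.2 hZ sB iB (𝟙 Z) hB H2.1 (by rw [H2.2.1, Category.id_comp])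
  rw [Category.id_comp] at f1 g1
  refine ⟨⟨f, g, ?_, ?_⟩, f1, f2⟩
  · exact (H1.2.2 hZ sA iA (𝟙 Z) hA H1.1 (by rw [H1.2.1, Category.id_comp])).unique
      ⟨by rw [← Category.assoc, f1, g1, Category.id_comp], by rw [Category.assoc, g2, f2]⟩
      ⟨by rw [Category.comp_id, Category.id_comp], Category.id_comp _⟩
  · exact (H2.2.2 hZ sB iB (𝟙 Z) hB H2.1 (by rw [H2.2.1, Category.id_comp])).unique
      ⟨by rw [← Category.assoc, g1, f1, Category.id_comp], by rw [Category.assoc, f2, g2]⟩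
      ⟨by rw [Category.comp_id, Category.id_comp], Category.id_comp _⟩

/-- Universality does not change when the base is changed along a formally etale morphism. -/
theorem isUnivFOThick_cancel {g : X ⟶ Y} (hg : IsFormallyEtaleMor g) (hi : IsFOThickMor i) (hw : i ≫ h' = h)
    (HU : IsUnivFOThick (h ≫ g) i (h' ≫ g)) : IsUnivFOThick h i h' := by
  refine ⟨hi, hw, fun T T' hT hT' j a b hj w => ?_⟩
  obtain ⟨l, ⟨l1, l2⟩, hl⟩ := HU.2.2 hT hT' j a (b ≫ g) hj (by rw [← Category.assoc, w, Category.assoc])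
  refine ⟨l, ⟨l1, ?_⟩, fun y hy => hl y ⟨hy.1, by rw [← Category.assoc, hy.2]⟩⟩
  refine (existsUnique_lift_of_formallyEtale hg hT' hj (a ≫ h) (b ≫ g)
    (by rw [← w, Category.assoc])).unique ⟨?_, by rw [Category.assoc, l2]⟩ ⟨w, rfl⟩
  rw [← Category.assoc, l1, Category.assoc, hw]

/-- The map of universal thickenings attached to etale maps is etale. -/
theorem isEtaleMor_of_univ {V U V' : Sp S} (hZ : IsAlgSpace Z) (hZ' : IsAlgSpace Z') (hV : IsAlgSpace V)
    (hV' : IsAlgSpace V') (HZ : IsUnivFOThick h i h') {v : V ⟶ Z} {w : U ⟶ X} (hv : IsEtaleMor v)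
    (hw : IsFormallyEtaleMor w) {ψ : V ⟶ U} (c : ψ ≫ w = v ≫ h) {iV : V ⟶ V'} {hV'U : V' ⟶ U}
    (HV : IsUnivFOThick ψ iV hV'U) {e' : V' ⟶ Z'} (e1 : iV ≫ e' = v ≫ i) (e2 : e' ≫ h' = hV'U ≫ w) :
    IsEtaleMor e' := by
  obtain ⟨U0, a, ha, has⟩ := hV.atlas
  obtain ⟨T, b, j, hb, sqb, hj⟩ := exists_lift_pullback hZ hZ' HZ.1 (a ≫ v) (hv a ha)
  obtain ⟨T1, b1, j1, hb1, sqb1, hj1⟩ := exists_lift_pullback hV hV' HV.1 a ha
  have HT := isUnivFOThick_etale hZ' (IsAlgSpace.yon_obj T) (a ≫ v) h i h' HZ _ b (isEtaleMor_of_repWith hb) sqb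
  have HT1 := isUnivFOThick_etale hV' (IsAlgSpace.yon_obj T1) a ψ iV hV'U HV _ b1 (isEtaleMor_of_repWith hb1) sqb1
  have hc : (a ≫ ψ) ≫ w = (a ≫ v) ≫ h := by rw [Category.assoc, c, Category.assoc]
  obtain ⟨hU, ⟨hU1, hU2⟩, -⟩ := existsUnique_lift_of_formallyEtale hw (IsAlgSpace.yon_obj T) hj (a ≫ ψ)
    (b ≫ h') (by rw [hc, ← sqb.w_assoc, HZ.2.1])
  have HT' : IsUnivFOThick (a ≫ ψ) ((yon S).map j) hU :=
    isUnivFOThick_cancel hw hj hU1 (by rw [hc, hU2]; exact HT)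
  obtain ⟨φ, φ1, φ2⟩ := univ_iso (IsAlgSpace.yon_obj U0) (IsAlgSpace.yon_obj T1) (IsAlgSpace.yon_obj T) HT1 HT'
  have key : b1 ≫ e' = φ.hom ≫ b := by
    refine univ_hom_ext HZ hj1 (a ≫ v) ?_ ?_ ?_
    · rw [← sqb1.w_assoc, e1, Category.assoc]
    · rw [← Category.assoc, φ1, sqb.w]
    · rw [Category.assoc, e2, Category.assoc, ← hU2, ← Category.assoc φ.hom, φ2, Category.assoc]
  obtain ⟨φ0, hφ0⟩ := (yon S).map_surjective φ.hom
  have : IsIso φ0 := by
    have : IsIso ((yon S).map φ0) := hφ0 ▸ inferInstance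
    exact isIso_of_fully_faithful (yon S) φ0
  have : IsIso φ0.left := inferInstanceAs (IsIso ((Over.forget S).map φ0))
  refine (isEtaleMor_iff_locP hV' hZ' e').2 (locP_of_chart hb1
    (surjective_of_pullback hV' HV.1 has hb1.1 sqb1.w) hb (show b1 ≫ e' = (yon S).map φ0 ≫ b by rw [key, hφ0]) (inferInstanceAs (Etale φ0.left)))

end Groth.Agent.AlgSpDM
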