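import Groth.Agent.AlgSpDM.UnramMono
import Groth.Agent.AlgSpDec.PointLocusInst
import Groth.Agent.AlgSpPts.UnivClosed

/-!
# Loci on the base where a base change has a given property
-/

set_option backward.isDefEq.respectTransparency false
set_option backward.isDefEq.respectTransparency.types false

universe u

open CategoryTheory CategoryTheory.Limits AlgebraicGeometry AlgSp Groth.Agent.AlgSpLib
  Groth.Agent.AlgSpPts Groth.Agent.AlgSpDec.PointLocus

namespace Groth.Agent.AlgSpDM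

variable {S : Scheme.{u}} {X Y Z : Space S}

/-- Loci on the base. -/
def IsWhere (f : X ⟶ Y) (q : Y ⟶ Z) (C : MorphismProperty (Sp S)) (U : Set (Points Z.obj)) : Prop :=
  ∀ (Z' : Space S) (g : Z' ⟶ Z), Set.range (Points.map g.hom) ⊆ U ↔
    ∀ (Y' : Space S) (gY : Y' ⟶ Y) (q' : Y' ⟶ Z'), IsPullback gY.hom q'.hom q.hom g.hom →
      ∀ (X' : Space S) (gX : X' ⟶ X) (f' : X' ⟶ Y'), IsPullback gX.hom f'.hom f.hom gY.hom → C f'.hom

theorem exists_where_space {f : X ⟶ Y} {q : Y ⟶ Z} {C : MorphismProperty (Sp S)}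
    {U : Set (Points Z.obj)} (hU : IsOpen U) (h : IsWhere f q C U) :
    ∃ (W : Space S) (w : W ⟶ Z), RepWith @IsOpenImmersion w.hom ∧ Set.range (Points.map w.hom) = U ∧
      ∀ (Z' : Space S) (g : Z' ⟶ Z), (∃ k : Z' ⟶ W, k ≫ w = g) ↔
        ∀ (Y' : Space S) (gY : Y' ⟶ Y) (q' : Y' ⟶ Z'), IsPullback gY.hom q'.hom q.hom g.hom →
          ∀ (X' : Space S) (gX : X' ⟶ X) (f' : X' ⟶ Y'), IsPullback gX.hom f'.hom f.hom gY.hom → C f'.hom := by
  obtain ⟨W, w, hW, hw, hr⟩ := exists_open_subspace Z.property hU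
  refine ⟨⟨W, hW⟩, ⟨w⟩, hw, hr, fun Z' g => ?_⟩
  rw [← h Z' g, ← hr]
  constructor
  · rintro ⟨k, rfl⟩ _ ⟨z, rfl⟩
    exact ⟨Points.map k.hom z, (Points.map_comp k.hom w z).symm⟩
  · intro hg
    obtain ⟨k, hk⟩ := exists_lift_openImmersion Z'.property hW Z.property hw g.hom hg
    exact ⟨⟨k⟩, ObjectProperty.hom_ext _ hk⟩

variable (f : X ⟶ Y) (p : X ⟶ Z) (q : Y ⟶ Z)

theorem locP_lft_of_fac (hc : f ≫ q = p) (hp1 : LocP @LocallyOfFiniteType p.hom) :
    LocP @LocallyOfFiniteType f.hom :=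
  locP_of_comp' (Q := fun _ _ _ => True) (fun a b hab _ => by
    have : LocallyOfFiniteType (a ≫ b) := hab
    exact locallyOfFiniteType_of_comp a b) Z.property (g := q.hom) (by subst hc; exact hp1)
    (fun _ _ _ _ _ _ _ _ => trivial)

theorem isWhere_of_ptProp {Q : ∀ {X Y : Scheme.{u}}, (X ⟶ Y) → X → Prop} (hQ : PtProp @Q)
    {P : MorphismProperty Scheme.{u}}
    (hP : ∀ {X Y : Scheme.{u}} (h : X ⟶ Y) [LocallyOfFiniteType h], P h ↔ ∀ x, Q h x)
    (hc : f ≫ q = p) (hf : LocP @LocallyOfFiniteType f.hom) :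
    IsWhere f q (LocP P) (Points.map p.hom '' {x | ¬ At @Q f.hom x})ᶜ := by
  subst hc
  intro Z' g
  constructor
  · intro hg Y' gY q' sqY X' gX f' sqX
    rw [locP_iff hQ hP X'.property Y'.property (locP_of_isPullback sqX X.property Y.property Y'.property hf)]
    intro x'
    rw [at_baseChange_iff hQ sqX X.property Y.property Y'.property hf]
    by_contra hx
    refine hg ⟨Points.map (f'.hom ≫ q'.hom) x', rfl⟩ ⟨_, hx, ?_⟩
    show Points.map (f.hom ≫ q.hom) (Points.map gX.hom x') = Points.map g.hom (Points.map (f'.hom ≫ q'.hom) x')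
    rw [← Points.map_comp, ← Points.map_comp, (sqX.paste_vert sqY).w]
  · intro H
    rintro _ ⟨z', rfl⟩ ⟨x, hx, hxz⟩
    let Y' : Space S := ⟨pullback q.hom g.hom, isAlgSpace_pullback Y.property Z'.property Z.property _ _⟩
    let gY : Y' ⟶ Y := ⟨pullback.fst _ _⟩
    let q' : Y' ⟶ Z' := ⟨pullback.snd _ _⟩
    let X' : Space S := ⟨pullback f.hom gY.hom, isAlgSpace_pullback X.property Y'.property Y.property _ _⟩
    let gX : X' ⟶ X := ⟨pullback.fst _ _⟩
    let f' : X' ⟶ Y' := ⟨pullback.snd _ _⟩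
    have sqY : IsPullback gY.hom q'.hom q.hom g.hom := IsPullback.of_hasPullback _ _
    have sqX : IsPullback gX.hom f'.hom f.hom gY.hom := IsPullback.of_hasPullback _ _
    have h1 := (locP_iff hQ hP X'.property Y'.property
      (locP_of_isPullback sqX X.property Y.property Y'.property hf)).1 (H Y' gY q' sqY X' gX f' sqX)
    obtain ⟨x', hx', -⟩ := exists_point_of_isPullback (sqX.paste_vert sqY) hxz
    exact hx (hx' ▸ (at_baseChange_iff hQ sqX X.property Y.property Y'.property hf x').1 (h1 x'))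

theorem isOpen_where {Q : ∀ {X Y : Scheme.{u}}, (X ⟶ Y) → X → Prop} (hQ : PtProp @Q)
    (hp2 : IsClosedMor p.hom) (hf : LocP @LocallyOfFiniteType f.hom) :
    IsOpen (Points.map p.hom '' {x | ¬ At @Q f.hom x})ᶜ :=
  (hp2 _ (isOpen_at hQ hf).isClosed_compl).isOpen_compl

theorem exists_where_unram (hc : f ≫ q = p) (hp1 : LocP @LocallyOfFiniteType p.hom)
    (hp2 : IsClosedMor p.hom) :
    ∃ U : Set (Points Z.obj), IsOpen U ∧
      IsWhere f q (LocP (@LocallyOfFiniteType ⊓ @FormallyUnramified)) U := by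
  have hf := locP_lft_of_fac f p q hc hp1
  exact ⟨_, isOpen_where f p ptProp_unram hp2 hf,
    isWhere_of_ptProp f p q ptProp_unram (fun h _ => unram_iff_forall h) hc hf⟩

section Diagonal

variable {f p q} {XX : Space S} {pr0 pr1 : XX ⟶ X}

/-- The base change of the square of self fibre products. -/
theorem diagonal_squares (hXX : IsPullback pr0.hom pr1.hom f.hom f.hom) (δ : X.obj ⟶ XX.obj) (hδ0 : δ ≫ pr0.hom = 𝟙 _) (hδ1 : δ ≫ pr1.hom = 𝟙 _)
    {Z' Y' X' : Space S} {g : Z' ⟶ Z} {gY : Y' ⟶ Y} {q' : Y' ⟶ Z'}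
    (sqY : IsPullback gY.hom q'.hom q.hom g.hom) {gX : X' ⟶ X} {f' : X' ⟶ Y'}
    (sqX : IsPullback gX.hom f'.hom f.hom gY.hom) :
    ∃ φ : pullback f'.hom f'.hom ⟶ XX.obj,
      IsPullback φ (pullback.fst f'.hom f'.hom ≫ f'.hom ≫ q'.hom) (pr0.hom ≫ (f ≫ q).hom) g.hom ∧
      IsPullback gX.hom (pullback.diagonal f'.hom) δ φ := by
  let fst' := pullback.fst f'.hom f'.hom
  let snd' := pullback.snd f'.hom f'.hom
  have hw : (fst' ≫ gX.hom) ≫ f.hom = (snd' ≫ gX.hom) ≫ f.hom := by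
    rw [Category.assoc, Category.assoc, sqX.w, ← Category.assoc, ← Category.assoc, pullback.condition]
  let φ := hXX.lift _ _ hw
  have h1 : IsPullback (snd' ≫ gX.hom) fst' f.hom (f'.hom ≫ gY.hom) :=
    (IsPullback.of_hasPullback f'.hom f'.hom).flip.paste_horiz sqX
  have h2 : IsPullback φ fst' pr0.hom gX.hom := by
    refine IsPullback.of_right ?_ (hXX.lift_fst _ _ hw) hXX.flip
    rw [hXX.lift_snd, show gX.hom ≫ f.hom = f'.hom ≫ gY.hom from sqX.w]
    exact h1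
  refine ⟨φ, h2.paste_vert (sqX.paste_vert sqY), IsPullback.of_bot ?_ ?_ h2⟩
  · rw [pullback.diagonal_fst, hδ0]
    exact IsPullback.of_vert_isIso ⟨by simp⟩
  · apply hXX.hom_ext
    · rw [Category.assoc, hδ0, Category.comp_id, Category.assoc, hXX.lift_fst, pullback.diagonal_fst_assoc]
    · rw [Category.assoc, hδ1, Category.comp_id, Category.assoc, hXX.lift_snd, pullback.diagonal_snd_assoc]

theorem exists_where_unram_univInjective (hc : f ≫ q = p) (hXX : IsPullback pr0.hom pr1.hom f.hom f.hom)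
    (hp1 : LocP @LocallyOfFiniteType p.hom) (hp2 : IsClosedMor p.hom) (hp3 : IsClosedMor (pr1 ≫ p).hom) :
    ∃ U : Set (Points Z.obj), IsOpen U ∧
      IsWhere f q (fun _ _ g => LocP (@LocallyOfFiniteType ⊓ @FormallyUnramified) g ∧ IsUnivInjectiveMor g) U := by
  obtain ⟨U₀, hU₀, h₀⟩ := exists_where_unram f p q hc hp1 hp2
  subst hc
  have he : (pr1 ≫ f ≫ q).hom = pr0.hom ≫ (f ≫ q).hom := by
    show pr1.hom ≫ f.hom ≫ q.hom = pr0.hom ≫ f.hom ≫ q.hom
    rw [← Category.assoc, ← Category.assoc, hXX.w]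
  rw [he] at hp3
  set r := pr0.hom ≫ (f ≫ q).hom with hr_def
  let δ : X.obj ⟶ XX.obj := hXX.lift (𝟙 _) (𝟙 _) rfl
  have hδ0 : δ ≫ pr0.hom = 𝟙 _ := hXX.lift_fst _ _ _
  have hδ1 : δ ≫ pr1.hom = 𝟙 _ := hXX.lift_snd _ _ _
  obtain ⟨W₀, w₀, hw₀, hr₀, hk₀⟩ := exists_where_space hU₀ h₀
  let Y₀ : Space S := ⟨pullback q.hom w₀.hom, isAlgSpace_pullback Y.property W₀.property Z.property _ _⟩
  let gY : Y₀ ⟶ Y := ⟨pullback.fst _ _⟩
  let q₀ : Y₀ ⟶ W₀ := ⟨pullback.snd _ _⟩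
  let X₀ : Space S := ⟨pullback f.hom gY.hom, isAlgSpace_pullback X.property Y₀.property Y.property _ _⟩
  let gX : X₀ ⟶ X := ⟨pullback.fst _ _⟩
  let f₀ : X₀ ⟶ Y₀ := ⟨pullback.snd _ _⟩
  have sqY : IsPullback gY.hom q₀.hom q.hom w₀.hom := IsPullback.of_hasPullback _ _
  have sqX : IsPullback gX.hom f₀.hom f.hom gY.hom := IsPullback.of_hasPullback _ _
  obtain ⟨φ₀, sq₀, sqd₀⟩ := diagonal_squares hXX δ hδ0 hδ1 sqY sqX
  have hu₀ := (hk₀ W₀ w₀).1 ⟨𝟙 _, Category.id_comp _⟩ Y₀ gY q₀ sqY X₀ gX f₀ sqX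
  let D₀ := Points.map φ₀ '' Set.range (Points.map (pullback.diagonal f₀.hom))
  have hφ₀ : RepWith @IsOpenImmersion φ₀ := repWith_of_isPullback sq₀.flip hw₀
  have hopen : IsOpen D₀ := by
    refine isOpenMap_map (repWith_mono (fun _ _ g (_ : IsOpenImmersion g) => (inferInstance : UniversallyOpen g)) _ hφ₀) _ ?_
    exact (isOpenMap_map (repWith_mono (fun _ _ g (_ : Etale g) => (inferInstance : UniversallyOpen g)) _
      (repWith_etale_diagonal_of_unram f₀ hu₀))).isOpen_range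
  let T := Points.map r '' D₀ᶜ
  have hT : IsClosed T := hp3 _ hopen.isClosed_compl
  refine ⟨U₀ ∩ Tᶜ, hU₀.inter hT.isOpen_compl, fun Z' g => ?_⟩
  constructor
  · intro hg Y' gY' q' sqY' X' gX' f' sqX'
    refine ⟨(h₀ Z' g).1 (fun z hz => (hg hz).1) Y' gY' q' sqY' X' gX' f' sqX', (S9938.result f').2.2 ?_⟩
    intro ζ
    obtain ⟨φ, sq, sqd⟩ := diagonal_squares hXX δ hδ0 hδ1 sqY' sqX'
    have hζ : Points.map r (Points.map φ ζ) ∈ Set.range (Points.map g.hom) :=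
      ⟨Points.map (pullback.fst f'.hom f'.hom ≫ f'.hom ≫ q'.hom) ζ, by
        rw [← Points.map_comp, ← Points.map_comp, sq.w]⟩
    have hD : Points.map φ ζ ∈ D₀ := by
      by_contra hD
      exact (hg hζ).2 ⟨_, hD, rfl⟩
    obtain ⟨_, ⟨x₀, rfl⟩, hx₀⟩ := hD
    obtain ⟨x', -, hx'⟩ := exists_point_of_isPullback sqd (x := Points.map gX.hom x₀) (y := ζ)
      (by rw [← Points.map_comp, sqd₀.w, Points.map_comp, hx₀])
    exact ⟨x', hx'⟩
  · intro H
    have h1 : Set.range (Points.map g.hom) ⊆ U₀ :=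
      (h₀ Z' g).2 fun Y' gY' q' sqY' X' gX' f' sqX' => (H Y' gY' q' sqY' X' gX' f' sqX').1
    refine fun z hz => ⟨h1 hz, ?_⟩
    rintro ⟨ξ, hξ, rfl⟩
    obtain ⟨z', hz'⟩ := hz
    let Y' : Space S := ⟨pullback q.hom g.hom, isAlgSpace_pullback Y.property Z'.property Z.property _ _⟩
    let gY' : Y' ⟶ Y := ⟨pullback.fst _ _⟩
    let q' : Y' ⟶ Z' := ⟨pullback.snd _ _⟩
    let X' : Space S := ⟨pullback f.hom gY'.hom, isAlgSpace_pullback X.property Y'.property Y.property _ _⟩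
    let gX' : X' ⟶ X := ⟨pullback.fst _ _⟩
    let f' : X' ⟶ Y' := ⟨pullback.snd _ _⟩
    have sqY' : IsPullback gY'.hom q'.hom q.hom g.hom := IsPullback.of_hasPullback _ _
    have sqX' : IsPullback gX'.hom f'.hom f.hom gY'.hom := IsPullback.of_hasPullback _ _
    obtain ⟨φ, sq, sqd⟩ := diagonal_squares hXX δ hδ0 hδ1 sqY' sqX'
    obtain ⟨ζ, hζ, -⟩ := exists_point_of_isPullback sq hz'.symm
    obtain ⟨x', hx'⟩ := (S9938.result f').2.1 (H Y' gY' q' sqY' X' gX' f' sqX').2 ζ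
    have hξδ : Points.map δ (Points.map gX'.hom x') = ξ := by
      rw [← Points.map_comp, sqd.w, Points.map_comp, hx', hζ]
    obtain ⟨w, hw⟩ : Points.map r ξ ∈ Set.range (Points.map w₀.hom) :=
      hr₀.symm ▸ h1 ⟨z', hz'⟩
    obtain ⟨ζ₀, hζ₀, -⟩ := exists_point_of_isPullback sq₀ hw.symm
    obtain ⟨x₀, -, hx₀⟩ := exists_point_of_isPullback sqd₀ (hξδ.trans hζ₀.symm)
    exact hξ ⟨ζ₀, ⟨x₀, hx₀⟩, hζ₀⟩

end Diagonal

theorem isUnivClosedMor_of_fac (hc : f ≫ q = p) (hp : IsUnivClosedMor p.hom) (hq : IsSeparatedMor q.hom) :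
    IsUnivClosedMor f.hom := by
  subst hc
  let Γ : X.obj ⟶ pullback (f.hom ≫ q.hom) q.hom := pullback.lift (𝟙 _) f.hom (by simp)
  have hΓ : RepWith @IsClosedImmersion Γ := graph_property hq
  have h : IsUnivClosedMor (Γ ≫ pullback.snd (f.hom ≫ q.hom) q.hom) :=
    isUnivClosedMor_comp (isAlgSpace_pullback X.property Y.property Z.property _ _) Y.property
      (isProperMor_of_closedImmersion hΓ).2.2
      (isUnivClosedMor_of_isPullback (IsPullback.of_hasPullback _ _) hp)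
  rwa [pullback.lift_snd] at h

end Groth.Agent.AlgSpDM
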