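import Groth.Agent.AlgSpDM.Where
import Groth.Agent.AlgSpLib.FlatAt
import Groth.Agent.AlgSpLib.OpenMor

/-!
# Loci on the base where a base change is flat, surjective, an isomorphism
-/

set_option backward.isDefEq.respectTransparency false
set_option backward.isDefEq.respectTransparency.types false

universe u

open CategoryTheory CategoryTheory.Limits AlgebraicGeometry AlgSp Groth.Agent.AlgSpLib
  Groth.Agent.AlgSpPts

namespace Groth.Agent.AlgSpDM

variable {S : Scheme.{u}} {X Y Z : Space S} (f : X ⟶ Y) (p : X ⟶ Z) (q : Y ⟶ Z)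

theorem isWhere_of_locus {C : MorphismProperty (Sp S)} (T : Set (Points X.obj)) (hc : f ≫ q = p)
    (hT : ∀ (Z' Y' X' : Space S) (g : Z' ⟶ Z) (gY : Y' ⟶ Y) (q' : Y' ⟶ Z'),
      IsPullback gY.hom q'.hom q.hom g.hom → ∀ (gX : X' ⟶ X) (f' : X' ⟶ Y'),
        IsPullback gX.hom f'.hom f.hom gY.hom → (C f'.hom ↔ ∀ x', Points.map gX.hom x' ∈ T)) :
    IsWhere f q C (Points.map p.hom '' Tᶜ)ᶜ := by
  subst hc
  intro Z' g
  constructor
  · intro hg Y' gY q' sqY X' gX f' sqX
    refine (hT Z' Y' X' g gY q' sqY gX f' sqX).2 fun x' => ?_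
    by_contra hx
    refine hg ⟨Points.map (f'.hom ≫ q'.hom) x', rfl⟩ ⟨_, hx, ?_⟩
    show Points.map (f.hom ≫ q.hom) (Points.map gX.hom x') = Points.map g.hom (Points.map (f'.hom ≫ q'.hom) x')
    rw [← Points.map_comp, ← Points.map_comp, (sqX.paste_vert sqY).w]
  · intro H
    rintro _ ⟨z', rfl⟩ ⟨x, hx, hxz⟩
    let Y' : Space S := ⟨pullback q.hom g.hom, isAlgSpace_pullback Y.property Z'.property Z.property _ _⟩
    let gY : Y' ⟶ Y := ⟨pullback.fst _ _⟩
    let q' : Y' ⟶ Z' := ⟨pullback.snd _ _⟩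
    let X' : Space S := ⟨pullback f.hom gY.hom, isAlgSpace_pullback X.property Y'.property Y.property _ _⟩
    let gX : X' ⟶ X := ⟨pullback.fst _ _⟩
    let f' : X' ⟶ Y' := ⟨pullback.snd _ _⟩
    have sqY : IsPullback gY.hom q'.hom q.hom g.hom := IsPullback.of_hasPullback _ _
    have sqX : IsPullback gX.hom f'.hom f.hom gY.hom := IsPullback.of_hasPullback _ _
    have h1 := (hT Z' Y' X' g gY q' sqY gX f' sqX).1 (H Y' gY q' sqY X' gX f' sqX)
    obtain ⟨x', hx', -⟩ := exists_point_of_isPullback (sqX.paste_vert sqY) hxz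
    exact hx (hx' ▸ h1 x')

/-- Flatness is flatness at every point. -/
theorem locP_flat_iff_forall {F G : Sp S} (hF : IsAlgSpace F) (hG : IsAlgSpace G) (f : F ⟶ G)
    (hf : LocP @LocallyOfFinitePresentation f) : LocP @Flat f ↔ ∀ x, IsFlatAtMor f x := by
  obtain ⟨V, b, hb, hbs⟩ := hG.atlas
  obtain ⟨U, e, m, he, hes, hm⟩ := exists_chart_over hF hG f b
  have ha : RepWith @Etale (e ≫ pullback.fst f b) := repWith_comp he (repWith_fst f hb)
  have has : RepWith @Surjective (e ≫ pullback.fst f b) := repWith_comp hes (repWith_fst f hbs)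
  have w : (e ≫ pullback.fst f b) ≫ f = (yon S).map m ≫ b := by
    rw [Category.assoc, pullback.condition, ← Category.assoc, hm]
  constructor
  · intro h x
    obtain ⟨u, rfl⟩ := surjective_ofPt has x
    have := h _ _ _ ha hb w
    exact (isFlatAtMor_iff hf ha hb w u).2 (Flat.stalkMap _ _)
  · intro h
    exact locP_of_chart ha has hb w (Flat.of_stalkMap _ fun u => (isFlatAtMor_iff hf ha hb w u).1 (h _))

theorem isOpen_image_of_flatAt {F G : Sp S} (hF : IsAlgSpace F) (hG : IsAlgSpace G) (f : F ⟶ G)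
    (hf : LocP @LocallyOfFinitePresentation f) {O : Set (Points F)} (hO : IsOpen O)
    (h : ∀ x ∈ O, IsFlatAtMor f x) : IsOpen (Points.map f '' O) := by
  obtain ⟨V, b, hb, hbs⟩ := hG.atlas
  obtain ⟨U, e, m, he, hes, hm⟩ := exists_chart_over hF hG f b
  have ha : RepWith @Etale (e ≫ pullback.fst f b) := repWith_comp he (repWith_fst f hb)
  have has : RepWith @Surjective (e ≫ pullback.fst f b) := repWith_comp hes (repWith_fst f hbs)
  have w : (e ≫ pullback.fst f b) ≫ f = (yon S).map m ≫ b := by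
    rw [Category.assoc, pullback.condition, ← Category.assoc, hm]
  let O' : U.left.Opens := ⟨Points.ofPt (e ≫ pullback.fst f b) ⁻¹' O, hO.preimage (Points.continuous_ofPt _)⟩
  have := hf _ _ _ ha hb w
  have : Flat (O'.ι ≫ m.left) := Flat.of_stalkMap _ fun u =>
    (Groth.Agent.FibFlat.flat_stalk_open_comp O'.ι m.left u).2
      ((isFlatAtMor_iff hf ha hb w _).1 (h _ u.2))
  have he : Points.map f '' O = Points.ofPt b '' Set.range (O'.ι ≫ m.left) := by
    ext y
    constructor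
    · rintro ⟨x, hx, rfl⟩
      obtain ⟨u, rfl⟩ := surjective_ofPt has x
      exact ⟨m.left u, ⟨⟨u, hx⟩, rfl⟩, by rw [Points.map_ofPt, w, ofPt_comp]⟩
    · rintro ⟨_, ⟨u, rfl⟩, rfl⟩
      exact ⟨_, u.2, by rw [Points.map_ofPt, w, ofPt_comp]; rfl⟩
  rw [he]
  exact isOpenMap_ofPt hb _ (O'.ι ≫ m.left).isOpenMap.isOpen_range

variable {f p q}

theorem exists_where_flat (hc : f ≫ q = p)
    (hp1 : LocP @LocallyOfFinitePresentation p.hom) (hp2 : LocP @Flat p.hom)
    (hp3 : IsClosedMor p.hom) (hq : LocP @LocallyOfFiniteType q.hom) :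
    ∃ U : Set (Points Z.obj), IsOpen U ∧ IsWhere f q (LocP @Flat) U ∧
      ∀ x, Points.map p.hom x ∈ U → IsFlatAtMor f.hom x := by
  subst hc
  obtain ⟨ho, hb⟩ := isOpen_flatLocus_and_baseChange X.property Y.property Z.property f.hom q.hom hp1 hp2 hq
  have hf := locP_lofp_of_comp X.property Y.property Z.property f.hom q.hom hp1 hq
  refine ⟨_, (hp3 _ ho.isClosed_compl).isOpen_compl, isWhere_of_locus f (f ≫ q) q _ rfl
    fun Z' Y' X' g gY q' sqY gX f' sqX => ?_, fun x hx => ?_⟩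
  · rw [locP_flat_iff_forall X'.property Y'.property _ (locP_of_isPullback sqX X.property Y.property Y'.property hf)]
    have he := Set.ext_iff.1 (hb X'.property Y'.property Z'.property g.hom f'.hom q'.hom gX.hom gY.hom sqY sqX)
    exact forall_congr' he
  · by_contra h
    exact hx ⟨x, h, rfl⟩

theorem exists_where_surjective_flat (hc : f ≫ q = p)
    (hp1 : LocP @LocallyOfFinitePresentation p.hom) (hp2 : LocP @Flat p.hom)
    (hp3 : IsClosedMor p.hom) (hq : LocP @LocallyOfFiniteType q.hom) (hq2 : IsClosedMor q.hom) :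
    ∃ U : Set (Points Z.obj), IsOpen U ∧
      IsWhere f q (fun _ _ g => IsSurjectiveMor g ∧ LocP @Flat g) U := by
  obtain ⟨U₀, hU₀, h₀, hfl⟩ := exists_where_flat hc hp1 hp2 hp3 hq
  subst hc
  have hf := locP_lofp_of_comp X.property Y.property Z.property f.hom q.hom hp1 hq
  have hA : IsOpen (Points.map f.hom '' (Points.map (f ≫ q).hom ⁻¹' U₀)) :=
    isOpen_image_of_flatAt X.property Y.property f.hom hf (hU₀.preimage (Points.continuous_map _)) hfl
  set A := Points.map f.hom '' (Points.map (f ≫ q).hom ⁻¹' U₀)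
  refine ⟨U₀ ∩ (Points.map q.hom '' Aᶜ)ᶜ, hU₀.inter (hq2 _ hA.isClosed_compl).isOpen_compl, fun Z' g => ?_⟩
  constructor
  · intro hg Y' gY q' sqY X' gX f' sqX
    refine ⟨fun y' => ?_, (h₀ Z' g).1 (fun z hz => (hg hz).1) Y' gY q' sqY X' gX f' sqX⟩
    have hy : Points.map gY.hom y' ∈ A := by
      by_contra hy
      refine (hg ⟨Points.map q'.hom y', rfl⟩).2 ⟨_, hy, ?_⟩
      rw [← Points.map_comp, ← Points.map_comp, sqY.w]
    obtain ⟨x, -, hx⟩ := hy
    obtain ⟨x', -, hx'⟩ := exists_point_of_isPullback sqX hx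
    exact ⟨x', hx'⟩
  · intro H
    have h1 : Set.range (Points.map g.hom) ⊆ U₀ :=
      (h₀ Z' g).2 fun Y' gY q' sqY X' gX f' sqX => (H Y' gY q' sqY X' gX f' sqX).2
    refine fun z hz => ⟨h1 hz, ?_⟩
    rintro ⟨y, hy, rfl⟩
    obtain ⟨z', hz'⟩ := hz
    let Y' : Space S := ⟨pullback q.hom g.hom, isAlgSpace_pullback Y.property Z'.property Z.property _ _⟩
    let gY : Y' ⟶ Y := ⟨pullback.fst _ _⟩
    let q' : Y' ⟶ Z' := ⟨pullback.snd _ _⟩
    let X' : Space S := ⟨pullback f.hom gY.hom, isAlgSpace_pullback X.property Y'.property Y.property _ _⟩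
    let gX : X' ⟶ X := ⟨pullback.fst _ _⟩
    let f' : X' ⟶ Y' := ⟨pullback.snd _ _⟩
    have sqY : IsPullback gY.hom q'.hom q.hom g.hom := IsPullback.of_hasPullback _ _
    have sqX : IsPullback gX.hom f'.hom f.hom gY.hom := IsPullback.of_hasPullback _ _
    obtain ⟨y', hy', -⟩ := exists_point_of_isPullback sqY hz'.symm
    obtain ⟨x', hx'⟩ := (H Y' gY q' sqY X' gX f' sqX).1 y'
    refine hy ⟨Points.map gX.hom x', h1 ⟨z', ?_⟩, ?_⟩
    · show Points.map g.hom z' = Points.map (f.hom ≫ q.hom) (Points.map gX.hom x')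
      rw [hz', ← hy', ← hx', ← Points.map_comp, ← Points.map_comp, ← Points.map_comp, sqX.w_assoc]
    · rw [← hy', ← hx', ← Points.map_comp, ← Points.map_comp, sqX.w]

theorem etale_of_flat_lfp_unram {F G : Sp S} (f : F ⟶ G) (h1 : LocP @LocallyOfFinitePresentation f)
    (h2 : LocP @Flat f) (h3 : LocP (@LocallyOfFiniteType ⊓ @FormallyUnramified) f) : LocP @Etale f :=
  fun U V a b k ha hb w => by
    have := h1 a b k ha hb w
    have := h2 a b k ha hb w
    obtain ⟨_, _⟩ := h3 a b k ha hb w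
    exact Etale.of_formallyUnramified_of_flat k.left

theorem isIso_of_etale_mono_surjective (f : X ⟶ Y) (he : LocP @Etale f.hom) [Mono f.hom]
    (hs : IsSurjectiveMor f.hom) : IsIso f.hom := by
  have hr := representable_of_lft_mono f (locP_mono (P := @Etale) (fun _ _ g hg => by have : Etale g := hg; infer_instance) he)
  have h1 : RepWith @Etale f.hom := repWith_of_locP Y.property hr he
  have h2 : RepWith @Surjective f.hom := repWith_surjective_of_surjective hr hs
  have := isLocallySurjective_of_etale_surjective h1 h2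
  exact isIso_of_mono_of_locallySurjective f.hom

theorem flat_surjective_of_isIso (f : X ⟶ Y) [IsIso f.hom] :
    LocP @Flat f.hom ∧ LocP @LocallyOfFiniteType f.hom ∧ IsSurjectiveMor f.hom ∧ Mono f.hom := by
  have h : RepWith (@Etale) f.hom := repWith_of_isIso @Etale f.hom
  have he : LocP @Etale f.hom := locP_of_repWith h
  exact ⟨locP_mono (P := @Etale) (fun _ _ g hg => by have : Etale g := hg; infer_instance) he,
    locP_mono (P := @Etale) (fun _ _ g hg => by have : Etale g := hg; infer_instance) he,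
    fun y => ⟨Points.map (inv f.hom) y, by rw [← Points.map_comp, IsIso.inv_hom_id, Points.map_id]⟩,
    inferInstance⟩

theorem exists_where_iso (hc : f ≫ q = p)
    (hp1 : LocP @LocallyOfFinitePresentation p.hom) (hp2 : LocP @Flat p.hom)
    (hp3 : IsUnivClosedMor p.hom) (hq : LocP @LocallyOfFiniteType q.hom) (hq2 : IsClosedMor q.hom)
    (hq3 : IsSeparatedMor q.hom) :
    ∃ U : Set (Points Z.obj), IsOpen U ∧ IsWhere f q (fun _ _ g => IsIso g) U := by
  have hpc : IsClosedMor p.hom := hp3 Z.property (𝟙 _) (𝟙 _) p.hom (IsPullback.of_horiz_isIso ⟨by simp⟩)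
  obtain ⟨U₁, hU₁, h₁⟩ := exists_where_surjective_flat hc hp1 hp2 hpc hq hq2
  have hfu := isUnivClosedMor_of_fac f p q hc hp3 hq3
  have hl : LocP @LocallyOfFiniteType p.hom :=
    locP_mono (P := @LocallyOfFinitePresentation) (fun _ _ g hg => by have : LocallyOfFinitePresentation g := hg; infer_instance) hp1
  let XX : Space S := ⟨pullback f.hom f.hom, isAlgSpace_pullback X.property X.property Y.property _ _⟩
  let pr0 : XX ⟶ X := ⟨pullback.fst _ _⟩
  let pr1 : XX ⟶ X := ⟨pullback.snd _ _⟩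
  have hXX : IsPullback pr0.hom pr1.hom f.hom f.hom := IsPullback.of_hasPullback _ _
  have hpp : IsClosedMor (pr1 ≫ p).hom := by
    change IsClosedMap (Points.map (pr1.hom ≫ p.hom))
    rw [show Points.map (pr1.hom ≫ p.hom) = Points.map p.hom ∘ Points.map pr1.hom from
      funext (Points.map_comp _ _)]
    exact IsClosedMap.comp hpc (hfu X.property f.hom pr0.hom pr1.hom hXX)
  obtain ⟨U₂, hU₂, h₂⟩ := exists_where_unram_univInjective hc hXX hl hpc hpp
  subst hc
  have hf := locP_lofp_of_comp X.property Y.property Z.property f.hom q.hom hp1 hq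
  refine ⟨U₁ ∩ U₂, hU₁.inter hU₂, fun Z' g => ⟨fun hg Y' gY q' sqY X' gX f' sqX => ?_, fun H => ?_⟩⟩
  · obtain ⟨a1, a2⟩ := (h₁ Z' g).1 (fun z hz => (hg hz).1) Y' gY q' sqY X' gX f' sqX
    obtain ⟨b1, b2⟩ := (h₂ Z' g).1 (fun z hz => (hg hz).2) Y' gY q' sqY X' gX f' sqX
    have := mono_of_unram_univInjective f' b1 b2
    exact isIso_of_etale_mono_surjective f'
      (etale_of_flat_lfp_unram _ (locP_of_isPullback sqX X.property Y.property Y'.property hf) a2 b1) a1
  · have key : ∀ (Y' : Space S) (gY : Y' ⟶ Y) (q' : Y' ⟶ Z'), IsPullback gY.hom q'.hom q.hom g.hom →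
        ∀ (X' : Space S) (gX : X' ⟶ X) (f' : X' ⟶ Y'), IsPullback gX.hom f'.hom f.hom gY.hom →
        LocP @Flat f'.hom ∧ LocP @LocallyOfFiniteType f'.hom ∧ IsSurjectiveMor f'.hom ∧ Mono f'.hom :=
      fun Y' gY q' sqY X' gX f' sqX => by
        have : IsIso f'.hom := H Y' gY q' sqY X' gX f' sqX
        exact flat_surjective_of_isIso f'
    refine fun z hz => ⟨(h₁ Z' g).2 (fun Y' gY q' sqY X' gX f' sqX => ?_) hz,
      (h₂ Z' g).2 (fun Y' gY q' sqY X' gX f' sqX => ?_) hz⟩
    · obtain ⟨c1, -, c3, -⟩ := key Y' gY q' sqY X' gX f' sqX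
      exact ⟨c3, c1⟩
    · obtain ⟨-, c2, -, _⟩ := key Y' gY q' sqY X' gX f' sqX
      exact ⟨unram_of_lft_mono f' c2, isUnivInjectiveMor_of_mono f'⟩

end Groth.Agent.AlgSpDM
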