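import Groth.Agent.AlgSpDM.WhereFlat
import Groth.Agent.AlgSpMor.KoszulLocus
import Groth.Agent.AlgSpDec.PointsSpectral

/-!
# Loci on the base where a base change is a local complete intersection morphism
-/

set_option backward.isDefEq.respectTransparency false
set_option backward.isDefEq.respectTransparency.types false

universe u

open CategoryTheory CategoryTheory.Limits AlgebraicGeometry AlgSp Groth.Agent.AlgSpLib
  Groth.Agent.AlgSpPts

namespace Groth.Agent.AlgSpDM

variable {S : Scheme.{u}}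

theorem isLCIMor_iff_locPNear {F G : Sp S} (hF : IsAlgSpace F) (f : F ⟶ G) :
    IsLCIMor f ↔ ∀ x, LocPNear AlgSp.lci f x := by
  constructor
  · intro h x
    refine ⟨F, 𝟙 F, repWith_of_isIso @IsOpenImmersion (𝟙 F), ⟨x, Points.map_id x⟩, ?_⟩
    rw [Category.id_comp]
    exact h
  · intro H U V a b k ha hb w u
    exact (AlgSpMor.locPNear_lci_iff hF ha hb w u).1 (H _)

theorem isOpen_lciLocus {F G : Sp S} (hF : IsAlgSpace F) (f : F ⟶ G) :
    IsOpen {x | LocPNear AlgSp.lci f x} := by
  rw [isOpen_iff_forall_mem_open]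
  intro x ⟨W, j, hj, hx, hP⟩
  refine ⟨Set.range (Points.map j), fun y hy => ⟨W, j, hj, hy, hP⟩,
    (AlgSpDec.isOpenEmbedding_map' hF hj).isOpen_range, hx⟩

theorem exists_where_lci {X Y Z : Space S} {f : X ⟶ Y} {p : X ⟶ Z} {q : Y ⟶ Z} (hc : f ≫ q = p)
    (hp1 : LocP @Flat p.hom) (hp2 : LocP @LocallyOfFinitePresentation p.hom)
    (hp3 : IsClosedMor p.hom) (hq1 : LocP @Flat q.hom)
    (hq2 : LocP @LocallyOfFinitePresentation q.hom) :
    ∃ U : Set (Points Z.obj), IsOpen U ∧ IsWhere f q IsLCIMor U := by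
  refine ⟨_, (hp3 _ (isOpen_lciLocus X.property f.hom).isClosed_compl).isOpen_compl,
    isWhere_of_locus f p q _ hc fun Z' Y' X' g gY q' sqY gX f' sqX => ?_⟩
  subst hc
  rw [isLCIMor_iff_locPNear X'.property]
  exact forall_congr' fun x' =>
    AlgSpMor.koszulLocus_baseChange X.property Y.property Z.property Z'.property X'.property
      hp1 hp2 hq1 hq2 sqY sqX x'

end Groth.Agent.AlgSpDM
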